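import Cfsg.Agent.Kinf.Critical
import Cfsg.Agent.LocalB.CharP
import Cfsg.Agent.Char.Elementary

/-!
A `p'`-element fixing all elements of order `p` (and `4` for `p = 2`) of a `p`-group it normalises
centralises it.
-/

set_option autoImplicit false
set_option linter.unusedSectionVars false

namespace CfsgLib.OrderPFix

open Subgroup
open scoped commutatorElement

/-- `p` for odd `p` and `4` for `p = 2`. -/
def small (p : ℕ) : ℕ := if p = 2 then 4 else p

/-- The elements that a hypothesis on elements of order `p` (or `4`) controls. -/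
def IsSmall {G : Type*} [Monoid G] (p : ℕ) (t : G) : Prop :=
  orderOf t = p ∨ (p = 2 ∧ orderOf t = 4)

theorem eq_one_or_isSmall {G : Type*} [Monoid G] {p : ℕ} [Fact p.Prime] {t : G}
    (h : t ^ small p = 1) : t = 1 ∨ IsSmall p t := by
  have hp := (Fact.out : p.Prime)
  by_cases h2 : p = 2
  · subst h2
    rw [small, if_pos rfl] at h
    obtain ⟨k, hk, hk'⟩ := (Nat.dvd_prime_pow Nat.prime_two).1
      (orderOf_dvd_of_pow_eq_one h : orderOf t ∣ 2 ^ 2)
    interval_cases k
    · exact Or.inl (orderOf_eq_one_iff.1 hk')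
    · exact Or.inr (Or.inl hk')
    · exact Or.inr (Or.inr ⟨rfl, hk'⟩)
  · rw [small, if_neg h2] at h
    rcases hp.eq_one_or_self_of_dvd _ (orderOf_dvd_of_pow_eq_one h) with h1 | h1
    · exact Or.inl (orderOf_eq_one_iff.1 h1)
    · exact Or.inr (Or.inl h1)

theorem dvd_small {p : ℕ} : p ∣ small p := by
  unfold small; split_ifs with h
  · subst h; norm_num
  · exact dvd_rfl

theorem dvd_choose_small {p : ℕ} [Fact p.Prime] : p ∣ small p * (small p - 1) / 2 := by
  have hp := (Fact.out : p.Prime)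
  unfold small; split_ifs with h
  · subst h; norm_num
  · obtain ⟨j, hj⟩ := hp.odd_of_ne_two h
    exact ⟨j, by rw [show p - 1 = 2 * j by omega, ← mul_assoc, mul_comm p 2, mul_assoc,
      Nat.mul_div_cancel_left _ two_pos]⟩

/-- In class two with central `p`-th powers, taking `small p`-th powers is multiplicative. -/
theorem small_pow_mul {H : Type*} [Group H] {p : ℕ} [Fact p.Prime]
    (hH : commutator H ≤ center H) (hpow : ∀ a : H, a ^ p ∈ center H) (x y : H) :
    (x * y) ^ small p = x ^ small p * y ^ small p := by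
  set z := y⁻¹ * x⁻¹ * y * x with hz
  have hzc : z ∈ center H := by
    refine hH ?_
    rw [show z = ⁅y⁻¹, x⁻¹⁆ by rw [hz, commutatorElement_def, inv_inv, inv_inv]]
    exact commutator_mem_commutator (mem_top _) (mem_top _)
  have h1 : (z * x⁻¹) ^ p = z ^ p * x⁻¹ ^ p :=
    (show Commute z x⁻¹ from (mem_center_iff.1 hzc x⁻¹).symm).mul_pow p
  have h2 : (z * x⁻¹) ^ p = x⁻¹ ^ p := by
    rw [show z * x⁻¹ = y⁻¹ * x⁻¹ * y⁻¹⁻¹ by rw [hz]; group, conj_pow,
      mem_center_iff.1 (hpow x⁻¹) y⁻¹, mul_inv_cancel_right]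
  obtain ⟨m, hm⟩ := dvd_choose_small (p := p)
  rw [CfsgLib.Char.mul_pow_of_central_commutator hH, ← hz, hm, pow_mul,
    mul_eq_right.1 (h1.symm.trans h2), one_pow, mul_one]

/-- An automorphism of order prime to `p` fixing the small elements fixes everything, class two case. -/
theorem fix_of_class_two {H : Type*} [Group H] [Finite H] {p : ℕ} [Fact p.Prime] (hP : IsPGroup p H)
    (hH : commutator H ≤ center H) (hpow : ∀ a : H, a ^ p ∈ center H) (φ : H →* H) {n : ℕ}
    (hn : n.Coprime p) (hφn : ∀ x, φ^[n] x = x) (hfix : ∀ t : H, IsSmall p t → φ t = t) :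
    ∀ x, φ x = x := by
  have hp := (Fact.out : p.Prime)
  suffices ∀ N, ∀ x : H, orderOf x = N → φ x = x from fun x => this _ x rfl
  intro N
  induction N using Nat.strong_induction_on with
  | _ N ih =>
    intro x hx
    by_cases hx1 : x = 1
    · rw [hx1, map_one]
    obtain ⟨k, hk⟩ := IsPGroup.iff_orderOf.1 hP x
    have hk0 : k ≠ 0 := fun h => hx1 (orderOf_eq_one_iff.1 (by rw [hk, h, pow_zero]))
    have hlt : orderOf (x ^ p) < N := by
      rw [orderOf_pow_of_dvd hp.ne_zero (hk ▸ dvd_pow_self p hk0), ← hx]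
      exact Nat.div_lt_self (orderOf_pos x) hp.one_lt
    have hxp : φ (x ^ p) = x ^ p := ih _ hlt _ rfl
    set d := x⁻¹ * φ x with hd
    have hd1 : d ^ small p = 1 := by
      obtain ⟨m, hm⟩ := dvd_small (p := p)
      rw [hd, small_pow_mul hH hpow, hm, pow_mul, pow_mul, ← map_pow, hxp,
        inv_pow, inv_pow, inv_mul_cancel]
    have hdf : φ d = d := by
      rcases eq_one_or_isSmall hd1 with h | h
      · rw [h, map_one]
      · exact hfix d h
    have hit : ∀ j, φ^[j] x = x * d ^ j := by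
      intro j
      induction j with
      | zero => simp
      | succ j ihj =>
        rw [Function.iterate_succ_apply', ihj, map_mul, map_pow, hdf,
          show φ x = x * d by rw [hd, mul_inv_cancel_left], mul_assoc, ← pow_succ']
    have h1 : d ^ n = 1 := mul_eq_left.1 ((hit n).symm.trans (hφn x))
    obtain ⟨j, hj⟩ := IsPGroup.iff_orderOf.1 hP d
    have h2 : orderOf d = 1 := by
      have := orderOf_dvd_of_pow_eq_one h1
      rw [hj] at this ⊢
      exact ((hn.symm).pow_left j).eq_one_of_dvd this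
    exact (inv_mul_eq_one.1 (orderOf_eq_one_iff.1 h2)).symm

variable {G : Type*} [Group G] [Finite G] {p : ℕ} [Fact p.Prime]

theorem conjNormal_iterate {C : Subgroup G} (φ : C →* C) (w : G)
    (hφ : ∀ c : C, (φ c : G) = w * c * w⁻¹) (j : ℕ) (c : C) :
    ((φ^[j] c : C) : G) = w ^ j * c * (w ^ j)⁻¹ := by
  induction j with
  | zero => simp
  | succ j ih => rw [Function.iterate_succ_apply', hφ, ih, pow_succ', mul_inv_rev]; simp only [mul_assoc]

/-- The class two step for a subgroup normalised by `w`. -/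
theorem commute_of_class_two {C : Subgroup G} (hC : IsPGroup p C)
    (hH : commutator C ≤ center C) (hpow : ∀ a : C, a ^ p ∈ center C) {w : G}
    (hw : (orderOf w).Coprime p) (hwC : ∀ c ∈ C, w * c * w⁻¹ ∈ C)
    (hfix : ∀ t ∈ C, IsSmall p t → Commute w t) : ∀ t ∈ C, Commute w t := by
  let φ : C →* C := (((MulAut.conj w).toMonoidHom).comp C.subtype).codRestrict C fun c => hwC c c.2
  have key := fix_of_class_two hC hH hpow φ hw (fun c => Subtype.ext (by
      rw [conjNormal_iterate φ w (fun _ => rfl), pow_orderOf_eq_one, one_mul, inv_one, mul_one]))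
    (fun t ht => Subtype.ext (by
      show w * t * w⁻¹ = (t : G)
      rw [(hfix t t.2 (by rwa [IsSmall, orderOf_coe])).eq, mul_inv_cancel_right]))
  exact fun t ht => mul_inv_eq_iff_eq_mul.1 (congrArg Subtype.val (key ⟨t, ht⟩))

/-- Critical subgroup of `T`, inside `G`. -/
theorem exists_critical_subgroup {T : Subgroup G} (hT : IsPGroup p T) :
    ∃ C : Subgroup G, C ≤ T ∧ (∀ g ∈ normalizer (T : Set G), ∀ c ∈ C, g * c * g⁻¹ ∈ C) ∧
      commutator C ≤ center C ∧ (∀ a : C, a ^ p ∈ center C) ∧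
      ∀ w ∈ normalizer (T : Set G), (orderOf w).Coprime p → (∀ c ∈ C, Commute w c) →
        ∀ t ∈ T, Commute w t := by
  obtain ⟨H, hHc, hHp, hH3, hH4⟩ := CfsgLib.Kinf.exists_critical hT
  have := hHc
  set C := H.map T.subtype with hC
  have hCT : C ≤ T := map_subtype_le _
  have hcen : ∀ z : T, z ∈ centralizer (H : Set T) → (z : G) ∈ centralizer (C : Set G) := by
    intro z hz
    refine mem_centralizer_iff.2 ?_
    rintro _ ⟨h, hh, rfl⟩
    exact congrArg Subtype.val (mem_centralizer_iff.1 hz h hh)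
  have hA3 : ⁅T, C⁆ ≤ C ⊓ centralizer (C : Set G) := by
    rw [commutator_le]
    rintro t ht _ ⟨h, hh, rfl⟩
    have hm : ⁅(⟨t, ht⟩ : T), h⁆ ∈ H ⊓ centralizer (H : Set T) :=
      hH3 (commutator_comm H ⊤ ▸ commutator_mem_commutator (mem_top _) hh)
    exact ⟨⟨_, hm.1, rfl⟩, hcen _ hm.2⟩
  have hcenter : ∀ x : C, (x : G) ∈ centralizer (C : Set G) → x ∈ center C :=
    fun x hx => mem_center_iff.2 fun g => Subtype.ext (mem_centralizer_iff.1 hx g g.2)
  have hinv : ∀ g ∈ normalizer (T : Set G), ∀ c ∈ C, g * c * g⁻¹ ∈ C := by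
    rintro g hg _ ⟨h, hh, rfl⟩
    refine ⟨T.normalizerMonoidHom ⟨g, hg⟩ h, characteristic_iff_le_comap.1 hHc
      (T.normalizerMonoidHom ⟨g, hg⟩) hh, rfl⟩
  refine ⟨C, hCT, hinv, ?_, ?_, ?_⟩
  · rw [_root_.commutator_def, commutator_le]
    intro a _ b _
    exact hcenter _ (hA3 (commutator_mem_commutator (hCT a.2) b.2)).2
  · rintro ⟨_, h, hh, rfl⟩
    exact hcenter _ (hcen _ (hHp h hh))
  · intro w hwN hw hwC t ht
    set φ := T.normalizerMonoidHom ⟨w, hwN⟩ with hφ
    have hφo : (orderOf φ).Coprime p :=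
      hw.coprime_dvd_left ((orderOf_map_dvd _ _).trans (by rw [orderOf_mk]))
    have h1 := CfsgLib.Kinf.aut_eq_one_of_critical (A := C) hT hCT hA3 (by
      refine le_antisymm (fun x hx => ⟨?_, hx.2⟩) fun x hx => ⟨hCT hx.1, hx.2⟩
      refine ⟨⟨x, hx.1⟩, hH4 (mem_centralizer_iff.2 fun h hh => Subtype.ext ?_), rfl⟩
      exact mem_centralizer_iff.1 hx.2 _ ⟨h, hh, rfl⟩) φ hφo (fun a ha => Subtype.ext (by
      show w * a * w⁻¹ = (a : G)
      rw [(hwC a ha).eq, mul_inv_cancel_right]))
    have h2 := congrArg Subtype.val (DFunLike.congr_fun h1 ⟨t, ht⟩)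
    exact mul_inv_eq_iff_eq_mul.1 h2

/-- A `p'`-element centralising the small elements of a `p`-group it normalises centralises it. -/
theorem commute_of_commute_small {T : Subgroup G} (hT : IsPGroup p T) {w : G}
    (hw : (orderOf w).Coprime p) (hwT : w ∈ normalizer (T : Set G))
    (hfix : ∀ t ∈ T, IsSmall p t → Commute w t) : ∀ t ∈ T, Commute w t := by
  obtain ⟨C, hCT, hinv, hH, hpow, hcrit⟩ := exists_critical_subgroup (p := p) hT
  exact hcrit w hwT hw (commute_of_class_two (hT.to_le hCT) hH hpow hw (hinv w hwT)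
    fun t ht => hfix t (hCT ht))

end CfsgLib.OrderPFix
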