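import Mathlib.GroupTheory.Transfer
import Mathlib.FieldTheory.Finite.Basic
import Mathlib.NumberTheory.Multiplicity
import Cfsg.Agent.Invol.BaerSuzuki
import Cfsg.Agent.Solvable.Hall

/-!
# Elementary lemmas: lifting normalisers, automorphisms of cyclic groups, direct Sylow factors
-/

set_option autoImplicit false

namespace CfsgLib.FGSBSmall

open Subgroup Pointwise CfsgLib.Solvable CfsgLib.SZ

variable {G : Type*} [Group G]

theorem inv_mem_normalizer_of_conj_mem [Finite G] {x g : G} (h : g * x * g⁻¹ ∈ zpowers x) :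
    g ∈ normalizer (zpowers x : Set G) := by
  rw [mem_normalizer_iff_map_conj_eq]
  refine Subgroup.eq_of_le_of_card_ge ?_ (card_map_of_injective (MulEquiv.injective _)).ge
  rw [MonoidHom.map_zpowers, zpowers_le]
  exact h

/-- Lifting the normaliser of a cyclic group of order coprime to a normal subgroup. -/
theorem exists_normalizing_lift [Finite G] (N : Subgroup G) [N.Normal] {x g : G}
    (hcop : (orderOf x).Coprime (Nat.card N)) (hg : g * x * g⁻¹ ∈ zpowers x ⊔ N) :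
    ∃ k ∈ N, k * g ∈ normalizer (zpowers x : Set G) := by
  have hB : MulAut.conj g • zpowers x ≤ zpowers x ⊔ N := by
    rw [conj_smul_eq_map, MonoidHom.map_zpowers, zpowers_le]
    exact hg
  obtain ⟨k, hk, he⟩ := conj_rel (A := zpowers x) (K := N) le_normalizer_of_normal
    (by rwa [Nat.card_zpowers]) (Or.inl inferInstance) hB (card_conj_smul g _)
  refine ⟨k⁻¹, N.inv_mem hk, conj_smul_eq_iff_mem_normalizer.1 ?_⟩
  rw [conj_smul_mul, ← he, ← conj_smul_mul, inv_mul_cancel]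
  simp

/-- An element with order a number for the primes `π` lifts to one with the same property. -/
theorem exists_pi_lift [Finite G] (N : Subgroup G) [N.Normal] (π : ℕ → Prop) (y : G ⧸ N)
    (hy : ∀ r : ℕ, r.Prime → r ∣ orderOf y → π r) :
    ∃ x : G, (x : G ⧸ N) = y ∧ ∀ r : ℕ, r.Prime → r ∣ orderOf x → π r := by
  obtain ⟨z, rfl⟩ := QuotientGroup.mk_surjective y
  obtain ⟨a, b, hab, -, ha, hb⟩ := CfsgLib.Hall.exists_pi_split (zpowers z) π
  rw [Nat.card_zpowers] at hab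
  obtain ⟨m, hm⟩ := exists_pow_eq_self_of_coprime (x := (z : G ⧸ N)) (n := b)
    (Nat.coprime_of_dvd fun r hr h1 h2 => hb r hr h1 (hy r hr h2))
  refine ⟨(z ^ b) ^ m, by rw [QuotientGroup.mk_pow, QuotientGroup.mk_pow, hm], fun r hr hd => ?_⟩
  refine ha r hr (hd.trans (orderOf_dvd_of_pow_eq_one ?_))
  rw [← pow_mul, ← pow_mul, show b * (m * a) = a * b * m by ring, pow_mul, ← hab,
    pow_orderOf_eq_one, one_pow]

/-- Splitting an element into commuting powers of coprime orders. -/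
theorem exists_prime_split [Finite G] {p : ℕ} (hp : p.Prime) (g : G) :
    ∃ a b : G, a * b = g ∧ a ∈ zpowers g ∧ b ∈ zpowers g ∧ (∃ k, orderOf a = p ^ k) ∧
      (orderOf b).Coprime p := by
  obtain ⟨e, m, hm, hord⟩ := Nat.exists_eq_pow_mul_and_not_dvd (orderOf_pos g).ne' p hp.ne_one
  have hcop : (p ^ e).Coprime m := (hp.coprime_iff_not_dvd.2 hm).pow_left e
  refine ⟨g ^ ((m : ℤ) * (p ^ e).gcdB m), g ^ (((p ^ e : ℕ) : ℤ) * (p ^ e).gcdA m), ?_,
    ⟨_, rfl⟩, ⟨_, rfl⟩, ?_, ?_⟩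
  · rw [← zpow_add, add_comm, ← Nat.gcd_eq_gcd_ab, hcop.gcd_eq_one, Nat.cast_one, zpow_one]
  · have h : orderOf (g ^ ((m : ℤ) * (p ^ e).gcdB m)) ∣ p ^ e := by
      apply orderOf_dvd_of_pow_eq_one
      rw [← zpow_natCast, ← zpow_mul, show (m : ℤ) * (p ^ e).gcdB m * ((p ^ e : ℕ) : ℤ) =
        ((p ^ e * m : ℕ) : ℤ) * (p ^ e).gcdB m by push_cast; ring, zpow_mul, zpow_natCast,
        ← hord, pow_orderOf_eq_one, one_zpow]
    obtain ⟨k, -, hk⟩ := (Nat.dvd_prime_pow hp).1 h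
    exact ⟨k, hk⟩
  · refine Nat.Coprime.coprime_dvd_left ?_ (hp.coprime_iff_not_dvd.2 hm).symm
    apply orderOf_dvd_of_pow_eq_one
    rw [← zpow_natCast, ← zpow_mul, show ((p ^ e : ℕ) : ℤ) * (p ^ e).gcdA m * (m : ℤ) =
        ((p ^ e * m : ℕ) : ℤ) * (p ^ e).gcdA m by push_cast; ring, zpow_mul, zpow_natCast,
        ← hord, pow_orderOf_eq_one, one_zpow]

/-- `g x g⁻¹ = x ^ i` gives the action of powers of `g`. -/
theorem conj_pow_pow {x g : G} {i : ℕ} (h : g * x * g⁻¹ = x ^ i) (n : ℕ) :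
    g ^ n * x * (g ^ n)⁻¹ = x ^ (i ^ n) := by
  induction n with
  | zero => simp
  | succ n ih =>
    calc g ^ (n + 1) * x * (g ^ (n + 1))⁻¹ = g * (g ^ n * x * (g ^ n)⁻¹) * g⁻¹ := by
          rw [pow_succ']; group
      _ = x ^ (i ^ (n + 1)) := by rw [ih, ← conj_pow, h, ← pow_mul, pow_succ']

/-- An automorphism of order prime to `φ(|x|)` of a cyclic group is trivial. -/
theorem commute_of_totient [Finite G] {x g : G} (h : g * x * g⁻¹ ∈ zpowers x)
    (hcop : (orderOf g).Coprime (Nat.totient (orderOf x))) : Commute g x := by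
  obtain ⟨i, hi⟩ := mem_powers_iff_mem_zpowers.2 h
  change x ^ i = g * x * g⁻¹ at hi
  have h1 := conj_pow_pow hi.symm (orderOf g)
  rw [pow_orderOf_eq_one, one_mul, inv_one, mul_one] at h1
  nth_rw 1 [← pow_one x] at h1
  rw [pow_eq_pow_iff_modEq] at h1
  have : NeZero (orderOf x) := ⟨(orderOf_pos x).ne'⟩
  have h2 : (i : ZMod (orderOf x)) ^ orderOf g = 1 := by
    have h3 := (ZMod.natCast_eq_natCast_iff _ _ _).2 h1
    push_cast at h3
    exact h3.symm
  let u : (ZMod (orderOf x))ˣ := Units.ofPowEqOne _ _ h2 (orderOf_pos g).ne'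
  have hu : u ^ orderOf g = 1 := Units.pow_ofPowEqOne _ _
  have hu1 : orderOf u = 1 := Nat.eq_one_of_dvd_coprimes hcop (orderOf_dvd_of_pow_eq_one hu)
    (orderOf_dvd_of_pow_eq_one (ZMod.pow_totient u))
  rw [orderOf_eq_one_iff] at hu1
  have h4 : (i : ZMod (orderOf x)) = ((1 : ℕ) : ZMod (orderOf x)) := by
    have := congrArg Units.val hu1
    simpa [u] using this
  rw [ZMod.natCast_eq_natCast_iff, ← pow_eq_pow_iff_modEq, pow_one] at h4
  rw [h4] at hi
  exact mul_inv_eq_iff_eq_mul.1 hi.symm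

/-- A `p'`-automorphism of a cyclic `p`-group fixing a nontrivial element is trivial. -/
theorem commute_of_fixed [Finite G] {p : ℕ} (hp : p.Prime) {z g x : G} {k a : ℕ}
    (hz : orderOf z = p ^ a) (hgz : g * z * g⁻¹ ∈ zpowers z) (hx : x ∈ zpowers z) (hx1 : x ≠ 1)
    (hgx : Commute g x) (hk : ¬ p ∣ k) (hgk : Commute (g ^ k) z) : Commute g z := by
  obtain ⟨i, hi⟩ := mem_powers_iff_mem_zpowers.2 hgz
  change z ^ i = g * z * g⁻¹ at hi
  obtain ⟨s, hs⟩ := mem_powers_iff_mem_zpowers.2 hx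
  change z ^ s = x at hs
  have h1 : z ^ (i * s) = z ^ s := by
    rw [pow_mul, hi, conj_pow, hs, hgx.eq, mul_inv_cancel_right]
  have hp1 : (p : ℤ) ∣ (i : ℤ) - 1 := by
    rw [pow_eq_pow_iff_modEq, hz] at h1
    have h2 : ((p ^ a : ℕ) : ℤ) ∣ ((i : ℤ) - 1) * s := by
      have := Nat.modEq_iff_dvd.1 h1.symm
      rw [show ((i * s : ℕ) : ℤ) - (s : ℤ) = ((i : ℤ) - 1) * s by push_cast; ring] at this
      exact this
    by_contra hndvd
    have hcop : IsCoprime ((p ^ a : ℕ) : ℤ) ((i : ℤ) - 1) := by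
      push_cast
      exact ((Nat.prime_iff_prime_int.1 hp).coprime_iff_not_dvd.2 hndvd).pow_left
    have h3 : (p ^ a) ∣ s := Int.natCast_dvd_natCast.1 (hcop.dvd_of_dvd_mul_left h2)
    apply hx1
    rw [← hs, ← orderOf_dvd_iff_pow_eq_one, hz]
    exact h3
  have hp2 : z ^ (i ^ p ^ a) = z := by
    conv_rhs => rw [← pow_one z]
    rw [pow_eq_pow_iff_modEq, hz, Nat.modEq_iff_dvd]
    have h4 := dvd_sub_pow_of_dvd_sub (R := ℤ) (a := (i : ℤ)) (b := 1) hp1 a
    rw [one_pow] at h4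
    push_cast
    rw [← neg_sub, dvd_neg]
    exact dvd_trans (pow_dvd_pow _ (Nat.le_succ a)) h4
  have hga : Commute (g ^ p ^ a) z := by
    have := conj_pow_pow hi.symm (p ^ a)
    rw [hp2] at this
    exact mul_inv_eq_iff_eq_mul.1 this
  have hcop : (p ^ a).Coprime k := (hp.coprime_iff_not_dvd.2 hk).pow_left a
  have h5 := (hga.zpow_left ((p ^ a).gcdA k)).mul_left (hgk.zpow_left ((p ^ a).gcdB k))
  rw [← zpow_natCast, ← zpow_natCast, ← zpow_mul, ← zpow_mul, ← zpow_add,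
    ← Nat.gcd_eq_gcd_ab, hcop.gcd_eq_one, Nat.cast_one, zpow_one] at h5
  exact h5

/-- If no element of odd order is inverted then the Sylow 2-subgroup is normal. -/
theorem sylow_two_normal_of_no_inverted [Finite G]
    (h : ∀ x g : G, Odd (orderOf x) → g * x * g⁻¹ = x⁻¹ → x = 1) (P : Sylow 2 G) :
    (P : Subgroup G).Normal := by
  have : Fact (Nat.Prime 2) := ⟨Nat.prime_two⟩
  obtain ⟨hOn, hOp⟩ := pCore_spec (G := G) 2
  set O := Cfsg.pCore 2 G with hO
  by_cases hPO : (P : Subgroup G) ≤ O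
  · rw [← P.3 hOp hPO]; exact hOn
  exfalso
  let f := QuotientGroup.mk' O
  have hbot : Cfsg.pCore 2 (G ⧸ O) = ⊥ := by
    obtain ⟨hn, hpg⟩ := pCore_spec (G := G ⧸ O) 2
    have h1 : (Cfsg.pCore 2 (G ⧸ O)).comap f ≤ O := le_pCore 2 (hn.comap f)
      (hpg.comap_of_ker_isPGroup f (by rw [QuotientGroup.ker_mk']; exact hOp))
    rw [← map_comap_eq_self_of_surjective (QuotientGroup.mk'_surjective O)
      (Cfsg.pCore 2 (G ⧸ O)), Subgroup.map_eq_bot_iff, QuotientGroup.ker_mk']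
    exact h1
  have hne : (P : Subgroup G).map f ≠ ⊥ := by
    rwa [Ne, Subgroup.map_eq_bot_iff, QuotientGroup.ker_mk']
  have : Nontrivial ((P : Subgroup G).map f) := (nontrivial_iff_ne_bot _).2 hne
  obtain ⟨k, hk⟩ := IsPGroup.iff_card.1 (P.isPGroup'.map f)
  have hk0 : k ≠ 0 := by
    rintro rfl
    have := Finite.one_lt_card (α := (P : Subgroup G).map f)
    rw [hk] at this
    exact absurd this (by norm_num)
  obtain ⟨t, ht⟩ := exists_prime_orderOf_dvd_card' 2 (hk.symm ▸ dvd_pow_self 2 hk0)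
  have ht' : orderOf (t : G ⧸ O) = 2 := by rw [Subgroup.orderOf_coe, ht]
  obtain ⟨y, hy1, hyodd, hinv⟩ := CfsgLib.Invol.exists_inverted_odd (t : G ⧸ O) ht' (by
    rw [hbot, Subgroup.mem_bot]
    intro h1
    rw [h1, orderOf_one] at ht'
    omega)
  obtain ⟨x, hx, hxπ⟩ := exists_pi_lift O (fun r => r ≠ 2) y
    fun r hr hd h2 => hyodd.not_two_dvd_nat (h2 ▸ hd)
  obtain ⟨g, hg⟩ := QuotientGroup.mk_surjective (t : G ⧸ O)
  have hxodd : Odd (orderOf x) := Nat.not_even_iff_odd.1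
    fun he => hxπ 2 Nat.prime_two (even_iff_two_dvd.1 he) rfl
  obtain ⟨j, hj⟩ := IsPGroup.iff_card.1 hOp
  have hcop : (orderOf x).Coprime (Nat.card O) := by
    rw [hj]
    exact ((Nat.prime_two.coprime_iff_not_dvd.2 hxodd.not_two_dvd_nat).symm).pow_right j
  have hgx : g * x * g⁻¹ ∈ zpowers x ⊔ O := by
    have h1 : x * (g * x * g⁻¹) ∈ O := by
      rw [← QuotientGroup.eq_one_iff]
      simp only [QuotientGroup.mk_mul, QuotientGroup.mk_inv]
      rw [hg, hx, hinv, mul_inv_cancel]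
    have := mul_mem (inv_mem (mem_sup_left (T := O) (mem_zpowers x))) (mem_sup_right (S := zpowers x) h1)
    rwa [inv_mul_cancel_left] at this
  obtain ⟨c, hc, hn⟩ := exists_normalizing_lift O hcop hgx
  have hcx : (c * g) * x * (c * g)⁻¹ ∈ zpowers x :=
    (mem_normalizer_iff.1 hn x).1 (mem_zpowers x)
  have hinv' : (c * g) * x * (c * g)⁻¹ = x⁻¹ := by
    have hO1 : x * ((c * g) * x * (c * g)⁻¹) ∈ O := by
      rw [← QuotientGroup.eq_one_iff]
      simp only [QuotientGroup.mk_mul, QuotientGroup.mk_inv]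
      rw [(QuotientGroup.eq_one_iff c).2 hc, one_mul, hg, hx, hinv, mul_inv_cancel]
    have hz : x * ((c * g) * x * (c * g)⁻¹) ∈ zpowers x := mul_mem (mem_zpowers x) hcx
    have h1 := inf_eq_bot_of_coprime (H := zpowers x) (K := O) (by rwa [Nat.card_zpowers])
    have h2 : x * ((c * g) * x * (c * g)⁻¹) = 1 := by
      have := mem_inf.2 ⟨hz, hO1⟩
      rwa [h1, Subgroup.mem_bot] at this
    exact eq_inv_of_mul_eq_one_right h2
  apply hy1
  rw [← hx, h x _ hxodd hinv', QuotientGroup.mk_one]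

/-- A Sylow subgroup centralised by all elements of order prime to `p` is a direct factor. -/
theorem exists_complement_of_centralized [Finite G] {p : ℕ} [hp : Fact p.Prime] (P : Sylow p G)
    [hN : (P : Subgroup G).Normal]
    (hc : ∀ g : G, (orderOf g).Coprime p → g ∈ centralizer ((P : Subgroup G) : Set G)) :
    ∃ H : Subgroup G, H.Normal ∧ ¬ p ∣ Nat.card H ∧
      (P : Subgroup G) ⊓ H = ⊥ ∧ (P : Subgroup G) ⊔ H = ⊤ := by
  obtain ⟨H, hH⟩ := exists_right_complement'_of_coprime (N := (P : Subgroup G)) P.card_coprime_index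
  have hcard : Nat.card H = (P : Subgroup G).index := hH.symm.index_eq_card.symm
  have hpH : ¬ p ∣ Nat.card H := hcard.symm ▸ P.not_dvd_index
  have hcomm : ∀ h ∈ H, ∀ y ∈ (P : Subgroup G), y * h = h * y := fun h hh y hy => by
    refine mem_centralizer_iff.1 (hc h (Nat.Coprime.coprime_dvd_left ?_
      (hp.out.coprime_iff_not_dvd.2 hpH).symm)) y hy
    exact H.orderOf_dvd_natCard hh
  refine ⟨H, ?_, hpH, hH.disjoint.eq_bot, hH.sup_eq_top⟩
  rw [← normalizer_eq_top_iff, eq_top_iff, ← hH.sup_eq_top]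
  refine sup_le ?_ le_normalizer
  refine le_trans (fun y hy => ?_) (centralizer_le_normalizer (H : Set G))
  rw [mem_centralizer_iff]
  intro h hh
  exact (hcomm h hh y hy).symm

/-- A proper subgroup's conjugates do not cover a finite group. -/
theorem eq_top_of_conj_cover [Finite G] {M : Subgroup G}
    (h : ∀ g : G, ∃ c : G, c⁻¹ * g * c ∈ M) : M = ⊤ := by
  classical
  have := Fintype.ofFinite G
  have := Fintype.ofFinite (G ⧸ M)
  have := fun g : G => Fintype.ofFinite (MulAction.fixedBy (G ⧸ M) g)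
  have := Fintype.ofFinite (MulAction.orbitRel.Quotient G (G ⧸ M))
  have hsum := MulAction.sum_card_fixedBy_eq_card_orbits_mul_card_group G (G ⧸ M)
  have h1 : Fintype.card (MulAction.orbitRel.Quotient G (G ⧸ M)) = 1 := by
    rw [Fintype.card_eq_one_iff]
    refine ⟨Quotient.mk'' ((1 : G) : G ⧸ M), fun q => ?_⟩
    induction q using Quotient.inductionOn' with | h a => ?_
    exact Quotient.eq''.2 (MulAction.mem_orbit_iff.2 (MulAction.exists_smul_eq G _ a))
  have hge : ∀ g : G, 1 ≤ Fintype.card (MulAction.fixedBy (G ⧸ M) g) := by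
    intro g
    obtain ⟨c, hc⟩ := h g
    refine Fintype.card_pos_iff.2 ⟨⟨(c : G ⧸ M), ?_⟩⟩
    rw [MulAction.mem_fixedBy, MulAction.Quotient.smul_coe, smul_eq_mul, QuotientGroup.eq]
    have := inv_mem hc
    simpa [mul_assoc] using this
  have hone : Fintype.card (MulAction.fixedBy (G ⧸ M) (1 : G)) = M.index := by
    rw [← Nat.card_eq_fintype_card, MulAction.fixedBy_one_eq_univ]
    exact Nat.card_congr (Equiv.Set.univ _)
  by_contra hM
  have hi : 2 ≤ M.index := by
    have h1 : M.index ≠ 1 := fun h => hM (index_eq_one.1 h)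
    have h0 : M.index ≠ 0 := index_ne_zero_of_finite
    omega
  have hlt : ∑ _g : G, 1 < ∑ g : G, Fintype.card (MulAction.fixedBy (G ⧸ M) g) :=
    Finset.sum_lt_sum (fun g _ => hge g) ⟨1, Finset.mem_univ _, by omega⟩
  rw [hsum, h1, one_mul] at hlt
  simp at hlt

end CfsgLib.FGSBSmall
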