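import Cfsg.Prelude.Def_KGroupFacts
import Mathlib.GroupTheory.SpecificGroups.Dihedral
import Mathlib.GroupTheory.SpecificGroups.Quaternion
import Mathlib.GroupTheory.SpecificGroups.Cyclic
import Mathlib.Tactic.LinearCombination

/-!
# Stem extensions: elementary bounds
-/

set_option autoImplicit false

namespace CfsgLib.StemExt

open Subgroup
open scoped commutatorElement

universe u v

/-- To have trivial multiplier it suffices that every finite stem extension has trivial kernel. -/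
theorem hasTrivialSchurMultiplier {Q : Type u} [Group Q] [Finite Q]
    (h : ∀ (Γ : Type u) [Group Γ] [Finite Γ] (σ : Γ →* Q), Cfsg.IsStemExtension σ → σ.ker = ⊥) :
    Cfsg.HasCyclicSchurMultiplier Q 1 := by
  refine ⟨⟨Q, inferInstance, inferInstance, MonoidHom.id Q,
    ⟨Function.surjective_id, by simp, by simp⟩, ?_⟩, ?_⟩
  · have : Subsingleton (MonoidHom.id Q).ker := by
      rw [MonoidHom.ker_id]; infer_instance
    exact ⟨MulEquiv.ofBijective (1 : (MonoidHom.id Q).ker →* Multiplicative (ZMod 1))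
      ⟨fun a b _ => Subsingleton.elim a b, fun b => ⟨1, Subsingleton.elim _ _⟩⟩⟩
  · intro Γ _ _ σ hσ
    have : Subsingleton σ.ker := by rw [h Γ σ hσ]; infer_instance
    exact ⟨1, fun b => ⟨1, Subsingleton.elim _ _⟩⟩

/-- A cover with cyclic kernel of order `n` and cyclic kernels of order dividing `n` throughout
give a cyclic multiplier of order `n`. -/
theorem hasCyclicSchurMultiplier {Q : Type u} [Group Q] {n : ℕ} [NeZero n]
    {Γ₀ : Type u} [Group Γ₀] [Finite Γ₀] (σ₀ : Γ₀ →* Q) (h0 : Cfsg.IsStemExtension σ₀)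
    (hc : IsCyclic σ₀.ker) (hn : Nat.card σ₀.ker = n)
    (h : ∀ (Γ : Type u) [Group Γ] [Finite Γ] (σ : Γ →* Q), Cfsg.IsStemExtension σ →
      IsCyclic σ.ker ∧ Nat.card σ.ker ∣ n) :
    Cfsg.HasCyclicSchurMultiplier Q n := by
  refine ⟨⟨Γ₀, inferInstance, inferInstance, σ₀, h0, ⟨mulEquivOfCyclicCardEq (by simpa using hn)⟩⟩,
    fun Γ _ _ σ hσ => ?_⟩
  obtain ⟨hcy, hdvd⟩ := h Γ σ hσ
  let e : Multiplicative (ZMod (Nat.card σ.ker)) ≃* σ.ker := zmodCyclicMulEquiv hcy
  exact ⟨e.toMonoidHom.comp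
      (AddMonoidHom.toMultiplicative (ZMod.castHom hdvd (ZMod (Nat.card σ.ker))).toAddMonoidHom),
    e.surjective.comp (ZMod.castHom_surjective hdvd)⟩

theorem isCyclic_of_le_zpowers {G : Type u} [Group G] {H : Subgroup G} {c : G}
    (h : H ≤ zpowers c) : IsCyclic H :=
  isCyclic_of_injective (Subgroup.inclusion h) (Subgroup.inclusion_injective h)

section Metacyclic

variable {Γ : Type u} {Q : Type v} [Group Γ] [Finite Γ] [Group Q] {σ : Γ →* Q} {a b : Γ}

theorem commute_comm (hc : σ.ker ≤ center Γ)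
    (hnorm : σ b * σ a * (σ b)⁻¹ ∈ zpowers (σ a)) :
    ∃ k : ℤ, ∃ z ∈ σ.ker, b * a * b⁻¹ * a⁻¹ = a ^ k * z ∧
      Commute a (b * a * b⁻¹ * a⁻¹) := by
  obtain ⟨j, hj⟩ := hnorm
  have hj' : σ a ^ j = σ b * σ a * (σ b)⁻¹ := hj
  refine ⟨j - 1, (a ^ (j - 1))⁻¹ * (b * a * b⁻¹ * a⁻¹), ?_, by group, ?_⟩
  · rw [MonoidHom.mem_ker]
    simp only [map_mul, map_inv, map_zpow]
    rw [← hj', inv_mul_eq_one, ← zpow_neg_one, ← zpow_add, sub_eq_add_neg]
  · have hz : (a ^ (j - 1))⁻¹ * (b * a * b⁻¹ * a⁻¹) ∈ center Γ := hc (by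
      rw [MonoidHom.mem_ker]
      simp only [map_mul, map_inv, map_zpow]
      rw [← hj', inv_mul_eq_one, ← zpow_neg_one, ← zpow_add, sub_eq_add_neg])
    have heq : b * a * b⁻¹ * a⁻¹ = a ^ (j - 1) * ((a ^ (j - 1))⁻¹ * (b * a * b⁻¹ * a⁻¹)) := by group
    rw [heq]
    exact ((Commute.refl a).zpow_right _).mul_right ((mem_center_iff.1 hz a))

/-- The commutator of lifts of generators of a metacyclic group generates the derived group. -/
theorem ker_le_zpowers (hσ : Cfsg.IsStemExtension σ)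
    (hgen : closure ({σ a, σ b} : Set Q) = ⊤)
    (hnorm : σ b * σ a * (σ b)⁻¹ ∈ zpowers (σ a)) :
    σ.ker ≤ zpowers (b * a * b⁻¹ * a⁻¹) := by
  obtain ⟨-, hc, hcomm⟩ := hσ
  obtain ⟨k, z, hz, hk, hac⟩ := commute_comm hc hnorm
  set c := b * a * b⁻¹ * a⁻¹ with hcdef
  have hzc : ∀ x, Commute x z := fun x => mem_center_iff.1 (hc hz) x
  have hconj : b * c * b⁻¹ = c ^ (k + 1) := by
    have h1 : b * a * b⁻¹ = c * a := by rw [hcdef]; group
    calc b * c * b⁻¹ = (b * a * b⁻¹) ^ k * (b * z * b⁻¹) := by rw [hk, conj_zpow]; group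
      _ = (c * a) ^ k * z := by rw [h1, (hzc b).eq, mul_inv_cancel_right]
      _ = c ^ (k + 1) := by
        rw [hac.symm.mul_zpow, mul_assoc, ← hk, zpow_add_one]
  let U : Subgroup Γ := closure (({a, b} : Set Γ) ∪ (σ.ker : Set Γ))
  have hU : U = ⊤ := by
    have hle : σ.ker ≤ U := fun x hx => subset_closure (Or.inr hx)
    have hmap : U.map σ = ⊤ := by
      rw [eq_top_iff, ← hgen, closure_le]
      rintro x (rfl | rfl)
      · exact ⟨a, subset_closure (Or.inl (by simp)), rfl⟩
      · exact ⟨b, subset_closure (Or.inl (by simp)), rfl⟩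
    rw [← sup_eq_left.2 hle, ← comap_map_eq, hmap, comap_top]
  have hN : (zpowers c).Normal := by
    rw [← normalizer_eq_top_iff, eq_top_iff, ← hU, closure_le]
    intro x hx
    rw [SetLike.mem_coe, mem_normalizer_iff_map_conj_eq]
    have hmem : x * c * x⁻¹ ∈ zpowers c := by
      rcases hx with (rfl | rfl) | hx
      · rw [hac.eq, mul_inv_cancel_right]; exact mem_zpowers c
      · exact ⟨_, hconj.symm⟩
      · rw [← mem_center_iff.1 (hc hx) c, mul_inv_cancel_right]; exact mem_zpowers c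
    refine eq_of_le_of_card_ge ?_ (card_map_of_injective (MulEquiv.injective _)).ge
    rw [MonoidHom.map_zpowers, zpowers_le]
    exact hmem
  refine hcomm.trans ((Subgroup.Normal.quotient_commutative_iff_commutator_le).1 ⟨⟨fun x y => ?_⟩⟩)
  let f := QuotientGroup.mk' (zpowers c)
  have hS : ∀ u ∈ f '' (({a, b} : Set Γ) ∪ (σ.ker : Set Γ)),
      ∀ w ∈ f '' (({a, b} : Set Γ) ∪ (σ.ker : Set Γ)), u * w = w * u := by
    have hba : f b * f a = f a * f b := by
      have h1 : f c = 1 := (QuotientGroup.eq_one_iff c).2 (mem_zpowers c)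
      have h2 : b * a = c * (a * b) := by rw [hcdef]; group
      rw [← map_mul, h2, map_mul, h1, one_mul, map_mul]
    rintro _ ⟨u, hu, rfl⟩ _ ⟨w, hw, rfl⟩
    rcases hu with hu | hu
    · rcases hw with hw | hw
      · rcases hu with rfl | rfl <;> rcases hw with rfl | rfl
        · rfl
        · exact hba.symm
        · exact hba
        · rfl
      · rw [← map_mul, ← map_mul, mem_center_iff.1 (hc hw) u]
    · rw [← map_mul, ← map_mul, ← mem_center_iff.1 (hc hu) w]
  have htop : closure (f '' (({a, b} : Set Γ) ∪ (σ.ker : Set Γ))) = ⊤ := by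
    rw [← MonoidHom.map_closure]
    exact (congrArg _ hU).trans
      (map_top_of_surjective f (QuotientGroup.mk'_surjective _))
  have := isMulCommutative_closure hS
  exact congrArg Subtype.val (this.is_comm.comm ⟨x, htop.symm ▸ mem_top x⟩ ⟨y, htop.symm ▸ mem_top y⟩)

theorem comm_pow_eq_one (hc : σ.ker ≤ center Γ)
    (hnorm : σ b * σ a * (σ b)⁻¹ ∈ zpowers (σ a)) {o : ℕ} (ho : Commute b (a ^ o)) :
    (b * a * b⁻¹ * a⁻¹) ^ o = 1 := by
  obtain ⟨k, z, -, -, hac⟩ := commute_comm hc hnorm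
  have h1 : (b * a * b⁻¹) ^ o = (b * a * b⁻¹ * a⁻¹) ^ o * a ^ o := by
    rw [← hac.symm.mul_pow, inv_mul_cancel_right]
  rw [conj_pow, ho.eq, mul_inv_cancel_right] at h1
  exact mul_right_cancel (h1.symm.trans (one_mul _).symm)

end Metacyclic

theorem ker_eq_bot_of_isCyclic {Γ : Type u} {Q : Type v} [Group Γ] [Group Q] [IsCyclic Q]
    {σ : Γ →* Q} (hσ : Cfsg.IsStemExtension σ) : σ.ker = ⊥ := by
  have hcomm : commutator Γ = ⊥ := by
    rw [commutator_def, commutator_eq_bot_iff_le_centralizer]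
    intro x _
    rw [mem_centralizer_iff]
    intro y _
    exact commutative_of_cyclic_center_quotient σ hσ.2.1 y x
  exact le_bot_iff.1 (hcomm ▸ hσ.2.2)

section Dihedral

variable {n : ℕ}

theorem dihedral_closure : closure ({DihedralGroup.r 1, DihedralGroup.sr 0} : Set (DihedralGroup n)) = ⊤ := by
  rw [eq_top_iff]
  have hr : ∀ i : ZMod n, DihedralGroup.r i ∈
      closure ({DihedralGroup.r 1, DihedralGroup.sr 0} : Set (DihedralGroup n)) := fun i => by
    obtain ⟨k, rfl⟩ := ZMod.intCast_surjective i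
    rw [← DihedralGroup.r_one_zpow]
    exact zpow_mem (subset_closure (by simp)) k
  rintro (i | i) -
  · exact hr i
  · rw [show DihedralGroup.sr i = DihedralGroup.sr 0 * DihedralGroup.r i by simp]
    exact mul_mem (subset_closure (by simp)) (hr i)

/-- The kernel of a stem extension of a dihedral group is generated by one element `c ^ i` with
`n ∣ 2 i`, where `c ^ n = 1`. -/
theorem dihedral_bound [NeZero n] {Γ : Type u} [Group Γ] [Finite Γ] {σ : Γ →* DihedralGroup n}
    (hσ : Cfsg.IsStemExtension σ) :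
    ∃ c : Γ, c ^ n = 1 ∧ σ.ker ≤ zpowers c ∧ ∀ i : ℤ, c ^ i ∈ σ.ker → (n : ℤ) ∣ 2 * i := by
  obtain ⟨a, ha⟩ := hσ.1 (DihedralGroup.r 1)
  obtain ⟨b, hb⟩ := hσ.1 (DihedralGroup.sr 0)
  have hnorm : σ b * σ a * (σ b)⁻¹ ∈ zpowers (σ a) := by
    rw [ha, hb]
    exact ⟨-1, by simp [DihedralGroup.r_one_zpow]⟩
  refine ⟨b * a * b⁻¹ * a⁻¹, comm_pow_eq_one hσ.2.1 hnorm ?_,
    ker_le_zpowers hσ (by rw [ha, hb]; exact dihedral_closure) hnorm, fun i hi => ?_⟩
  · have : a ^ n ∈ σ.ker := by simp [ha]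
    exact mem_center_iff.1 (hσ.2.1 this) b
  · rw [MonoidHom.mem_ker, map_zpow] at hi
    simp only [map_mul, map_inv, ha, hb] at hi
    rw [show DihedralGroup.sr (0 : ZMod n) * DihedralGroup.r 1 * (DihedralGroup.sr 0)⁻¹ *
        (DihedralGroup.r 1)⁻¹ = DihedralGroup.r ((-2 : ℤ) : ZMod n) by simp; ring,
      ← DihedralGroup.r_one_zpow, ← zpow_mul, DihedralGroup.r_one_zpow, DihedralGroup.one_def,
      DihedralGroup.r.injEq, ZMod.intCast_zmod_eq_zero_iff_dvd] at hi
    simpa using hi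

theorem quaternion_closure [NeZero n] :
    closure ({QuaternionGroup.a 1, QuaternionGroup.xa 0} : Set (QuaternionGroup n)) = ⊤ := by
  rw [eq_top_iff]
  have hr : ∀ i : ZMod (2 * n), QuaternionGroup.a i ∈
      closure ({QuaternionGroup.a 1, QuaternionGroup.xa 0} : Set (QuaternionGroup n)) := fun i => by
    rw [← ZMod.natCast_zmod_val i, ← QuaternionGroup.a_one_pow]
    exact pow_mem (subset_closure (by simp)) _
  rintro (i | i) -
  · exact hr i
  · rw [show QuaternionGroup.xa i = QuaternionGroup.xa 0 * QuaternionGroup.a i by simp]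
    exact mul_mem (subset_closure (by simp)) (hr i)

theorem quaternion_inv_a (i : ZMod (2 * n)) :
    (QuaternionGroup.a i : QuaternionGroup n)⁻¹ = QuaternionGroup.a (-i) := rfl

theorem quaternion_inv_xa (i : ZMod (2 * n)) :
    (QuaternionGroup.xa i : QuaternionGroup n)⁻¹ = QuaternionGroup.xa ((n : ZMod (2 * n)) + i) := rfl

theorem quaternion_natCast_add_self : (n : ZMod (2 * n)) + n = 0 := by
  rw [← Nat.cast_add, ← two_mul, ZMod.natCast_self]

theorem quaternion_ker [NeZero n] {Γ : Type u} [Group Γ] [Finite Γ] {σ : Γ →* QuaternionGroup n}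
    (hσ : Cfsg.IsStemExtension σ) : σ.ker = ⊥ := by
  obtain ⟨a, ha⟩ := hσ.1 (QuaternionGroup.a 1)
  obtain ⟨b, hb⟩ := hσ.1 (QuaternionGroup.xa 0)
  have hconj : σ b * σ a * (σ b)⁻¹ * (σ a)⁻¹ = QuaternionGroup.a ((-2 : ℤ) : ZMod (2 * n)) := by
    rw [ha, hb]
    simp [quaternion_inv_a, quaternion_inv_xa]
    linear_combination (quaternion_natCast_add_self (n := n))
  have hnorm : σ b * σ a * (σ b)⁻¹ ∈ zpowers (σ a) := by
    refine ⟨-1, ?_⟩
    rw [ha, hb]
    simp [quaternion_inv_a, quaternion_inv_xa]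
    linear_combination (quaternion_natCast_add_self (n := n)).symm
  have hcom : Commute b (a ^ n) := by
    have hker : (a ^ n)⁻¹ * b ^ 2 ∈ σ.ker := by
      rw [MonoidHom.mem_ker, map_mul, map_inv, map_pow, map_pow, ha, hb,
        QuaternionGroup.a_one_pow, inv_mul_eq_one, pow_two]
      simp
    have hz : Commute b ((a ^ n)⁻¹ * b ^ 2) := mem_center_iff.1 (hσ.2.1 hker) b
    have h2 : Commute b (b ^ 2) := (Commute.refl b).pow_right 2
    have := h2.mul_right hz.inv_right
    simpa [mul_inv_rev] using this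
  refine le_bot_iff.1 fun x hx => ?_
  obtain ⟨i, rfl⟩ := ker_le_zpowers hσ (by rw [ha, hb]; exact quaternion_closure) hnorm hx
  have hi : (n : ℤ) ∣ i := by
    rw [MonoidHom.mem_ker] at hx
    simp only [map_zpow, map_mul, map_inv, hconj] at hx
    have h1 : QuaternionGroup.a ((-2 : ℤ) : ZMod (2 * n)) = σ a ^ (-2 : ℤ) := by
      rw [ha, show (-2 : ℤ) = -((2 : ℕ) : ℤ) by rfl, zpow_neg, zpow_natCast,
        QuaternionGroup.a_one_pow, quaternion_inv_a]
      simp
    rw [h1, ← zpow_mul, ← orderOf_dvd_iff_zpow_eq_one, ha, QuaternionGroup.orderOf_a_one] at hx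
    have h2 : (2 * (n : ℤ)) ∣ 2 * i := by simpa using hx
    exact (mul_dvd_mul_iff_left two_ne_zero).1 h2
  obtain ⟨j, rfl⟩ := hi
  simp [zpow_mul, comm_pow_eq_one hσ.2.1 hnorm hcom]

/-- The map from the dicyclic group of order `4n` onto the dihedral group of order `2n`. -/
def toDihedral (n : ℕ) [NeZero n] (hn : Even n) : QuaternionGroup n →* DihedralGroup n where
  toFun g := match g with
    | .a i => .r (ZMod.castHom (dvd_mul_left n 2) (ZMod n) i)
    | .xa i => .sr (ZMod.castHom (dvd_mul_left n 2) (ZMod n) i)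
  map_one' := by
    show DihedralGroup.r _ = _
    rw [map_zero]; rfl
  map_mul' := by
    rintro (i | i) (j | j) <;> simp [DihedralGroup.one_def]

theorem isStemExtension_toDihedral (n : ℕ) [NeZero n] (hn : Even n) :
    Cfsg.IsStemExtension (toDihedral n hn) ∧ Nat.card (toDihedral n hn).ker = 2 := by
  obtain ⟨m, hm⟩ := hn
  have hn0 := NeZero.ne n
  set φ := toDihedral n ⟨m, hm⟩
  have hker : ∀ g, g ∈ φ.ker ↔ g = QuaternionGroup.a 0 ∨ g = QuaternionGroup.a (n : ZMod (2 * n)) := by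
    rintro (i | i)
    · rw [MonoidHom.mem_ker]
      show DihedralGroup.r (ZMod.castHom (dvd_mul_left n 2) (ZMod n) i) = DihedralGroup.r 0 ↔ _
      rw [DihedralGroup.r.injEq, QuaternionGroup.a.injEq, QuaternionGroup.a.injEq]
      obtain ⟨k, hk, rfl⟩ : ∃ k < 2 * n, (k : ZMod (2 * n)) = i :=
        ⟨i.val, ZMod.val_lt i, ZMod.natCast_zmod_val i⟩
      rw [map_natCast, ZMod.natCast_eq_zero_iff, ← Nat.cast_zero, ZMod.natCast_eq_natCast_iff',
        ZMod.natCast_eq_natCast_iff', Nat.mod_eq_of_lt hk, Nat.zero_mod,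
        Nat.mod_eq_of_lt (by omega : n < 2 * n)]
      constructor
      · rintro ⟨t, rfl⟩
        have : t < 2 := Nat.lt_of_mul_lt_mul_left (a := n) (by rw [mul_comm n 2]; exact hk)
        rcases (show t = 0 ∨ t = 1 by omega) with rfl | rfl <;> simp
      · rintro (rfl | rfl) <;> simp
    · rw [MonoidHom.mem_ker]
      show DihedralGroup.sr _ = DihedralGroup.r 0 ↔ _
      simp [-QuaternionGroup.a_zero]
      intro h
      rw [DihedralGroup.one_def] at h
      cases h
  refine ⟨⟨?_, ?_, ?_⟩, ?_⟩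
  · rintro (i | i)
    · obtain ⟨j, hj⟩ := ZMod.castHom_surjective (dvd_mul_left n 2) i
      exact ⟨.a j, by simp [φ, toDihedral, ← hj]⟩
    · obtain ⟨j, hj⟩ := ZMod.castHom_surjective (dvd_mul_left n 2) i
      exact ⟨.xa j, by simp [φ, toDihedral, ← hj]⟩
  · intro g hg
    rw [mem_center_iff]
    have hnn : (n : ZMod (2 * n)) + n = 0 := by
      rw [← Nat.cast_add, ZMod.natCast_eq_zero_iff]; exact ⟨1, by ring⟩
    rcases (hker g).1 hg with rfl | rfl
    · intro h; rw [QuaternionGroup.a_zero]; simp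
    · rintro (i | i)
      · simp [add_comm]
      · rw [QuaternionGroup.xa_mul_a, QuaternionGroup.a_mul_xa]
        congr 1
        linear_combination hnn
  · intro g hg
    rcases (hker g).1 hg with rfl | rfl
    · rw [QuaternionGroup.a_zero]; exact one_mem _
    · have h1 : QuaternionGroup.a (n : ZMod (2 * n)) =
          ⁅QuaternionGroup.a (m : ZMod (2 * n)), QuaternionGroup.xa 0⁆ := by
        have h4 := quaternion_natCast_add_self (n := n)
        simp [commutatorElement_def, quaternion_inv_a, quaternion_inv_xa]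
        have h5 : (n : ZMod (2 * n)) = m + m := by rw [← Nat.cast_add]; exact congrArg _ hm
        linear_combination h5 - h4
      rw [h1]
      exact commutator_mem_commutator (mem_top _) (mem_top _)
  · rw [show (φ.ker : Subgroup _) = zpowers (QuaternionGroup.a (n : ZMod (2 * n))) from ?_,
      Nat.card_zpowers]
    · refine orderOf_eq_prime ?_ ?_
      · rw [pow_two, QuaternionGroup.a_mul_a, quaternion_natCast_add_self, QuaternionGroup.a_zero]
      · rw [QuaternionGroup.one_def, ne_eq, QuaternionGroup.a.injEq, ZMod.natCast_eq_zero_iff]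
        intro h
        have := Nat.le_of_dvd (by omega) h
        omega
    · refine le_antisymm (fun g hg => ?_) ((zpowers_le).2 ((hker _).2 (Or.inr rfl)))
      rcases (hker g).1 hg with rfl | rfl
      · rw [QuaternionGroup.a_zero]; exact one_mem _
      · exact mem_zpowers _

end Dihedral

end CfsgLib.StemExt
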