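import Mathlib.GroupTheory.GroupAction.Jordan
import Mathlib.GroupTheory.Sylow
import Mathlib.Data.Nat.Factorial.Basic

/-!
# Jordan's theorem: a primitive group with a cycle of prime length fixing at least three points
contains the alternating group
-/

namespace CfsgLib.Jordan

open Equiv Equiv.Perm MulAction

variable {α : Type*} [Fintype α] [DecidableEq α]

theorem image_support_of_preserves {g h : Perm α} (hh : ∀ x, x ∈ g.support → h x ∈ g.support)
    (x : α) : (h * g * h⁻¹) x ≠ x → x ∈ g.support := by
  intro hx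
  have : h⁻¹ x ∈ g.support := by
    rw [mem_support]
    intro hc
    exact hx (by rw [Perm.mul_apply, Perm.mul_apply, hc]; exact h.apply_symm_apply x)
  simpa using hh _ this

/-- A primitive group containing a cycle of prime length with exactly `n + 1` fixed points is
`n + 2`-transitive. -/
theorem isMultiplyPretransitive_of_isCycle {G : Subgroup (Perm α)} (hG : IsPreprimitive G α)
    {g : Perm α} (hg : g ∈ G) (hc : g.IsCycle) (hp : g.support.card.Prime) (n : ℕ)
    (hn : Fintype.card α = g.support.card + (n + 1)) : IsMultiplyPretransitive G α (n + 2) := by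
  classical
  let F : Set α := (g.support : Set α)ᶜ
  have hFcard : F.ncard = n + 1 := by
    have := Set.ncard_add_ncard_compl (g.support : Set α)
    rw [Set.ncard_coe_finset, Nat.card_eq_fintype_card] at this
    change ((g.support : Set α)ᶜ).ncard = n + 1
    omega
  have := isPretransitive_of_isCycle_mem hc hg
  have hprim : IsPreprimitive (fixingSubgroup G F) (SubMulAction.ofFixingSubgroup G F) := by
    apply IsPreprimitive.of_prime_card
    convert hp using 1
    rw [Nat.card_eq_fintype_card, Fintype.card_subtype]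
    apply congr_arg
    ext x
    simp [SubMulAction.mem_ofFixingSubgroup_iff, F]
  have h2 := hG.isMultiplyPreprimitive (s := F) hFcard
    (by rw [Nat.card_eq_fintype_card]; have := hp.two_le; omega) hprim
  exact h2.isMultiplyPretransitive

/-- **Jordan's theorem.** -/
theorem alternatingGroup_le_of_isCycle {G : Subgroup (Perm α)} (hG : IsPreprimitive G α)
    {g : Perm α} (hg : g ∈ G) (hc : g.IsCycle) (hp : g.support.card.Prime)
    (h3 : g.support.card + 3 ≤ Fintype.card α) : alternatingGroup α ≤ G := by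
  classical
  set p := g.support.card with hpdef
  have : Fact p.Prime := ⟨hp⟩
  obtain ⟨n, hn⟩ : ∃ n, Fintype.card α = p + (n + 1) := ⟨Fintype.card α - p - 1, by omega⟩
  let F : Set α := (g.support : Set α)ᶜ
  have hFcard : F.ncard = n + 1 := by
    have := Set.ncard_add_ncard_compl (g.support : Set α)
    rw [Set.ncard_coe_finset, Nat.card_eq_fintype_card] at this
    change ((g.support : Set α)ᶜ).ncard = n + 1
    omega
  have hmult : IsMultiplyPretransitive G α (n + 1) :=
    have := isMultiplyPretransitive_of_isCycle hG hg hc hp n hn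
    isMultiplyPretransitive_of_le (show n + 1 ≤ n + 2 by omega)
      (by rw [Nat.card_eq_fintype_card]; have := hp.two_le; omega)
  let e : Fin (n + 1) ≃ F := (Finite.equivFinOfCardEq (by rw [Nat.card_coe_set_eq, hFcard])).symm
  -- normalising lift of a permutation of the fixed point set
  have key : ∀ π : Perm F, ∃ h ∈ G, (∀ x : F, h (x : α) = (π x : α)) ∧
      ∃ i : ℕ, h * g * h⁻¹ = g ^ i := by
    intro π
    obtain ⟨⟨h, hhG⟩, hh⟩ := hmult.exists_smul_eq
      (⟨fun i => (e i : α), Subtype.val_injective.comp e.injective⟩ : Fin (n + 1) ↪ α)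
      ⟨fun i => (π (e i) : α), Subtype.val_injective.comp (π.injective.comp e.injective)⟩
    have hF : ∀ x : F, h (x : α) = (π x : α) := fun x => by
      have := congrFun (congrArg DFunLike.coe hh) (e.symm x)
      simp only [Function.Embedding.smul_apply, Function.Embedding.coeFn_mk, Subgroup.smul_def,
        Perm.smul_def, Equiv.apply_symm_apply] at this
      exact this
    have hsupp : ∀ x, x ∈ g.support → h x ∈ g.support := fun x hx => by
      by_contra hc'
      have h1 := hF (π.symm ⟨h x, by simpa [F] using hc'⟩)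
      rw [Equiv.apply_symm_apply] at h1
      have h2 := (π.symm ⟨h x, by simpa [F] using hc'⟩).2
      rw [h.injective h1] at h2
      exact h2 hx
    let K : Subgroup (Perm α) := G ⊓
      { carrier := {k | ∀ x, x ∉ g.support → k x = x}
        one_mem' := fun x _ => rfl
        mul_mem' := fun {a b} ha hb x hx => by rw [Perm.mul_apply, hb x hx, ha x hx]
        inv_mem' := fun {a} ha x hx => by
          conv_lhs => rw [← ha x hx]
          simp }
    have hgK : g ∈ K := ⟨hg, fun x hx => by simpa using hx⟩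
    have hcK : h * g * h⁻¹ ∈ K := ⟨G.mul_mem (G.mul_mem hhG hg) (G.inv_mem hhG),
      fun x hx => not_not.1 fun hne => hx (image_support_of_preserves hsupp x hne)⟩
    have hord : orderOf g = p := hc.orderOf
    have hKdvd : ¬ p ^ 2 ∣ Nat.card K := by
      have hle : K ≤ (Perm.ofSubtype (p := fun x => x ∈ g.support)).range := by
        intro k hk
        have hkS : ∀ x, k x ∈ g.support ↔ x ∈ g.support := fun x => by
          by_cases hx : x ∈ g.support
          · refine iff_of_true ?_ hx
            by_contra hkx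
            exact hkx (by rwa [k.injective (hk.2 _ hkx)])
          · rw [hk.2 x hx]
        refine ⟨k.subtypePerm hkS, ?_⟩
        exact ofSubtype_subtypePerm hkS fun x hx => not_not.1 fun hxs => hx (hk.2 x hxs)
      intro hdvd
      have h1 := hdvd.trans (Subgroup.card_dvd_of_le hle)
      rw [Nat.card_congr (MonoidHom.ofInjective
        (ofSubtype_injective (p := fun x => x ∈ g.support))).toEquiv.symm, Nat.card_perm,
        Nat.card_eq_fintype_card, Fintype.card_coe] at h1
      change p ^ 2 ∣ p.factorial at h1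
      rw [← Nat.mul_factorial_pred hp.ne_zero, pow_two,
        Nat.mul_dvd_mul_iff_left hp.pos, hp.dvd_factorial] at h1
      have := hp.two_le
      omega
    have hsyl : ∀ z : K, orderOf (z : Perm α) = p →
        ∃ P : Sylow p K, (P : Subgroup K) = Subgroup.zpowers z := by
      intro z hz
      have hcard : Nat.card (Subgroup.zpowers z) = p := by
        rw [Nat.card_zpowers, ← Subgroup.orderOf_coe, hz]
      have hc2 : Nat.card (Subgroup.zpowers z) = p ^ (Nat.card K).factorization p := by
        rw [hcard]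
        have h1 : p ∣ Nat.card K := hcard ▸ Subgroup.card_subgroup_dvd_card _
        have h2 : (Nat.card K).factorization p = 1 := by
          refine le_antisymm ?_ (hp.dvd_iff_one_le_factorization Nat.card_pos.ne' |>.1 h1)
          by_contra hlt
          exact hKdvd ((hp.pow_dvd_iff_le_factorization Nat.card_pos.ne').2 (by omega))
        rw [h2, pow_one]
      exact ⟨Sylow.ofCard _ hc2, rfl⟩
    obtain ⟨P₁, hP₁⟩ := hsyl ⟨g, hgK⟩ hord
    obtain ⟨P₂, hP₂⟩ := hsyl ⟨h * g * h⁻¹, hcK⟩
      (by rw [← hord]; exact (MulAut.conj h).orderOf_eq g)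
    obtain ⟨k, hk⟩ := MulAction.exists_smul_eq K P₁ P₂
    have hmem : (⟨h * g * h⁻¹, hcK⟩ : K) ∈
        Subgroup.map (MulAut.conj k).toMonoidHom (Subgroup.zpowers ⟨g, hgK⟩) := by
      have h1 : ((k • P₁ : Sylow p K) : Subgroup K) = (P₂ : Subgroup K) := by rw [hk]
      rw [Sylow.coe_subgroup_smul, hP₁, hP₂] at h1
      rw [Subgroup.pointwise_smul_def] at h1
      exact h1.symm.le (Subgroup.mem_zpowers _)
    obtain ⟨z, hz, hz'⟩ := hmem
    obtain ⟨i, rfl⟩ := Subgroup.mem_zpowers_iff.1 hz
    refine ⟨(k : Perm α)⁻¹ * h, G.mul_mem (G.inv_mem k.2.1) hhG, fun x => ?_, ?_⟩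
    · rw [Perm.mul_apply, hF x]
      exact (inv_mem k.2 : (k : Perm α)⁻¹ ∈ K).2 _ (π x).2
    · have h1 := congrArg Subtype.val hz'
      simp only [MulEquiv.coe_toMonoidHom, MulAut.conj_apply, Subgroup.coe_mul, Subgroup.coe_inv,
        SubgroupClass.coe_zpow] at h1
      obtain ⟨j, hj⟩ := (mem_powers_iff_mem_zpowers).2 (Subgroup.zpow_mem_zpowers g i)
      refine ⟨j, ?_⟩
      change g ^ j = g ^ i at hj
      rw [hj, mul_inv_rev, inv_inv]
      calc (k : Perm α)⁻¹ * h * g * (h⁻¹ * k) = (k : Perm α)⁻¹ * (h * g * h⁻¹) * k := by group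
        _ = g ^ i := by rw [← h1]; group
  -- a three-cycle of fixed points
  obtain ⟨a, b, c, hab, hac, hbc⟩ := Fintype.two_lt_card_iff.1
    (show 2 < Fintype.card F by rw [← Nat.card_eq_fintype_card, Nat.card_coe_set_eq, hFcard]; omega)
  obtain ⟨u, huG, hu, i, hui⟩ := key (Equiv.swap a b)
  obtain ⟨v, hvG, hv, j, hvj⟩ := key (Equiv.swap b c)
  have hpow : ∀ (w : Perm α) (i : ℕ), w * g * w⁻¹ = g ^ i →
      ∀ m : ℕ, w * g ^ m * w⁻¹ = g ^ (i * m) := fun w i hw m => by
    rw [← conj_pow, hw, pow_mul]
  have hcomm : (u * v * u⁻¹ * v⁻¹) * g = g * (u * v * u⁻¹ * v⁻¹) := by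
    have h1 : (u * v) * g * (u * v)⁻¹ = (v * u) * g * (v * u)⁻¹ := by
      calc (u * v) * g * (u * v)⁻¹ = u * (v * g * v⁻¹) * u⁻¹ := by group
        _ = g ^ (i * j) := by rw [hvj, hpow u i hui]
        _ = v * (u * g * u⁻¹) * v⁻¹ := by rw [hui, hpow v j hvj, mul_comm]
        _ = (v * u) * g * (v * u)⁻¹ := by group
    calc u * v * u⁻¹ * v⁻¹ * g = (u * v) * ((v * u)⁻¹ * g * (v * u)) * (v * u)⁻¹ := by group
      _ = (u * v) * ((v * u)⁻¹ * g * (v * u)) * (u * v)⁻¹ * ((u * v) * (v * u)⁻¹) := by group
      _ = (v * u) * ((v * u)⁻¹ * g * (v * u)) * (v * u)⁻¹ * ((u * v) * (v * u)⁻¹) := by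
        congr 1
        have h2 : Commute ((v * u)⁻¹ * (u * v)) g := by
          rw [Commute, SemiconjBy]
          calc (v * u)⁻¹ * (u * v) * g = (v * u)⁻¹ * ((u * v) * g * (u * v)⁻¹) * (u * v) := by group
            _ = g * ((v * u)⁻¹ * (u * v)) := by rw [h1]; group
        have h3 : (v * u) * g * (v * u)⁻¹ = (u * v) * g * (u * v)⁻¹ := h1.symm
        obtain ⟨l, hl⟩ : ∃ l : ℕ, (v * u)⁻¹ * g * (v * u) = g ^ l := by
          have hg1 : (v * u) * g * (v * u)⁻¹ = g ^ (j * i) := by
            calc (v * u) * g * (v * u)⁻¹ = v * (u * g * u⁻¹) * v⁻¹ := by group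
              _ = g ^ (j * i) := by rw [hui, hpow v j hvj]
          obtain ⟨l, hl⟩ := exists_pow_eq_self_of_coprime (x := g) (n := j * i) (by
            rw [hc.orderOf]
            refine (hp.coprime_iff_not_dvd.2 fun hd => ?_).symm
            have hone : g ^ (j * i) = 1 := orderOf_dvd_iff_pow_eq_one.1 (hc.orderOf ▸ hd)
            rw [← hg1, conj_eq_one_iff] at hone
            exact hc.ne_one hone)
          refine ⟨l, ?_⟩
          conv_lhs => rw [← hl, ← hg1, conj_pow]
          group
        rw [hl]
        have h4 := congrArg (fun z => z ^ l) h3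
        simp only [conj_pow] at h4
        exact h4.symm
      _ = g * (u * v * u⁻¹ * v⁻¹) := by group
  set w := u * v * u⁻¹ * v⁻¹ with hw
  have hwF : ∀ x : F, w (x : α) = ((Equiv.swap a b * Equiv.swap b c *
      (Equiv.swap a b)⁻¹ * (Equiv.swap b c)⁻¹) x : α) := by
    have inv' : ∀ (z : Perm α) (π : Perm F), (∀ x : F, z x = (π x : α)) →
        ∀ x : F, z⁻¹ (x : α) = (π⁻¹ x : α) := fun z π hz x => by
      have := hz (π⁻¹ x)
      rw [Perm.coe_inv, Equiv.apply_symm_apply] at this
      rw [← this]; simp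
    intro x
    simp only [hw, Perm.mul_apply]
    rw [inv' v _ hv x, inv' u _ hu, hv, hu]
  obtain ⟨x₀, hx₀⟩ := hc.nonempty_support
  have hx₀' : g x₀ ≠ x₀ := mem_support.1 hx₀
  have hwx : w x₀ ∈ g.support := by
    by_contra hns
    have hfix : g (w x₀) = w x₀ := by simpa using hns
    have := congrArg (fun z : Perm α => z x₀) hcomm
    simp only [Perm.mul_apply] at this
    rw [hfix] at this
    exact hx₀' (w.injective this)
  obtain ⟨l, hl⟩ := hc.exists_zpow_eq hx₀' (mem_support.1 hwx)
  set t := (g ^ l)⁻¹ * w with ht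
  have htsupp : ∀ x ∈ g.support, t x = x := by
    intro x hx
    obtain ⟨m, rfl⟩ := hc.exists_zpow_eq hx₀' (mem_support.1 hx)
    have hcm : Commute t (g ^ m) :=
      (((Commute.refl g).zpow_left l).inv_left.mul_left (show Commute w g from hcomm)).zpow_right m
    have h1 := congrArg (fun z : Perm α => z x₀) hcm.eq
    simp only [Perm.mul_apply] at h1
    rw [h1, ht, Perm.mul_apply, ← hl]
    simp
  set π := Equiv.swap a b * Equiv.swap b c * (Equiv.swap a b)⁻¹ * (Equiv.swap b c)⁻¹ with hπ
  have ht3 : t.IsThreeCycle := by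
    have heq : t = Perm.ofSubtype (p := fun x => x ∈ F) π := by
      ext x
      by_cases hx : x ∈ g.support
      · rw [htsupp x hx, ofSubtype_apply_of_not_mem]
        simpa [F] using hx
      · rw [ofSubtype_apply_of_mem π (show x ∈ F by simpa [F] using hx), ht, Perm.mul_apply,
          show w x = _ from hwF ⟨x, by simpa [F] using hx⟩]
        have hfix : ∀ y ∉ g.support, (g ^ l) y = y := fun y hy =>
          Perm.zpow_apply_eq_self_of_apply_eq_self (by simpa using hy) l
        rw [Perm.inv_eq_iff_eq]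
        exact (hfix _ (π ⟨x, _⟩).2).symm
    have hπ3 : π.IsThreeCycle := by
      have hsq : π = (Equiv.swap a b * Equiv.swap b c) ^ 2 := by
        simp [hπ, pow_two, mul_assoc]
      rw [hsq, pow_two, Equiv.swap_comm a b]
      exact (Equiv.Perm.isThreeCycle_swap_mul_swap_same hab.symm hbc hac).isThreeCycle_sq
    rw [heq, Perm.IsThreeCycle, Perm.cycleType_ofSubtype]
    exact hπ3
  exact alternatingGroup_le_of_isPreprimitive_of_isThreeCycle_mem hG ht3
    (G.mul_mem (G.inv_mem (G.zpow_mem hg l))
      (G.mul_mem (G.mul_mem (G.mul_mem huG hvG) (G.inv_mem huG)) (G.inv_mem hvG)))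

end CfsgLib.Jordan
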