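import Cfsg.Agent.Transfer.Basic
import Cfsg.Agent.Transfer.PResidual
import Cfsg.Prelude.Def_Local
import Mathlib.GroupTheory.SpecificGroups.Cyclic
import Mathlib.Tactic.FinCases
import Mathlib.Tactic.Group

/-!
A normal subgroup with order and index divisible by `p` in a group with cyclic Sylow `p`-subgroup.
-/

set_option autoImplicit false
set_option linter.unusedSectionVars false
set_option linter.style.haveILetI false
set_option linter.deprecated false

namespace CfsgLib.CyclicSylowNormal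

open Subgroup
open scoped Pointwise
open scoped commutatorElement

universe u

variable {G : Type u} [Group G] [Finite G]

theorem complement_part {p : ℕ} [Fact p.Prime] (P : Sylow p G) (hP : IsCyclic (P : Subgroup G))
    (H : Subgroup G) [H.Normal] (h2 : p ∣ H.index) : Cfsg.HasNormalPComplement p H := by
  haveI := hP
  obtain ⟨M, hM⟩ : ∃ M, M = H ⊔ (P : Subgroup G) := ⟨_, rfl⟩
  have hPM : (P : Subgroup G) ≤ M := hM ▸ le_sup_right
  have hHM : H ≤ M := hM ▸ le_sup_left
  let PM : Sylow p M := P.subtype hPM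
  have hPMc : IsCyclic (PM : Subgroup M) :=
    isCyclic_of_surjective _ (Subgroup.subgroupOfEquivOfLe hPM).symm.surjective
  have hPH : ¬ (P : Subgroup G) ≤ H := fun hle =>
    P.not_dvd_index' Subgroup.index_ne_zero_of_finite (h2.trans (Subgroup.index_dvd_of_le hle))
  rcases CfsgLib.TransferBasic.cyclic_dichotomy (P := PM) hPMc with h | ⟨h, -⟩
  · exact CfsgLib.PResidual.hasNormalPComplement_of_injective (Subgroup.inclusion hHM)
      (Subgroup.inclusion_injective _) h
  exfalso
  refine hPH fun x hx => ?_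
  have hfoc : (PM : Subgroup M).focalSubgroup ≤ H.subgroupOf M := by
    rw [Subgroup.focalSubgroup, Subgroup.closure_le]
    rintro g ⟨-, a, ha, u, rfl⟩
    show ((⁅a, u⁆ : M) : G) ∈ H
    have hu : (u : G) ∈ (H : Set G) * ((P : Subgroup G) : Set G) := by
      rw [← Subgroup.normal_mul, ← hM]; exact u.2
    obtain ⟨h, hh, w, hw, huw⟩ := hu
    have haP : (a : G) ∈ (P : Subgroup G) := ha
    have hcomm : (a : G) * w = w * a :=
      congrArg Subtype.val ((inferInstance : IsMulCommutative (P : Subgroup G)).is_comm.comm ⟨a, haP⟩ ⟨w, hw⟩)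
    have e : ((⁅a, u⁆ : M) : G) = (a * h * (a : G)⁻¹) * h⁻¹ := by
      show (a : G) * u * (a : G)⁻¹ * (u : G)⁻¹ = _
      have huw' : h * w = (u : G) := huw
      rw [← huw', mul_inv_rev]
      have hc' : w * (a : G)⁻¹ * w⁻¹ = (a : G)⁻¹ := by
        have hc2 : Commute w (a : G)⁻¹ := (show Commute w (a : G) from hcomm.symm).inv_right
        rw [hc2.eq, mul_inv_cancel_right]
      calc (a : G) * (h * w) * (a : G)⁻¹ * (w⁻¹ * h⁻¹) = a * h * (w * (a : G)⁻¹ * w⁻¹) * h⁻¹ := by group
        _ = _ := by rw [hc']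
    rw [e]
    exact mul_mem ((inferInstance : H.Normal).conj_mem h hh a) (inv_mem hh)
  exact hfoc (h.ge (show (⟨x, hPM hx⟩ : M) ∈ (PM : Subgroup M) from hx))

theorem isPSolvable_part {p : ℕ} [Fact p.Prime] (P : Sylow p G) (hP : IsCyclic (P : Subgroup G))
    (H : Subgroup G) [hHn : H.Normal] (h1 : p ∣ Nat.card H) (hH : Cfsg.HasNormalPComplement p H) :
    Cfsg.IsPSolvable p G := by
  classical
  haveI := hP
  have hp := (Fact.out : p.Prime)
  obtain ⟨P0, N, hN, hNP⟩ := hH
  haveI := hN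
  obtain ⟨e, he⟩ := IsPGroup.iff_card.1 P0.2
  have hidx : N.index = p ^ e := by rw [← he]; exact hNP.symm.index_eq_card
  have hNcop : (Nat.card N).Coprime p := by
    rw [Nat.coprime_comm, hp.coprime_iff_not_dvd, ← hNP.index_eq_card]
    exact P0.not_dvd_index' Subgroup.index_ne_zero_of_finite
  have hNmem : ∀ x : H, x ∈ N ↔ (orderOf x).Coprime p := by
    refine fun x => ⟨fun hx => hNcop.coprime_dvd_left (Subgroup.orderOf_dvd_natCard _ hx), fun hx => ?_⟩
    rw [← QuotientGroup.eq_one_iff, ← orderOf_eq_one_iff]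
    refine Nat.eq_one_of_dvd_coprimes (hx.pow_right e) (orderOf_map_dvd (QuotientGroup.mk' N) x) ?_
    rw [← hidx, Subgroup.index_eq_card]
    exact orderOf_dvd_natCard _
  obtain ⟨K, hK⟩ : ∃ K, K = N.map H.subtype := ⟨_, rfl⟩
  haveI hKn : K.Normal := by
    refine ⟨fun x hx g => ?_⟩
    rw [hK] at hx ⊢
    obtain ⟨x, hx, rfl⟩ := hx
    refine ⟨⟨g * (x : G) * g⁻¹, hHn.conj_mem _ x.2 g⟩, (hNmem _).2 ?_, rfl⟩
    rw [← orderOf_injective H.subtype H.subtype_injective]
    show (orderOf (g * (x : G) * g⁻¹)).Coprime p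
    rw [show orderOf (g * (x : G) * g⁻¹) = orderOf (x : G) from
      (SemiconjBy.orderOf_eq g (by simp [SemiconjBy, mul_assoc])).symm, Subgroup.orderOf_coe]
    exact (hNmem x).1 hx
  have hKcard : Nat.card K = Nat.card N := by
    rw [hK, Subgroup.card_map_of_injective H.subtype_injective]
  have hKH : K ≤ H := hK ▸ Subgroup.map_subtype_le N
  obtain ⟨π, hπ⟩ : ∃ π, π = QuotientGroup.mk' K := ⟨_, rfl⟩
  have hπs : Function.Surjective π := hπ ▸ QuotientGroup.mk'_surjective K
  have hπk : π.ker = K := hπ ▸ QuotientGroup.ker_mk' K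
  let Q : Sylow p (G ⧸ K) := P.mapSurjective hπs
  have hQc : IsCyclic (Q : Subgroup (G ⧸ K)) := by
    have : (Q : Subgroup (G ⧸ K)) = (P : Subgroup G).map π := rfl
    rw [this]
    exact isCyclic_of_surjective _ (π.subgroupMap_surjective (P : Subgroup G))
  haveI := hQc
  obtain ⟨Hb, hHb⟩ : ∃ Hb, Hb = H.map π := ⟨_, rfl⟩
  haveI : Hb.Normal := hHb ▸ Subgroup.Normal.map hHn π hπs
  have hrange : (π.comp H.subtype).range = Hb := by
    rw [MonoidHom.range_comp, Subgroup.range_subtype, hHb]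
  have hkerN : (π.comp H.subtype).ker = N := by
    rw [← MonoidHom.comap_ker, hπk, hK, Subgroup.comap_map_eq_self_of_injective H.subtype_injective]
  have hcard : Nat.card Hb = p ^ e := by
    rw [← hrange, ← Subgroup.index_ker, hkerN, hidx]
  have he0 : e ≠ 0 := by
    rintro rfl
    rw [pow_zero, Subgroup.index_eq_one] at hidx
    rw [← Subgroup.card_top, ← hidx] at h1
    exact hp.not_dvd_one (hNcop.gcd_eq_one ▸ Nat.dvd_gcd h1 dvd_rfl)
  have hHbp : IsPGroup p Hb := IsPGroup.of_card hcard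
  have hHbQ : Hb ≤ (Q : Subgroup (G ⧸ K)) := by
    obtain ⟨S, hS⟩ := hHbp.exists_le_sylow
    obtain ⟨g, hg⟩ := MulAction.exists_smul_eq (G ⧸ K) S Q
    intro x hx
    have h : g⁻¹ * x * g ∈ (S : Subgroup (G ⧸ K)) := hS (by
      simpa using (inferInstance : Hb.Normal).conj_mem x hx g⁻¹)
    rw [← hg, Sylow.coe_subgroup_smul, Subgroup.mem_pointwise_smul_iff_inv_smul_mem, ← map_inv]
    show g⁻¹ * x * g⁻¹⁻¹ ∈ _
    rwa [inv_inv]
  obtain ⟨C, hC⟩ : ∃ C, C = Subgroup.centralizer (Hb : Set (G ⧸ K)) := ⟨_, rfl⟩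
  haveI : C.Normal := hC ▸ inferInstance
  have hQC : (Q : Subgroup (G ⧸ K)) ≤ C := by
    rw [hC]
    intro x hx
    refine Subgroup.mem_centralizer_iff.2 fun y hy => ?_
    exact congrArg Subtype.val ((inferInstance : IsMulCommutative (Q : Subgroup (G ⧸ K))).is_comm.comm
      ⟨y, hHbQ hy⟩ ⟨x, hx⟩)
  let QC : Sylow p C := Q.subtype hQC
  have hQCc : IsCyclic (QC : Subgroup C) :=
    isCyclic_of_surjective _ (Subgroup.subgroupOfEquivOfLe hQC).symm.surjective
  have hCN : Cfsg.HasNormalPComplement p C := by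
    rcases CfsgLib.TransferBasic.cyclic_dichotomy (P := QC) hQCc with h | ⟨-, h⟩
    · exact h
    exfalso
    obtain ⟨x, hx⟩ : ∃ x : Hb, x ≠ 1 := by
      by_contra hall
      push Not at hall
      haveI : Subsingleton Hb := ⟨fun a b => (hall a).trans (hall b).symm⟩
      rw [Nat.card_unique] at hcard
      exact (Nat.one_lt_pow he0 hp.one_lt).ne hcard
    have hxC : (x : G ⧸ K) ∈ C := hQC (hHbQ x.2)
    have hmem : (⟨(x : G ⧸ K), hxC⟩ : C) ∈ (QC : Subgroup C) ⊓
        Subgroup.centralizer ((Subgroup.normalizer ((QC : Subgroup C) : Set C) : Subgroup C) : Set C) := by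
      refine ⟨hHbQ x.2, Subgroup.mem_centralizer_iff.2 fun y _ => Subtype.ext ?_⟩
      exact ((Subgroup.mem_centralizer_iff.1 (hC ▸ y.2 :
        (y : G ⧸ K) ∈ Subgroup.centralizer (Hb : Set (G ⧸ K))) x x.2)).symm
    rw [h, Subgroup.mem_bot] at hmem
    exact hx (Subtype.ext (congrArg (fun z : C => (z : G ⧸ K)) hmem))
  obtain ⟨P1, L, hL, hLP⟩ := hCN
  haveI := hL
  obtain ⟨k, hk⟩ := IsPGroup.iff_card.1 P1.2
  have hLidx : L.index = p ^ k := by rw [← hk]; exact hLP.symm.index_eq_card
  have hLcop : (Nat.card L).Coprime p := by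
    rw [Nat.coprime_comm, hp.coprime_iff_not_dvd, ← hLP.index_eq_card]
    exact P1.not_dvd_index' Subgroup.index_ne_zero_of_finite
  have hLmem : ∀ x : C, x ∈ L ↔ (orderOf x).Coprime p := by
    refine fun x => ⟨fun hx => hLcop.coprime_dvd_left (Subgroup.orderOf_dvd_natCard _ hx), fun hx => ?_⟩
    rw [← QuotientGroup.eq_one_iff, ← orderOf_eq_one_iff]
    refine Nat.eq_one_of_dvd_coprimes (hx.pow_right k) (orderOf_map_dvd (QuotientGroup.mk' L) x) ?_
    rw [← hLidx, Subgroup.index_eq_card]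
    exact orderOf_dvd_natCard _
  obtain ⟨Lb, hLb⟩ : ∃ Lb, Lb = L.map C.subtype := ⟨_, rfl⟩
  haveI hLbn : Lb.Normal := by
    refine ⟨fun x hx g => ?_⟩
    rw [hLb] at hx ⊢
    obtain ⟨x, hx, rfl⟩ := hx
    refine ⟨⟨g * (x : G ⧸ K) * g⁻¹, (inferInstance : C.Normal).conj_mem _ x.2 g⟩, (hLmem _).2 ?_, rfl⟩
    rw [← orderOf_injective C.subtype C.subtype_injective]
    show (orderOf (g * (x : G ⧸ K) * g⁻¹)).Coprime p
    rw [show orderOf (g * (x : G ⧸ K) * g⁻¹) = orderOf (x : G ⧸ K) from
      (SemiconjBy.orderOf_eq g (by simp [SemiconjBy, mul_assoc])).symm, Subgroup.orderOf_coe]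
    exact (hLmem x).1 hx
  have hrel : ∀ A B : Subgroup (G ⧸ K), (A.comap π).relIndex (B.comap π) = A.relIndex B := fun A B => by
    rw [Subgroup.relIndex_comap, Subgroup.map_comap_eq_self_of_surjective hπs]
  have hcop1 : (⊥ : Subgroup G).relIndex K = Nat.card K := Subgroup.relIndex_bot_left K
  have hcop2 : K.relIndex (Lb.comap π) = Nat.card L := by
    have h := hrel ⊥ Lb
    rw [MonoidHom.comap_bot, hπk, Subgroup.relIndex_bot_left, hLb,
      Subgroup.card_map_of_injective C.subtype_injective] at h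
    rw [hLb]; exact h
  have hcop3 : (Lb.comap π).relIndex (C.comap π) = p ^ k := by
    rw [hrel, hLb, Subgroup.relIndex, Subgroup.subgroupOf,
      Subgroup.comap_map_eq_self_of_injective C.subtype_injective, hLidx]
  have hcop4 : ((C.comap π).relIndex ⊤).Coprime p := by
    rw [Subgroup.relIndex_top_right, Subgroup.index_comap_of_surjective _ hπs, Nat.coprime_comm,
      hp.coprime_iff_not_dvd]
    exact fun hd => Q.not_dvd_index' Subgroup.index_ne_zero_of_finite
      (hd.trans (Subgroup.index_dvd_of_le hQC))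
  refine ⟨4, ![⊥, K, Lb.comap π, C.comap π, ⊤], rfl, rfl, ?_, ?_, ?_⟩
  · have h12 : K ≤ Lb.comap π := by
      intro x hx
      rw [Subgroup.mem_comap]
      rw [← hπk, MonoidHom.mem_ker] at hx
      rw [hx]; exact one_mem _
    have h23 : Lb.comap π ≤ C.comap π := Subgroup.comap_mono (hLb ▸ Subgroup.map_subtype_le L)
    intro i j hij
    fin_cases i <;> fin_cases j <;>
      first
        | exact le_rfl
        | exact bot_le
        | exact le_top
        | exact h12
        | exact h23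
        | exact h12.trans h23
        | exact absurd hij (by decide)
  · intro i
    fin_cases i
    · exact (inferInstance : (⊥ : Subgroup G).Normal)
    · exact hKn
    · exact hLbn.comap π
    · exact (inferInstance : C.Normal).comap π
    · exact (inferInstance : (⊤ : Subgroup G).Normal)
  · intro i
    fin_cases i
    · right
      show ((⊥ : Subgroup G).relIndex K).Coprime p
      rw [hcop1, hKcard]; exact hNcop
    · right
      show (K.relIndex (Lb.comap π)).Coprime p
      rw [hcop2]; exact hLcop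
    · exact Or.inl ⟨k, hcop3⟩
    · exact Or.inr hcop4

theorem main (p : ℕ) [Fact p.Prime] (P : Sylow p G) (hP : IsCyclic (P : Subgroup G))
    (H : Subgroup G) [H.Normal] (h1 : p ∣ Nat.card H) (h2 : p ∣ H.index) :
    Cfsg.HasNormalPComplement p H ∧ Cfsg.IsPSolvable p G :=
  ⟨complement_part P hP H h2, isPSolvable_part P hP H h1 (complement_part P hP H h2)⟩

end CfsgLib.CyclicSylowNormal
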