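import Mathlib.FieldTheory.ChevalleyWarning
import Mathlib.FieldTheory.Finiteness
import Mathlib.LinearAlgebra.Dimension.Finrank
import Mathlib.LinearAlgebra.FreeModule.Finite.Basic
import Mathlib.Algebra.Field.ZMod
import Mathlib.LinearAlgebra.FiniteDimensional.Defs

/-!
An anisotropic quadratic map over the field of two elements needs a large target.
-/

set_option autoImplicit false

namespace CfsgLib.QuadZero

open MvPolynomial

theorem finrank_le {V W : Type*} [AddCommGroup V] [Module (ZMod 2) V] [Finite V]
    [AddCommGroup W] [Module (ZMod 2) W] [Finite W] (q : V → W)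
    (B : V →ₗ[ZMod 2] V →ₗ[ZMod 2] W) (hq : ∀ u v, q (u + v) = q u + q v + B u v) (h0 : q 0 = 0)
    (hani : ∀ v, q v = 0 → v = 0) :
    Module.finrank (ZMod 2) V ≤ 2 * Module.finrank (ZMod 2) W := by
  classical
  let b := Module.finBasis (ZMod 2) V
  let c := Module.finBasis (ZMod 2) W
  have hsmul : ∀ (a : ZMod 2) (v : V), q (a • v) = a • q v := by
    intro a v
    obtain rfl | rfl : a = 0 ∨ a = 1 := by revert a; decide
    · simp [h0]
    · simp
  have key : ∀ (j : Fin (Module.finrank (ZMod 2) W)) (s : Finset (Fin (Module.finrank (ZMod 2) V))),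
      ∃ P : MvPolynomial (Fin (Module.finrank (ZMod 2) V)) (ZMod 2), P.totalDegree ≤ 2 ∧
        ∀ t, eval t P = c.repr (q (∑ i ∈ s, t i • b i)) j := by
    intro j s
    induction s using Finset.induction_on with
    | empty => exact ⟨0, by simp, fun t => by simp [h0]⟩
    | insert a s ha ih =>
      obtain ⟨P, hP, hPe⟩ := ih
      refine ⟨C (c.repr (q (b a)) j) * X a + P + ∑ i ∈ s, C (c.repr (B (b a) (b i)) j) * (X a * X i),
        ?_, fun t => ?_⟩
      · refine (totalDegree_add _ _).trans (max_le ((totalDegree_add _ _).trans (max_le ?_ hP)) ?_)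
        · refine (totalDegree_mul _ _).trans ?_
          simp
        · refine (totalDegree_finset_sum _ _).trans (Finset.sup_le fun i _ => ?_)
          refine (totalDegree_mul _ _).trans ?_
          rw [totalDegree_C, zero_add]
          refine (totalDegree_mul _ _).trans ?_
          simp
      · rw [Finset.sum_insert ha, hq, hsmul, map_add, map_add, map_smul, map_sum]
        simp only [map_add, map_mul, map_sum, eval_X, eval_C, LinearMap.map_smul,
          LinearMap.smul_apply, map_smul, Finsupp.coe_add, Pi.add_apply, Finsupp.coe_smul,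
          Pi.smul_apply, Finsupp.coe_finset_sum, Finset.sum_apply, smul_eq_mul, hPe t]
        congr 1
        · ring
        · refine Finset.sum_congr rfl fun i _ => ?_
          ring
  choose P hP hPe using fun j => key j Finset.univ
  by_contra hlt
  push Not at hlt
  have hdeg : (∑ j, (P j).totalDegree) < Fintype.card (Fin (Module.finrank (ZMod 2) V)) := by
    refine lt_of_le_of_lt (Finset.sum_le_card_nsmul _ _ 2 fun j _ => hP j) ?_
    rw [Finset.card_univ, Fintype.card_fin, Fintype.card_fin, smul_eq_mul]
    omega
  have h2 := char_dvd_card_solutions_of_fintype_sum_lt 2 hdeg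
  have hall : ∀ t : Fin (Module.finrank (ZMod 2) V) → ZMod 2, (∀ j, eval t (P j) = 0) ↔ t = 0 := by
    intro t
    constructor
    · intro h
      have hz : q (∑ i, t i • b i) = 0 := by
        refine c.repr.injective ?_
        rw [map_zero]
        ext j
        rw [← hPe j t, h j]
        rfl
      have := Fintype.linearIndependent_iff.1 b.linearIndependent t (hani _ hz)
      exact funext this
    · rintro rfl j
      rw [hPe]
      simp [h0]
  have hone : Nat.card {t : Fin (Module.finrank (ZMod 2) V) → ZMod 2 // ∀ j, eval t (P j) = 0} = 1 :=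
    Nat.card_eq_one_iff_unique.2 ⟨⟨fun x y => Subtype.ext (((hall x.1).1 x.2).trans ((hall y.1).1 y.2).symm)⟩,
      ⟨⟨0, (hall 0).2 rfl⟩⟩⟩
  rw [Nat.card_eq_fintype_card] at hone
  have h2' : 2 ∣ 1 := by
    refine hone ▸ ?_
    convert h2 using 2
  omega

end CfsgLib.QuadZero
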