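import Mathlib.LinearAlgebra.Matrix.Kronecker
import Mathlib.LinearAlgebra.Trace
import Mathlib.GroupTheory.Frattini
import Cfsg.Agent.Char.Linear
import Cfsg.Agent.Char.Orthogonality

/-!
# Counting square roots of 1 by characters, and twisting by linear characters
-/

namespace CfsgLib.FSCount

open Finset Matrix
open scoped Kronecker ComplexConjugate

universe u
variable {G : Type u} [Group G]

/-- Frobenius–Schur indicator. -/
noncomputable def fsInd [Fintype G] (χ : G → ℂ) : ℂ :=
  (Nat.card G : ℂ)⁻¹ * ∑ g : G, χ (g * g)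

theorem exists_trace_eq_natCast {ι : Type*} [Fintype ι] [DecidableEq ι] {M : Matrix ι ι ℂ}
    (h : M * M = M) : ∃ a : ℕ, M.trace = a := by
  have hidem : IsIdempotentElem (Matrix.toLin' M) := by
    change Matrix.toLin' M * Matrix.toLin' M = Matrix.toLin' M
    rw [Module.End.mul_eq_comp, ← Matrix.toLin'_mul, h]
  refine ⟨Module.finrank ℂ (LinearMap.range (Matrix.toLin' M)), ?_⟩
  rw [← LinearMap.IsProj.trace (LinearMap.IsIdempotentElem.isProj_range _ hidem),
    Matrix.trace_toLin'_eq]

theorem exists_trace_eq_intCast_of_sq {ι : Type*} [Fintype ι] [DecidableEq ι]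
    {S E : Matrix ι ι ℂ} (hS : S * S = 1) (hE : E * E = E) (hc : S * E = E * S) :
    ∃ a : ℤ, (S * E).trace = a := by
  have h1 : ((1 / 2 : ℂ) • (E + S * E)) * ((1 / 2 : ℂ) • (E + S * E)) =
      (1 / 2 : ℂ) • (E + S * E) := by
    have a1 : E * (S * E) = S * E := by rw [← mul_assoc, ← hc, mul_assoc, hE]
    have a2 : S * E * E = S * E := by rw [mul_assoc, hE]
    have a3 : S * E * (S * E) = E := by rw [mul_assoc, a1, ← mul_assoc, hS, one_mul]
    simp only [smul_mul, Matrix.mul_smul, add_mul, mul_add, a1, a2, a3, hE]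
    module
  obtain ⟨a, ha⟩ := exists_trace_eq_natCast h1
  obtain ⟨b, hb⟩ := exists_trace_eq_natCast hE
  refine ⟨2 * a - b, ?_⟩
  rw [trace_smul, trace_add, hb, smul_eq_mul] at ha
  push_cast
  linear_combination 2 * ha

theorem exists_fsInd_eq_intCast [Fintype G] {χ : G → ℂ} (hχ : Cfsg.IsCharacter G χ) :
    ∃ a : ℤ, fsInd χ = a := by
  classical
  obtain ⟨n, ρ, rfl⟩ := hχ
  let M : G → Matrix (Fin n) (Fin n) ℂ := fun g => LinearMap.toMatrix' (ρ g)
  have hM : ∀ g h, M g * M h = M (g * h) := fun g h => by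
    simp only [M, map_mul, Module.End.mul_eq_comp, LinearMap.toMatrix'_comp]
  let K : G → Matrix (Fin n × Fin n) (Fin n × Fin n) ℂ := fun g => M g ⊗ₖ M g
  have hK : ∀ g h, K g * K h = K (g * h) := fun g h => by
    simp only [K, ← Matrix.mul_kronecker_mul, hM]
  let S : Matrix (Fin n × Fin n) (Fin n × Fin n) ℂ :=
    Matrix.of fun x y => if y = x.swap then 1 else 0
  have hSmul : ∀ (A : Matrix (Fin n × Fin n) (Fin n × Fin n) ℂ) x y,
      (S * A) x y = A x.swap y := fun A x y => by
    simp [S, Matrix.mul_apply]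
  have hmulS : ∀ (A : Matrix (Fin n × Fin n) (Fin n × Fin n) ℂ) x y,
      (A * S) x y = A x y.swap := fun A x y => by
    simp [S, Matrix.mul_apply]
    rw [Finset.sum_eq_single y.swap (fun b _ hb => if_neg fun h => hb (by simp [h])) (by simp)]
    simp
  have hS : S * S = 1 := by
    ext x y
    rw [hSmul]
    simp [S, Matrix.one_apply, eq_comm]
  have hSK : ∀ g, S * K g = K g * S := fun g => by
    ext x y
    rw [hSmul, hmulS]
    simp [K, mul_comm]
  let E : Matrix (Fin n × Fin n) (Fin n × Fin n) ℂ := (Nat.card G : ℂ)⁻¹ • ∑ g : G, K g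
  have hE : E * E = E := by
    have h1 : ∀ g, K g * (∑ h : G, K h) = ∑ h : G, K h := fun g => by
      rw [Finset.mul_sum]; simp only [hK]
      exact Equiv.sum_comp (Equiv.mulLeft g) K
    have hne : (Nat.card G : ℂ) ≠ 0 := by simp
    simp only [E, smul_mul, Matrix.mul_smul, Finset.sum_mul, h1, smul_smul, Finset.sum_const,
      Finset.card_univ, ← Nat.card_eq_fintype_card, ← Nat.cast_smul_eq_nsmul ℂ]
    field_simp
  have hc : S * E = E * S := by simp [E, Finset.mul_sum, Finset.sum_mul, hSK]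
  obtain ⟨a, ha⟩ := exists_trace_eq_intCast_of_sq hS hE hc
  refine ⟨a, ha ▸ ?_⟩
  simp only [fsInd, E, Matrix.mul_smul, Finset.mul_sum, trace_smul, trace_sum, smul_eq_mul]
  refine Finset.sum_congr rfl fun g _ => ?_
  congr 1
  rw [show ρ.character (g * g) = (M (g * g)).trace from
    (LinearMap.trace_eq_matrix_trace ℂ (Pi.basisFun ℂ (Fin n)) _).trans
      (by rw [LinearMap.toMatrix_eq_toMatrix']), ← hM]
  simp only [Matrix.trace, Matrix.diag, hSmul, Fintype.sum_prod_type]
  simp [K, Matrix.mul_apply]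
  exact Finset.sum_comm

/-- `#{x | x ^ 2 = 1} = ∑ ν(χ) χ(1)`. -/
theorem card_sq_eq_one [Fintype G] :
    (Nat.card {x : G // x ^ 2 = 1} : ℂ) =
      ∑ χ ∈ Char.irrFinset G, fsInd χ * χ 1 := by
  classical
  have h : ∀ x : G, ∑ χ ∈ Char.irrFinset G, χ x * χ 1 =
      if x = 1 then (Nat.card G : ℂ) else 0 := fun x => by
    rw [← Char.leftRegular_character x, Char.leftRegular_eq_sum, Finset.sum_apply]
    simp [mul_comm]
  have hne : (Nat.card G : ℂ) ≠ 0 := by simp
  simp only [fsInd, Finset.mul_sum, Finset.sum_mul, mul_assoc]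
  rw [Finset.sum_comm]
  simp only [← Finset.mul_sum, h]
  rw [Nat.card_eq_fintype_card, Fintype.card_subtype, Finset.sum_ite, Finset.sum_const_zero,
    Finset.sum_const, add_zero, nsmul_eq_mul]
  simp only [sq]
  field_simp

theorem quotient_frattini_facts [Finite G] {p : ℕ} [Fact p.Prime] (hG : IsPGroup p G) :
    (∀ g : G, g ^ p ∈ frattini G) ∧ commutator G ≤ frattini G := by
  have : Group.IsNilpotent G := hG.isNilpotent
  have key : ∀ K : Subgroup G, IsCoatom K → (∀ g : G, g ^ p ∈ K) ∧ commutator G ≤ K := by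
    intro K hK
    have : K.Normal := Subgroup.NormalizerCondition.normal_of_coatom K
      Group.normalizerCondition_of_isNilpotent hK
    have hp : Fact p.Prime := inferInstance
    have hQ : IsPGroup p (G ⧸ K) := hG.to_quotient K
    obtain ⟨x, hx⟩ : ∃ x : G ⧸ K, orderOf x = p := by
      apply exists_prime_orderOf_dvd_card'
      obtain ⟨m, hm⟩ := IsPGroup.iff_card.1 hQ
      rcases m with _ | m
      · exact absurd (Subgroup.index_eq_one.1 (by simpa [Subgroup.index] using hm)) hK.1
      · rw [hm]; exact dvd_pow_self p (by omega)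
    have htop : Subgroup.zpowers x = ⊤ := by
      obtain ⟨y, rfl⟩ := QuotientGroup.mk'_surjective K x
      have hlt : K < (Subgroup.zpowers (QuotientGroup.mk' K y)).comap (QuotientGroup.mk' K) := by
        refine lt_of_le_of_ne (fun k hk => ?_) (fun h => ?_)
        · simp [(QuotientGroup.eq_one_iff k).2 hk]
        · have hy : y ∈ K := by rw [h]; exact Subgroup.mem_zpowers _
          rw [QuotientGroup.mk'_apply, (QuotientGroup.eq_one_iff y).2 hy, orderOf_one] at hx
          exact hp.out.one_lt.ne hx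
      rw [← Subgroup.map_comap_eq_self_of_surjective (QuotientGroup.mk'_surjective K)
        (Subgroup.zpowers _), hK.2 _ hlt,
        Subgroup.map_top_of_surjective _ (QuotientGroup.mk'_surjective K)]
    refine ⟨fun g => ?_, ?_⟩
    · obtain ⟨m, hm⟩ := htop.symm ▸ Subgroup.mem_top (g : G ⧸ K)
      rw [← QuotientGroup.eq_one_iff, QuotientGroup.mk_pow, ← show x ^ m = (g : G ⧸ K) from hm,
        ← zpow_natCast, ← zpow_mul, mul_comm, zpow_mul, zpow_natCast, ← hx, pow_orderOf_eq_one,
        one_zpow]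
    · rw [commutator_def, Subgroup.commutator_le]
      intro a _ b _
      obtain ⟨m, hm⟩ := htop.symm ▸ Subgroup.mem_top (a : G ⧸ K)
      obtain ⟨n, hn⟩ := htop.symm ▸ Subgroup.mem_top (b : G ⧸ K)
      rw [← QuotientGroup.eq_one_iff, ← QuotientGroup.mk'_apply, map_commutatorElement,
        commutatorElement_eq_one_iff_commute, QuotientGroup.mk'_apply, QuotientGroup.mk'_apply,
        ← show x ^ m = (a : G ⧸ K) from hm, ← show x ^ n = (b : G ⧸ K) from hn]
      exact Commute.zpow_zpow_self x m n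
  constructor
  · intro g
    simp only [frattini, Order.radical, Subgroup.mem_iInf]
    exact fun K hK => (key K hK).1 g
  · simp only [frattini, Order.radical, le_iInf_iff]
    exact fun K hK => (key K hK).2

theorem pow_dvd_card_sq_eq_one [Finite G] (hG : IsPGroup 2 G)
    (hdeg : ∀ χ : G → ℂ, Cfsg.IsIrrCharacter G χ → ∃ a : ℕ, χ 1 = (2 ^ a : ℕ))
    (k : ℕ) (hgen : 2 ^ (2 * k + 1) ≤ Nat.card (G ⧸ frattini G)) :
    2 ^ (k + 1) ∣ Nat.card {x : G // x ^ 2 = 1} := by
  classical
  have := Fintype.ofFinite G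
  have := Char.finite_irrCharacter G
  have := Fintype.ofFinite (Cfsg.IrrCharacter G)
  obtain ⟨hsq, hcomm⟩ := quotient_frattini_facts hG
  set mk := QuotientGroup.mk' (frattini G)
  have hmk : Function.Surjective mk := QuotientGroup.mk'_surjective _
  let Λ := G ⧸ frattini G →* ℂˣ
  have hΛ : Nat.card Λ = Nat.card (G ⧸ frattini G) := by
    rw [Char.card_hom_eq_index_commutator]
    have hbot : commutator (G ⧸ frattini G) = ⊥ := by
      rw [eq_bot_iff, commutator_def, ← Subgroup.map_top_of_surjective mk hmk,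
        ← Subgroup.map_commutator, Subgroup.map_le_iff_le_comap, MonoidHom.comap_bot,
        QuotientGroup.ker_mk']
      exact hcomm
    rw [hbot, Subgroup.index_bot]
  have hΛfin : Finite Λ := Nat.finite_of_card_ne_zero (hΛ ▸ Nat.card_pos.ne')
  obtain ⟨d, hd⟩ := IsPGroup.iff_card.1 (hG.to_quotient (frattini G))
  have hd2 : 2 * k + 1 ≤ d := (Nat.pow_le_pow_iff_right (by norm_num)).1 (hd ▸ hgen)
  have hcl : ∀ (l : Λ) (χ : Cfsg.IrrCharacter G),
      Cfsg.IsIrrCharacter G (fun g => (l (mk g) : ℂ) * χ.1 g) := by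
    intro l χ
    refine Char.IsCharacter.isIrrCharacter_of_classInner_self
      (Char.IsCharacter.mul (Char.isCharacter_ofHom (l.comp mk))
        (Char.IsIrrCharacter.isCharacter χ.2)) ?_
    rw [← Char.IsIrrCharacter.classInner_self χ.2]
    simp only [Cfsg.classInner]
    congr 1
    refine Finset.sum_congr rfl fun g _ => ?_
    have hinv := Char.conj_eq_inv_hom (l.comp mk) g
    simp only [MonoidHom.comp_apply] at hinv
    rw [map_mul, mul_mul_mul_comm, hinv, ← Units.val_mul, ← map_mul, ← map_mul, mul_inv_cancel,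
      map_one, map_one, Units.val_one, one_mul]
  let _ : MulAction Λ (Cfsg.IrrCharacter G) :=
    { smul := fun l χ => ⟨fun g => (l (mk g) : ℂ) * χ.1 g, hcl l χ⟩
      one_smul := fun χ => Subtype.ext (funext fun g => one_mul (χ.1 g))
      mul_smul := fun l m χ => Subtype.ext (funext fun g =>
        mul_assoc (l (mk g) : ℂ) (m (mk g) : ℂ) (χ.1 g)) }
  have hsmul : ∀ (l : Λ) (χ : Cfsg.IrrCharacter G) (g : G),
      (l • χ).1 g = (l (mk g) : ℂ) * χ.1 g := fun _ _ _ => rfl
  choose deg hdegχ using fun χ : Cfsg.IrrCharacter G => hdeg χ.1 χ.2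
  choose nu hnu using fun χ : Cfsg.IrrCharacter G =>
    exists_fsInd_eq_intCast (Char.IsIrrCharacter.isCharacter χ.2)
  let F : Cfsg.IrrCharacter G → ℤ := fun χ => nu χ * (2 ^ deg χ : ℕ)
  have hFC : ∀ χ, (F χ : ℂ) = fsInd χ.1 * χ.1 1 := fun χ => by
    simp [F, hnu, hdegχ]
  have hF : ∀ (l : Λ) (χ : Cfsg.IrrCharacter G), F (l • χ) = F χ := by
    intro l χ
    have h1 : ∀ g : G, (l (mk (g * g)) : ℂ) = 1 := fun g => by
      have : mk (g * g) = 1 := (QuotientGroup.eq_one_iff _).2 (sq g ▸ hsq g)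
      rw [this, map_one, Units.val_one]
    have : (F (l • χ) : ℂ) = F χ := by
      rw [hFC, hFC]
      simp only [fsInd, hsmul, h1, map_one, Units.val_one, one_mul]
    exact_mod_cast this
  have htotal : (Nat.card {x : G // x ^ 2 = 1} : ℤ) = ∑ χ : Cfsg.IrrCharacter G, F χ := by
    have : ((Nat.card {x : G // x ^ 2 = 1} : ℤ) : ℂ) =
        ((∑ χ : Cfsg.IrrCharacter G, F χ : ℤ) : ℂ) := by
      push_cast
      rw [card_sq_eq_one]
      simp only [hFC]
      exact Finset.sum_subtype (Char.irrFinset G) (fun x => Char.mem_irrFinset)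
        (fun χ => fsInd χ * χ 1)
    exact_mod_cast this
  suffices h : (2 : ℤ) ^ (k + 1) ∣ ∑ χ : Cfsg.IrrCharacter G, F χ by
    rw [← htotal] at h; exact_mod_cast h
  rw [← (MulAction.selfEquivSigmaOrbits Λ (Cfsg.IrrCharacter G)).symm.sum_comp F,
    Fintype.sum_sigma]
  refine Finset.dvd_sum fun q _ => ?_
  set χ := Quotient.out q with hχ
  have hconst : ∀ y : MulAction.orbit Λ χ,
      F ((MulAction.selfEquivSigmaOrbits Λ (Cfsg.IrrCharacter G)).symm ⟨q, y⟩) = F χ := by
    intro y
    obtain ⟨l, hl⟩ := y.2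
    have he : (MulAction.selfEquivSigmaOrbits Λ (Cfsg.IrrCharacter G)).symm ⟨q, y⟩ = y.1 := rfl
    rw [he, ← hl]
    exact hF l χ
  rw [Finset.sum_congr rfl fun y _ => hconst y, Finset.sum_const, Finset.card_univ, nsmul_eq_mul,
    ← Nat.card_eq_fintype_card, Nat.card_coe_set_eq, ← MulAction.index_stabilizer]
  set T := MulAction.stabilizer Λ χ
  have hmul : Nat.card T * T.index = 2 ^ d := by rw [T.card_mul_index, hΛ, hd]
  obtain ⟨σ, hσd, hσ⟩ := (Nat.dvd_prime_pow Nat.prime_two).1 (hmul ▸ dvd_mul_right (Nat.card T) _)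
  have hidx : T.index = 2 ^ (d - σ) := by
    rw [hσ, show 2 ^ d = 2 ^ σ * 2 ^ (d - σ) by rw [← pow_add]; congr 1; omega] at hmul
    exact Nat.eq_of_mul_eq_mul_left (by positivity) hmul
  have hle : σ ≤ 2 * deg χ := by
    let φ : G → ℂ := fun g => χ.1 g * conj (χ.1 g)
    have hφ : Cfsg.IsCharacter G φ := Char.IsCharacter.mul (Char.IsIrrCharacter.isCharacter χ.2)
      (Char.IsCharacter.conj (Char.IsIrrCharacter.isCharacter χ.2))
    choose m hm using fun ψ : Cfsg.IrrCharacter G =>
      Char.IsCharacter.exists_classInner_eq_natCast hφ ψ.2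
    choose n hn hn' using fun ψ : Cfsg.IrrCharacter G => Char.IsIrrCharacter.exists_degree ψ.2
    have hsum : ((∑ ψ : Cfsg.IrrCharacter G, m ψ * n ψ : ℕ) : ℂ) = ((2 ^ (2 * deg χ) : ℕ) : ℂ) := by
      have h1 := congrFun (Char.eq_sum_irr (Char.IsCharacter.isClassFunction hφ)) 1
      rw [Finset.sum_apply] at h1
      push_cast
      rw [show φ 1 = χ.1 1 * conj (χ.1 1) from rfl, hdegχ χ, Complex.conj_natCast] at h1
      rw [show (2 : ℂ) ^ (2 * deg χ) = ((2 ^ deg χ : ℕ) : ℂ) * ((2 ^ deg χ : ℕ) : ℂ) by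
        push_cast; rw [← pow_add]; congr 1; omega, h1]
      rw [Finset.sum_subtype (Char.irrFinset G) (fun x => Char.mem_irrFinset)
        (fun ψ => (Cfsg.classInner φ ψ • ψ) 1)]
      refine Finset.sum_congr rfl fun ψ _ => ?_
      simp [hm ψ, hn' ψ]
    have hsum' : ∑ ψ : Cfsg.IrrCharacter G, m ψ * n ψ = 2 ^ (2 * deg χ) := Nat.cast_injective hsum
    let ι : T → Cfsg.IrrCharacter G := fun l =>
      ⟨fun g => (l.1 (mk g) : ℂ), Char.isIrrCharacter_ofHom (l.1.comp mk)⟩
    have hι : Function.Injective ι := fun l l' h => by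
      apply Subtype.ext
      ext g
      exact congrFun (congrArg Subtype.val h) g
    have hone : ∀ l : T, 1 ≤ m (ι l) * n (ι l) := by
      intro l
      have h1 : Cfsg.classInner φ (ι l).1 = 1 := by
        rw [← Char.IsIrrCharacter.classInner_self χ.2]
        simp only [Cfsg.classInner]
        congr 1
        refine Finset.sum_congr rfl fun g _ => ?_
        conv_rhs => arg 2; rw [← show l.1 • χ = χ from l.2, hsmul, map_mul]
        simp only [φ, ι]
        ring
      have hn1 : n (ι l) = 1 := by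
        have := hn' (ι l)
        simp only [ι, map_one, Units.val_one] at this
        exact_mod_cast this.symm
      rw [hm] at h1
      have hm1 : m (ι l) = 1 := by exact_mod_cast h1
      simp [hn1, hm1]
    have hTle : Nat.card T ≤ ∑ ψ : Cfsg.IrrCharacter G, m ψ * n ψ := by
      have := Fintype.ofFinite T
      calc Nat.card T = ∑ _l : T, 1 := by simp [Nat.card_eq_fintype_card]
        _ ≤ ∑ l : T, m (ι l) * n (ι l) := Finset.sum_le_sum fun l _ => hone l
        _ = ∑ ψ ∈ Finset.univ.image ι, m ψ * n ψ :=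
          (Finset.sum_image (f := fun ψ => m ψ * n ψ) fun a _ b _ h => hι h).symm
        _ ≤ _ := Finset.sum_le_sum_of_subset (Finset.subset_univ _)
    rw [hσ, hsum'] at hTle
    exact (Nat.pow_le_pow_iff_right (by norm_num)).1 hTle
  have hexp : k + 1 ≤ (d - σ) + deg χ := by omega
  rw [hidx]
  simp only [F]
  push_cast
  rw [mul_left_comm, ← pow_add]
  exact dvd_mul_of_dvd_right (pow_dvd_pow 2 hexp) _

end CfsgLib.FSCount
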