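import Cfsg.Agent.PrimeGraph.Lucido
import Cfsg.Agent.OddLocal.TwoPrimes
import Cfsg.Agent.Perm.BurnsideMinimal
import Cfsg.Agent.Char.Burnside

/-!
Groups with few products of primes among their element orders.
-/

set_option autoImplicit false
set_option linter.unusedSectionVars false

namespace CfsgLib.EPPO

open Subgroup

variable {G : Type*} [Group G] [Finite G]

theorem exists_third_prime (hns : ¬ Group.IsSolvable G) (u v : ℕ) :
    ∃ r : ℕ, r.Prime ∧ r ∣ Nat.card G ∧ r ≠ u ∧ r ≠ v := by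
  by_contra hcon
  push Not at hcon
  obtain ⟨p, q, a, b, hp, hq, hn⟩ := CfsgLib.BurnsideMinimal.exists_prime_pair Nat.card_pos.ne'
    (u := u) (v := v) fun r hr hrd => by
      by_cases h : r = u
      · exact Or.inl h
      · exact Or.inr (hcon r hr hrd h)
  exact hns (CfsgLib.Char.isSolvable_of_card_eq p q a b hp hq hn)

theorem no_order_mul (hpp : ∀ g : G, g ≠ 1 → IsPrimePow (orderOf g)) {p q : ℕ} (hp : p.Prime)
    (hq : q.Prime) (hpq : p ≠ q) : ¬ ∃ x : G, orderOf x = p * q := by
  rintro ⟨x, hx⟩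
  have hx1 : x ≠ 1 := by
    rintro rfl
    rw [orderOf_one] at hx
    exact hp.ne_one (Nat.eq_one_of_mul_eq_one_right hx.symm)
  have h := hpp x hx1
  rw [hx] at h
  rcases (Nat.Coprime.isPrimePow_dvd_mul ((Nat.coprime_primes hp hq).2 hpq) h).1 dvd_rfl with e | e
  · have := Nat.le_of_dvd hp.pos e
    nlinarith [hq.two_le, hp.two_le]
  · have := Nat.le_of_dvd hq.pos e
    nlinarith [hq.two_le, hp.two_le]

theorem primeFactors_le_two (hpp : ∀ g : G, g ≠ 1 → IsPrimePow (orderOf g)) (H : Subgroup G)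
    (hH : Group.IsSolvable H) : (Nat.card H).primeFactors.card ≤ 2 := by
  haveI := hH
  refine CfsgLib.OddLocal.card_primeFactors_le_two H fun g => ?_
  by_cases h : g = 1
  · exact Or.inr h
  · left
    rw [← Subgroup.orderOf_coe]
    exact hpp g fun e => h (Subtype.ext e)

theorem exists_isPGroup (hns : ¬ Group.IsSolvable G) (hpp : ∀ g : G, g ≠ 1 → IsPrimePow (orderOf g))
    (R : Subgroup G) [R.Normal] (hR : Group.IsSolvable R) : ∃ p : ℕ, p.Prime ∧ IsPGroup p R := by
  classical
  by_cases h1 : Nat.card R = 1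
  · exact ⟨2, Nat.prime_two, IsPGroup.of_card (n := 0) (by rw [h1, pow_zero])⟩
  obtain ⟨p, hp, hpd⟩ := Nat.exists_prime_and_dvd h1
  refine ⟨p, hp, ?_⟩
  by_contra hcon
  obtain ⟨q, hq, hqd, hqp⟩ : ∃ q, q.Prime ∧ q ∣ Nat.card R ∧ q ≠ p := by
    by_contra h
    push Not at h
    refine hcon (IsPGroup.of_card (n := (Nat.card R).primeFactorsList.length) ?_)
    exact Nat.eq_prime_pow_of_unique_prime_dvd Nat.card_pos.ne' fun {r} hr hrd => h r hr hrd
  obtain ⟨r, hr, hrd, hrp, hrq⟩ := exists_third_prime hns p q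
  exact CfsgLib.Lucido.solvable_normal_coclique R hR hp hq hr (Ne.symm hqp) hrp.symm hrq.symm hpd hqd hrd
    (no_order_mul hpp hp hq (Ne.symm hqp)) (no_order_mul hpp hp hr hrp.symm)
    (no_order_mul hpp hq hr hrq.symm)

theorem quotient_eppo (hpp : ∀ g : G, g ≠ 1 → IsPrimePow (orderOf g)) (R : Subgroup G) [R.Normal] :
    ∀ g : G ⧸ R, IsPrimePow (orderOf g) ∨ g = 1 := by
  intro g
  obtain ⟨g, rfl⟩ := QuotientGroup.mk'_surjective R g
  by_cases h : QuotientGroup.mk' R g = 1
  · exact Or.inr h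
  · refine Or.inl ((hpp g fun e => h (by rw [e, map_one])).dvd (orderOf_map_dvd _ g) ?_)
    rwa [Ne, orderOf_eq_one_iff]

theorem quotient_no_solvable (R : Subgroup G) [R.Normal] (hR : Group.IsSolvable R)
    (hmax : ∀ N : Subgroup G, N.Normal → Group.IsSolvable N → N ≤ R)
    (N : Subgroup (G ⧸ R)) [N.Normal] (hN : Group.IsSolvable N) : N = ⊥ := by
  have hle : R ≤ N.comap (QuotientGroup.mk' R) := fun x hx => by
    rw [mem_comap, show QuotientGroup.mk' R x = 1 from (QuotientGroup.eq_one_iff x).2 hx]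
    exact one_mem _
  have hs : Group.IsSolvable (N.comap (QuotientGroup.mk' R)) := by
    haveI := hR
    haveI := hN
    refine Group.isSolvable_of_ker_le_range (Subgroup.inclusion hle)
      ((QuotientGroup.mk' R).subgroupComap N) ?_
    intro x hx
    have hxR : (x : G) ∈ R := (QuotientGroup.eq_one_iff _).1 (congrArg Subtype.val hx)
    exact ⟨⟨x, hxR⟩, rfl⟩
  rw [eq_bot_iff]
  intro x hx
  obtain ⟨g, rfl⟩ := QuotientGroup.mk'_surjective R x
  exact (QuotientGroup.eq_one_iff g).2 (hmax _ inferInstance hs hx)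

/-- A group without solvable normal subgroups, all elements of prime power order. -/
theorem simple_socle [Nontrivial G] (hpp : ∀ g : G, IsPrimePow (orderOf g) ∨ g = 1)
    (hno : ∀ N : Subgroup G, N.Normal → Group.IsSolvable N → N = ⊥) :
    ∃ M : Subgroup G, M.Normal ∧ IsSimpleGroup M ∧ ¬ IsMulCommutative M ∧
      ∀ N : Subgroup G, N.Normal → N ≠ ⊥ → M ≤ N := by
  classical
  haveI := Fintype.ofFinite (Subgroup G)
  obtain ⟨M, hM, hmin⟩ := (Finset.univ.filter fun M : Subgroup G => M.Normal ∧ M ≠ ⊥).exists_min_image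
    (fun M => Nat.card M) ⟨⊤, by simp⟩
  simp only [Finset.mem_filter, Finset.mem_univ, true_and] at hM hmin
  obtain ⟨hMn, hM1⟩ := hM
  have hMmin : ∀ N : Subgroup G, N.Normal → N ≠ ⊥ → N ≤ M → N = M := fun N hN hN1 hle =>
    Subgroup.eq_of_le_of_card_ge hle (hmin N ⟨hN, hN1⟩)
  have hMs : ¬ Group.IsSolvable M := fun h => hM1 (hno M hMn h)
  have hMna : ¬ IsMulCommutative M := fun h =>
    hMs (Group.isSolvable_of_comm fun a b => h.is_comm.comm a b)
  have hcop : ∀ {a b : G}, a ≠ 1 → b ≠ 1 → (orderOf a).Prime → (orderOf b).Prime →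
      orderOf a ≠ orderOf b → ¬ Commute a b := fun ha hb hpa hpb hne =>
    CfsgLib.OddLocal.not_commute_of_coprime hpp ha hb ((Nat.coprime_primes hpa hpb).2 hne)
  refine ⟨M, hMn, ?_, hMna, ?_⟩
  · haveI : Nontrivial M := (nontrivial_iff_ne_bot M).2 hM1
    refine ⟨fun S hS => ?_⟩
    by_contra hcon
    push Not at hcon
    obtain ⟨hS1, hS2⟩ := hcon
    obtain ⟨S', hS', hSmin⟩ := (Finset.univ.filter fun K : Subgroup G =>
        K ≠ ⊥ ∧ K < M ∧ M ≤ normalizer (K : Set G)).exists_min_image (fun K => Nat.card K)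
      ⟨S.map M.subtype, by
        simp only [Finset.mem_filter, Finset.mem_univ, true_and]
        refine ⟨?_, lt_of_le_of_ne (map_subtype_le _) fun h => hS2 ?_, ?_⟩
        · rwa [Ne, map_eq_bot_iff_of_injective _ M.subtype_injective]
        · apply map_injective M.subtype_injective
          rw [h, ← MonoidHom.range_eq_map, range_subtype]
        · intro m hm
          have := Subgroup.le_normalizer_map M.subtype
            (mem_map_of_mem M.subtype (show (⟨m, hm⟩ : M) ∈ normalizer (S : Set M) by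
              rw [normalizer_eq_top]; exact mem_top _))
          exact this⟩
    simp only [Finset.mem_filter, Finset.mem_univ, true_and] at hS' hSmin
    obtain ⟨hS'1, hS'lt, hS'n⟩ := hS'
    -- some conjugate differs
    obtain ⟨g, hg⟩ : ∃ g : G, S'.map (MulAut.conj g).toMonoidHom ≠ S' := by
      by_contra h
      push Not at h
      refine hS'lt.ne (hMmin S' ⟨fun x hx g => ?_⟩ hS'1 hS'lt.le)
      have := h g
      rw [← this]
      exact ⟨x, hx, rfl⟩
    set T := S'.map (MulAut.conj g).toMonoidHom with hT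
    have hTM : T ≤ M := by
      rintro _ ⟨x, hx, rfl⟩
      exact hMn.conj_mem _ (hS'lt.le hx) g
    have hTn : M ≤ normalizer (T : Set G) := by
      intro m hm
      have h := hS'n (hMn.conj_mem m hm g⁻¹)
      rw [mem_normalizer_iff] at h ⊢
      intro x
      have hx : ∀ y, y ∈ T ↔ g⁻¹ * y * g ∈ S' := fun y => by
        constructor
        · rintro ⟨z, hz, rfl⟩
          simpa [mul_assoc] using hz
        · intro hy
          exact ⟨_, hy, by simp [mul_assoc]⟩
      rw [hx, hx, h (g⁻¹ * x * g)]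
      simp [mul_assoc]
    have hcard : Nat.card T = Nat.card S' :=
      (Nat.card_congr (S'.equivMapOfInjective _ (MulEquiv.injective _)).toEquiv).symm
    have hdisj : S' ⊓ T = ⊥ := by
      by_contra h
      have hle := hSmin (S' ⊓ T) ⟨h, lt_of_le_of_lt inf_le_left hS'lt,
        fun m hm => mem_normalizer_iff.2 fun x => by
          simp only [mem_inf, mem_normalizer_iff.1 (hS'n hm) x, mem_normalizer_iff.1 (hTn hm) x]⟩
      have h1 := Subgroup.eq_of_le_of_card_ge (inf_le_left : S' ⊓ T ≤ S') hle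
      exact hg (Subgroup.eq_of_le_of_card_ge (inf_eq_left.1 h1) hcard.le).symm
    have hcomm : ∀ a ∈ S', ∀ b ∈ T, Commute a b := by
      intro a ha b hb
      have h1 : a * b * a⁻¹ * b⁻¹ ∈ S' ⊓ T := by
        refine ⟨?_, ?_⟩
        · have := mul_mem ha ((mem_normalizer_iff.1 (hS'n (hTM hb)) a⁻¹).1 (inv_mem ha))
          simpa [mul_assoc] using this
        · exact (mul_mem ((mem_normalizer_iff.1 (hTn (hS'lt.le ha)) b).1 hb) (inv_mem hb) :
            a * b * a⁻¹ * b⁻¹ ∈ T)
      rw [hdisj, mem_bot, mul_inv_eq_one, mul_inv_eq_iff_eq_mul] at h1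
      exact h1
    obtain ⟨p, hp, hpd⟩ := Nat.exists_prime_and_dvd
      (fun h => hS'1 (Subgroup.card_eq_one.1 h))
    haveI := Fact.mk hp
    have hSp : IsPGroup p S' := by
      refine IsPGroup.of_card (n := (Nat.card S').primeFactorsList.length) ?_
      refine Nat.eq_prime_pow_of_unique_prime_dvd Nat.card_pos.ne' fun {q} hq hqd => ?_
      by_contra hqp
      haveI := Fact.mk hq
      obtain ⟨a, ha⟩ := exists_prime_orderOf_dvd_card' q hqd
      obtain ⟨b, hb⟩ := exists_prime_orderOf_dvd_card' (G := T) p (hcard.symm ▸ hpd)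
      rw [← Subgroup.orderOf_coe] at ha hb
      refine hcop ?_ ?_ (ha ▸ hq) (hb ▸ hp) (by rw [ha, hb]; exact hqp) (hcomm a a.2 b b.2)
      · intro e; rw [e, orderOf_one] at ha; exact hq.ne_one ha.symm
      · intro e; rw [e, orderOf_one] at hb; exact hp.ne_one hb.symm
    -- all conjugates lie in one Sylow subgroup of `M`
    obtain ⟨P⟩ : Nonempty (Sylow p M) := inferInstance
    let U := ⨆ x : G, S'.map (MulAut.conj x).toMonoidHom
    have hUP : U ≤ (P : Subgroup M).map M.subtype := by
      refine iSup_le fun x => ?_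
      have hle : S'.map (MulAut.conj x).toMonoidHom ≤ M := by
        rintro _ ⟨y, hy, rfl⟩
        exact hMn.conj_mem _ (hS'lt.le hy) x
      have hpx : IsPGroup p ((S'.map (MulAut.conj x).toMonoidHom).subgroupOf M) :=
        (hSp.map _).of_equiv (subgroupOfEquivOfLe hle).symm
      have hnx : M ≤ normalizer ((S'.map (MulAut.conj x).toMonoidHom : Subgroup G) : Set G) := by
        intro m hm
        have h := hS'n (hMn.conj_mem m hm x⁻¹)
        rw [mem_normalizer_iff] at h ⊢
        intro y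
        have hxy : ∀ z, z ∈ S'.map (MulAut.conj x).toMonoidHom ↔ x⁻¹ * z * x ∈ S' := fun z => by
          constructor
          · rintro ⟨w, hw, rfl⟩
            simpa [mul_assoc] using hw
          · intro hz
            exact ⟨_, hz, by simp [mul_assoc]⟩
        rw [hxy, hxy, h (x⁻¹ * y * x)]
        simp [mul_assoc]
      haveI : ((S'.map (MulAut.conj x).toMonoidHom).subgroupOf M).Normal :=
        (normal_subgroupOf_iff_le_normalizer hle).2 hnx
      rw [← map_subgroupOf_eq_of_le hle]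
      exact map_mono (hpx.le_sylow_of_normal P)
    have hUn : U.Normal := ⟨fun y hy z => by
      have h : U.map (MulAut.conj z).toMonoidHom ≤ U := by
        rw [Subgroup.map_iSup]
        refine iSup_le fun x => ?_
        refine le_trans ?_ (le_iSup _ (z * x))
        rintro _ ⟨_, ⟨w, hw, rfl⟩, rfl⟩
        exact ⟨w, hw, by simp [mul_assoc]⟩
      exact h ⟨y, hy, rfl⟩⟩
    have hU1 : U ≠ ⊥ := fun h => hS'1 (eq_bot_iff.2 fun y hy => by
      rw [← h]
      exact mem_iSup_of_mem (1 : G) ⟨y, hy, by simp⟩)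
    have hUM := hMmin U hUn hU1 (hUP.trans (map_subtype_le _))
    refine hMs ?_
    have hMp : IsPGroup p M := (P.2.map M.subtype).to_le (hUM.ge.trans hUP)
    haveI := hMp.isNilpotent
    infer_instance
  · intro N hN hN1
    by_contra hle
    have hdisj : M ⊓ N = ⊥ := by
      by_contra h
      exact hle ((hMmin (M ⊓ N) inferInstance h inf_le_left).ge.trans inf_le_right)
    obtain ⟨q, hq, hqd⟩ := Nat.exists_prime_and_dvd (fun h => hN1 (Subgroup.card_eq_one.1 h))
    haveI := Fact.mk hq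
    obtain ⟨p, hp, hpd, hpq, -⟩ := exists_third_prime hMs q q
    haveI := Fact.mk hp
    obtain ⟨a, ha⟩ := exists_prime_orderOf_dvd_card' (G := M) p hpd
    obtain ⟨b, hb⟩ := exists_prime_orderOf_dvd_card' (G := N) q hqd
    rw [← Subgroup.orderOf_coe] at ha hb
    refine hcop ?_ ?_ (ha ▸ hp) (hb ▸ hq) (by rw [ha, hb]; exact hpq)
      (Subgroup.commute_of_normal_of_disjoint M N hMn hN (disjoint_iff.2 hdisj) a b a.2 b.2)
    · intro e; rw [e, orderOf_one] at ha; exact hp.ne_one ha.symm
    · intro e; rw [e, orderOf_one] at hb; exact hq.ne_one hb.symm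

theorem structure_nonsolvable (hns : ¬ Group.IsSolvable G) (hpp : ∀ g : G, g ≠ 1 → IsPrimePow (orderOf g))
    (R : Subgroup G) [R.Normal] (hR : Group.IsSolvable R)
    (hmax : ∀ N : Subgroup G, N.Normal → Group.IsSolvable N → N ≤ R) :
    ∃ M : Subgroup (G ⧸ R), M.Normal ∧ IsSimpleGroup M ∧ ¬ IsMulCommutative M ∧
      ∀ N : Subgroup (G ⧸ R), N.Normal → N ≠ ⊥ → M ≤ N := by
  haveI : Nontrivial (G ⧸ R) := by
    by_contra h
    rw [not_nontrivial_iff_subsingleton] at h
    haveI := hR
    exact hns (Group.isSolvable_of_ker_le_range R.subtype (QuotientGroup.mk' R)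
      (by rw [QuotientGroup.ker_mk', range_subtype]))
  exact simple_socle (quotient_eppo hpp R) fun N hN => by
    haveI := hN
    exact quotient_no_solvable R hR hmax N

/-- Element orders `1, …, n` with `n ≥ 7` force insolubility. -/
theorem not_solvable_of_orders (n : ℕ) (hn : 7 ≤ n)
    (h : Set.range (orderOf : G → ℕ) = {k : ℕ | 1 ≤ k ∧ k ≤ n}) : ¬ Group.IsSolvable G := by
  intro hs
  obtain ⟨p, q, r, hp, hq, hr, hpq, hpr, hqr, hpn, hqn, hrn, h1, h2, h3⟩ :
      ∃ p q r : ℕ, p.Prime ∧ q.Prime ∧ r.Prime ∧ p ≠ q ∧ p ≠ r ∧ q ≠ r ∧ p ≤ n ∧ q ≤ n ∧ r ≤ n ∧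
        n < p * q ∧ n < p * r ∧ n < q * r := by
    rcases lt_or_ge n 15 with h15 | h15
    · exact ⟨3, 5, 7, by norm_num, by norm_num, by norm_num, by omega, by omega, by omega,
        by omega, by omega, by omega, by omega, by omega, by omega⟩
    rcases lt_or_ge n 35 with h35 | h35
    · exact ⟨5, 7, 11, by norm_num, by norm_num, by norm_num, by omega, by omega, by omega,
        by omega, by omega, by omega, by omega, by omega, by omega⟩
    rcases lt_or_ge n 77 with h77 | h77
    · exact ⟨7, 11, 13, by norm_num, by norm_num, by norm_num, by omega, by omega, by omega,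
        by omega, by omega, by omega, by omega, by omega, by omega⟩
    have hs8 : 8 ≤ Nat.sqrt n := Nat.le_sqrt.2 (by omega)
    have hsq : Nat.sqrt n * Nat.sqrt n ≤ n := Nat.sqrt_le n
    have hlt : n < (Nat.sqrt n + 1) * (Nat.sqrt n + 1) := Nat.lt_succ_sqrt n
    obtain ⟨p, hp, hp1, hp2⟩ := Nat.exists_prime_lt_and_le_two_mul (Nat.sqrt n) (by omega)
    obtain ⟨q, hq, hq1, hq2⟩ := Nat.exists_prime_lt_and_le_two_mul (2 * Nat.sqrt n) (by omega)
    obtain ⟨r, hr, hr1, hr2⟩ := Nat.exists_prime_lt_and_le_two_mul (4 * Nat.sqrt n) (by omega)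
    have h8 : 8 * Nat.sqrt n ≤ n := (Nat.mul_le_mul_right _ hs8).trans hsq
    exact ⟨p, q, r, hp, hq, hr, by omega, by omega, by omega, by omega, by omega, by omega,
      hlt.trans_le (Nat.mul_le_mul (by omega) (by omega)),
      hlt.trans_le (Nat.mul_le_mul (by omega) (by omega)),
      hlt.trans_le (Nat.mul_le_mul (by omega) (by omega))⟩
  have hdvd : ∀ t, t.Prime → t ≤ n → t ∣ Nat.card G := fun t ht htn => by
    obtain ⟨x, hx⟩ : t ∈ Set.range (orderOf : G → ℕ) := h ▸ ⟨ht.one_le, htn⟩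
    exact hx ▸ orderOf_dvd_natCard x
  have hno : ∀ k, n < k → ¬ ∃ x : G, orderOf x = k := fun k hk hx => by
    have : k ∈ Set.range (orderOf : G → ℕ) := hx
    rw [h] at this
    exact absurd this.2 (by omega)
  haveI := hs
  exact CfsgLib.Lucido.no_coclique_of_solvable hp hq hr hpq hpr hqr (hdvd p hp hpn) (hdvd q hq hqn)
    (hdvd r hr hrn) (hno _ h1) (hno _ h2) (hno _ h3)

end CfsgLib.EPPO
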