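import Mathlib.GroupTheory.GroupAction.ConjAct
import Cfsg.Agent.Char.Burnside
import Cfsg.Agent.Solvable.Hall
import Cfsg.Agent.Solvable.Fitting

/-!
# Prime-power class sizes of `p`-regular elements and abelian `p`-complements
-/

set_option autoImplicit false

namespace CfsgLib.PRegClass

open Subgroup Pointwise CfsgLib.Solvable

universe u

variable {G : Type u} [Group G]

/-- The size of a conjugacy class is the index of the centraliser. -/
theorem ncard_carrier (x : G) :
    (ConjClasses.mk x).carrier.ncard = (centralizer ({x} : Set G)).index := by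
  rw [← ConjAct.orbit_eq_carrier_conjClasses, ← MulAction.index_stabilizer,
    ConjAct.stabilizer_eq_centralizer]
  rfl

theorem relIndex_dvd_index [Finite G] (C N : Subgroup G) [N.Normal] :
    C.relIndex N ∣ C.index := by
  refine ⟨(C ⊔ N).index, ?_⟩
  have h1 := card_sup_mul_card_inf (A := C) (K := N) le_normalizer_of_normal
  have h2 := (C ⊔ N).card_mul_index
  have h3 := C.card_mul_index
  have h4 : Nat.card ↥(C ⊓ N) * C.relIndex N = Nat.card N := by
    rw [← inf_relIndex_right, ← relIndex_bot_left, ← relIndex_bot_left]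
    exact relIndex_mul_relIndex ⊥ _ N bot_le inf_le_right
  apply Nat.eq_of_mul_eq_mul_left (Nat.mul_pos (Nat.card_pos (α := C)) (Nat.card_pos (α := ↥(C ⊓ N))))
  calc Nat.card C * Nat.card ↥(C ⊓ N) * C.index
      = Nat.card ↥(C ⊓ N) * (Nat.card C * C.index) := by ring
    _ = (Nat.card ↥(C ⊔ N) * Nat.card ↥(C ⊓ N)) * (C ⊔ N).index := by rw [h3, ← h2]; ring
    _ = Nat.card C * Nat.card ↥(C ⊓ N) * (C.relIndex N * (C ⊔ N).index) := by
        rw [h1, ← h4]; ring

theorem exists_regular_lift [Finite G] (N : Subgroup G) [N.Normal] {p : ℕ} (hp : p.Prime)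
    (x : G ⧸ N) (hx : (orderOf x).Coprime p) :
    ∃ y : G, (orderOf y).Coprime p ∧ (y : G ⧸ N) = x := by
  obtain ⟨z, rfl⟩ := QuotientGroup.mk_surjective x
  obtain ⟨a, b, hb, hab⟩ := Nat.exists_eq_pow_mul_and_not_dvd (orderOf_pos z).ne' p hp.ne_one
  obtain ⟨m, hm⟩ := exists_pow_eq_self_of_coprime (x := (z : G ⧸ N)) (n := p ^ a)
    (hx.symm.pow_left a)
  refine ⟨(z ^ p ^ a) ^ m, ?_, ?_⟩
  · refine Nat.Coprime.coprime_dvd_left ?_ (hp.coprime_iff_not_dvd.2 hb).symm
    refine orderOf_dvd_of_pow_eq_one ?_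
    rw [← pow_mul, ← pow_mul, show p ^ a * (m * b) = p ^ a * b * m by ring, pow_mul, ← hab,
      pow_orderOf_eq_one, one_pow]
  · rw [QuotientGroup.mk_pow, QuotientGroup.mk_pow, hm]

/-- Every `p`-regular element has centraliser of `p`-power index. -/
def Cond (p : ℕ) (G : Type u) [Group G] : Prop :=
  ∀ x : G, (orderOf x).Coprime p → ∃ k : ℕ, (centralizer ({x} : Set G)).index = p ^ k

theorem Cond.subgroup [Finite G] {p : ℕ} (hp : p.Prime) (h : Cond p G) (N : Subgroup G)
    [N.Normal] : Cond p N := by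
  intro x hx
  obtain ⟨k, hk⟩ := h x (by rwa [Subgroup.orderOf_coe])
  have heq : centralizer ({x} : Set N) = (centralizer ({(x : G)} : Set G)).subgroupOf N := by
    ext y
    simp [mem_subgroupOf, mem_centralizer_singleton_iff, Subtype.ext_iff]
  obtain ⟨j, -, hj⟩ := (Nat.dvd_prime_pow hp).1 (hk ▸ relIndex_dvd_index _ N)
  exact ⟨j, by rw [heq]; exact hj⟩

theorem Cond.quotient [Finite G] {p : ℕ} (hp : p.Prime) (h : Cond p G) (N : Subgroup G)
    [N.Normal] : Cond p (G ⧸ N) := by
  intro x hx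
  obtain ⟨y, hy, rfl⟩ := exists_regular_lift N hp x hx
  obtain ⟨k, hk⟩ := h y hy
  have hle : (centralizer ({y} : Set G)).map (QuotientGroup.mk' N) ≤
      centralizer ({(y : G ⧸ N)} : Set (G ⧸ N)) := by
    rintro _ ⟨z, hz, rfl⟩
    rw [SetLike.mem_coe, mem_centralizer_singleton_iff] at hz
    rw [mem_centralizer_singleton_iff, QuotientGroup.mk'_apply, ← QuotientGroup.mk_mul, hz,
      QuotientGroup.mk_mul]
  have h1 := (Subgroup.index_dvd_of_le hle).trans
    ((centralizer ({y} : Set G)).index_map_dvd (QuotientGroup.mk'_surjective N))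
  obtain ⟨j, -, hj⟩ := (Nat.dvd_prime_pow hp).1 (hk ▸ h1)
  exact ⟨j, hj⟩

theorem isSolvable_of_prime_card {G : Type u} [Group G] [Finite G] (h : (Nat.card G).Prime) :
    Group.IsSolvable G := by
  have : Fact (Nat.card G).Prime := ⟨h⟩
  have := isCyclic_of_prime_card (α := G) rfl
  let : CommGroup G := IsCyclic.commGroup
  infer_instance

theorem isSolvable_of_normal [Finite G] (N : Subgroup G) [N.Normal] (h1 : Group.IsSolvable N)
    (h2 : Group.IsSolvable (G ⧸ N)) : Group.IsSolvable G :=
  Group.isSolvable_of_ker_le_range N.subtype (QuotientGroup.mk' N) (by simp)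

theorem isSolvable_of_isPGroup [Finite G] {p : ℕ} (hp : p.Prime) (h : IsPGroup p G) :
    Group.IsSolvable G := by
  have : Fact p.Prime := ⟨hp⟩
  have := h.isNilpotent
  infer_instance

theorem isSolvable_of_cond_aux {p : ℕ} (hp : p.Prime) (n : ℕ) :
    ∀ (G : Type u) [Group G] [Finite G], Nat.card G = n → Cond p G → Group.IsSolvable G := by
  induction n using Nat.strong_induction_on with | _ n ih => ?_
  intro G _ _ hn h
  rcases subsingleton_or_nontrivial G with hG | hG
  · infer_instance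
  by_cases hs : IsSimpleGroup G
  · by_cases hq : ∃ q : ℕ, q.Prime ∧ q ∣ Nat.card G ∧ q ≠ p
    · obtain ⟨q, hq, hqd, hqp⟩ := hq
      have : Fact q.Prime := ⟨hq⟩
      obtain ⟨x, hx⟩ := exists_prime_orderOf_dvd_card' q hqd
      obtain ⟨k, hk⟩ := h x (hx ▸ (Nat.coprime_primes hq hp).2 hqp)
      exact isSolvable_of_prime_card (CfsgLib.Char.prime_card_of_prime_pow_class hp
        (fun h1 => hq.ne_one (by rw [← hx, h1, orderOf_one])) hk)
    · refine isSolvable_of_isPGroup hp (IsPGroup.of_card (n := (Nat.card G).primeFactorsList.length)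
        (Nat.eq_prime_pow_of_unique_prime_dvd Nat.card_pos.ne' fun {q} hq1 hq2 => ?_))
      by_contra hne
      exact hq ⟨q, hq1, hq2, hne⟩
  · obtain ⟨N, hN, hN1, hN2⟩ : ∃ N : Subgroup G, N.Normal ∧ N ≠ ⊥ ∧ N ≠ ⊤ := by
      by_contra hc
      push Not at hc
      exact hs ⟨fun N hN => or_iff_not_imp_left.2 (hc N hN)⟩
    exact isSolvable_of_normal N
      (ih _ (hn ▸ card_lt_of_ne_top hN2) N rfl (h.subgroup hp N))
      (ih _ (hn ▸ card_quotient_lt hN1) _ rfl (h.quotient hp N))

theorem isSolvable_of_cond [Finite G] {p : ℕ} (hp : p.Prime) (h : Cond p G) : Group.IsSolvable G :=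
  isSolvable_of_cond_aux hp _ G rfl h

theorem isSolvable_of_complement_aux {p : ℕ} (hp : p.Prime) (n : ℕ) :
    ∀ (G : Type u) [Group G] [Finite G], Nat.card G = n → ∀ H : Subgroup G,
      (∀ a ∈ H, ∀ b ∈ H, a * b = b * a) → ¬ p ∣ Nat.card H → ∀ k : ℕ, H.index = p ^ k →
      Group.IsSolvable G := by
  induction n using Nat.strong_induction_on with | _ n ih => ?_
  intro G _ _ hn H hcomm hpH k hk
  rcases subsingleton_or_nontrivial G with hG | hG
  · infer_instance
  by_cases hs : IsSimpleGroup G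
  · by_cases hH : H = ⊥
    · subst hH
      exact isSolvable_of_isPGroup hp (IsPGroup.of_card (n := k) (by rw [← hk, index_bot]))
    · obtain ⟨x, hx, hx1⟩ := H.bot_or_exists_ne_one.resolve_left hH
      have hle : H ≤ centralizer ({x} : Set G) := fun y hy =>
        mem_centralizer_singleton_iff.2 (hcomm y hy x hx)
      obtain ⟨j, -, hj⟩ := (Nat.dvd_prime_pow hp).1 (hk ▸ index_dvd_of_le hle)
      exact isSolvable_of_prime_card (CfsgLib.Char.prime_card_of_prime_pow_class hp hx1 hj)
  · obtain ⟨N, hN, hN1, hN2⟩ : ∃ N : Subgroup G, N.Normal ∧ N ≠ ⊥ ∧ N ≠ ⊤ := by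
      by_contra hc
      push Not at hc
      exact hs ⟨fun N hN => or_iff_not_imp_left.2 (hc N hN)⟩
    refine isSolvable_of_normal N ?_ ?_
    · obtain ⟨j, -, hj⟩ := (Nat.dvd_prime_pow hp).1 (hk ▸ relIndex_dvd_index H N)
      refine ih _ (hn ▸ card_lt_of_ne_top hN2) N rfl (H.subgroupOf N)
        (fun a ha b hb => Subtype.ext (hcomm _ ha _ hb)) ?_ j hj
      exact fun hd => hpH (hd.trans (card_comap_dvd_of_injective H N.subtype N.subtype_injective))
    · obtain ⟨j, -, hj⟩ := (Nat.dvd_prime_pow hp).1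
        (hk ▸ H.index_map_dvd (QuotientGroup.mk'_surjective N))
      refine ih _ (hn ▸ card_quotient_lt hN1) _ rfl (H.map (QuotientGroup.mk' N)) ?_
        (fun hd => hpH (hd.trans (card_map_dvd _ _))) j hj
      rintro _ ⟨a, ha, rfl⟩ _ ⟨b, hb, rfl⟩
      rw [← map_mul, hcomm a ha b hb, map_mul]

/-- A `p'`-subgroup of a `p`-power index contains every normal `p'`-subgroup. -/
theorem le_of_normal_coprime [Finite G] {p k : ℕ} (hp : p.Prime) {H N : Subgroup G} [N.Normal]
    (hk : H.index = p ^ k) (hpH : ¬ p ∣ Nat.card H) (hpN : ¬ p ∣ Nat.card N) : N ≤ H := by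
  have hd : Nat.card ↥(H ⊔ N) ∣ Nat.card H * p ^ k := by
    rw [← hk, H.card_mul_index]; exact card_subgroup_dvd_card _
  have hc : (Nat.card ↥(H ⊔ N)).Coprime (p ^ k) := by
    refine Nat.Coprime.coprime_dvd_left (card_sup_dvd le_normalizer_of_normal) ?_
    exact Nat.Coprime.pow_right _ ((hp.coprime_iff_not_dvd.2
      (fun h => (hp.dvd_mul.1 h).elim hpH hpN)).symm)
  have hle := Nat.le_of_dvd Nat.card_pos (hc.dvd_of_dvd_mul_right hd)
  exact le_sup_right.trans (eq_of_le_of_card_le (le_sup_left : H ≤ H ⊔ N) hle).ge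

theorem comm_of_cond_aux {p : ℕ} (hp : p.Prime) (n : ℕ) :
    ∀ (G : Type u) [Group G] [Finite G], Nat.card G = n → Group.IsSolvable G → Cond p G →
      ∀ H : Subgroup G, ¬ p ∣ Nat.card H → ∀ k : ℕ, H.index = p ^ k →
      ∀ a ∈ H, ∀ b ∈ H, a * b = b * a := by
  induction n using Nat.strong_induction_on with | _ n ih => ?_
  intro G _ _ hn hsol h H hpH k hk
  have : Fact p.Prime := ⟨hp⟩
  obtain ⟨hOn, hOp⟩ := pCore_spec (G := G) p
  set O := Cfsg.pCore p G
  by_cases hO : O = ⊥
  · set F := Cfsg.fittingSubgroup G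
    have hFn : F.Normal := fittingSubgroup_normal
    have hpF : ¬ p ∣ Nat.card F := by
      intro hd
      obtain ⟨P⟩ := (inferInstance : Nonempty (Sylow p F))
      have := isNilpotent_fittingSubgroup (G := G)
      have hPn : (P : Subgroup F).Normal := inferInstance
      have := P.characteristic_of_normal hPn
      have hle : (P : Subgroup F).map F.subtype ≤ O :=
        le_pCore (G := G) p inferInstance (P.isPGroup'.map _)
      rw [hO, le_bot_iff, map_eq_bot_iff_of_injective _ F.subtype_injective] at hle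
      have := P.card_eq_multiplicity
      rw [hle, card_bot] at this
      have h2 := (hp.dvd_iff_one_le_factorization Nat.card_pos.ne').1 hd
      exact absurd this.symm (Nat.one_lt_pow (by omega) hp.one_lt).ne'
    have key : ∀ x : G, (orderOf x).Coprime p → x ∈ centralizer (F : Set G) := by
      intro x hx
      obtain ⟨j, hj⟩ := h x hx
      set C := centralizer ({x} : Set G)
      have hcard : Nat.card C * p ^ j = Nat.card H * p ^ k := by
        rw [← hj, ← hk, C.card_mul_index, H.card_mul_index]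
      have hcop : (Nat.card H).Coprime (p ^ k) :=
        ((hp.coprime_iff_not_dvd.2 hpH).symm).pow_right k
      have hHC : Nat.card H ∣ Nat.card C :=
        (((hp.coprime_iff_not_dvd.2 hpH).symm).pow_right j).dvd_of_dvd_mul_right
          (hcard ▸ dvd_mul_right _ _)
      obtain ⟨b, hb⟩ := hHC
      have hbd : b ∣ p ^ k := by
        refine ⟨p ^ j, Nat.eq_of_mul_eq_mul_left (Nat.card_pos (α := H)) ?_⟩
        rw [← hcard, hb]; ring
      have : Group.IsSolvable G := hsol
      obtain ⟨X, hX, -⟩ := CfsgLib.Hall.hall (G := C) hb (hcop.coprime_dvd_right hbd)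
      set X' := X.map C.subtype
      have hX' : Nat.card X' = Nat.card H := by
        rw [card_map_of_injective C.subtype_injective, hX]
      have hXi : X'.index = p ^ k := by
        have := X'.card_mul_index
        rw [hX', ← H.card_mul_index, hk] at this
        exact Nat.eq_of_mul_eq_mul_left Nat.card_pos this
      have hFX := le_of_normal_coprime hp hXi (hX' ▸ hpH) hpF
      rw [mem_centralizer_iff]
      intro y hy
      exact mem_centralizer_singleton_iff.1 (map_subtype_le X (hFX hy))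
    intro a ha b hb
    have hreg : ∀ c ∈ H, (orderOf c).Coprime p := fun c hc =>
      Nat.Coprime.coprime_dvd_left (orderOf_dvd_natCard (⟨c, hc⟩ : H) |> fun h' => by
        rwa [← Subgroup.orderOf_coe] at h') (hp.coprime_iff_not_dvd.2 hpH).symm
    have : Group.IsSolvable G := hsol
    have hb' := CfsgLib.Fitting.centralizer_fittingSubgroup_le_of_solvable (key b (hreg b hb))
    exact ((mem_centralizer_iff.1 (key a (hreg a ha))) b hb').symm
  · intro a ha b hb
    have hq := ih _ (hn ▸ card_quotient_lt hO) (G ⧸ O) rfl inferInstance (h.quotient hp O)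
      (H.map (QuotientGroup.mk' O)) (fun hd => hpH (hd.trans (card_map_dvd _ _)))
    obtain ⟨j, -, hj⟩ := (Nat.dvd_prime_pow hp).1
      (hk ▸ H.index_map_dvd (QuotientGroup.mk'_surjective O))
    have hab := hq j hj _ (mem_map_of_mem _ ha) _ (mem_map_of_mem _ hb)
    rw [← map_mul, ← map_mul, QuotientGroup.mk'_eq_mk'] at hab
    obtain ⟨z, hz, hz'⟩ := hab
    have hzH : z ∈ H := by
      have : z = (a * b)⁻¹ * (b * a) := by rw [← hz']; group
      rw [this]; exact H.mul_mem (H.inv_mem (H.mul_mem ha hb)) (H.mul_mem hb ha)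
    obtain ⟨e, he⟩ := IsPGroup.iff_orderOf.1 hOp ⟨z, hz⟩
    rw [← Subgroup.orderOf_coe] at he
    have hz1 : orderOf z ∣ Nat.card H := by
      have := orderOf_dvd_natCard (⟨z, hzH⟩ : H)
      rwa [← Subgroup.orderOf_coe] at this
    simp only at he hz1
    have hz0 : z = 1 := by
      rw [← orderOf_eq_one_iff, he]
      exact Nat.eq_one_of_dvd_coprimes ((hp.coprime_iff_not_dvd.2 hpH).pow_left e) dvd_rfl (he ▸ hz1)
    rw [hz0, mul_one] at hz'
    exact hz' 

/-- Class sizes of `p`-regular elements are `p`-powers iff there is an abelian `p`-complement. -/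
theorem cond_iff [Finite G] {p : ℕ} (hp : p.Prime) :
    Cond p G ↔ ∃ H : Subgroup G, IsMulCommutative H ∧ ¬ p ∣ Nat.card H ∧
      ∃ k : ℕ, H.index = p ^ k := by
  constructor
  · intro h
    have hsol := isSolvable_of_cond hp h
    obtain ⟨a, b, hb, hab⟩ := Nat.exists_eq_pow_mul_and_not_dvd
      (Nat.card_pos (α := G)).ne' p hp.ne_one
    have hcop : b.Coprime (p ^ a) := ((hp.coprime_iff_not_dvd.2 hb).symm).pow_right a
    obtain ⟨H, hH, -⟩ := CfsgLib.Hall.hall (G := G) (hab.trans (mul_comm _ _)) hcop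
    have hidx : H.index = p ^ a := by
      apply Nat.eq_of_mul_eq_mul_left (Nat.card_pos (α := H))
      rw [H.card_mul_index, hH, hab, mul_comm]
    refine ⟨H, ⟨⟨fun x y => Subtype.ext ?_⟩⟩, hH ▸ hb, a, hidx⟩
    exact comm_of_cond_aux hp _ G rfl hsol h H (hH ▸ hb) a hidx _ x.2 _ y.2
  · rintro ⟨H, hcomm, hpH, k, hk⟩ x hx
    have hc : ∀ a ∈ H, ∀ b ∈ H, a * b = b * a := fun a ha b hb =>
      congrArg Subtype.val (hcomm.is_comm.comm ⟨a, ha⟩ ⟨b, hb⟩)
    have hsol := isSolvable_of_complement_aux hp _ G rfl H hc hpH k hk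
    have hab : Nat.card G = Nat.card H * p ^ k := by rw [← hk, H.card_mul_index]
    have hcop : (Nat.card H).Coprime (p ^ k) :=
      ((hp.coprime_iff_not_dvd.2 hpH).symm).pow_right k
    obtain ⟨X, hX, hxX⟩ := CfsgLib.Hall.hall_dominance hab hcop (K := zpowers x)
      (by rw [Nat.card_zpowers]; exact hx.pow_right k)
    obtain ⟨g, rfl⟩ := CfsgLib.Hall.hall_conj hab hcop rfl hX
    have hle : MulAut.conj g • H ≤ centralizer ({x} : Set G) := by
      intro y hy
      have hxm := hxX (mem_zpowers x)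
      rw [mem_pointwise_smul_iff_inv_smul_mem] at hxm hy
      rw [mem_centralizer_singleton_iff]
      have := hc _ hy _ hxm
      rw [← MulDistribMulAction.smul_mul, ← MulDistribMulAction.smul_mul] at this
      exact MulAction.injective _ this
    have hidx : (MulAut.conj g • H).index = p ^ k := by
      apply Nat.eq_of_mul_eq_mul_left (Nat.card_pos (α := ↥(MulAut.conj g • H)))
      rw [Subgroup.card_mul_index, hX, hab]
    obtain ⟨j, -, hj⟩ := (Nat.dvd_prime_pow hp).1 (hidx ▸ index_dvd_of_le hle)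
    exact ⟨j, hj⟩

end CfsgLib.PRegClass
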