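import Cfsg.Agent.Frobenius.Fpf
import Cfsg.Agent.FGSB.OrderPFix
import Cfsg.Agent.InvChar.UniqueInvolution
import Cfsg.Agent.Solvable.Fitting
import Cfsg.Agent.Solvable.PGroupBasic
import Cfsg.Agent.FGSA.Nilpotent
import Cfsg.Agent.FGSB.Small
import Cfsg.Agent.Char.Burnside
import Cfsg.Agent.Transfer.Frobenius
import Cfsg.Agent.Coprime.Sylow

/-!
A group acting fixed-point-freely is solvable if and only if, for every prime `p ≥ 5`, it has at
most `p - 1` elements of order `p`.
-/

set_option autoImplicit false
set_option linter.unusedSectionVars false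
set_option linter.style.haveILetI false

namespace CfsgLib.FrobeniusSolvable

open Subgroup
open scoped Pointwise

/-- At most one subgroup of order `p` for each prime `p ≥ 5`. -/
def FewLarge (E : Type*) [Group E] : Prop :=
  ∀ p : ℕ, p.Prime → 5 ≤ p → Nat.card {x : E // orderOf x = p} ≤ p - 1

theorem FewLarge.subgroup {E : Type*} [Group E] [Finite E] (h : FewLarge E) (H : Subgroup E) :
    FewLarge H := fun p hp h5 => by
  refine le_trans (Nat.card_le_card_of_injective
    (fun x : {x : H // orderOf x = p} => (⟨(x.1 : E), by rw [Subgroup.orderOf_coe, x.2]⟩ : {x : E // orderOf x = p}))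
    fun x y hxy => ?_) (h p hp h5)
  exact Subtype.ext (Subtype.ext (congrArg (fun z : {x : E // orderOf x = p} => (z : E)) hxy))

theorem FewLarge.mem_zpowers {E : Type*} [Group E] [Finite E] (h : FewLarge E) {p : ℕ} [hp : Fact p.Prime]
    (h5 : 5 ≤ p) {x y : E} (hx : orderOf x = p) (hy : orderOf y = p) : y ∈ zpowers x := by
  classical
  by_contra hyx
  have := Fintype.ofFinite E
  let f : {z : zpowers x // z ≠ 1} ⊕ PUnit.{1} → {z : E // orderOf z = p} :=
    Sum.elim (fun z => ⟨z.1.1, (hp.out.eq_one_or_self_of_dvd _ (hx ▸ (orderOf_dvd_natCard z.1).trans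
      (Nat.card_zpowers x).dvd |> fun h' => by rwa [Subgroup.orderOf_coe])).resolve_left fun h1 =>
        z.2 (Subtype.ext (orderOf_eq_one_iff.1 h1))⟩) fun _ => ⟨y, hy⟩
  have hf : Function.Injective f := by
    rintro (z | _) (w | _) hzw
    · exact congrArg Sum.inl (Subtype.ext (Subtype.ext (congrArg (fun t : {z : E // orderOf z = p} => (t : E)) hzw)))
    · exact absurd (show (z.1 : E) = y from congrArg (fun t : {z : E // orderOf z = p} => (t : E)) hzw) (fun e => hyx (e ▸ z.1.2))
    · exact absurd (show y = (w.1 : E) from congrArg (fun t : {z : E // orderOf z = p} => (t : E)) hzw) (fun e => hyx (e ▸ w.1.2))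
    · rfl
  have h1 := Nat.card_le_card_of_injective f hf
  have h2 : Nat.card {z : zpowers x // z ≠ 1} = p - 1 := by
    rw [Nat.card_eq_fintype_card, Fintype.card_subtype_compl, Fintype.card_subtype_eq,
      ← Nat.card_eq_fintype_card, Nat.card_zpowers, hx]
  rw [Nat.card_sum, h2, Nat.card_unique] at h1
  have := h p hp.out h5
  omega

/-- Few elements of each large prime order force solvability. -/
theorem isSolvable_of_fewLarge (n : ℕ) : ∀ (E : Type*) [Group E] [Finite E], Nat.card E ≤ n →
    FewLarge E → Group.IsSolvable E := by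
  induction n with
  | zero => intro E _ _ h; exact absurd h (by simpa using (Nat.card_pos (α := E)).ne')
  | succ n ih =>
    intro E _ _ hn hE
    classical
    by_cases hex : ∃ p : ℕ, p.Prime ∧ 5 ≤ p ∧ p ∣ Nat.card E
    · obtain ⟨p, hp, h5, hpE⟩ := hex
      have := Fact.mk hp
      obtain ⟨x, hx⟩ := exists_prime_orderOf_dvd_card' p hpE
      have hxn : (zpowers x).Normal := ⟨fun y hy g => by
        by_cases hy1 : y = 1
        · rw [hy1, mul_one, mul_inv_cancel]; exact one_mem _
        refine hE.mem_zpowers h5 hx ?_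
        rw [show g * y * g⁻¹ = MulAut.conj g y from rfl, MulEquiv.orderOf_eq]
        exact (hp.eq_one_or_self_of_dvd _ (hx ▸ orderOf_dvd_of_mem_zpowers hy)).resolve_left
          fun h => hy1 (orderOf_eq_one_iff.1 h)⟩
      set C := centralizer ((zpowers x : Subgroup E) : Set E) with hC
      by_cases hCtop : C = ⊤
      · -- all elements of order `p` are central: normal `p`-complement
        have hcen : ∀ y : E, orderOf y = p → ∀ g, Commute g y := fun y hy g =>
          (mem_centralizer_iff.1 (hCtop.symm.le (mem_top g)) y (hE.mem_zpowers h5 hx hy)).symm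
        obtain ⟨P, N, hN, hNP⟩ := CfsgLib.Fusion.hasNormalPComplement_of_localCondition (p := p) (G := E)
          fun T hT g hgT hg => mem_centralizer_iff.2 fun t ht =>
            (CfsgLib.OrderPFix.commute_of_commute_small hT hg hgT (fun u _ hu => hcen u
              (hu.resolve_right fun h => by omega) g) t ht).symm.eq
        have hlt : Nat.card N < Nat.card E := by
          have h1 := hNP.card_mul_card
          have h2 : 1 < Nat.card (P : Subgroup E) := by
            obtain ⟨k, hk⟩ := IsPGroup.iff_card.1 P.isPGroup'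
            have := Subgroup.one_lt_card_iff_ne_bot (P : Subgroup E) |>.2 (P.ne_bot_of_dvd_card hpE)
            exact this
          calc Nat.card N = Nat.card N * 1 := (mul_one _).symm
            _ < Nat.card N * Nat.card (P : Subgroup E) := Nat.mul_lt_mul_of_pos_left h2 Nat.card_pos
            _ = Nat.card E := h1
        have hNs := ih N (by omega) (hE.subgroup N)
        have hQp : IsPGroup p (E ⧸ N) := by
          obtain ⟨k, hk⟩ := IsPGroup.iff_card.1 P.isPGroup'
          refine IsPGroup.of_card (n := k) ?_
          rw [← Subgroup.index_eq_card, hNP.symm.index_eq_card, hk]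
        have := hQp.isNilpotent
        refine Group.isSolvable_of_ker_le_range N.subtype (QuotientGroup.mk' N) ?_
        rw [QuotientGroup.ker_mk', range_subtype]
      · have hlt : Nat.card C < Nat.card E := by
          rcases lt_or_eq_of_le (Subgroup.card_le_card_group C) with h | h
          · exact h
          · exact absurd (Subgroup.eq_top_of_card_eq C h) hCtop
        have hCs := ih C (by omega) (hE.subgroup C)
        let ψ : E →* MulAut (zpowers x) := MulAut.conjNormal
        have hab : Group.IsSolvable (MulAut (zpowers x)) := by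
          refine Group.isSolvable_of_comm fun a b => MulEquiv.ext fun y => ?_
          obtain ⟨i, hi⟩ := MonoidHom.map_cyclic a.toMonoidHom
          obtain ⟨j, hj⟩ := MonoidHom.map_cyclic b.toMonoidHom
          simp only [MulEquiv.coe_toMonoidHom] at hi hj
          rw [MulAut.mul_apply, MulAut.mul_apply, hi, hj, hj, hi, ← zpow_mul, ← zpow_mul, mul_comm]
        refine Group.isSolvable_of_ker_le_range C.subtype ψ fun g hg => ?_
        rw [range_subtype, mem_centralizer_iff]
        intro y hy
        have h1 := congrArg Subtype.val (DFunLike.congr_fun (MonoidHom.mem_ker.1 hg) ⟨y, hy⟩)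
        rw [MulAut.conjNormal_apply] at h1
        exact (mul_inv_eq_iff_eq_mul.1 h1).symm
    · push Not at hex
      set a := (Nat.card E).factorization 2
      set b := (Nat.card E).factorization 3
      refine CfsgLib.Char.isSolvable_of_card_eq (G := E) 2 3 a b Nat.prime_two Nat.prime_three ?_
      conv_lhs => rw [← Nat.prod_factorization_pow_eq_self (n := Nat.card E) Nat.card_pos.ne']
      rw [Finsupp.prod_of_support_subset _ (s := {2, 3}) ?_ _ (fun _ _ => pow_zero _),
        Finset.prod_pair (by norm_num)]
      intro q hq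
      rw [Nat.support_factorization, Nat.mem_primeFactors] at hq
      have h5 := hex q hq.1
      have := hq.1.two_le
      rcases Nat.lt_or_ge q 5 with h | h
      · interval_cases q
        · simp
        · simp
        · exact absurd hq.1 (by norm_num)
      · exact absurd hq.2.1 (h5 h)

section Fpf

variable {E K : Type*} [Group E] [Finite E] [Group K] [Finite K] [Nontrivial K] {φ : E →* MulAut K}

/-- Two commuting elements of prime order `r` generate the same subgroup. -/
theorem mem_zpowers_of_commute (h : CfsgLib.Frobenius.IsFpf φ) {r : ℕ} (hr : r.Prime) {z y : E}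
    (hz : orderOf z = r) (hy : orderOf y = r) (hc : Commute z y) : y ∈ zpowers z := by
  have := Fact.mk hr
  by_contra hyz
  set A := closure ({z, y} : Set E)
  have hAc : IsMulCommutative A := Subgroup.isMulCommutative_closure (by
    rintro g (rfl | rfl) k (rfl | rfl) <;> first | rfl | exact hc.eq | exact hc.eq.symm)
  have hexp : ∀ a ∈ A, a ^ r = 1 := by
    intro a ha
    induction ha using Subgroup.closure_induction with
    | mem g hg => rcases hg with rfl | rfl
                  · rw [← hz, pow_orderOf_eq_one]
                  · rw [← hy, pow_orderOf_eq_one]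
    | one => exact one_pow r
    | mul g k hg hk ihg ihk =>
      rw [(show Commute g k from congrArg Subtype.val (hAc.1.1 ⟨g, hg⟩ ⟨k, hk⟩)).mul_pow, ihg, ihk, one_mul]
    | inv g _ ih => rw [inv_pow, ih, inv_one]
  have hp : IsPGroup r A := fun a => ⟨1, Subtype.ext (by rw [pow_one]; exact hexp a a.2)⟩
  obtain ⟨k, hk⟩ := IsPGroup.iff_card.1 hp
  have hlt : zpowers z < A := lt_of_le_of_ne (zpowers_le.2 (subset_closure (Or.inl rfl)))
    fun he => hyz (he ▸ subset_closure (Or.inr rfl))
  have hk2 : 2 ≤ k := by
    by_contra hcon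
    push Not at hcon
    apply not_le_of_gt hlt
    refine le_of_eq (Subgroup.eq_of_le_of_card_ge hlt.le ?_).symm
    rw [hk, Nat.card_zpowers, hz]
    calc r ^ k ≤ r ^ 1 := Nat.pow_le_pow_right hr.pos (by omega)
      _ = r := pow_one r
  obtain ⟨B, hB⟩ := Sylow.exists_subgroup_card_pow_prime (G := A) r (n := 2) (hk ▸ pow_dvd_pow r hk2)
  have hBc : IsCyclic B :=
    (h.comp ((A.subtype).comp B.subtype) (Subtype.val_injective.comp Subtype.val_injective)).isCyclic_of_card
      hr hr (by rw [hB, pow_two])
  obtain ⟨g, hg⟩ := hBc.exists_generator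
  have h1 : orderOf g = r ^ 2 := by rw [orderOf_eq_card_of_forall_mem_zpowers hg, hB]
  have h2 : orderOf g ∣ r := orderOf_dvd_of_pow_eq_one (Subtype.ext (Subtype.ext (hexp _ g.1.2)))
  rw [h1] at h2
  have h3 := Nat.le_of_dvd hr.pos h2
  rw [pow_two] at h3
  exact absurd h3 (not_le.2 (lt_mul_of_one_lt_left hr.pos hr.one_lt))

theorem cyclic_or_quaternion (h : CfsgLib.Frobenius.IsFpf φ) {r : ℕ} [Fact r.Prime] {R : Subgroup E}
    (hR : IsPGroup r R) :
    IsCyclic R ∨ (r = 2 ∧ ∃ n : ℕ, 1 ≤ n ∧ Nonempty (R ≃* QuaternionGroup (2 ^ n))) := by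
  refine CfsgLib.UniqueInvol.cyclic_or_quaternion hR fun x y hx hy => ?_
  have hr := (Fact.out : r.Prime)
  have : Nontrivial R := ⟨⟨x, 1, fun h => hr.ne_one (by rw [← hx, h, orderOf_one])⟩⟩
  have := hR.center_nontrivial
  obtain ⟨z₀, hz₀⟩ := exists_ne (1 : center R)
  obtain ⟨k, hk⟩ := IsPGroup.iff_orderOf.1 hR (z₀ : R)
  have hk0 : k ≠ 0 := fun h => hz₀ (Subtype.ext (orderOf_eq_one_iff.1 (by rw [hk, h, pow_zero])))
  set z : R := (z₀ : R) ^ r ^ (k - 1)
  have hz : orderOf z = r := by
    rw [orderOf_pow_of_dvd (pow_ne_zero _ hr.ne_zero) (hk ▸ pow_dvd_pow r (Nat.sub_le k 1)), hk,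
      Nat.pow_div (Nat.sub_le k 1) hr.pos, Nat.sub_sub_self (Nat.one_le_iff_ne_zero.2 hk0), pow_one]
  have key : ∀ w : R, orderOf w = r → zpowers z = zpowers w := fun w hw => by
    have hc : Commute (z : E) w := congrArg Subtype.val
      (((show Commute w (z₀ : R) from mem_center_iff.1 z₀.2 w).pow_right _).eq.symm)
    have h1 := mem_zpowers_of_commute h hr (by rw [Subgroup.orderOf_coe]; exact hz)
      (by rw [Subgroup.orderOf_coe]; exact hw) hc
    refine (Subgroup.eq_of_le_of_card_ge (zpowers_le.2 ?_) (by rw [Nat.card_zpowers, Nat.card_zpowers, hz, hw])).symm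
    obtain ⟨i, hi⟩ := h1
    exact ⟨i, Subtype.ext hi⟩
  rw [← key x hx, key y hy]
  exact mem_zpowers y

theorem fitting_commute [Group.IsSolvable E] (h : CfsgLib.Frobenius.IsFpf φ) {p : ℕ} (hp : p.Prime)
    (h5 : 5 ≤ p) {x : E} (hx : orderOf x = p) {r : ℕ} [Fact r.Prime] {R : Subgroup E} [R.Normal]
    (hR : IsPGroup r R) : ∀ y ∈ R, Commute x y := by
  classical
  have := Fact.mk hp
  have hr := (Fact.out : r.Prime)
  by_cases hrp : r = p
  · subst hrp
    intro y hy
    have hxp : IsPGroup r (zpowers x) := IsPGroup.of_card (n := 1) (by rw [Nat.card_zpowers, hx, pow_one])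
    rcases cyclic_or_quaternion h (hxp.to_sup_of_normal_right hR) with hc | ⟨rfl, -⟩
    · let _ : CommGroup ↥(zpowers x ⊔ R) := IsCyclic.commGroup
      exact congrArg Subtype.val
        (mul_comm (⟨x, mem_sup_left (mem_zpowers x)⟩ : ↥(zpowers x ⊔ R)) ⟨y, mem_sup_right hy⟩)
    · omega
  have hxo : (orderOf x).Coprime r := by rw [hx]; exact (Nat.coprime_primes hp hr).2 (Ne.symm hrp)
  have hxN : x ∈ normalizer (R : Set E) := by rw [Subgroup.normalizer_eq_top]; trivial
  rcases cyclic_or_quaternion h hR with hc | ⟨rfl, n, hn, ⟨e⟩⟩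
  · refine CfsgLib.OrderPFix.commute_of_commute_small hR hxo hxN fun t ht hts => ?_
    rcases hts with hto | ⟨rfl, hto⟩
    · -- `⟨x, t⟩` has order `p r`, so is cyclic
      have htx : ∀ j : E, j ∈ zpowers t → x * j * x⁻¹ ∈ zpowers t := by
        intro j hj
        have hmem : x * j * x⁻¹ ∈ R := Subgroup.Normal.conj_mem inferInstance j (zpowers_le.2 ht hj) x
        by_cases hj1 : j = 1
        · rw [hj1, mul_one, mul_inv_cancel]; exact one_mem _
        have ho : orderOf (x * j * x⁻¹) = r := by
          rw [show x * j * x⁻¹ = MulAut.conj x j from rfl, MulEquiv.orderOf_eq]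
          exact (hr.eq_one_or_self_of_dvd _ (hto ▸ orderOf_dvd_of_mem_zpowers hj)).resolve_left
            fun h => hj1 (orderOf_eq_one_iff.1 h)
        have h1 : zpowers (⟨t, ht⟩ : R) = zpowers ⟨_, hmem⟩ := by
          let _ : CommGroup R := IsCyclic.commGroup
          have hle : ∀ w : R, orderOf w = r → zpowers w ≤ (powMonoidHom r : R →* R).ker := fun w hw =>
            zpowers_le.2 (by rw [MonoidHom.mem_ker, powMonoidHom_apply, ← hw, pow_orderOf_eq_one])
          have hker : Nat.card (powMonoidHom r : R →* R).ker ≤ r := by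
            have := Fintype.ofFinite R
            rw [Nat.card_eq_fintype_card, Fintype.card_subtype]
            refine le_trans (le_of_eq ?_) (IsCyclic.card_pow_eq_one_le (α := R) hr.pos)
            congr 1
            ext w
            simp [MonoidHom.mem_ker]
          have e1 := Subgroup.eq_of_le_of_card_ge (hle ⟨t, ht⟩ (by rw [orderOf_mk, hto]))
            (by rw [Nat.card_zpowers, orderOf_mk, hto]; exact hker)
          have e2 := Subgroup.eq_of_le_of_card_ge (hle ⟨_, hmem⟩ (by rw [orderOf_mk, ho]))
            (by rw [Nat.card_zpowers, orderOf_mk, ho]; exact hker)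
          rw [e1, e2]
        obtain ⟨i, hi⟩ := h1.symm.le (mem_zpowers _)
        exact ⟨i, congrArg Subtype.val hi⟩
      have hn : x ∈ normalizer ((zpowers t : Subgroup E) : Set E) := by
        refine mem_normalizer_iff_map_conj_eq.2 (Subgroup.eq_of_le_of_card_ge ?_ ?_)
        · rintro _ ⟨j, hj, rfl⟩
          exact htx j hj
        · rw [card_map_of_injective (MulAut.conj x).injective]
      have hcard : Nat.card ↥(zpowers x ⊔ zpowers t) = p * r := by
        have hnL : zpowers x ≤ normalizer ((zpowers t : Subgroup E) : Set E) := zpowers_le.2 hn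
        have hco : (Nat.card (zpowers x)).Coprime (Nat.card (zpowers t)) := by
          rw [Nat.card_zpowers, Nat.card_zpowers, hx, hto]; exact (Nat.coprime_primes hp hr).2 (Ne.symm hrp)
        rw [← SetLike.coe_sort_coe, Subgroup.coe_mul_of_left_le_normalizer_right _ _ hnL]
        have hd := Subgroup.disjoint_of_coprime_natCard hco
        rw [← hx, ← hto, ← Nat.card_zpowers, ← Nat.card_zpowers (a := t), ← Nat.card_prod]
        exact (Nat.card_congr (Equiv.ofBijective
          (fun z : zpowers x × zpowers t => (⟨(z.1 : E) * z.2, Set.mul_mem_mul z.1.2 z.2.2⟩ :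
            ((zpowers x : Set E) * (zpowers t : Set E) : Set E)))
          ⟨fun a b hab => Subgroup.mul_injective_of_disjoint hd (congrArg Subtype.val hab),
            fun ⟨w, a, ha, b, hb, hw⟩ => ⟨(⟨a, ha⟩, ⟨b, hb⟩), Subtype.ext hw⟩⟩)).symm
      have hcyc : IsCyclic ↥(zpowers x ⊔ zpowers t) :=
        (h.comp (zpowers x ⊔ zpowers t).subtype Subtype.val_injective).isCyclic_of_card hp hr hcard
      let _ : CommGroup ↥(zpowers x ⊔ zpowers t) := IsCyclic.commGroup
      exact congrArg Subtype.val (mul_comm (⟨x, mem_sup_left (mem_zpowers x)⟩ : ↥(zpowers x ⊔ zpowers t))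
        ⟨t, mem_sup_right (mem_zpowers t)⟩)
    · -- cyclic of order four
      refine CfsgLib.FGSBSmall.commute_of_totient ?_ ?_
      · have hmem : x * t * x⁻¹ ∈ R := Subgroup.Normal.conj_mem inferInstance t ht x
        let _ : CommGroup R := IsCyclic.commGroup
        have hle : ∀ w : R, orderOf w = 4 → zpowers w ≤ (powMonoidHom 4 : R →* R).ker := fun w hw =>
          zpowers_le.2 (by rw [MonoidHom.mem_ker, powMonoidHom_apply, ← hw, pow_orderOf_eq_one])
        have hker : Nat.card (powMonoidHom 4 : R →* R).ker ≤ 4 := by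
          have := Fintype.ofFinite R
          rw [Nat.card_eq_fintype_card, Fintype.card_subtype]
          refine le_trans (le_of_eq ?_) (IsCyclic.card_pow_eq_one_le (α := R) (by norm_num : 0 < 4))
          congr 1
          ext w
          simp [MonoidHom.mem_ker]
        have ho : orderOf (x * t * x⁻¹) = 4 := by
          rw [show x * t * x⁻¹ = MulAut.conj x t from rfl, MulEquiv.orderOf_eq, hto]
        have e1 := Subgroup.eq_of_le_of_card_ge (hle ⟨t, ht⟩ (by rw [orderOf_mk, hto]))
          (by rw [Nat.card_zpowers, orderOf_mk, hto]; exact hker)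
        have e2 := Subgroup.eq_of_le_of_card_ge (hle ⟨_, hmem⟩ (by rw [orderOf_mk, ho]))
          (by rw [Nat.card_zpowers, orderOf_mk, ho]; exact hker)
        obtain ⟨i, hi⟩ := (e2.trans e1.symm).le (mem_zpowers _)
        exact ⟨i, congrArg Subtype.val hi⟩
      · rw [hx, hto, show Nat.totient 4 = 2 by rfl]
        exact (Nat.coprime_primes hp Nat.prime_two).2 (by omega)
  · -- quaternion: the Frattini quotient has at most four elements
    letI : MulDistribMulAction (zpowers x) R := MulDistribMulAction.compHom R
      ((MulAut.conjNormal : E →* MulAut R).comp (zpowers x).subtype)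
    obtain ⟨m, hm⟩ := IsPGroup.iff_card.1 hR
    have hfix := CfsgLib.Coprime.smul_eq_self_of_trivial_mod_frattini (G := R) (A := zpowers x)
      (by rw [Nat.card_zpowers, hx, hm]; exact Nat.Coprime.pow_right _ (hx ▸ hxo))
    have hsq : ∀ u : R, u ^ 2 ∈ frattini R := by
      intro u
      rw [frattini, Order.radical, mem_iInf]
      intro M
      rw [mem_iInf]
      intro hM
      obtain ⟨hn, hidx⟩ := CfsgLib.PGroupBasic.coatom_normal_index hR hM
      have := hn
      rw [← QuotientGroup.eq_one_iff, QuotientGroup.mk_pow, ← hidx, Subgroup.index_eq_card,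
        pow_card_eq_one']
    have hq4 : Nat.card (R ⧸ frattini R) ≤ 4 := by
      set a : R ⧸ frattini R := ((e.symm (QuaternionGroup.a 1) : R) : R ⧸ frattini R)
      set b : R ⧸ frattini R := ((e.symm (QuaternionGroup.xa 0) : R) : R ⧸ frattini R)
      have hsq' : ∀ z : R ⧸ frattini R, z * z = 1 := fun z => by
        obtain ⟨u, rfl⟩ := QuotientGroup.mk_surjective z
        rw [← QuotientGroup.mk_mul, QuotientGroup.eq_one_iff, ← pow_two]
        exact hsq u
      have hpow : ∀ (z : R ⧸ frattini R) (i : ℕ), z ^ i = 1 ∨ z ^ i = z := fun z i => by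
        rcases Nat.even_or_odd i with ⟨j, rfl⟩ | ⟨j, rfl⟩
        · left; rw [← two_mul, pow_mul, pow_two, hsq', one_pow]
        · right; rw [pow_succ, pow_mul, pow_two, hsq', one_pow, one_mul]
      have hsurj : Function.Surjective fun z : Bool × Bool =>
          (if z.1 then b else 1) * (if z.2 then a else 1) := by
        intro z
        obtain ⟨u, rfl⟩ := QuotientGroup.mk_surjective z
        obtain ⟨w, rfl⟩ := e.symm.surjective u
        have ha : ∀ i : ZMod (2 * 2 ^ n), (QuotientGroup.mk (e.symm (QuaternionGroup.a i)) : R ⧸ frattini R) =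
            a ^ i.val := fun i => by
          show _ = (QuotientGroup.mk (e.symm (QuaternionGroup.a 1)) : R ⧸ frattini R) ^ i.val
          rw [← QuotientGroup.mk_pow, ← map_pow, QuaternionGroup.a_one_pow, ZMod.natCast_zmod_val]
        have hxa : ∀ i : ZMod (2 * 2 ^ n), (QuotientGroup.mk (e.symm (QuaternionGroup.xa i)) : R ⧸ frattini R) =
            b * a ^ i.val := fun i => by
          rw [← ha, ← QuotientGroup.mk_mul, ← map_mul, QuaternionGroup.xa_mul_a, zero_add]
        cases w with
        | a i =>
          rcases hpow a i.val with h' | h'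
          · exact ⟨(false, false), by rw [ha, h']; simp⟩
          · exact ⟨(false, true), by rw [ha, h']; simp⟩
        | xa i =>
          rcases hpow a i.val with h' | h'
          · exact ⟨(true, false), by rw [hxa, h']; simp⟩
          · exact ⟨(true, true), by rw [hxa, h']; simp⟩
      refine (Nat.card_le_card_of_surjective _ hsurj).trans (le_of_eq ?_)
      rw [Nat.card_prod, Nat.card_eq_fintype_card, Fintype.card_bool]
    intro y hy
    refine mul_inv_eq_iff_eq_mul.1 (congrArg Subtype.val (hfix (fun c u => ?_) ⟨x, mem_zpowers x⟩ ⟨y, hy⟩))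
    -- the induced permutation of the quotient has order dividing `p` and moves at most three points
    have hinv : ∀ c : zpowers x, ∀ u v : R, u⁻¹ * v ∈ frattini R → (c • u)⁻¹ * c • v ∈ frattini R := by
      intro c u v huv
      rw [← smul_inv', ← smul_mul']
      exact (Subgroup.characteristic_iff_comap_eq.1 (frattini_characteristic (G := R))
        (MulDistribMulAction.toMulEquiv R c)).symm.le huv
    let act : MulAction (zpowers x) (R ⧸ frattini R) :=
      { smul := fun c => Quotient.map' (fun u => c • u) fun u v huv => by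
          rw [QuotientGroup.leftRel_apply] at huv ⊢
          exact hinv c u v huv
        one_smul := fun z => by
          induction z using QuotientGroup.induction_on with
          | H u => exact congrArg QuotientGroup.mk (one_smul (zpowers x) u)
        mul_smul := fun c d z => by
          induction z using QuotientGroup.induction_on with
          | H u => exact congrArg QuotientGroup.mk (mul_smul c d u) }
    rw [← QuotientGroup.eq]
    by_contra hne
    have horb : MulAction.orbit (zpowers x) (QuotientGroup.mk u : R ⧸ frattini R) ⊆ {z | z ≠ 1} := by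
      rintro _ ⟨d, rfl⟩ h1
      refine hne ?_
      have e1 : (QuotientGroup.mk u : R ⧸ frattini R) = 1 := by
        have h2 := congrArg (fun z => d⁻¹ • z) (show d • (QuotientGroup.mk u : R ⧸ frattini R) = 1 from h1)
        simp only [inv_smul_smul] at h2
        rw [h2]
        exact congrArg QuotientGroup.mk (smul_one d⁻¹)
      have e2 : c • (QuotientGroup.mk u : R ⧸ frattini R) = 1 := by
        rw [e1]; exact congrArg QuotientGroup.mk (smul_one c)
      exact e1.trans e2.symm
    have hcard : Nat.card (MulAction.orbit (zpowers x) (QuotientGroup.mk u : R ⧸ frattini R)) ≤ 3 := by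
      have := Fintype.ofFinite (R ⧸ frattini R)
      refine (Nat.card_mono (Set.toFinite _) horb).trans ?_
      rw [show Nat.card ({z : R ⧸ frattini R | z ≠ 1} : Set _) = Nat.card {z : R ⧸ frattini R // z ≠ 1} from rfl,
        Nat.card_eq_fintype_card, Fintype.card_subtype_compl, Fintype.card_subtype_eq]
      rw [Nat.card_eq_fintype_card] at hq4
      omega
    have hd := Nat.card_congr (MulAction.orbitEquivQuotientStabilizer (zpowers x) (QuotientGroup.mk u : R ⧸ frattini R))
    rw [← Subgroup.index_eq_card] at hd
    have hd2 : (MulAction.stabilizer (zpowers x) (QuotientGroup.mk u : R ⧸ frattini R)).index ∣ p := by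
      have := Subgroup.index_dvd_card (MulAction.stabilizer (zpowers x) (QuotientGroup.mk u : R ⧸ frattini R))
      rwa [Nat.card_zpowers, hx] at this
    rcases hp.eq_one_or_self_of_dvd _ hd2 with h1 | h1
    · exact hne ((Subgroup.index_eq_one.1 h1).symm.le (mem_top c) : c • (QuotientGroup.mk u : R ⧸ frattini R) = _).symm
    · omega

/-- A solvable group acting fixed-point-freely has few elements of each large prime order. -/
theorem fewLarge_of_isSolvable [Group.IsSolvable E] (h : CfsgLib.Frobenius.IsFpf φ) : FewLarge E := by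
  classical
  intro p hp h5
  have := Fact.mk hp
  set F := Cfsg.fittingSubgroup E
  have hFn : F.Normal := inferInstance
  have hFnil : Group.IsNilpotent F := CfsgLib.Solvable.isNilpotent_fittingSubgroup
  have hsyl : ∀ (r : ℕ) [Fact r.Prime], ∃ R : Subgroup E, R.Normal ∧ IsPGroup r R ∧
      ∀ y ∈ F, (∃ k, orderOf y = r ^ k) → y ∈ R := by
    intro r _
    obtain ⟨R⟩ : Nonempty (Sylow r F) := inferInstance
    have hRn : (R : Subgroup F).Normal :=
      Sylow.normal_of_normalizerCondition (Group.normalizerCondition_of_isNilpotent (G := F)) R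
    have := R.characteristic_of_normal hRn
    refine ⟨(R : Subgroup F).map F.subtype, inferInstance, R.isPGroup'.map _, fun y hy ⟨k, hk⟩ => ?_⟩
    obtain ⟨Q, hQ⟩ := (IsPGroup.of_card (p := r) (G := zpowers (⟨y, hy⟩ : F)) (n := k)
      (by rw [Nat.card_zpowers, orderOf_mk, hk])).exists_le_sylow
    have := Sylow.unique_of_normal R hRn
    exact ⟨⟨y, hy⟩, (Subsingleton.elim Q R) ▸ hQ (mem_zpowers _), rfl⟩
  have hmem : ∀ x : E, orderOf x = p → x ∈ F := by
    intro x hx
    refine CfsgLib.Fitting.centralizer_fittingSubgroup_le_of_solvable (mem_centralizer_iff.2 fun y hy => ?_)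
    have hle : F ≤ centralizer ({x} : Set E) := CfsgLib.FGSA.le_of_prime_power_mem fun r hr a ha hak => by
      have := Fact.mk hr
      obtain ⟨R, hRn, hRp, hR⟩ := hsyl r
      have := hRn
      exact mem_centralizer_singleton_iff.2 (fitting_commute h hp h5 hx hRp a (hR a ha hak)).symm.eq
    exact mem_centralizer_singleton_iff.1 (hle hy)
  obtain ⟨R, hRn, hRp, hR⟩ := hsyl p
  rcases cyclic_or_quaternion h hRp with hc | ⟨rfl, -⟩
  · let f : {x : E // orderOf x = p} → {z : R // z ^ p = 1 ∧ z ≠ 1} := fun x =>
      ⟨⟨x.1, hR x.1 (hmem x.1 x.2) ⟨1, by rw [x.2, pow_one]⟩⟩, Subtype.ext (by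
        rw [Subgroup.coe_pow]
        show (x.1 : E) ^ p = 1
        exact orderOf_dvd_iff_pow_eq_one.1 (dvd_of_eq x.2)), fun h' => hp.ne_one (by
        have h1 : (x.1 : E) = 1 := congrArg Subtype.val h'
        rw [← x.2, h1, orderOf_one])⟩
    have hf : Function.Injective f := fun a b hab =>
      Subtype.ext (congrArg (fun z : {z : R // z ^ p = 1 ∧ z ≠ 1} => ((z : R) : E)) hab)
    refine (Nat.card_le_card_of_injective f hf).trans ?_
    have := Fintype.ofFinite R
    have h1 := IsCyclic.card_pow_eq_one_le (α := R) hp.pos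
    rw [Nat.card_eq_fintype_card, Fintype.card_subtype]
    have h2 : (Finset.univ.filter fun z : R => z ^ p = 1 ∧ z ≠ 1) =
        (Finset.univ.filter fun z : R => z ^ p = 1).erase 1 := by
      ext z; simp [and_comm]
    rw [h2, Finset.card_erase_of_mem (by simp)]
    omega
  · omega

end Fpf

end CfsgLib.FrobeniusSolvable
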