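import Cfsg.Agent.FGSB.SquarefreeClass
import Cfsg.Agent.Solvable.Fitting

/-!
Structure of finite groups with square-free class sizes: abelian groups acted on by
reflections, and the bound on the derived subgroup.
-/

set_option autoImplicit false

namespace CfsgLib.SquarefreeStructure

open Subgroup
open scoped commutatorElement

variable {G : Type*} [Group G] [Finite G] {p : ℕ} [hp : Fact p.Prime]

omit [Finite G] hp in
theorem mem_of_pow_mem_of_coprime {S : Subgroup G} {x : G} {a b : ℕ} (ha : x ^ a ∈ S) (hb : x ^ b ∈ S)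
    (h : a.Coprime b) : x ∈ S := by
  have : x = (x ^ a) ^ Nat.gcdA a b * (x ^ b) ^ Nat.gcdB a b := by
    rw [← zpow_natCast x a, ← zpow_natCast x b, ← zpow_mul, ← zpow_mul, ← zpow_add, ← Nat.gcd_eq_gcd_ab,
      h.gcd_eq_one]
    simp
  rw [this]
  exact mul_mem (zpow_mem ha _) (zpow_mem hb _)

omit [Finite G] in
theorem eq_of_mem_of_dvd_prime [Finite G] {A B : Subgroup G} (hA : Nat.card A ∣ p) (hB : Nat.card B ∣ p)
    {x : G} (hxA : x ∈ A) (hxB : x ∈ B) (hx : x ≠ 1) : A = B := by
  have key : ∀ A : Subgroup G, Nat.card A ∣ p → x ∈ A → zpowers x = A := by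
    intro A hA hxA
    refine eq_of_le_of_card_ge (zpowers_le.2 hxA) (Nat.le_of_dvd Nat.card_pos ?_)
    rw [Nat.card_zpowers]
    have h1 := (A.orderOf_dvd_natCard hxA).trans hA
    rcases (Nat.dvd_prime hp.out).1 h1 with h | h
    · exact absurd (orderOf_eq_one_iff.1 h) hx
    · rw [h]; exact hA
  exact (key A hA hxA).symm.trans (key B hB hxB)

theorem relIndex_dvd_index_centralizer (V : Subgroup G) [V.Normal] (C : Subgroup G) :
    C.relIndex V ∣ C.index := by
  obtain ⟨t, ht⟩ := relIndex_dvd_index_of_normal V C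
  have h1 := relIndex_mul_index (inf_le_left : C ⊓ V ≤ C)
  have h2 := relIndex_mul_index (inf_le_right : C ⊓ V ≤ V)
  rw [inf_relIndex_left] at h1
  rw [inf_relIndex_right, ht, ← h1] at h2
  refine Dvd.intro t (Nat.eq_of_mul_eq_mul_left (Nat.pos_of_ne_zero (index_ne_zero_of_finite : V.relIndex C ≠ 0)) ?_)
  show V.relIndex C * _ = V.relIndex C * _
  rw [← h2]
  ring

/-- For a `p`-subgroup whose index of centralizers divides a square-free number, it divides `p`. -/
theorem relIndex_centralizer_dvd {V : Subgroup G} [V.Normal] (hV : IsPGroup p V) {x : G}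
    (hx : Squarefree (centralizer ({x} : Set G)).index) :
    (centralizer ({x} : Set G)).relIndex V ∣ p := by
  obtain ⟨a, ha⟩ := IsPGroup.iff_card.1 hV
  obtain ⟨b, -, hb⟩ := (Nat.dvd_prime_pow hp.out).1
    (show (centralizer ({x} : Set G)).relIndex V ∣ p ^ a from ha ▸ relIndex_dvd_card _ _)
  have h1 := hx.squarefree_of_dvd (hb ▸ relIndex_dvd_index_centralizer V (centralizer ({x} : Set G)))
  rw [hb]
  rcases b with _ | _ | b
  · simp
  · simp
  · exact absurd (Nat.isUnit_iff.1 (h1 p ⟨p ^ b, by ring⟩)) hp.out.ne_one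

omit [Finite G] hp in
theorem pow_conj_fix {h v l : G} (hl : h * l = l * h) (hv : h * v * h⁻¹ = l * v) :
    ∀ m : ℕ, h ^ m * v * (h ^ m)⁻¹ = l ^ m * v := by
  intro m
  induction m with
  | zero => simp
  | succ m ih =>
    calc h ^ (m + 1) * v * (h ^ (m + 1))⁻¹ = h * (h ^ m * v * (h ^ m)⁻¹) * h⁻¹ := by
          rw [pow_succ' h m]; group
      _ = h * l ^ m * h⁻¹ * (h * v * h⁻¹) := by rw [ih]; group
      _ = l ^ m * (l * v) := by
          rw [(Commute.pow_right (show Commute h l from hl) m).eq, mul_inv_cancel_right, hv]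
      _ = _ := by rw [pow_succ, mul_assoc]

/-- A group all of whose elements centralize a subgroup of index at most `p` of the elementary
abelian normal subgroup `V` and whose `p`-elements centralize `V` acts on `V` through a line. -/
theorem exists_line (V : Subgroup G) [hVn : V.Normal]
    (hcomm : ∀ u ∈ V, ∀ v ∈ V, u * v = v * u) (hexp : ∀ v ∈ V, v ^ p = 1)
    (hpel : ∀ u : G, (∃ k : ℕ, orderOf u = p ^ k) → ∀ v ∈ V, u * v = v * u)
    (hrk : ∀ g : G, (centralizer ({g} : Set G)).relIndex V ∣ p) :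
    ∃ L : Subgroup G, L ≤ V ∧ Nat.card L ∣ p ∧ L.Normal ∧ (∀ g : G, ∀ v ∈ V, g * v * g⁻¹ * v⁻¹ ∈ L) ∧
      ∀ g : G, (∀ l ∈ L, g * l = l * g) → ∀ v ∈ V, g * v = v * g := by
  classical
  -- an element whose `p`-th power centralizes `V` centralizes `V`
  have htor : ∀ g : G, g ^ p ∈ centralizer (V : Set G) → g ∈ centralizer (V : Set G) := by
    intro g hg
    refine mem_of_pow_mem_of_coprime hg (b := orderOf g / p ^ (orderOf g).factorization p) ?_
      (Nat.coprime_ordCompl hp.out (orderOf_pos g).ne')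
    refine mem_centralizer_iff.2 fun v hv => (hpel _ ⟨(orderOf g).factorization p, ?_⟩ v hv).symm
    rw [orderOf_pow_of_dvd (Nat.ordCompl_pos p (orderOf_pos g).ne').ne' (Nat.ordCompl_dvd _ _),
      Nat.div_div_self (Nat.ordProj_dvd _ _) (orderOf_pos g).ne']
  let _ : CommGroup V := { (inferInstance : Group V) with mul_comm := fun a b => Subtype.ext (hcomm _ a.2 _ b.2) }
  let α : G → V →* V := fun g => (MulAut.conjNormal g : V ≃* V).toMonoidHom
  let δ : G → V →* V := fun g => α g / MonoidHom.id V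
  have hδ : ∀ (g : G) (v : V), ((δ g v : V) : G) = g * v * g⁻¹ * (v : G)⁻¹ := by
    intro g v
    simp [δ, α, div_eq_mul_inv]
  let L : G → Subgroup G := fun g => (δ g).range.map V.subtype
  have hker : ∀ (g : G) (v : V), δ g v = 1 ↔ g * (v : G) = v * g := by
    intro g v
    rw [Subtype.ext_iff, hδ, coe_one, mul_inv_eq_one, mul_inv_eq_iff_eq_mul]
  have hLcard : ∀ g, Nat.card (L g) ∣ p := by
    intro g
    have hk : (centralizer ({g} : Set G)).subgroupOf V = (δ g).ker := by
      ext v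
      rw [mem_subgroupOf, mem_centralizer_singleton_iff, MonoidHom.mem_ker, hker, eq_comm]
    show Nat.card ((δ g).range.map V.subtype) ∣ p
    rw [card_map_of_injective V.subtype_injective, ← index_ker, ← hk]
    exact hrk g
  have hmem : ∀ (g : G) (v : V), g * (v : G) * g⁻¹ * (v : G)⁻¹ ∈ L g := fun g v =>
    ⟨δ g v, ⟨v, rfl⟩, hδ g v⟩
  -- if `g * v * g⁻¹ * v⁻¹` commutes with `g` then `g` centralizes `v`
  have hfix : ∀ (g : G) (v : V), g * (δ g v : G) = δ g v * g → g ^ p * (v : G) = v * g ^ p := by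
    intro g v hc
    have h1 := pow_conj_fix hc (v := (v : G)) (by rw [hδ]; group) p
    rw [hexp _ (δ g v).2, one_mul] at h1
    exact mul_inv_eq_iff_eq_mul.1 h1
  -- lines of two elements acting non-trivially coincide
  have hkey : ∀ g k : G, L g ≠ ⊥ → L k ≠ ⊥ → L g = L k := by
    intro g k hg hk
    have hne : ∀ g, L g ≠ ⊥ → (δ g).ker.index = p := by
      intro g hg
      rcases (Nat.dvd_prime hp.out).1 (hLcard g) with h | h
      · exact absurd (card_eq_one.1 h) hg
      · rw [index_ker, ← card_map_of_injective V.subtype_injective]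
        exact h
    by_cases hle : (δ k).ker ≤ (δ g).ker
    · -- equal kernels
      have hW : (δ k).ker = (δ g).ker := by
        refine eq_of_le_of_card_ge hle (le_of_eq ?_)
        have h1 := card_mul_index (δ g).ker
        rw [← card_mul_index (δ k).ker, hne g hg, hne k hk] at h1
        exact Nat.eq_of_mul_eq_mul_right hp.out.pos h1
      set W := (δ g).ker
      have hWfix : ∀ x : G, (x = g ∨ x = k) → ∀ w : V, w ∈ W → x * (w : G) = w * x := by
        rintro x (rfl | rfl) w hw
        · exact (hker x w).1 hw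
        · rw [← hW] at hw; exact (hker x w).1 hw
      obtain ⟨y, hy⟩ : ∃ y : V, y ∉ W := by
        by_contra hall
        push Not at hall
        have h1 := hne g hg
        rw [show (δ g).ker = ⊤ from eq_top_iff.2 fun a _ => hall a, index_top] at h1
        exact hp.out.ne_one h1.symm
      have hcard : Nat.card (V ⧸ W) = p := by rw [← index_eq_card]; exact hne g hg
      have hgen : ∀ (z : V), z ∉ W → ∀ a : V, ∃ i : ℕ, a * (z ^ i)⁻¹ ∈ W := by
        intro z hz a
        have hz1 : (z : V ⧸ W) ≠ 1 := fun h => hz ((QuotientGroup.eq_one_iff z).1 h)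
        obtain ⟨i, hi⟩ := mem_powers_of_prime_card hcard (g := (z : V ⧸ W)) (g' := (a : V ⧸ W)) hz1
        refine ⟨i, (QuotientGroup.eq_one_iff _).1 ?_⟩
        simp only at hi
        rw [QuotientGroup.mk_mul, QuotientGroup.mk_inv, QuotientGroup.mk_pow, hi, mul_inv_cancel]
      have hαW : ∀ x : G, (x = g ∨ x = k) → ∀ w : V, w ∈ W → α x w = w := by
        intro x hx w hw
        refine Subtype.ext ?_
        show ((MulAut.conjNormal x w : V) : G) = w
        rw [MulAut.conjNormal_apply, hWfix x hx w hw, mul_inv_cancel_right]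
      obtain ⟨j, hj⟩ := hgen y hy (α g y)
      obtain ⟨i, hi⟩ := hgen y hy (α k y)
      set z := α k (α g y) with hz
      have hzW : z ∉ W := by
        intro hzW
        have h1 : α g y = z := by
          refine (MulAut.conjNormal k : V ≃* V).injective ?_
          show α k (α g y) = α k z
          rw [hαW k (Or.inr rfl) z hzW]
        have h2 : y = z := by
          refine (MulAut.conjNormal g : V ≃* V).injective ?_
          show α g y = α g z
          rw [hαW g (Or.inl rfl) z hzW, h1]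
        exact hy (h2 ▸ hzW)
      obtain ⟨u, hu, huz⟩ : ∃ u ∈ W, α g (α k y) = u * z := by
        refine ⟨α k y * (y ^ i)⁻¹ * (α g y * (y ^ j)⁻¹) ^ i *
          ((α g y * (y ^ j)⁻¹) * (α k y * (y ^ i)⁻¹) ^ j)⁻¹,
          mul_mem (mul_mem hi (pow_mem hj _)) (inv_mem (mul_mem hj (pow_mem hi _))), ?_⟩
        have e1 : α g (α k y) = α k y * (y ^ i)⁻¹ * (α g y) ^ i := by
          conv_lhs => rw [show α k y = α k y * (y ^ i)⁻¹ * y ^ i by simp]
          rw [map_mul, hαW g (Or.inl rfl) _ hi, map_pow]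
        have e2 : z = α g y * (y ^ j)⁻¹ * (α k y) ^ j := by
          rw [hz]
          conv_lhs => rw [show α g y = α g y * (y ^ j)⁻¹ * y ^ j by simp]
          rw [map_mul, hαW k (Or.inr rfl) _ hj, map_pow]
        rw [e1, e2]
        simp only [mul_pow, inv_pow, mul_inv_rev, inv_inv, ← pow_mul, mul_comm j i]
        rw [← div_eq_one]
        simp [div_eq_mul_inv, mul_comm, mul_assoc, mul_left_comm]
      -- the commutator centralizes `V`
      set c := g * k * g⁻¹ * k⁻¹ with hcdef
      have hcz : c * (z : G) * c⁻¹ = (u : G) * z := by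
        rw [← coe_mul, ← huz, hz, hcdef]
        simp [α, mul_assoc]
      have hcW : ∀ w : V, w ∈ W → c * (w : G) = w * c := by
        intro w hw
        have h1 : Commute g (w : G) := hWfix g (Or.inl rfl) w hw
        have h2 : Commute k (w : G) := hWfix k (Or.inr rfl) w hw
        exact (((h1.mul_left h2).mul_left h1.inv_left).mul_left h2.inv_left).eq
      have hcV : c ∈ centralizer (V : Set G) := by
        refine htor c (mem_centralizer_iff.2 fun a ha => ?_)
        have h1 := pow_conj_fix (hcW u hu) hcz p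
        rw [hexp _ u.2, one_mul, mul_inv_eq_iff_eq_mul] at h1
        obtain ⟨m, hm⟩ := hgen z hzW ⟨a, ha⟩
        have h2 : Commute (c ^ p) ((⟨a, ha⟩ * (z ^ m)⁻¹ : V) : G) :=
          Commute.pow_left (hcW _ hm) p
        have h3 : Commute (c ^ p) (((z : G)) ^ m) := Commute.pow_right h1 m
        have h4 := h2.mul_right h3
        simp only [coe_mul, coe_inv, SubmonoidClass.coe_pow, inv_mul_cancel_right] at h4
        exact h4.eq.symm
      have hαc : ∀ a : V, α g (α k a) = α k (α g a) := by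
        intro a
        refine Subtype.ext ?_
        have h1 := mem_centralizer_iff.1 hcV _ (α k (α g a)).2
        have h2 : ((α g (α k a) : V) : G) = c * ((α k (α g a) : V) : G) * c⁻¹ := by
          simp [α, hcdef, mul_assoc]
        rw [h2, ← h1, mul_inv_cancel_right]
      have hl : δ g y ∉ W := by
        intro hl
        have h1 : g ∈ centralizer (V : Set G) := by
          refine htor g (mem_centralizer_iff.2 fun a ha => ?_)
          have h1 := hfix g y (hWfix g (Or.inl rfl) _ hl)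
          obtain ⟨m, hm⟩ := hgen y hy ⟨a, ha⟩
          have h2 : Commute (g ^ p) ((⟨a, ha⟩ * (y ^ m)⁻¹ : V) : G) :=
            Commute.pow_left (hWfix g (Or.inl rfl) _ hm) p
          have h4 := h2.mul_right (Commute.pow_right h1 m)
          simp only [coe_mul, coe_inv, SubmonoidClass.coe_pow, inv_mul_cancel_right] at h4
          exact h4.eq.symm
        exact hy ((hker g y).2 (mem_centralizer_iff.1 h1 y y.2).symm)
      have hswap : δ g (δ k y) = δ k (δ g y) := by
        simp only [δ, MonoidHom.div_apply, MonoidHom.id_apply, map_div, hαc]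
        simp [div_eq_mul_inv, mul_comm, mul_left_comm, mul_assoc]
      refine eq_of_mem_of_dvd_prime (hLcard g) (hLcard k) (x := (δ k (δ g y) : G)) ?_ ?_ ?_
      · rw [← hswap]; exact ⟨_, ⟨_, rfl⟩, rfl⟩
      · exact ⟨_, ⟨_, rfl⟩, rfl⟩
      · intro h
        refine hl ?_
        rw [← hW]
        exact Subtype.ext h
    · obtain ⟨x, hxk, hxg⟩ := SetLike.not_le_iff_exists.1 hle
      obtain ⟨y, hyg, hyk⟩ : ∃ y ∈ (δ g).ker, y ∉ (δ k).ker := by
        by_contra hall
        push Not at hall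
        refine hle (le_of_eq (eq_of_le_of_card_ge hall (le_of_eq ?_)).symm)
        have h1 := card_mul_index (δ g).ker
        rw [← card_mul_index (δ k).ker, hne g hg, hne k hk] at h1
        exact (Nat.eq_of_mul_eq_mul_right hp.out.pos h1).symm
      have hx1 : k * (x : G) = x * k := (hker k x).1 hxk
      have hy1 : g * (y : G) = y * g := (hker g y).1 hyg
      have hgx : g * (x : G) * g⁻¹ * (x : G)⁻¹ ≠ 1 := fun h => hxg (Subtype.ext ((hδ g x).trans h))
      have hky : k * (y : G) * k⁻¹ * (y : G)⁻¹ ≠ 1 := fun h => hyk (Subtype.ext ((hδ k y).trans h))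
      have e1 : g * k * (x : G) * (g * k)⁻¹ * (x : G)⁻¹ = g * x * g⁻¹ * (x : G)⁻¹ := by
        rw [mul_assoc g k (x : G), hx1]; group
      have e2 : g * k * (y : G) * (g * k)⁻¹ * (y : G)⁻¹ = g * (k * y * k⁻¹ * (y : G)⁻¹) * g⁻¹ := by
        calc g * k * (y : G) * (g * k)⁻¹ * (y : G)⁻¹
            = g * (k * y * k⁻¹ * (y : G)⁻¹) * ((y : G) * g⁻¹ * (y : G)⁻¹) := by group
          _ = _ := by rw [(Commute.inv_left (show Commute g (y : G) from hy1)).symm.eq, mul_inv_cancel_right]
      have hgk : L g = L (g * k) := eq_of_mem_of_dvd_prime (hLcard g) (hLcard _) (hmem g x)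
        (e1 ▸ hmem (g * k) x) hgx
      refine eq_of_mem_of_dvd_prime (hLcard g) (hLcard k) ?_ (hmem k y) hky
      have h5 : g * (k * y * k⁻¹ * (y : G)⁻¹) * g⁻¹ ∈ L g := hgk ▸ e2 ▸ hmem (g * k) y
      obtain ⟨_, ⟨v, rfl⟩, hv⟩ := h5
      have h6 : k * y * k⁻¹ * (y : G)⁻¹ = g⁻¹ * (δ g v : G) * g := by
        rw [show (δ g v : G) = _ from hv]; group
      rw [h6]
      have h7 := hmem g ⟨g⁻¹ * v * g, by simpa using hVn.conj_mem _ v.2 g⁻¹⟩
      simp only at h7
      convert h7 using 1
      rw [hδ]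
      group
  by_cases hall : ∀ g, L g = ⊥
  · refine ⟨⊥, bot_le, by simp, inferInstance, fun g v hv => hall g ▸ hmem g ⟨v, hv⟩, ?_⟩
    intro g _ v hv
    have h1 : g * v * g⁻¹ * v⁻¹ ∈ (⊥ : Subgroup G) := hall g ▸ hmem g ⟨v, hv⟩
    exact mul_inv_eq_iff_eq_mul.1 (mul_inv_eq_one.1 (mem_bot.1 h1))
  push Not at hall
  obtain ⟨g₀, hg₀⟩ := hall
  have hall' : ∀ g, L g ≤ L g₀ := fun g => by
    by_cases h : L g = ⊥
    · rw [h]; exact bot_le
    · exact (hkey g g₀ h hg₀).le
  refine ⟨L g₀, map_subtype_le _, hLcard g₀, ⟨?_⟩, fun g v hv => hall' g (hmem g ⟨v, hv⟩), ?_⟩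
  · rintro _ ⟨_, ⟨v, rfl⟩, rfl⟩ a
    have h1 := hall' _ (hmem (a * g₀ * a⁻¹) ⟨a * v * a⁻¹, hVn.conj_mem _ v.2 a⟩)
    simp only at h1
    convert h1 using 1
    show a * (δ g₀ v : G) * a⁻¹ = _
    rw [hδ]
    group
  · intro g hg v hv
    have h1 : g * (δ g ⟨v, hv⟩ : G) = δ g ⟨v, hv⟩ * g := hg _ (hall' g ⟨_, ⟨_, rfl⟩, rfl⟩)
    have h2 : g ^ p ∈ centralizer (V : Set G) := mem_centralizer_iff.2 fun a ha =>
      (hfix g ⟨a, ha⟩ (hg _ (hall' g ⟨_, ⟨_, rfl⟩, rfl⟩))).symm
    exact (mem_centralizer_iff.1 (htor g h2) v hv).symm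

end CfsgLib.SquarefreeStructure

namespace CfsgLib.SquarefreeStructure

open Subgroup
open scoped commutatorElement

variable {G : Type*} [Group G] [Finite G]

theorem mem_center_commutator {p : ℕ} [Fact p.Prime] (h : ∀ x : G, Squarefree (centralizer ({x} : Set G)).index)
    (P : Sylow p G) :
    (∀ u ∈ (P : Subgroup G), u ^ p ∈ center G) ∧
      ∀ u ∈ (P : Subgroup G), ∀ v ∈ (P : Subgroup G), u * v * u⁻¹ * v⁻¹ ∈ center G :=
  SquarefreeClass.pow_and_commutator_mem_center
    (fun x hd => (Fact.out : p.Prime).ne_one (Nat.isUnit_iff.1 (h x p (by rwa [← sq])))) P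

omit [Finite G] in
theorem commute_mk_iff {a b : G} :
    Commute (QuotientGroup.mk' (center G) a) (QuotientGroup.mk' (center G) b) ↔
      a * b * a⁻¹ * b⁻¹ ∈ center G := by
  rw [← QuotientGroup.eq_one_iff, commute_iff_eq, ← map_mul, ← map_mul]
  simp only [QuotientGroup.mk'_apply, QuotientGroup.mk_mul, QuotientGroup.mk_inv]
  rw [mul_inv_eq_one, mul_inv_eq_iff_eq_mul]

/-- The structure of `G` modulo its Fitting subgroup, and `[F(G), F(G)] ≤ Z(G)`. -/
theorem fitting_facts (h : ∀ x : G, Squarefree (centralizer ({x} : Set G)).index) :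
    (Cfsg.fittingSubgroup G).Normal ∧ commutator G ≤ Cfsg.fittingSubgroup G ∧
      Squarefree (Cfsg.fittingSubgroup G).index ∧
      ∀ a ∈ Cfsg.fittingSubgroup G, ∀ b ∈ Cfsg.fittingSubgroup G, a * b * a⁻¹ * b⁻¹ ∈ center G := by
  classical
  have hsol : Group.IsSolvable G := SquarefreeClass.isSolvable h
  set π := QuotientGroup.mk' (center G) with hπ
  have hπs : Function.Surjective π := QuotientGroup.mk'_surjective _
  let V : Nat.Primes → Subgroup (G ⧸ center G) := fun p => (Cfsg.pCore p G).map π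
  have hcore : ∀ p : Nat.Primes, (Cfsg.pCore p G).Normal := fun p => (CfsgLib.Solvable.pCore_spec (p : ℕ)).1
  have hVn : ∀ p, (V p).Normal := fun p => (hcore p).map _ hπs
  have hline : ∀ p : Nat.Primes, ∃ L : Subgroup (G ⧸ center G), L ≤ V p ∧ Nat.card L ∣ (p : ℕ) ∧ L.Normal ∧
      ∀ g, (∀ l ∈ L, g * l = l * g) → ∀ v ∈ V p, g * v = v * g := by
    intro p
    have := Fact.mk p.2
    have := hVn p
    obtain ⟨P⟩ : Nonempty (Sylow (p : ℕ) G) := inferInstance
    have hle : Cfsg.pCore p G ≤ (P : Subgroup G) := CfsgLib.Fitting.pCore_le_sylow P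
    obtain ⟨L, h1, h2, h3, -, h5⟩ := exists_line (p := (p : ℕ)) (V p)
      (by
        rintro _ ⟨u, hu, rfl⟩ _ ⟨v, hv, rfl⟩
        exact (commute_mk_iff.2 ((mem_center_commutator h P).2 u (hle hu) v (hle hv))).eq)
      (by
        rintro _ ⟨u, hu, rfl⟩
        rw [← map_pow]
        exact (QuotientGroup.eq_one_iff _).2 ((mem_center_commutator h P).1 u (hle hu)))
      (by
        rintro u ⟨k, hk⟩ _ ⟨v, hv, rfl⟩
        obtain ⟨Q, hQ⟩ := (IsPGroup.of_card (p := (p : ℕ)) (n := k) (G := zpowers u)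
          (by rw [Nat.card_zpowers, hk])).exists_le_sylow
        obtain ⟨c, hc⟩ := MulAction.exists_smul_eq (G ⧸ center G) (P.mapSurjective hπs) Q
        have hu : u ∈ (Q : Subgroup (G ⧸ center G)) := hQ (mem_zpowers u)
        rw [← hc] at hu
        obtain ⟨w', hw', rfl⟩ := hu
        obtain ⟨w, hw, rfl⟩ := (Sylow.coe_mapSurjective hπs P) ▸ hw'
        obtain ⟨d, rfl⟩ := hπs c
        show (π d * π w * (π d)⁻¹) * π v = π v * (π d * π w * (π d)⁻¹)
        have hv' : d⁻¹ * v * d ∈ Cfsg.pCore p G := by simpa using (hcore p).conj_mem _ hv d⁻¹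
        have h1 := (commute_mk_iff.2 ((mem_center_commutator h P).2 w hw _ (hle hv'))).eq
        have h2 : π v = π d * π (d⁻¹ * v * d) * (π d)⁻¹ := by rw [map_mul, map_mul, map_inv]; group
        rw [h2]
        calc π d * π w * (π d)⁻¹ * (π d * π (d⁻¹ * v * d) * (π d)⁻¹)
            = π d * (π w * π (d⁻¹ * v * d)) * (π d)⁻¹ := by group
          _ = π d * (π (d⁻¹ * v * d) * π w) * (π d)⁻¹ := by rw [h1]
          _ = _ := by group)
      (fun g => relIndex_centralizer_dvd ((CfsgLib.Solvable.isPGroup_pCore (p := (p : ℕ))).map π) (by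
        obtain ⟨x, rfl⟩ := hπs g
        exact (h x).squarefree_of_dvd (SquarefreeClass.index_centralizer_map_dvd π hπs x)))
    exact ⟨L, h1, h2, h3, h5⟩
  choose L hLV hLcard hLn hLfix using hline
  -- the kernel of all these actions
  set Kb : Subgroup (G ⧸ center G) := ⨅ p, centralizer (V p : Set (G ⧸ center G))
  set K := Kb.comap π with hKdef
  have hFn : (Cfsg.fittingSubgroup G).Normal := inferInstance
  have hKbn : Kb.Normal := normal_iInf_normal fun p => by have := hVn p; infer_instance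
  have hKn : K.Normal := hKbn.comap π
  set F := Cfsg.fittingSubgroup G
  have hFpart : F = ⨆ p : Nat.Primes, Cfsg.pCore p G := CfsgLib.Solvable.fittingSubgroup_eq_iSup_pCore
  have hKF' : ∀ k ∈ K, ∀ f ∈ F, k * f * k⁻¹ * f⁻¹ ∈ center G := by
    intro k hk f hf
    have hle : F ≤ (centralizer ({π k} : Set (G ⧸ center G))).comap π := by
      rw [hFpart]
      refine iSup_le fun p v hv => ?_
      rw [mem_comap, mem_centralizer_singleton_iff]
      exact mem_centralizer_iff.1 (mem_iInf.1 hk p) _ ⟨v, hv, rfl⟩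
    exact commute_mk_iff.1 (mem_centralizer_singleton_iff.1 (hle hf)).symm
  have hFK : F ≤ K := by
    rw [hFpart]
    refine iSup_le fun q v hv => ?_
    refine mem_iInf.2 fun p => mem_centralizer_iff.2 ?_
    rintro _ ⟨u, hu, rfl⟩
    have := Fact.mk p.2
    have := Fact.mk q.2
    by_cases hpq : p = q
    · subst hpq
      obtain ⟨P⟩ : Nonempty (Sylow (p : ℕ) G) := inferInstance
      exact (commute_mk_iff.2 ((mem_center_commutator h P).2 u (CfsgLib.Fitting.pCore_le_sylow P hu) v
        (CfsgLib.Fitting.pCore_le_sylow P hv))).eq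
    · exact ((commute_of_normal_of_disjoint _ _ (hcore p) (hcore q)
        ((IsPGroup.disjoint_of_ne (p : ℕ) (q : ℕ) (fun e => hpq (Subtype.ext e)) _ _
          (CfsgLib.Solvable.isPGroup_pCore _) (CfsgLib.Solvable.isPGroup_pCore _))) u v hu hv).map π).eq
  have hKnil : Group.IsNilpotent K := by
    refine Group.IsNilpotent.mk ⟨3, eq_top_iff.2 fun a _ => ?_⟩
    rw [Subgroup.mem_upperCentralSeries_succ_iff]
    intro b
    rw [Subgroup.mem_upperCentralSeries_succ_iff]
    intro c
    rw [Subgroup.upperCentralSeries_one, mem_center_iff]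
    intro d
    -- `⁅a, b⁆` centralizes `F`, so lies in `F`
    have hC : ((⁅a, b⁆ : K) : G) ∈ centralizer (F : Set G) := by
      refine mem_centralizer_iff.2 fun f hf => ?_
      have ha := hKF' _ a.2 f hf
      have hb := hKF' _ b.2 f hf
      set za := (a : G) * f * (a : G)⁻¹ * f⁻¹ with hza
      set zb := (b : G) * f * (b : G)⁻¹ * f⁻¹ with hzb
      have hab : ((a : G) * b) * f * ((a : G) * b)⁻¹ = za * zb * f := by
        calc ((a : G) * b) * f * ((a : G) * b)⁻¹ = (a : G) * (zb * f) * (a : G)⁻¹ := by rw [hzb]; group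
          _ = zb * ((a : G) * f * (a : G)⁻¹) := by
              rw [← mul_assoc, mem_center_iff.1 hb (a : G)]; group
          _ = _ := by rw [show (a : G) * f * (a : G)⁻¹ = za * f by rw [hza]; group, ← mul_assoc, mem_center_iff.1 ha zb]
      have hba : ((b : G) * a) * f * ((b : G) * a)⁻¹ = za * zb * f := by
        calc ((b : G) * a) * f * ((b : G) * a)⁻¹ = (b : G) * (za * f) * (b : G)⁻¹ := by rw [hza]; group
          _ = za * ((b : G) * f * (b : G)⁻¹) := by
              rw [← mul_assoc, mem_center_iff.1 ha (b : G)]; group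
          _ = _ := by rw [show (b : G) * f * (b : G)⁻¹ = zb * f by rw [hzb]; group, ← mul_assoc]
      have heq := hab.trans hba.symm
      simp only [coe_mul, commutatorElement_def, InvMemClass.coe_inv]
      calc f * ((a : G) * b * (a : G)⁻¹ * (b : G)⁻¹)
          = ((b : G) * a) * (((b : G) * a)⁻¹ * f * ((b : G) * a)) * ((b : G) * a)⁻¹ *
              ((a : G) * b * (a : G)⁻¹ * (b : G)⁻¹) := by group
        _ = ((a : G) * b) * (((b : G) * a)⁻¹ * f * ((b : G) * a)) * ((a : G) * b)⁻¹ *
              ((a : G) * b * (a : G)⁻¹ * (b : G)⁻¹) := by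
            have hf' : ((b : G) * a)⁻¹ * f * ((b : G) * a) ∈ F := by
              simpa using hFn.conj_mem _ hf ((b : G) * a)⁻¹
            generalize ((b : G) * a)⁻¹ * f * ((b : G) * a) = f' at hf'
            have e : ∀ (x y : G), x * f' * x⁻¹ * f'⁻¹ ∈ center G → y * f' * y⁻¹ * f'⁻¹ ∈ center G →
                (x * y) * f' * (x * y)⁻¹ = (y * f' * y⁻¹ * f'⁻¹) * (x * f' * x⁻¹ * f'⁻¹) * f' := by
              intro x y _ hy
              calc (x * y) * f' * (x * y)⁻¹ = x * (y * f' * y⁻¹ * f'⁻¹) * (f' * x⁻¹) := by group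
                _ = (y * f' * y⁻¹ * f'⁻¹) * x * (f' * x⁻¹) := by rw [mem_center_iff.1 hy x]
                _ = _ := by group
            rw [e _ _ (hKF' _ b.2 f' hf') (hKF' _ a.2 f' hf'), e _ _ (hKF' _ a.2 f' hf') (hKF' _ b.2 f' hf'),
              mem_center_iff.1 (hKF' _ b.2 f' hf') ((a : G) * f' * (a : G)⁻¹ * f'⁻¹)]
        _ = _ := by group
    have hF' : ((⁅a, b⁆ : K) : G) ∈ F := CfsgLib.Fitting.centralizer_fittingSubgroup_le_of_solvable hC
    have h1 := hKF' _ c.2 _ hF'
    refine Subtype.ext ?_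
    show (d : G) * ((⁅⁅a, b⁆, c⁆ : K) : G) = ((⁅⁅a, b⁆, c⁆ : K) : G) * d
    have h2 : ((⁅⁅a, b⁆, c⁆ : K) : G) ∈ center G := by
      have h3 := inv_mem h1
      simpa [commutatorElement_def, mul_assoc] using h3
    exact mem_center_iff.1 h2 (d : G)
  have hKle : K ≤ F := CfsgLib.Solvable.le_fittingSubgroup hKn hKnil
  have hKeq : K = F := le_antisymm hKle hFK
  refine ⟨hKeq ▸ hKn, ?_, ?_, fun a ha b hb => hKF' a (hFK ha) b hb⟩
  · rw [_root_.commutator_def, commutator_le]
    intro a _ b _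
    refine hKle (mem_iInf.2 fun p => mem_centralizer_iff.2 fun v hv => (hLfix p _ ?_ v hv).symm)
    intro l hl
    have := Fact.mk p.2
    have := hLn p
    have : IsCyclic (L p) := isCyclic_of_card_dvd_prime (hLcard p)
    obtain ⟨g, hg⟩ := IsCyclic.exists_generator (α := L p)
    have hc : ∀ (x y : MulAut (L p)), x * y = y * x := by
      intro x y
      obtain ⟨i, hi⟩ := MonoidHom.map_cyclic x.toMonoidHom
      obtain ⟨j, hj⟩ := MonoidHom.map_cyclic y.toMonoidHom
      simp only [MulEquiv.coe_toMonoidHom] at hi hj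
      refine MulEquiv.ext fun z => ?_
      rw [MulAut.mul_apply, MulAut.mul_apply, hi, hj, hj, hi, ← zpow_mul, ← zpow_mul, mul_comm]
    have h1 : MulAut.conjNormal (π ⁅a, b⁆) = (1 : MulAut (L p)) := by
      rw [map_commutatorElement, map_commutatorElement, commutatorElement_eq_one_iff_mul_comm, hc]
    have h2 := congrArg (fun τ : MulAut (L p) => (τ ⟨l, hl⟩ : G ⧸ center G)) h1
    simp only [MulAut.conjNormal_apply, MulAut.one_apply] at h2
    exact mul_inv_eq_iff_eq_mul.1 h2
  · -- an element whose centralizer lies in `K`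
    have key : ∀ s : Finset Nat.Primes, ∃ v ∈ F.map π,
        (∀ q : Nat.Primes, (q : ℕ) ∣ orderOf v → q ∈ s) ∧
        ∀ g, g * v = v * g → ∀ p ∈ s, ∀ l ∈ L p, g * l = l * g := by
      intro s
      induction s using Finset.induction_on with
      | empty => exact ⟨1, one_mem _, fun q hq => absurd (Nat.dvd_one.1 (orderOf_one (G := G ⧸ center G) ▸ hq)) q.2.ne_one,
          fun _ _ p hp => absurd hp (by simp)⟩
      | insert p s hps ih =>
        obtain ⟨v, hv, hvo, hvc⟩ := ih
        have := Fact.mk p.2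
        have : IsCyclic (L p) := isCyclic_of_card_dvd_prime (hLcard p)
        obtain ⟨l, hl⟩ := IsCyclic.exists_generator (α := L p)
        have hlo : orderOf (l : G ⧸ center G) ∣ (p : ℕ) := ((L p).orderOf_dvd_natCard l.2).trans (hLcard p)
        have hlF : (l : G ⧸ center G) ∈ F.map π := by
          refine map_mono ?_ (hLV p l.2)
          rw [hFpart]
          exact le_iSup (fun q : Nat.Primes => Cfsg.pCore q G) p
        have hvl : Commute v (l : G ⧸ center G) := by
          obtain ⟨u, hu, rfl⟩ := hv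
          obtain ⟨w, hw, he⟩ := hlF
          rw [← he]
          exact commute_mk_iff.2 (hKF' u (hFK hu) w hw)
        refine ⟨v * l, mul_mem hv hlF, fun q hq => ?_, fun g hg r hr => ?_⟩
        · have h1 := (hq.trans hvl.orderOf_mul_dvd_lcm).trans (Nat.lcm_dvd_mul _ _)
          rcases q.2.dvd_mul.1 h1 with h | h
          · exact Finset.mem_insert_of_mem (hvo q h)
          · exact Finset.mem_insert.2 (Or.inl (Subtype.ext ((Nat.prime_dvd_prime_iff_eq q.2 p.2).1 (h.trans hlo))))
        · have hgl : g * (l : G ⧸ center G) = l * g := by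
            have h1 : (l : G ⧸ center G) ∈ centralizer ({g} : Set (G ⧸ center G)) := by
              refine mem_of_pow_mem_of_coprime (a := orderOf v) (b := (p : ℕ)) ?_ ?_ ?_
              · have h2 : (l : G ⧸ center G) ^ orderOf v = (v * l) ^ orderOf v := by
                  rw [hvl.mul_pow, pow_orderOf_eq_one, one_mul]
                rw [h2]
                exact pow_mem (mem_centralizer_singleton_iff.2 hg.symm) _
              · rw [orderOf_dvd_iff_pow_eq_one.1 hlo]; exact one_mem _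
              · exact (Nat.Prime.coprime_iff_not_dvd p.2).2 (fun h => hps (hvo p h)) |>.symm
            exact (mem_centralizer_singleton_iff.1 h1).symm
          rcases Finset.mem_insert.1 hr with rfl | hr
          · intro m hm
            obtain ⟨i, hi⟩ := hl ⟨m, hm⟩
            rw [show m = (l : G ⧸ center G) ^ i from (congrArg Subtype.val hi).symm]
            exact (Commute.zpow_right (show Commute g (l : G ⧸ center G) from hgl) i).eq
          · refine hvc g ?_ r hr
            have : Commute g (v * l * (l : G ⧸ center G)⁻¹) :=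
              Commute.mul_right hg (Commute.inv_right hgl)
            simpa using this.eq
    obtain ⟨s, hs⟩ : ∃ s : Finset Nat.Primes, ∀ p : Nat.Primes, (p : ℕ) ∣ Nat.card G → p ∈ s :=
      ⟨(Nat.card G).primeFactors.attach.image fun q => ⟨q.1, Nat.prime_of_mem_primeFactors q.2⟩,
        fun p hp => Finset.mem_image.2 ⟨⟨p, Nat.mem_primeFactors.2 ⟨p.2, hp, Nat.card_pos.ne'⟩⟩,
          Finset.mem_attach _ _, rfl⟩⟩
    obtain ⟨v, hv, -, hvc⟩ := key s
    obtain ⟨x, -, rfl⟩ := hv
    have hle : (centralizer ({π x} : Set (G ⧸ center G))).comap π ≤ K := by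
      intro g hg
      refine mem_iInf.2 fun p => mem_centralizer_iff.2 fun w hw => ?_
      by_cases hpd : (p : ℕ) ∣ Nat.card G
      · exact (hLfix p _ (hvc _ (mem_centralizer_singleton_iff.1 hg) p (hs p hpd)) w hw).symm
      · obtain ⟨u, hu, rfl⟩ := hw
        have := Fact.mk p.2
        obtain ⟨a, ha⟩ := IsPGroup.iff_card.1 (CfsgLib.Solvable.isPGroup_pCore (p := (p : ℕ)) (G := G))
        have ha0 : a = 0 := by
          by_contra ha0
          exact hpd ((ha ▸ dvd_pow_self (p : ℕ) ha0).trans (card_subgroup_dvd_card _))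
        rw [ha0, pow_zero] at ha
        have hu1 : u = 1 := mem_bot.1 (card_eq_one.1 ha ▸ hu)
        rw [hu1, map_one, mul_one, one_mul]
    rw [← hKeq]
    refine ((h x).squarefree_of_dvd (SquarefreeClass.index_centralizer_map_dvd π hπs x)).squarefree_of_dvd ?_
    rw [← index_comap_of_surjective _ hπs]
    exact index_dvd_of_le hle

end CfsgLib.SquarefreeStructure

namespace CfsgLib.SquarefreeStructure

open Subgroup
open scoped commutatorElement

variable {G : Type*} [Group G] [Finite G] {p : ℕ} [hp : Fact p.Prime]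

omit hp in
theorem exists_commutator_range (P : Subgroup G) (x : G)
    (hmul : ∀ v ∈ P, ∀ w ∈ P, x * (v * w) * x⁻¹ * (v * w)⁻¹ = (x * v * x⁻¹ * v⁻¹) * (x * w * x⁻¹ * w⁻¹)) :
    ∃ D : Subgroup G, Nat.card D = (centralizer ({x} : Set G)).relIndex P ∧
      (∀ v ∈ P, x * v * x⁻¹ * v⁻¹ ∈ D) ∧ ∀ d ∈ D, ∃ v ∈ P, d = x * v * x⁻¹ * v⁻¹ := by
  let φ : P →* G := MonoidHom.mk' (fun v => x * (v : G) * x⁻¹ * (v : G)⁻¹) fun v w => hmul _ v.2 _ w.2
  refine ⟨φ.range, ?_, fun v hv => ⟨⟨v, hv⟩, rfl⟩, ?_⟩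
  · rw [← index_ker]
    show φ.ker.index = ((centralizer ({x} : Set G)).subgroupOf P).index
    congr 1
    ext v
    simp only [MonoidHom.mem_ker, mem_subgroupOf, mem_centralizer_singleton_iff]
    show x * (v : G) * x⁻¹ * (v : G)⁻¹ = 1 ↔ _
    rw [mul_inv_eq_one, mul_inv_eq_iff_eq_mul, eq_comm]
  · rintro d ⟨⟨v, hv⟩, rfl⟩
    exact ⟨v, hv, rfl⟩

/-- If `O_{p'}(G) = 1` then the derived subgroup has order at most `p`. -/
theorem card_commutator_dvd (h : ∀ x : G, Squarefree (centralizer ({x} : Set G)).index)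
    (hO : Cfsg.pPrimeCore p G = ⊥) : Nat.card (commutator G) ∣ p := by
  classical
  have : Group.IsSolvable G := SquarefreeClass.isSolvable h
  obtain ⟨hFn, hGF, hsq, -⟩ := fitting_facts h
  have hF : Cfsg.fittingSubgroup G = Cfsg.pCore p G := CfsgLib.Fitting.fittingSubgroup_eq_pCore hO
  obtain ⟨P⟩ : Nonempty (Sylow p G) := inferInstance
  have hFP : Cfsg.fittingSubgroup G ≤ (P : Subgroup G) := hF ▸ CfsgLib.Fitting.pCore_le_sylow P
  have hPn : (P : Subgroup G).Normal := ⟨fun a ha g => by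
    have h1 : ⁅g, a⁆ ∈ (P : Subgroup G) :=
      hFP (hGF (commutator_mem_commutator (mem_top g) (mem_top a)))
    have := mul_mem h1 ha
    simpa [commutatorElement_def] using this⟩
  have hcycF : IsCyclic (G ⧸ Cfsg.fittingSubgroup G) := by
    have : IsZGroup (G ⧸ Cfsg.fittingSubgroup G) := IsZGroup.of_squarefree (by rwa [← index_eq_card])
    have : Group.IsNilpotent (G ⧸ Cfsg.fittingSubgroup G) := by
      let _ : CommGroup (G ⧸ Cfsg.fittingSubgroup G) :=
        { (inferInstance : Group (G ⧸ Cfsg.fittingSubgroup G)) with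
          mul_comm := fun a b => by
            obtain ⟨a, rfl⟩ := QuotientGroup.mk_surjective a
            obtain ⟨b, rfl⟩ := QuotientGroup.mk_surjective b
            rw [← QuotientGroup.mk_mul, ← QuotientGroup.mk_mul, QuotientGroup.eq]
            refine hGF ?_
            have h1 : ⁅b⁻¹, a⁻¹⁆ ∈ commutator G := commutator_mem_commutator (mem_top _) (mem_top _)
            simpa [commutatorElement_def, mul_assoc] using h1 }
      infer_instance
    infer_instance
  have hcyc : IsCyclic (G ⧸ (P : Subgroup G)) := by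
    refine isCyclic_of_surjective (QuotientGroup.map (Cfsg.fittingSubgroup G) (P : Subgroup G) (MonoidHom.id G) hFP) ?_
    intro z
    obtain ⟨g, rfl⟩ := QuotientGroup.mk_surjective z
    exact ⟨QuotientGroup.mk g, rfl⟩
  obtain ⟨gb, hgb⟩ := IsCyclic.exists_generator (α := G ⧸ (P : Subgroup G))
  obtain ⟨g, rfl⟩ := QuotientGroup.mk_surjective gb
  set h₀ := g ^ p ^ (orderOf g).factorization p with hh₀
  have hh₀o : (orderOf h₀).Coprime p := by
    rw [hh₀, orderOf_pow_of_dvd (pow_ne_zero _ hp.out.ne_zero) (Nat.ordProj_dvd _ _)]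
    exact (Nat.coprime_ordCompl hp.out (orderOf_pos g).ne').symm
  have hdec : ∀ x : G, ∃ u ∈ (P : Subgroup G), ∃ i : ℤ, x = u * h₀ ^ i := by
    intro x
    obtain ⟨i, hi⟩ : (QuotientGroup.mk x : G ⧸ (P : Subgroup G)) ∈ zpowers (QuotientGroup.mk h₀ : G ⧸ (P : Subgroup G)) := by
      have hg : (QuotientGroup.mk g : G ⧸ (P : Subgroup G)) ∈ zpowers (QuotientGroup.mk h₀ : G ⧸ (P : Subgroup G)) := by
        refine mem_of_pow_mem_of_coprime (a := p ^ (orderOf g).factorization p) (b := (P : Subgroup G).index)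
          ?_ ?_ ((hp.out.coprime_iff_not_dvd.2 P.not_dvd_index).pow_left _)
        · rw [← QuotientGroup.mk_pow]; exact mem_zpowers _
        · rw [index_eq_card, pow_card_eq_one']; exact one_mem _
      obtain ⟨j, hj⟩ := hgb (QuotientGroup.mk x)
      rw [← hj]
      exact zpow_mem hg j
    refine ⟨x * (h₀ ^ i)⁻¹, ?_, i, by group⟩
    rw [← QuotientGroup.eq_one_iff, QuotientGroup.mk_mul, QuotientGroup.mk_inv, QuotientGroup.mk_zpow]
    exact mul_inv_eq_one.2 hi.symm
  have hrk : ∀ x : G, (centralizer ({x} : Set G)).relIndex (P : Subgroup G) ∣ p :=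
    fun x => relIndex_centralizer_dvd P.2 (h x)
  have hPc := mem_center_commutator h P
  -- it is enough to find a suitable normal subgroup of order at most `p`
  suffices hD : ∃ D : Subgroup G, Nat.card D ∣ p ∧ D.Normal ∧
      (∀ u ∈ (P : Subgroup G), ∀ v ∈ (P : Subgroup G), u * v * u⁻¹ * v⁻¹ ∈ D) ∧
      ∀ v ∈ (P : Subgroup G), h₀ * v * h₀⁻¹ * v⁻¹ ∈ D by
    obtain ⟨D, hDc, hDn, hPP, hhP⟩ := hD
    refine (card_dvd_of_le ?_).trans hDc
    rw [_root_.commutator_def, commutator_le]
    intro a _ b _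
    rw [← QuotientGroup.eq_one_iff, ← QuotientGroup.mk'_apply, map_commutatorElement, commutatorElement_eq_one_iff_mul_comm]
    obtain ⟨u, hu, i, rfl⟩ := hdec a
    obtain ⟨v, hv, j, rfl⟩ := hdec b
    have key : ∀ x y : G, x * y * x⁻¹ * y⁻¹ ∈ D → Commute (QuotientGroup.mk' D x) (QuotientGroup.mk' D y) := by
      intro x y hxy
      rw [commute_iff_eq, ← map_mul, ← map_mul, ← mul_inv_eq_one, ← map_inv, ← map_mul]
      refine (QuotientGroup.eq_one_iff _).2 ?_
      simpa [mul_assoc] using hxy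
    simp only [map_mul, map_zpow]
    have c1 : Commute (QuotientGroup.mk' D u) (QuotientGroup.mk' D v) := key u v (hPP u hu v hv)
    have c2 : Commute (QuotientGroup.mk' D u) (QuotientGroup.mk' D h₀ ^ j) := ((key h₀ u (hhP u hu)).symm).zpow_right j
    have c3 : Commute (QuotientGroup.mk' D h₀ ^ i) (QuotientGroup.mk' D v) := (key h₀ v (hhP v hv)).zpow_left i
    exact ((c1.mul_right c2).mul_left (c3.mul_right (Commute.zpow_zpow_self _ i j))).eq
  -- the commutator maps of elements of `P` are homomorphisms into the centre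
  have hmulP : ∀ x ∈ (P : Subgroup G), ∀ v ∈ (P : Subgroup G), ∀ w ∈ (P : Subgroup G),
      x * (v * w) * x⁻¹ * (v * w)⁻¹ = (x * v * x⁻¹ * v⁻¹) * (x * w * x⁻¹ * w⁻¹) := by
    intro x hx v hv w hw
    calc x * (v * w) * x⁻¹ * (v * w)⁻¹ = (x * v * x⁻¹) * (x * w * x⁻¹ * w⁻¹) * v⁻¹ := by group
      _ = (x * w * x⁻¹ * w⁻¹) * (x * v * x⁻¹) * v⁻¹ := by rw [mem_center_iff.1 (hPc.2 x hx w hw) (x * v * x⁻¹)]
      _ = (x * w * x⁻¹ * w⁻¹) * (x * v * x⁻¹ * v⁻¹) := by group
      _ = _ := by rw [mem_center_iff.1 (hPc.2 x hx v hv) (x * w * x⁻¹ * w⁻¹)]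
  by_cases hhc : ∀ v ∈ (P : Subgroup G), h₀ * v = v * h₀
  · -- the `p'`-part is central: `|P'|` divides `p`
    choose! D hDcard hDmem hDrange using fun x (hx : x ∈ (P : Subgroup G)) =>
      exists_commutator_range (P : Subgroup G) x (hmulP x hx)
    have hDdvd : ∀ x ∈ (P : Subgroup G), Nat.card (D x) ∣ p := fun x hx => hDcard x hx ▸ hrk x
    have hcross : ∀ x ∈ (P : Subgroup G), ∀ y ∈ (P : Subgroup G), ∀ v ∈ (P : Subgroup G),
        x * v = v * x → y * v ≠ v * y → D y = D (x * y) := by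
      intro x hx y hy v hv hxv hyv
      refine eq_of_mem_of_dvd_prime (hDdvd y hy) (hDdvd _ (mul_mem hx hy)) (hDmem y hy v hv) ?_
        (fun h1 => hyv (mul_inv_eq_iff_eq_mul.1 (mul_inv_eq_one.1 h1)))
      have h1 : (x * y) * v * (x * y)⁻¹ * v⁻¹ = y * v * y⁻¹ * v⁻¹ := by
        calc (x * y) * v * (x * y)⁻¹ * v⁻¹ = x * (y * v * y⁻¹ * v⁻¹) * (v * x⁻¹ * v⁻¹) := by group
          _ = (y * v * y⁻¹ * v⁻¹) * (x * v * x⁻¹ * v⁻¹) := by
              rw [mem_center_iff.1 (hPc.2 y hy v hv) x]; group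
          _ = _ := by rw [hxv, mul_inv_cancel_right, mul_inv_cancel, mul_one]
      exact h1 ▸ hDmem _ (mul_mem hx hy) v hv
    have hcross' : ∀ x ∈ (P : Subgroup G), ∀ y ∈ (P : Subgroup G), ∀ v ∈ (P : Subgroup G),
        x * v = v * x → y * v ≠ v * y → ∀ w ∈ (P : Subgroup G), y * w = w * y → x * w ≠ w * x → D x = D y := by
      intro x hx y hy v hv hxv hyv w hw hyw hxw
      have h1 := hcross x hx y hy v hv hxv hyv
      rw [h1]
      refine eq_of_mem_of_dvd_prime (hDdvd x hx) (hDdvd _ (mul_mem hx hy)) (hDmem x hx w hw) ?_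
        (fun h2 => hxw (mul_inv_eq_iff_eq_mul.1 (mul_inv_eq_one.1 h2)))
      have h2 : (x * y) * w * (x * y)⁻¹ * w⁻¹ = x * w * x⁻¹ * w⁻¹ := by
        calc (x * y) * w * (x * y)⁻¹ * w⁻¹ = x * (y * w * y⁻¹) * x⁻¹ * w⁻¹ := by group
          _ = _ := by rw [hyw, mul_inv_cancel_right]
      exact h2 ▸ hDmem _ (mul_mem hx hy) w hw
    have hker : ∀ x ∈ (P : Subgroup G), (∃ v ∈ (P : Subgroup G), x * v ≠ v * x) →
        ((centralizer ({x} : Set G)).subgroupOf (P : Subgroup G)).index = p := by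
      rintro x hx ⟨v, hv, hxv⟩
      rcases (Nat.dvd_prime hp.out).1 (hrk x) with h | h
      · exact absurd (mem_centralizer_singleton_iff.1 (relIndex_eq_one.1 h hv)).symm hxv
      · exact h
    have hall : ∀ x ∈ (P : Subgroup G), ∀ y ∈ (P : Subgroup G), (∃ v ∈ (P : Subgroup G), x * v ≠ v * x) →
        (∃ v ∈ (P : Subgroup G), y * v ≠ v * y) → D x = D y := by
      intro x hx y hy hxn hyn
      have hne : ∀ x ∈ (P : Subgroup G), ∀ y ∈ (P : Subgroup G), (∃ v ∈ (P : Subgroup G), x * v ≠ v * x) →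
          (∃ v ∈ (P : Subgroup G), y * v ≠ v * y) →
          (centralizer ({x} : Set G)).subgroupOf (P : Subgroup G) ≠ (centralizer ({y} : Set G)).subgroupOf (P : Subgroup G) →
          D x = D y := by
        intro x hx y hy hxn hyn hne
        have hexists : ∀ a ∈ (P : Subgroup G), ∀ b ∈ (P : Subgroup G), (∃ v ∈ (P : Subgroup G), a * v ≠ v * a) →
            (∃ v ∈ (P : Subgroup G), b * v ≠ v * b) →
            (centralizer ({a} : Set G)).subgroupOf (P : Subgroup G) ≠ (centralizer ({b} : Set G)).subgroupOf (P : Subgroup G) →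
            ∃ v ∈ (P : Subgroup G), a * v = v * a ∧ b * v ≠ v * b := by
          intro a ha b hb han hbn hab
          by_contra hcon
          push Not at hcon
          refine hab (eq_of_le_of_card_ge (fun z hz => ?_) (le_of_eq ?_))
          · exact mem_centralizer_singleton_iff.2 (hcon _ z.2 (mem_centralizer_singleton_iff.1 hz).symm).symm
          · have h1 := card_mul_index ((centralizer ({a} : Set G)).subgroupOf (P : Subgroup G))
            rw [← card_mul_index ((centralizer ({b} : Set G)).subgroupOf (P : Subgroup G)), hker a ha han, hker b hb hbn] at h1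
            exact (Nat.eq_of_mul_eq_mul_right hp.out.pos h1).symm
        obtain ⟨v, hv, hxv, hyv⟩ := hexists x hx y hy hxn hyn hne
        obtain ⟨w, hw, hyw, hxw⟩ := hexists y hy x hx hyn hxn hne.symm
        exact hcross' x hx y hy v hv hxv hyv w hw hyw hxw
      by_cases he : (centralizer ({x} : Set G)).subgroupOf (P : Subgroup G) = (centralizer ({y} : Set G)).subgroupOf (P : Subgroup G)
      · obtain ⟨u, hu, hxu⟩ := hxn
        have hyu : y * u ≠ u * y := fun e => hxu (by
          have h1 : (⟨u, hu⟩ : (P : Subgroup G)) ∈ (centralizer ({y} : Set G)).subgroupOf (P : Subgroup G) :=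
            mem_centralizer_singleton_iff.2 e.symm
          rw [← he] at h1
          exact (mem_centralizer_singleton_iff.1 h1).symm)
        have hun : ∃ v ∈ (P : Subgroup G), u * v ≠ v * u := ⟨x, hx, Ne.symm hxu⟩
        have hneu : (centralizer ({u} : Set G)).subgroupOf (P : Subgroup G) ≠ (centralizer ({x} : Set G)).subgroupOf (P : Subgroup G) := by
          intro e
          have h1 : (⟨u, hu⟩ : (P : Subgroup G)) ∈ (centralizer ({u} : Set G)).subgroupOf (P : Subgroup G) :=
            mem_centralizer_singleton_iff.2 rfl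
          rw [e] at h1
          exact hxu (mem_centralizer_singleton_iff.1 h1).symm
        exact (hne u hu x hx hun ⟨u, hu, hxu⟩ hneu).symm.trans (hne u hu y hy hun hyn (he ▸ hneu))
      · exact hne x hx y hy hxn hyn he
    by_cases hab : ∃ x ∈ (P : Subgroup G), ∃ v ∈ (P : Subgroup G), x * v ≠ v * x
    · obtain ⟨x, hx, hxn⟩ := hab
      have hDZ : D x ≤ center G := fun d hd => by
        obtain ⟨v, hv, rfl⟩ := hDrange x hx d hd
        exact hPc.2 x hx v hv
      refine ⟨D x, hDdvd x hx, ⟨fun d hd a => ?_⟩, fun u hu v hv => ?_, fun v hv => ?_⟩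
      · rwa [mem_center_iff.1 (hDZ hd) a, mul_inv_cancel_right]
      · by_cases huv : u * v = v * u
        · rw [huv, mul_inv_cancel_right, mul_inv_cancel]; exact one_mem _
        · exact hall u hu x hx ⟨v, hv, huv⟩ hxn ▸ hDmem u hu v hv
      · rw [hhc v hv, mul_inv_cancel_right, mul_inv_cancel]; exact one_mem _
    · push Not at hab
      refine ⟨⊥, by simp, inferInstance, fun u hu v hv => ?_, fun v hv => ?_⟩
      · rw [hab u hu v hv, mul_inv_cancel_right, mul_inv_cancel]; exact one_mem _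
      · rw [hhc v hv, mul_inv_cancel_right, mul_inv_cancel]; exact one_mem _
  · -- the `p'`-part acts non-trivially: `P` is abelian
    push Not at hhc
    obtain ⟨y, hy, hhy⟩ := hhc
    set C := (P : Subgroup G) ⊓ centralizer ({h₀} : Set G) with hC
    have hCi : ((centralizer ({h₀} : Set G)).subgroupOf (P : Subgroup G)).index = p := by
      rcases (Nat.dvd_prime hp.out).1 (hrk h₀) with h | h
      · exact absurd (mem_centralizer_singleton_iff.1 (relIndex_eq_one.1 h hy)).symm hhy
      · exact h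
    have hCh : ∀ c ∈ C, h₀ * c = c * h₀ := fun c hc => (mem_centralizer_singleton_iff.1 (mem_inf.1 hc).2).symm
    have hCab : ∀ c ∈ C, ∀ c' ∈ C, c * c' = c' * c := by
      intro c hc c' hc'
      obtain ⟨k, hk⟩ := IsPGroup.iff_orderOf.1 P.2 ⟨c, (mem_inf.1 hc).1⟩
      rw [← Subgroup.orderOf_coe] at hk
      have hc1 : Commute h₀ c := hCh c hc
      have hle : (centralizer ({h₀ * c} : Set G)).subgroupOf (P : Subgroup G) ≤
          (centralizer ({h₀} : Set G)).subgroupOf (P : Subgroup G) ⊓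
            (centralizer ({c} : Set G)).subgroupOf (P : Subgroup G) := by
        intro z hz
        have hz' : h₀ * c ∈ centralizer ({(z : G)} : Set G) :=
          mem_centralizer_singleton_iff.2 (mem_centralizer_singleton_iff.1 hz).symm
        have hh : h₀ ∈ centralizer ({(z : G)} : Set G) := by
          refine mem_of_pow_mem_of_coprime (a := orderOf c) (b := orderOf h₀) ?_
            (by rw [pow_orderOf_eq_one]; exact one_mem _) (by rw [hk]; exact hh₀o.symm.pow_left k)
          have h2 : h₀ ^ orderOf c = (h₀ * c) ^ orderOf c := by rw [hc1.mul_pow, pow_orderOf_eq_one, mul_one]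
          rw [h2]; exact pow_mem hz' _
        have hcc : c ∈ centralizer ({(z : G)} : Set G) := by
          have := mul_mem (inv_mem hh) hz'
          rwa [inv_mul_cancel_left] at this
        exact mem_inf.2 ⟨mem_centralizer_singleton_iff.2 (mem_centralizer_singleton_iff.1 hh).symm,
          mem_centralizer_singleton_iff.2 (mem_centralizer_singleton_iff.1 hcc).symm⟩
      have h3 : (centralizer ({h₀ * c} : Set G)).subgroupOf (P : Subgroup G) =
          (centralizer ({h₀} : Set G)).subgroupOf (P : Subgroup G) := by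
        refine eq_of_le_of_card_ge (hle.trans inf_le_left) ?_
        have h1 := card_mul_index ((centralizer ({h₀} : Set G)).subgroupOf (P : Subgroup G))
        rw [hCi] at h1
        have h2 := card_mul_index ((centralizer ({h₀ * c} : Set G)).subgroupOf (P : Subgroup G))
        have h4 : ((centralizer ({h₀ * c} : Set G)).subgroupOf (P : Subgroup G)).index ≤ p :=
          Nat.le_of_dvd hp.out.pos (hrk _)
        rw [← h2] at h1
        exact Nat.le_of_mul_le_mul_right (h1.le.trans (Nat.mul_le_mul_left _ h4)) hp.out.pos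
      have h5 : (⟨c', (mem_inf.1 hc').1⟩ : (P : Subgroup G)) ∈
          (centralizer ({h₀} : Set G)).subgroupOf (P : Subgroup G) := (mem_inf.1 hc').2
      rw [← h3] at h5
      exact (mem_centralizer_singleton_iff.1 (mem_inf.1 (hle h5)).2).symm
    set d := h₀ * y * h₀⁻¹ * y⁻¹ with hd
    have hdP : d ∈ (P : Subgroup G) := mul_mem (hPn.conj_mem _ hy h₀) (inv_mem hy)
    have hgen : ∀ z : G, z ∈ (P : Subgroup G) → z ∉ C → ∀ a ∈ (P : Subgroup G), ∃ i : ℕ, a * (z ^ i)⁻¹ ∈ C := by
      intro z hz hzC a ha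
      set S := (centralizer ({h₀} : Set G)).subgroupOf (P : Subgroup G)
      have hSn : S.Normal := by
        refine normal_of_index_eq_minFac_card ?_
        obtain ⟨k, hk⟩ := IsPGroup.iff_card.1 P.2
        rw [hCi, hk]
        rcases k with _ | k
        · exfalso
          have h1 := S.index_dvd_card
          rw [hCi, hk, pow_zero, Nat.dvd_one] at h1
          exact hp.out.ne_one h1
        · exact (Nat.pow_minFac (Nat.succ_ne_zero k)).symm ▸ hp.out.minFac_eq.symm
      have hcard : Nat.card ((P : Subgroup G) ⧸ S) = p := by rw [← index_eq_card, hCi]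
      have hz1 : (QuotientGroup.mk ⟨z, hz⟩ : (P : Subgroup G) ⧸ S) ≠ 1 := fun h =>
        hzC (mem_inf.2 ⟨hz, (QuotientGroup.eq_one_iff (N := S) _).1 h⟩)
      obtain ⟨i, hi⟩ := mem_powers_of_prime_card hcard
        (g' := (QuotientGroup.mk ⟨a, ha⟩ : (P : Subgroup G) ⧸ S)) hz1
      refine ⟨i, mem_inf.2 ⟨mul_mem ha (inv_mem (pow_mem hz i)), ?_⟩⟩
      have h1 : (⟨a, ha⟩ * ((⟨z, hz⟩ : (P : Subgroup G)) ^ i)⁻¹ : (P : Subgroup G)) ∈ S := by
        refine (QuotientGroup.eq_one_iff _).1 ?_
        simp only at hi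
        rw [QuotientGroup.mk_mul, QuotientGroup.mk_inv, QuotientGroup.mk_pow, hi, mul_inv_cancel]
      exact h1
    have hdC : d ∉ C := by
      intro hdC
      have hv : h₀ * y * h₀⁻¹ = d * y := by rw [hd]; group
      have h1 := pow_conj_fix (hCh d hdC) hv (orderOf h₀)
      rw [pow_orderOf_eq_one, one_mul, inv_one, mul_one] at h1
      have h2 : d ^ orderOf h₀ = 1 := by
        have := congrArg (· * y⁻¹) h1.symm
        simpa using this
      obtain ⟨k, hk⟩ := IsPGroup.iff_orderOf.1 P.2 ⟨d, hdP⟩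
      rw [← Subgroup.orderOf_coe] at hk
      have h3 : orderOf d = 1 := Nat.eq_one_of_dvd_coprimes (hh₀o.pow_right k) (orderOf_dvd_of_pow_eq_one h2) (hk ▸ dvd_rfl)
      rw [orderOf_eq_one_iff] at h3
      exact hhy (mul_inv_eq_iff_eq_mul.1 (mul_inv_eq_one.1 h3))
    have hdc : ∀ c ∈ C, d * c = c * d := by
      intro c hc
      have hz := hPc.2 y hy c (mem_inf.1 hc).1
      have h1 : h₀ * (y * c * y⁻¹ * c⁻¹) * h₀⁻¹ = y * c * y⁻¹ * c⁻¹ := by
        rw [mem_center_iff.1 hz h₀, mul_inv_cancel_right]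
      have h2 : (d * y) * c * (d * y)⁻¹ * c⁻¹ = y * c * y⁻¹ * c⁻¹ := by
        conv_rhs => rw [← h1]
        have e1 : h₀ * c * h₀⁻¹ = c := by rw [hCh c hc, mul_inv_cancel_right]
        calc (d * y) * c * (d * y)⁻¹ * c⁻¹ = (h₀ * y * h₀⁻¹) * c * (h₀ * y * h₀⁻¹)⁻¹ * c⁻¹ := by rw [hd]; group
          _ = (h₀ * y * h₀⁻¹) * (h₀ * c * h₀⁻¹) * (h₀ * y * h₀⁻¹)⁻¹ * (h₀ * c * h₀⁻¹)⁻¹ := by rw [e1]
          _ = _ := by group
      have h3 : (d * y) * c * (d * y)⁻¹ * c⁻¹ = (y * c * y⁻¹ * c⁻¹) * (d * c * d⁻¹ * c⁻¹) := by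
        calc (d * y) * c * (d * y)⁻¹ * c⁻¹ = d * (y * c * y⁻¹ * c⁻¹) * (c * d⁻¹ * c⁻¹) := by group
          _ = _ := by rw [mem_center_iff.1 hz d]; group
      rw [h2] at h3
      exact mul_inv_eq_iff_eq_mul.1 (mul_inv_eq_one.1 (mul_eq_left.1 h3.symm))
    have hPab : ∀ u ∈ (P : Subgroup G), ∀ v ∈ (P : Subgroup G), u * v = v * u := by
      intro u hu v hv
      obtain ⟨i, hi⟩ := hgen d hdP hdC u hu
      obtain ⟨j, hj⟩ := hgen d hdP hdC v hv
      have c1 : Commute (u * (d ^ i)⁻¹) (v * (d ^ j)⁻¹) := hCab _ hi _ hj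
      have c2 : Commute (u * (d ^ i)⁻¹) (d ^ j) := Commute.pow_right (Commute.symm (hdc _ hi)) j
      have c3 : Commute (d ^ i) (v * (d ^ j)⁻¹) := Commute.pow_left (hdc _ hj) i
      have c4 := (c1.mul_right c2).mul_left (c3.mul_right (Commute.pow_pow_self d i j))
      simpa using c4.eq
    obtain ⟨D, hDcard, hDmem, hDrange⟩ := exists_commutator_range (P : Subgroup G) h₀ (fun v hv w hw => by
      have h1 : v⁻¹ * (h₀ * w * h₀⁻¹ * w⁻¹) = (h₀ * w * h₀⁻¹ * w⁻¹) * v⁻¹ :=
        hPab _ (inv_mem hv) _ (mul_mem (hPn.conj_mem _ hw h₀) (inv_mem hw))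
      calc h₀ * (v * w) * h₀⁻¹ * (v * w)⁻¹ = (h₀ * v * h₀⁻¹) * ((h₀ * w * h₀⁻¹ * w⁻¹) * v⁻¹) := by group
        _ = _ := by rw [← h1]; group)
    refine ⟨D, hDcard ▸ hrk h₀, ⟨fun e he a => ?_⟩, fun u hu v hv => ?_, hDmem⟩
    · obtain ⟨v, hv, rfl⟩ := hDrange e he
      obtain ⟨u, hu, i, rfl⟩ := hdec a
      have h1 : u * h₀ ^ i * (h₀ * v * h₀⁻¹ * v⁻¹) * (u * h₀ ^ i)⁻¹ =
          u * (h₀ * (h₀ ^ i * v * (h₀ ^ i)⁻¹) * h₀⁻¹ * (h₀ ^ i * v * (h₀ ^ i)⁻¹)⁻¹) * u⁻¹ := by group
      have hv' : h₀ ^ i * v * (h₀ ^ i)⁻¹ ∈ (P : Subgroup G) := hPn.conj_mem _ hv _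
      rw [h1, hPab u hu _ (mul_mem (hPn.conj_mem _ hv' h₀) (inv_mem hv')), mul_inv_cancel_right]
      exact hDmem _ hv'
    · rw [hPab u hu v hv, mul_inv_cancel_right, mul_inv_cancel]; exact one_mem _

end CfsgLib.SquarefreeStructure

namespace CfsgLib.SquarefreeStructure

theorem commutator_eq_bot_of_isCyclic {A : Type*} [Group A] [IsCyclic A] : commutator A = ⊥ := by
  let _ : CommGroup A := IsCyclic.commGroup
  exact (_root_.commutator_eq_bot_iff A).2 inferInstance

end CfsgLib.SquarefreeStructure
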