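import Cfsg.Agent.Unitary.ThreeTwo
import Mathlib.GroupTheory.Frattini
import Mathlib.GroupTheory.Nilpotent
import Mathlib.GroupTheory.Sylow
import Mathlib.Tactic.Group

/-!
A nonabelian 2-group with commutator index 4 and an automorphism of odd order is quaternion of order 8.
-/

set_option autoImplicit false
set_option linter.unusedSectionVars false

namespace CfsgLib.QuatEight

open Subgroup
open scoped commutatorElement

variable {P : Type*} [Group P] [Finite P]

theorem le_frattini_of_pGroup {p : ℕ} [Fact p.Prime] (hP : IsPGroup p P) : commutator P ≤ frattini P := by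
  haveI := hP.isNilpotent
  refine le_iInf₂ fun M hM => ?_
  haveI : M.Normal := (Group.normalizerCondition_of_isNilpotent.normal_of_coatom _ hM)
  rw [commutator_def, Subgroup.commutator_le]
  intro x _ y _
  rw [← QuotientGroup.eq_one_iff]
  show QuotientGroup.mk' M ⁅x, y⁆ = 1
  rw [map_commutatorElement, commutatorElement_eq_one_iff_mul_comm]
  haveI : IsSimpleGroup (P ⧸ M) := by
    haveI : Nontrivial (P ⧸ M) := QuotientGroup.nontrivial_iff.2 hM.1
    refine ⟨fun H _ => ?_⟩
    have hle : M ≤ H.comap (QuotientGroup.mk' M) := fun u hu => by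
      rw [mem_comap, show QuotientGroup.mk' M u = 1 from (QuotientGroup.eq_one_iff u).2 hu]
      exact one_mem _
    rcases hM.le_iff.1 hle with h | h
    · right
      rw [← map_comap_eq_self_of_surjective (QuotientGroup.mk'_surjective M) H, h,
        Subgroup.map_top_of_surjective _ (QuotientGroup.mk'_surjective M)]
    · left
      rw [← map_comap_eq_self_of_surjective (QuotientGroup.mk'_surjective M) H, h,
        QuotientGroup.map_mk'_self]
  have hc := (hP.to_quotient M).center_nontrivial
  rcases (inferInstance : (center (P ⧸ M)).Normal).eq_bot_or_eq_top with h | h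
  · exact absurd hc (not_nontrivial_iff_subsingleton.2 (by rw [h]; infer_instance))
  · exact mem_center_iff.1 (h ▸ mem_top (QuotientGroup.mk' M y)) _

theorem main (hP : IsPGroup 2 P) (hna : ¬ IsMulCommutative P) (h4 : (commutator P).index = 4)
    (haut : ¬ IsPGroup 2 (MulAut P)) : Nonempty (P ≃* QuaternionGroup 2) := by
  classical
  haveI : Fact (Nat.Prime 2) := ⟨Nat.prime_two⟩
  haveI := hP.isNilpotent
  obtain ⟨q, hq, hqd, hq2⟩ : ∃ q, q.Prime ∧ q ∣ Nat.card (MulAut P) ∧ q ≠ 2 := by
    by_contra h
    push Not at h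
    exact haut (IsPGroup.of_card (Nat.eq_prime_pow_of_unique_prime_dvd Nat.card_pos.ne'
      fun {r} hr hrd => h r hr hrd))
  haveI := Fact.mk hq
  obtain ⟨α, hα⟩ := exists_prime_orderOf_dvd_card' q hqd
  obtain ⟨D, hD⟩ : ∃ D : Subgroup P, D = commutator P := ⟨_, rfl⟩
  haveI hDn : D.Normal := hD ▸ inferInstance
  rw [← hD] at h4
  have hDα : ∀ (φ : MulAut P) (x : P), x ∈ D → φ x ∈ D := by
    intro φ x hx
    rw [hD] at hx ⊢
    have h : (commutator P).map φ.toMonoidHom = commutator P := by
      rw [commutator_def, map_commutator, map_top_of_surjective _ φ.surjective]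
    exact h ▸ mem_map_of_mem φ.toMonoidHom hx
  have hgen : ∀ {a b : P}, a ∉ D → b ∉ D → a⁻¹ * b ∉ D → closure ({a, b} : Set P) = ⊤ := by
    intro a b ha hb hab
    refine frattini_nongenerating ?_
    refine eq_top_iff.2 (le_trans ?_ (sup_le_sup_left (le_frattini_of_pGroup hP) _))
    rw [← hD]
    intro x _
    have hA : a ∈ closure ({a, b} : Set P) ⊔ D := mem_sup_left (subset_closure (Set.mem_insert _ _))
    have hB : b ∈ closure ({a, b} : Set P) ⊔ D :=
      mem_sup_left (subset_closure (Set.mem_insert_of_mem _ rfl))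
    have hlt : D < closure ({a, b} : Set P) ⊔ D :=
      lt_of_le_of_ne le_sup_right fun h => ha (h ▸ hA)
    have hdvd := Subgroup.index_dvd_of_le hlt.le
    rw [h4] at hdvd
    have hm := relIndex_mul_index hlt.le
    rw [h4] at hm
    have hne : D.relIndex (closure ({a, b} : Set P) ⊔ D) ≠ 1 := fun h =>
      hlt.not_ge (relIndex_eq_one.1 h)
    rcases (Nat.dvd_prime_pow Nat.prime_two (i := (closure ({a, b} : Set P) ⊔ D).index) (m := 2)).1
      (by simpa using hdvd) with ⟨i, hi, hidx⟩
    interval_cases i
    · rw [pow_zero, index_eq_one] at hidx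
      rw [hidx]
      exact mem_top x
    · rw [pow_one] at hidx
      rw [hidx] at hm
      exfalso
      have hr : D.relIndex (closure ({a, b} : Set P) ⊔ D) = 2 := by omega
      have : (D.subgroupOf (closure ({a, b} : Set P) ⊔ D)).index = 2 := hr
      have h2 := Subgroup.mul_mem_iff_of_index_two this (a := ⟨a⁻¹, inv_mem hA⟩) (b := ⟨b, hB⟩)
      simp only [mem_subgroupOf] at h2
      exact hab (h2.2 (iff_of_false (fun h => ha (inv_mem_iff.1 h)) hb))
    · rw [hidx] at hm
      omega
  have hsq : ∀ x : P, x ^ 2 ∈ D := by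
    intro x
    by_contra h
    have hx : x ∉ D := fun hx => h (pow_mem hx 2)
    have hord : orderOf (x : P ⧸ D) = 4 := by
      refine orderOf_eq_prime_pow (n := 1) (p := 2) ?_ ?_
      · rw [pow_one, ← QuotientGroup.mk_pow, QuotientGroup.eq_one_iff]; exact h
      · rw [show 2 ^ (1 + 1) = D.index by rw [h4]; rfl, ← QuotientGroup.mk_pow, QuotientGroup.eq_one_iff]
        exact D.pow_index_mem x
    have hcard : Nat.card (P ⧸ D) = 4 := by rw [← index_eq_card]; exact h4
    haveI : IsCyclic (P ⧸ D) := isCyclic_of_orderOf_eq_card (x : P ⧸ D) (by rw [hord, hcard])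
    have htop : zpowers (x : P ⧸ D) = ⊤ := Subgroup.eq_top_of_card_eq _ (by rw [Nat.card_zpowers, hord, hcard])
    have : zpowers x = ⊤ := by
      refine frattini_nongenerating (eq_top_iff.2 (le_trans ?_ (sup_le_sup_left (le_frattini_of_pGroup hP) _)))
      rw [← hD]
      intro y _
      obtain ⟨i, hi⟩ := htop.ge (mem_top (y : P ⧸ D))
      have h' : (x ^ i)⁻¹ * y ∈ D := by
        rw [← QuotientGroup.eq_one_iff, QuotientGroup.mk_mul, QuotientGroup.mk_inv, QuotientGroup.mk_zpow]
        rw [show (x : P ⧸ D) ^ i = (y : P ⧸ D) from hi, inv_mul_cancel]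
      have := mul_mem (mem_sup_left (T := D) (zpow_mem (mem_zpowers x) i)) (mem_sup_right (S := zpowers x) h')
      rwa [mul_inv_cancel_left] at this
    haveI : IsCyclic P := isCyclic_iff_exists_zpowers_eq_top.2 ⟨x, this⟩
    exact hna ⟨⟨fun u v => (IsCyclic.commGroup (α := P)).mul_comm u v⟩⟩
  -- the automorphism moves some coset of `D`
  obtain ⟨x, hx⟩ : ∃ x, x⁻¹ * α x ∉ D := by
    by_contra hfix
    push Not at hfix
    obtain ⟨a, ha⟩ : ∃ a, a ∉ D := by
      by_contra h; push Not at h
      rw [(eq_top_iff' D).2 h, index_top] at h4; omega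
    obtain ⟨b, hb, hab⟩ : ∃ b, b ∉ D ∧ a⁻¹ * b ∉ D := by
      by_contra h
      push Not at h
      let f : P ⧸ D → Bool := fun u => decide (u = 1)
      have hf : Function.Injective f := by
        intro u v
        induction u using QuotientGroup.induction_on with
        | _ u =>
        induction v using QuotientGroup.induction_on with
        | _ v =>
        intro huv
        simp only [f, decide_eq_decide, QuotientGroup.eq_one_iff] at huv
        rw [QuotientGroup.eq]
        by_cases hu : u ∈ D
        · exact mul_mem (inv_mem hu) (huv.1 hu)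
        · have := mul_mem (inv_mem (h u hu)) (h v fun e => hu (huv.2 e))
          simpa [mul_assoc] using this
      have := Nat.card_le_card_of_injective f hf
      rw [← index_eq_card, h4, Nat.card_eq_fintype_card, Fintype.card_bool] at this
      omega
    let T := {u : P // a⁻¹ * u ∈ D} × {u : P // b⁻¹ * u ∈ D}
    have hstab : ∀ (u₀ : P) (φ : MulAut P), φ ∈ zpowers α → ∀ u, u₀⁻¹ * u ∈ D → u₀⁻¹ * φ u ∈ D := by
      intro u₀ φ hφ u hu
      have key : ∀ w, w⁻¹ * φ w ∈ D := by
        obtain ⟨i, rfl⟩ := Submonoid.mem_powers_iff _ _ |>.1 (mem_powers_iff_mem_zpowers.2 hφ)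
        intro w
        clear hφ
        induction i with
        | zero => simp
        | succ i ih =>
          have h1 := hfix ((α ^ i) w)
          have h2 := mul_mem ih h1
          rw [pow_succ', MulAut.mul_apply]
          simpa [mul_assoc] using h2
      have := mul_mem hu (key u)
      simpa [mul_assoc] using this
    letI : MulAction (zpowers α) T :=
      { smul := fun φ t => (⟨(φ : MulAut P) t.1, hstab a φ φ.2 _ t.1.2⟩,
          ⟨(φ : MulAut P) t.2, hstab b φ φ.2 _ t.2.2⟩)
        one_smul := fun t => rfl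
        mul_smul := fun φ ψ t => rfl }
    have hqg : IsPGroup q (zpowers α) := IsPGroup.of_card (n := 1) (by rw [Nat.card_zpowers, hα, pow_one])
    have hTcard : Nat.card T = Nat.card D * Nat.card D := by
      rw [Nat.card_prod]
      congr 1 <;> exact Nat.card_congr
        { toFun := fun u => ⟨_, u.2⟩
          invFun := fun d => ⟨_ * (d : P), by rw [inv_mul_cancel_left]; exact d.2⟩
          left_inv := fun u => Subtype.ext (mul_inv_cancel_left _ _)
          right_inv := fun d => Subtype.ext (inv_mul_cancel_left _ _) }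
    obtain ⟨k, hk⟩ := IsPGroup.iff_card.1 (hP.to_subgroup D)
    have hnd : ¬ q ∣ Nat.card T := by
      rw [hTcard, hk, ← pow_add]
      exact fun h => hq2 ((Nat.prime_dvd_prime_iff_eq hq Nat.prime_two).1 (hq.dvd_of_dvd_pow h))
    obtain ⟨⟨u, v⟩, huv⟩ := hqg.nonempty_fixed_point_of_prime_not_dvd_card T hnd
    have h := huv ⟨α, mem_zpowers α⟩
    have hu : α u.1 = u.1 := congrArg (fun t : T => (t.1 : P)) h
    have hv : α v.1 = v.1 := congrArg (fun t : T => (t.2 : P)) h
    have hg := hgen (a := u.1) (b := v.1)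
      (fun e => ha (by simpa [mul_assoc] using mul_mem e (inv_mem u.2)))
      (fun e => hb (by simpa [mul_assoc] using mul_mem e (inv_mem v.2)))
      (fun e => hab (by
        have := mul_mem (mul_mem u.2 e) (inv_mem v.2)
        simpa [mul_assoc] using this))
    have h1 : α.toMonoidHom = MonoidHom.id P := MonoidHom.eq_of_eqOn_dense hg (by
      rintro w (rfl | rfl)
      · exact hu
      · exact hv)
    have : α = 1 := MulEquiv.ext fun w => DFunLike.congr_fun h1 w
    rw [this, orderOf_one] at hα
    exact hq.ne_one hα.symm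
  have hxD : x ∉ D := fun h => hx (mul_mem (inv_mem h) (hDα α x h))
  obtain ⟨a, ha⟩ : ∃ a, a = x := ⟨x, rfl⟩
  subst a
  obtain ⟨b, hb⟩ : ∃ b, b = α x := ⟨_, rfl⟩
  have hbD : b ∉ D := fun h => hxD (by simpa using hDα α⁻¹ b (hb ▸ h) |> fun h' => (by simpa [hb] using h'))
  rw [← hb] at hx
  have hgab := hgen hxD hbD hx
  -- the image of `b` lies in the third coset
  have hαb : (x * b)⁻¹ * α b ∈ D := by
    have h1 : α b ∉ D := fun h => hbD (by simpa using hDα α⁻¹ _ h)
    have h2 : b⁻¹ * α b ∉ D := by
      intro h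
      apply hx
      have := hDα α⁻¹ _ (show α (x⁻¹ * b) ∈ D by rw [map_mul, map_inv, ← hb]; exact h)
      simpa using this
    have h3 : x⁻¹ * α b ∉ D := by
      intro h
      -- then `α ^ 2` fixes the coset of `x`, hence so does `α`
      apply hx
      have key : ∀ i : ℕ, x⁻¹ * ((α * α) ^ i) x ∈ D := by
        intro i
        induction i with
        | zero => simp
        | succ i ih =>
          have h' : x⁻¹ * (α * α) x ∈ D := by rw [MulAut.mul_apply, ← hb]; exact h
          have := mul_mem ih (hDα ((α * α) ^ i) _ h')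
          rw [map_mul, map_inv] at this
          rw [pow_succ, MulAut.mul_apply]
          simpa [mul_assoc] using this
      obtain ⟨m, hm⟩ := exists_pow_eq_self_of_coprime (x := α) (n := 2)
        (by rw [hα]; exact (Nat.coprime_primes Nat.prime_two hq).2 hq2.symm)
      have := key m
      rw [← pow_two, hm, ← hb] at this
      exact this
    by_contra h
    have hcard : Nat.card (P ⧸ D) = 4 := by rw [← index_eq_card]; exact h4
    have hinj : Function.Injective (![(1 : P ⧸ D), x, b, x * b, α b] : Fin 5 → P ⧸ D) := by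
      have e : ∀ u v : P, (u : P ⧸ D) = v ↔ u⁻¹ * v ∈ D := fun u v => QuotientGroup.eq
      have hxb : x * b ∉ D := fun hm => hx (by
        have h' := mul_mem (inv_mem (hsq x)) hm
        simpa [pow_two, mul_assoc] using h')
      have n1 : (1 : P ⧸ D) ≠ x := fun h' => hxD ((QuotientGroup.eq_one_iff x).1 h'.symm)
      have n2 : (1 : P ⧸ D) ≠ b := fun h' => hbD ((QuotientGroup.eq_one_iff b).1 h'.symm)
      have n3 : (1 : P ⧸ D) ≠ (x : P ⧸ D) * b := fun h' => hxb ((QuotientGroup.eq_one_iff _).1 h'.symm)
      have n4 : (1 : P ⧸ D) ≠ (α b : P) := fun h' => h1 ((QuotientGroup.eq_one_iff _).1 h'.symm)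
      have n5 : (x : P ⧸ D) ≠ b := fun h' => hx ((e _ _).1 h')
      have n6 : (x : P ⧸ D) ≠ (x : P ⧸ D) * b := fun h' => n2 (mul_eq_left.1 h'.symm).symm
      have n7 : (x : P ⧸ D) ≠ (α b : P) := fun h' => h3 ((e _ _).1 h')
      have n8 : (b : P ⧸ D) ≠ (x : P ⧸ D) * b := fun h' => n1 (mul_eq_right.1 h'.symm).symm
      have n9 : (b : P ⧸ D) ≠ (α b : P) := fun h' => h2 ((e _ _).1 h')
      have n10 : (x : P ⧸ D) * b ≠ (α b : P) := fun h' => h ((e _ _).1 h')
      intro i j hij
      fin_cases i <;> fin_cases j <;>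
        first
          | rfl
          | exact absurd hij n1 | exact absurd hij.symm n1
          | exact absurd hij n2 | exact absurd hij.symm n2
          | exact absurd hij n3 | exact absurd hij.symm n3
          | exact absurd hij n4 | exact absurd hij.symm n4
          | exact absurd hij n5 | exact absurd hij.symm n5
          | exact absurd hij n6 | exact absurd hij.symm n6
          | exact absurd hij n7 | exact absurd hij.symm n7
          | exact absurd hij n8 | exact absurd hij.symm n8
          | exact absurd hij n9 | exact absurd hij.symm n9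
          | exact absurd hij n10 | exact absurd hij.symm n10
    have := Nat.card_le_card_of_injective _ hinj
    rw [hcard, Nat.card_fin] at this
    omega
  obtain ⟨c, hc⟩ : ∃ c, c = ⁅x, b⁆ := ⟨_, rfl⟩
  have hcD : c ∈ D := by rw [hc, hD]; exact commutator_mem_commutator (mem_top _) (mem_top _)
  -- facts in any quotient where `c` is central
  have central : ∀ (N : Subgroup P) [N.Normal], (∀ t, ⁅c, t⁆ ∈ N) → (∀ d ∈ D, d ∈ zpowers c ⊔ N) := by
    intro N _ hcN d hd
    set σ := QuotientGroup.mk' N
    haveI : (zpowers c ⊔ N).Normal := by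
      refine ⟨fun u hu g => ?_⟩
      obtain ⟨y, hy, n, hn, rfl⟩ := mem_sup_of_normal_right.1 hu
      obtain ⟨i, rfl⟩ := hy
      have hcomm : σ g * σ (c ^ i) = σ (c ^ i) * σ g := by
        have h1 : Commute (σ c) (σ g) := commutatorElement_eq_one_iff_mul_comm.1
          (by rw [← map_commutatorElement]; exact (QuotientGroup.eq_one_iff _).2 (hcN g))
        rw [map_zpow]; exact (h1.zpow_left i).eq.symm
      have : (c ^ i)⁻¹ * (g * (c ^ i * n) * g⁻¹) ∈ N := by
        rw [← QuotientGroup.eq_one_iff]
        show σ _ = 1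
        simp only [map_mul, map_inv, show σ n = 1 from (QuotientGroup.eq_one_iff n).2 hn, mul_one]
        rw [hcomm]
        group
      exact mem_sup_of_normal_right.2 ⟨c ^ i, ⟨i, rfl⟩, _, this, mul_inv_cancel_left _ _⟩
    have hab : ∀ u v : P, ⁅u, v⁆ ∈ zpowers c ⊔ N := by
      intro u v
      rw [← QuotientGroup.eq_one_iff]
      show QuotientGroup.mk' _ ⁅u, v⁆ = 1
      set τ := QuotientGroup.mk' (zpowers c ⊔ N)
      rw [map_commutatorElement, commutatorElement_eq_one_iff_mul_comm]
      have hxb : Commute (τ x) (τ b) := commutatorElement_eq_one_iff_mul_comm.1 (by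
        rw [← map_commutatorElement, ← hc]
        exact (QuotientGroup.eq_one_iff _).2 (mem_sup_left (mem_zpowers c)))
      have htop : ∀ w : P, τ w ∈ closure ({τ x, τ b} : Set _) := fun w => by
        rw [← Set.image_pair, ← MonoidHom.map_closure, hgab]
        exact mem_map_of_mem τ (mem_top w)
      have h1 : closure ({τ x, τ b} : Set (P ⧸ (zpowers c ⊔ N))) ≤ centralizer ({τ x} : Set _) ⊓ centralizer ({τ b} : Set _) := by
        rw [closure_le]
        rintro w (rfl | rfl) <;>
          refine ⟨mem_centralizer_singleton_iff.2 ?_, mem_centralizer_singleton_iff.2 ?_⟩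
        exacts [rfl, hxb.eq, hxb.symm.eq, rfl]
      have h2 : closure ({τ x, τ b} : Set (P ⧸ (zpowers c ⊔ N))) ≤ centralizer ({τ v} : Set _) := by
        rw [closure_le]
        rintro w (rfl | rfl) <;> refine mem_centralizer_singleton_iff.2 ?_
        · exact (mem_centralizer_singleton_iff.1 (h1 (htop v)).1).symm
        · exact (mem_centralizer_singleton_iff.1 (h1 (htop v)).2).symm
      exact mem_centralizer_singleton_iff.1 (h2 (htop u))
    rw [hD, _root_.commutator_def] at hd
    exact (Subgroup.commutator_le.2 fun u _ v _ => hab u v) hd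
  -- first quotient
  obtain ⟨L, hL⟩ : ∃ L : Subgroup P, L = ⁅D, (⊤ : Subgroup P)⁆ := ⟨_, rfl⟩
  haveI hLn : L.Normal := hL ▸ inferInstance
  have hLmem : ∀ d ∈ D, ∀ t, ⁅d, t⁆ ∈ L := fun d hd t => hL ▸ commutator_mem_commutator hd (mem_top t)
  obtain ⟨π, hπ⟩ : ∃ π : P →* P ⧸ L, π = QuotientGroup.mk' L := ⟨_, rfl⟩
  have hπ1 : ∀ u, π u = 1 ↔ u ∈ L := fun u => by rw [hπ]; exact QuotientGroup.eq_one_iff u
  have hDc : ∀ d ∈ D, ∀ u, Commute (π d) (π u) := fun d hd u =>
    commutatorElement_eq_one_iff_mul_comm.1 (by rw [← map_commutatorElement]; exact (hπ1 _).2 (hLmem d hd u))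
  have hcdef : π c = π x * π b * (π x)⁻¹ * (π b)⁻¹ := by rw [hc, map_commutatorElement, commutatorElement_def]
  have hba : π x * π b = π c * (π b * π x) := by rw [hcdef]; group
  have hc2 : π c ^ 2 = 1 := by
    have h1 : Commute (π (x ^ 2)) (π b) := hDc _ (hsq x) b
    have h2 : π x * π x * π b = π c ^ 2 * (π b * (π x * π x)) := by
      calc π x * π x * π b = π x * (π c * (π b * π x)) := by rw [mul_assoc, hba]
        _ = π c * (π x * π b) * π x := by
            rw [← mul_assoc, ← (hDc c hcD x).eq]; simp only [mul_assoc]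
        _ = _ := by rw [hba, pow_two]; simp only [mul_assoc]
    rw [← pow_two, ← map_pow] at h2
    rw [← h1.eq] at h2
    exact mul_eq_right.1 h2.symm
  have hDval : ∀ d ∈ D, π d = 1 ∨ π d = π c := by
    intro d hd
    obtain ⟨y, ⟨i, rfl⟩, l, hl, rfl⟩ := mem_sup_of_normal_right.1 (central L (hLmem c hcD) d hd)
    rw [map_mul, (hπ1 l).2 hl, mul_one, map_zpow]
    rcases Int.even_or_odd i with ⟨j, rfl⟩ | ⟨j, rfl⟩
    · left; rw [← two_mul, zpow_mul, zpow_ofNat, hc2, one_zpow]
    · right; rw [zpow_add, zpow_mul, zpow_ofNat, hc2, one_zpow, one_mul, zpow_one]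
  have hαL : ∀ u ∈ L, α u ∈ L := by
    intro u hu
    rw [hL] at hu ⊢
    have h : (⁅D, (⊤ : Subgroup P)⁆).map α.toMonoidHom ≤ ⁅D, ⊤⁆ := by
      rw [map_commutator]
      exact commutator_mono (fun _ ⟨w, hw, e⟩ => e ▸ hDα α w hw) le_top
    exact h (mem_map_of_mem _ hu)
  have hαiff : ∀ d, π d = 1 ↔ π (α d) = 1 := by
    intro d
    rw [hπ1, hπ1]
    refine ⟨hαL d, fun h => ?_⟩
    have hmap : L.map α.toMonoidHom = L := Subgroup.eq_of_le_of_card_ge (fun _ ⟨w, hw, e⟩ => e ▸ hαL w hw)
      (Nat.card_congr (L.equivMapOfInjective _ α.injective).toEquiv).le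
    rw [← hmap] at h
    obtain ⟨w, hw, e⟩ := h
    exact α.injective e ▸ hw
  have hsame : ∀ d ∈ D, π (α d) = π d := by
    intro d hd
    by_cases h : π d = 1
    · rw [h, (hαiff d).1 h]
    · rw [(hDval d hd).resolve_left h,
        (hDval _ (hDα α d hd)).resolve_left (fun e => h ((hαiff d).2 e))]
  have hsqb : π b ^ 2 = π x ^ 2 := by
    rw [← map_pow, ← map_pow, hb, ← map_pow α, hsame _ (hsq x)]
  have hsqαb : π (α b) ^ 2 = π b ^ 2 := by
    rw [← map_pow, ← map_pow, hsame _ (hsq b), map_pow]
  have hsqxb : π (α b) ^ 2 = (π x * π b) ^ 2 := by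
    rw [show α b = (x * b) * ((x * b)⁻¹ * α b) by group, map_mul, (hDc _ hαb (x * b)).symm.mul_pow,
      show π ((x * b)⁻¹ * α b) ^ 2 = 1 by
        rcases hDval _ hαb with h | h <;> rw [h]
        · exact one_pow _
        · exact hc2, mul_one, map_mul]
  have hcx : π c = π x ^ 2 := by
    have h : (π x * π b) ^ 2 = π c * (π x ^ 2 * π b ^ 2) := by
      have h' : π b * π x = π c * (π x * π b) := by
        rw [hba, ← mul_assoc, ← pow_two, hc2, one_mul]
      calc (π x * π b) ^ 2 = π x * (π b * π x) * π b := by rw [pow_two]; simp only [mul_assoc]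
        _ = π c * (π x * (π x * π b) * π b) := by
            rw [h', ← mul_assoc (π x) (π c), ← (hDc c hcD x).eq]; simp only [mul_assoc]
        _ = _ := by rw [pow_two, pow_two]; simp only [mul_assoc]
    rw [← hsqxb, hsqαb, hsqb, ← map_pow] at h
    rcases hDval _ (hsq x) with e | e
    · rw [e, one_mul, mul_one] at h
      rw [← map_pow, e, h]
    · rw [← map_pow, e]
  -- the second quotient: `L` is trivial
  have hLbot : L = ⊥ := by
    have hLL : L ≤ ⁅L, (⊤ : Subgroup P)⁆ := by
      set N := ⁅L, (⊤ : Subgroup P)⁆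
      set σ := QuotientGroup.mk' N
      have hcz : ∀ u : P, π c = π u ^ 2 → Commute (σ c) (σ u) := by
        intro u hu
        have hl : (u ^ 2)⁻¹ * c ∈ L := by rw [← hπ1, map_mul, map_inv, map_pow, hu, inv_mul_cancel]
        have h1 : Commute (σ ((u ^ 2)⁻¹ * c)) (σ u) := commutatorElement_eq_one_iff_mul_comm.1 (by
          rw [← map_commutatorElement]
          exact (QuotientGroup.eq_one_iff _).2 (commutator_mem_commutator hl (mem_top _)))
        rw [show c = u ^ 2 * ((u ^ 2)⁻¹ * c) by group, map_mul, map_pow]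
        exact ((Commute.refl (σ u)).pow_left 2).mul_left h1
      have hall : ∀ t, ⁅c, t⁆ ∈ N := by
        intro t
        rw [← QuotientGroup.eq_one_iff]
        show σ ⁅c, t⁆ = 1
        rw [map_commutatorElement, commutatorElement_eq_one_iff_mul_comm]
        have hle : closure ({x, b} : Set P) ≤ (centralizer ({σ c} : Set _)).comap σ := by
          rw [closure_le]
          rintro w (rfl | rfl)
          · exact mem_centralizer_singleton_iff.2 (hcz _ hcx).symm.eq
          · exact mem_centralizer_singleton_iff.2 (hcz _ (hcx.trans hsqb.symm)).symm.eq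
        exact (mem_centralizer_singleton_iff.1 (hle (hgab ▸ mem_top t))).symm
      rw [hL, Subgroup.commutator_le]
      intro d hd t _
      obtain ⟨y, ⟨i, rfl⟩, l, hl, rfl⟩ := mem_sup_of_normal_right.1 (central N hall d hd)
      rw [← QuotientGroup.eq_one_iff]
      show σ ⁅c ^ i * l, t⁆ = 1
      rw [map_commutatorElement, commutatorElement_eq_one_iff_mul_comm, map_mul,
        show σ l = 1 from (QuotientGroup.eq_one_iff l).2 hl, mul_one, map_zpow]
      have hct : Commute (σ c) (σ t) := commutatorElement_eq_one_iff_mul_comm.1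
        (by rw [← map_commutatorElement]; exact (QuotientGroup.eq_one_iff _).2 (hall t))
      exact (hct.zpow_left i).eq
    obtain ⟨n, hn⟩ := Subgroup.nilpotent_iff_lowerCentralSeries.1 (inferInstance : Group.IsNilpotent P)
    have hall : ∀ k, L ≤ Subgroup.lowerCentralSeries (⊤ : Subgroup P) k := by
      intro k
      induction k with
      | zero => exact le_top
      | succ k ih => exact hLL.trans ((commutator_mono ih le_rfl).trans_eq rfl)
    exact eq_bot_iff.2 ((hall n).trans_eq hn)
  have hinj : Function.Injective π := by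
    rw [← MonoidHom.ker_eq_bot_iff, hπ, QuotientGroup.ker_mk', hLbot]
  have hcval : ∀ d ∈ D, d = 1 ∨ d = c := fun d hd =>
    (hDval d hd).imp (fun h => hinj (h.trans (map_one π).symm)) (fun h => hinj h)
  have hc1 : c ≠ 1 := by
    intro h
    refine hna ⟨⟨fun u v => ?_⟩⟩
    rw [← commutatorElement_eq_one_iff_mul_comm]
    have : ⁅u, v⁆ ∈ D := hD ▸ commutator_mem_commutator (mem_top u) (mem_top v)
    rcases hcval _ this with e | e
    · exact e
    · rw [e, h]
  have hDcard : Nat.card D = 2 := by
    rw [Nat.card_eq_two_iff]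
    refine ⟨1, ⟨c, hcD⟩, fun h => hc1 (congrArg Subtype.val h).symm, ?_⟩
    ext ⟨d, hd⟩
    simp only [Set.mem_insert_iff, Set.mem_singleton_iff, Set.mem_univ, iff_true]
    exact (hcval d hd).imp (fun h => Subtype.ext h) (fun h => Subtype.ext h)
  have hcx' : c = x ^ 2 := hinj (by rw [map_pow]; exact hcx)
  have hcb : c = b ^ 2 := hinj (by rw [map_pow, hsqb]; exact hcx)
  have hcab : c = (x * b) ^ 2 := hinj (by rw [map_pow, map_mul, ← hsqxb, hsqαb, hsqb]; exact hcx)
  have hcen : ∀ d ∈ D, ∀ u, Commute d u := fun d hd u => hinj (by rw [map_mul, map_mul]; exact hDc d hd u)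
  have hd2 : ∀ d ∈ D, d ^ 2 = 1 := by
    intro d hd
    rcases hcval d hd with h | h
    · rw [h, one_pow]
    · rw [h]; exact hinj (by rw [map_pow, map_one, hc2])
  refine CfsgLib.Unitary.nonempty_mulEquiv_quaternion ?_ (fun u => ?_) ?_
  · rw [← D.card_mul_index, hDcard, h4]
  · rw [show (4 : ℕ) = 2 * 2 from rfl, pow_mul]; exact hd2 _ (hsq u)
  · have huniq : ∀ u : P, u ^ 2 = 1 → u ≠ 1 → u = c := by
      intro u hu hu1
      by_cases huD : u ∈ D
      · exact (hcval u huD).resolve_left hu1
      exfalso
      obtain ⟨r, hr, hru⟩ : ∃ r, r ^ 2 = c ∧ r⁻¹ * u ∈ D := by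
        by_contra hno
        push Not at hno
        have k1 := hno x hcx'.symm
        have k2 := hno b hcb.symm
        have k3 := hno (x * b) hcab.symm
        have hcard : Nat.card (P ⧸ D) = 4 := by rw [← index_eq_card]; exact h4
        have e : ∀ w v : P, (w : P ⧸ D) = v ↔ w⁻¹ * v ∈ D := fun w v => QuotientGroup.eq
        have hxb : x * b ∉ D := fun hm => hx (by
          have h' := mul_mem (inv_mem (hsq x)) hm
          simpa [pow_two, mul_assoc] using h')
        have n1 : (1 : P ⧸ D) ≠ x := fun h' => hxD ((QuotientGroup.eq_one_iff x).1 h'.symm)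
        have n2 : (1 : P ⧸ D) ≠ b := fun h' => hbD ((QuotientGroup.eq_one_iff b).1 h'.symm)
        have n3 : (1 : P ⧸ D) ≠ (x : P ⧸ D) * b := fun h' => hxb ((QuotientGroup.eq_one_iff _).1 h'.symm)
        have n4 : (1 : P ⧸ D) ≠ u := fun h' => huD ((QuotientGroup.eq_one_iff _).1 h'.symm)
        have n5 : (x : P ⧸ D) ≠ b := fun h' => hx ((e _ _).1 h')
        have n6 : (x : P ⧸ D) ≠ (x : P ⧸ D) * b := fun h' => n2 (mul_eq_left.1 h'.symm).symm
        have n7 : (x : P ⧸ D) ≠ u := fun h' => k1 ((e _ _).1 h')
        have n8 : (b : P ⧸ D) ≠ (x : P ⧸ D) * b := fun h' => n1 (mul_eq_right.1 h'.symm).symm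
        have n9 : (b : P ⧸ D) ≠ u := fun h' => k2 ((e _ _).1 h')
        have n10 : (x : P ⧸ D) * b ≠ u := fun h' => k3 ((e _ _).1 h')
        have hinj5 : Function.Injective (![(1 : P ⧸ D), x, b, x * b, u] : Fin 5 → P ⧸ D) := by
          intro i j hij
          fin_cases i <;> fin_cases j <;>
            first
              | rfl
              | exact absurd hij n1 | exact absurd hij.symm n1
              | exact absurd hij n2 | exact absurd hij.symm n2
              | exact absurd hij n3 | exact absurd hij.symm n3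
              | exact absurd hij n4 | exact absurd hij.symm n4
              | exact absurd hij n5 | exact absurd hij.symm n5
              | exact absurd hij n6 | exact absurd hij.symm n6
              | exact absurd hij n7 | exact absurd hij.symm n7
              | exact absurd hij n8 | exact absurd hij.symm n8
              | exact absurd hij n9 | exact absurd hij.symm n9
              | exact absurd hij n10 | exact absurd hij.symm n10
        have := Nat.card_le_card_of_injective _ hinj5
        rw [hcard, Nat.card_fin] at this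
        omega
      rw [show u = r * (r⁻¹ * u) by group, (hcen _ hru r).symm.mul_pow, hr, hd2 _ hru, mul_one] at hu
      exact hc1 hu
    exact fun u v hu hv hu1 hv1 => (huniq u hu hu1).trans (huniq v hv hv1).symm

end CfsgLib.QuatEight
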