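import Mathlib.GroupTheory.PGroup
import Mathlib.GroupTheory.Sylow
import Mathlib.GroupTheory.IndexNormal
import Mathlib.GroupTheory.SpecificGroups.Cyclic
import Mathlib.Data.Nat.Choose.Basic
import Mathlib.Data.Nat.Choose.Dvd
import Mathlib.Tactic.Ring
import Mathlib.Tactic.Group

/-!
A `p`-group with a unique subgroup of some intermediate order is cyclic.
-/

set_option autoImplicit false
set_option linter.unusedSectionVars false
set_option linter.style.haveILetI false

namespace CfsgLib.UniqueSubgroup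

universe u

theorem mul_pow_central {G : Type*} [Group G] {a b c : G} (hc : b * a = c * a * b) (hca : Commute c a)
    (hcb : Commute c b) : ∀ n : ℕ, (a * b) ^ n = a ^ n * b ^ n * c ^ n.choose 2 := by
  have hswap : ∀ n : ℕ, b ^ n * a = a * b ^ n * c ^ n := by
    intro n
    induction n with
    | zero => simp
    | succ n ih =>
      calc b ^ (n + 1) * a = b ^ n * (b * a) := by rw [pow_succ, mul_assoc]
        _ = b ^ n * (c * (a * b)) := by rw [hc, mul_assoc]
        _ = c * (b ^ n * (a * b)) := by rw [← mul_assoc, ← (hcb.pow_right n).eq, mul_assoc]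
        _ = c * (a * b ^ n * c ^ n * b) := by rw [← mul_assoc (b ^ n), ih]
        _ = c * (a * b ^ n * (b * c ^ n)) := by rw [mul_assoc _ (c ^ n), (hcb.pow_left n).eq]
        _ = a * b ^ (n + 1) * (c * c ^ n) := by
          simp only [mul_assoc, pow_succ b]
          rw [hca.left_comm, (hcb.pow_right n).left_comm, hcb.left_comm]
        _ = a * b ^ (n + 1) * c ^ (n + 1) := by rw [← pow_succ']
  intro n
  induction n with
  | zero => simp
  | succ n ih =>
    have h2 : Commute (c ^ n.choose 2) (a * b) := (hca.pow_left _).mul_right (hcb.pow_left _)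
    calc (a * b) ^ (n + 1) = a ^ n * b ^ n * c ^ n.choose 2 * (a * b) := by rw [pow_succ, ih]
      _ = a ^ n * (b ^ n * a) * b * c ^ n.choose 2 := by
        rw [mul_assoc _ (c ^ n.choose 2), h2.eq]; simp only [mul_assoc]
      _ = a ^ n * (a * b ^ n * c ^ n) * b * c ^ n.choose 2 := by rw [hswap]
      _ = a ^ (n + 1) * b ^ (n + 1) * (c ^ n * c ^ n.choose 2) := by
        rw [pow_succ a, pow_succ b]
        simp only [mul_assoc]
        rw [← mul_assoc (c ^ n) b, (hcb.pow_left n).eq]
        simp only [mul_assoc]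
      _ = _ := by
        rw [← pow_add, show (n + 1).choose 2 = n + n.choose 2 by
          rw [Nat.choose_succ_succ', Nat.choose_one_right]]

theorem isCyclic_of_unique (p : ℕ) (hp : p.Prime) : ∀ (m : ℕ) (G : Type u) [Group G] [Finite G],
    Nat.card G = p ^ m → ∀ s, 1 ≤ s → s < m → (p ≠ 2 ∨ 2 ≤ s) →
      (∀ H K : Subgroup G, Nat.card H = p ^ s → Nat.card K = p ^ s → H = K) → IsCyclic G := by
  haveI := Fact.mk hp
  intro m
  induction m using Nat.strong_induction_on with
  | _ m ih =>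
  intro G _ _ hG s hs hsm h2 huniq
  have hPG : IsPGroup p G := IsPGroup.of_card hG
  -- enough to find a unique maximal subgroup
  have honly : (∀ M M' : Subgroup G, Nat.card M = p ^ (m - 1) → Nat.card M' = p ^ (m - 1) → M = M') →
      IsCyclic G := by
    intro h
    obtain ⟨M, hM⟩ := Sylow.exists_subgroup_card_pow_prime p (n := m - 1) (G := G)
      (hG ▸ pow_dvd_pow p (by omega))
    have hne : M ≠ ⊤ := fun e => by
      rw [e, Subgroup.card_top, hG] at hM
      have := Nat.pow_right_injective hp.two_le hM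
      omega
    obtain ⟨x, hx⟩ : ∃ x, x ∉ M := by
      by_contra hall
      push Not at hall
      exact hne ((Subgroup.eq_top_iff' M).2 hall)
    by_cases htop : Subgroup.zpowers x = ⊤
    · exact isCyclic_iff_exists_zpowers_eq_top.2 ⟨x, htop⟩
    obtain ⟨i, hi⟩ := IsPGroup.iff_card.1 (hPG.to_subgroup (Subgroup.zpowers x))
    have him : i ≤ m - 1 := by
      by_contra hlt
      refine htop (Subgroup.eq_top_of_le_card _ ?_)
      rw [hG, hi]
      exact Nat.pow_le_pow_right hp.pos (by omega)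
    obtain ⟨K, hK, hxK⟩ := Sylow.exists_subgroup_card_pow_prime_le p (n := i) (m := m - 1)
      (hG ▸ pow_dvd_pow p (by omega)) (Subgroup.zpowers x) hi him
    exact absurd ((h M K hM hK) ▸ hxK (Subgroup.mem_zpowers x)) hx
  by_cases hsm1 : s = m - 1
  · exact honly (hsm1 ▸ huniq)
  refine honly fun M M' hM hM' => ?_
  by_contra hne
  have hcyc : ∀ K : Subgroup G, Nat.card K = p ^ (m - 1) → IsCyclic K := by
    intro K hK
    refine ih (m - 1) (by omega) K hK s hs (by omega) h2 fun A B hA hB => ?_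
    refine Subgroup.map_injective K.subtype_injective (huniq _ _ ?_ ?_)
    · rw [Subgroup.card_map_of_injective K.subtype_injective]; exact hA
    · rw [Subgroup.card_map_of_injective K.subtype_injective]; exact hB
  have hidx : ∀ K : Subgroup G, Nat.card K = p ^ (m - 1) → K.index = p := by
    intro K hK
    refine Nat.eq_of_mul_eq_mul_left (pow_pos hp.pos (m - 1)) ?_
    rw [← hK, Subgroup.card_mul_index, hG, hK, ← pow_succ, Nat.sub_add_cancel (by omega)]
  have hnor : ∀ K : Subgroup G, Nat.card K = p ^ (m - 1) → K.Normal := by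
    intro K hK
    refine Subgroup.normal_of_index_eq_minFac_card ?_
    rw [hidx K hK, hG, Nat.pow_minFac (by omega), hp.minFac_eq]
  haveI := hnor M hM
  haveI := hnor M' hM'
  obtain ⟨x, hxM⟩ := isCyclic_iff_exists_zpowers_eq_top.1 (hcyc M hM)
  obtain ⟨y, hyM⟩ := isCyclic_iff_exists_zpowers_eq_top.1 (hcyc M' hM')
  have gen : ∀ (K : Subgroup G) (x : K), Subgroup.zpowers x = ⊤ → Subgroup.zpowers (x : G) = K := by
    intro K x hx
    have h := MonoidHom.map_zpowers K.subtype x
    rw [hx, ← MonoidHom.range_eq_map, Subgroup.range_subtype] at h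
    exact h.symm
  have hMx := gen M x hxM
  have hMy := gen M' y hyM
  have hxnot : (x : G) ∉ M' := fun h => hne (Subgroup.eq_of_le_of_card_ge
    (hMx ▸ Subgroup.zpowers_le.2 h) (by rw [hM, hM']))
  have hynot : (y : G) ∉ M := fun h => hne (Subgroup.eq_of_le_of_card_ge
    (hMy ▸ Subgroup.zpowers_le.2 h) (by rw [hM, hM'])).symm
  set Z := M ⊓ M' with hZ
  have hZx : ∀ z ∈ Z, Commute z (x : G) := fun z hz => by
    obtain ⟨j, hj⟩ := hMx ▸ hz.1
    rw [← hj]; exact (Commute.refl _).zpow_left j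
  have hZy : ∀ z ∈ Z, Commute z (y : G) := fun z hz => by
    obtain ⟨j, hj⟩ := hMy ▸ hz.2
    rw [← hj]; exact (Commute.refl _).zpow_left j
  obtain ⟨c, hcdef⟩ : ∃ c : G, c = y * x * (y : G)⁻¹ * (x : G)⁻¹ := ⟨_, rfl⟩
  have hcZ : c ∈ Z := by
    refine ⟨show c ∈ M from ?_, show c ∈ M' from ?_⟩ <;> rw [hcdef]
    · exact mul_mem ((inferInstance : M.Normal).conj_mem _ x.2 _) (inv_mem x.2)
    · rw [show (y : G) * x * (y : G)⁻¹ * (x : G)⁻¹ = y * ((x : G) * (y : G)⁻¹ * (x : G)⁻¹) by group]
      exact mul_mem y.2 ((inferInstance : M'.Normal).conj_mem _ (inv_mem y.2) _)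
  have hyxc : (y : G) * x = c * x * y := by rw [hcdef]; group
  have hypZ : (y : G) ^ p ∈ Z :=
    ⟨hidx M hM ▸ Subgroup.pow_index_mem M _, pow_mem y.2 _⟩
  have hxpZ : (x : G) ^ p ∈ Z :=
    ⟨pow_mem x.2 _, hidx M' hM' ▸ Subgroup.pow_index_mem M' _⟩
  have hswap : ∀ i : ℕ, (y : G) ^ i * x = c ^ i * x * (y : G) ^ i := by
    intro i
    induction i with
    | zero => simp
    | succ i hi =>
      rw [pow_succ', mul_assoc, hi, ← mul_assoc, ← mul_assoc, ((hZy c hcZ).pow_left i).eq.symm,
        mul_assoc (c ^ i) (y : G), hyxc, pow_succ c]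
      simp only [mul_assoc]
  have hcp : c ^ p = 1 := by
    have h := hswap p
    rw [(hZx _ hypZ).eq] at h
    exact mul_eq_right.1 (mul_right_cancel h).symm
  set C := p.choose 2 with hC
  set u := (y : G) ^ p * c ^ C with hu
  have huZ : u ∈ Z := mul_mem hypZ (pow_mem hcZ _)
  have hoy : orderOf (y : G) = p ^ (m - 1) := by rw [← Nat.card_zpowers, hMy, hM']
  have hoyp : orderOf ((y : G) ^ p) = p ^ (m - 2) := by
    rw [orderOf_pow' _ hp.ne_zero, hoy, Nat.gcd_eq_right (dvd_pow_self p (by omega : m - 1 ≠ 0))]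
    refine Nat.div_eq_of_eq_mul_left hp.pos ?_
    rw [← pow_succ]; congr 1; omega
  have hZeq : Z = Subgroup.zpowers ((y : G) ^ p) := by
    refine (Subgroup.eq_of_le_of_card_ge (Subgroup.zpowers_le.2 hypZ) ?_).symm
    rw [Nat.card_zpowers, hoyp]
    obtain ⟨i, hi⟩ := IsPGroup.iff_card.1 (hPG.to_subgroup Z)
    rw [hi]
    refine Nat.pow_le_pow_right hp.pos ?_
    by_contra hlt
    refine hynot ?_
    have h : Z = M' := Subgroup.eq_of_le_of_card_ge inf_le_right
      (by rw [hi, hM']; exact Nat.pow_le_pow_right hp.pos (by omega))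
    have : (y : G) ∈ Z := (le_of_eq h.symm) y.2
    exact this.1
  have hou : orderOf u = p ^ (m - 2) := by
    obtain ⟨t, ht⟩ : ∃ t, m = t + 3 := ⟨m - 3, by omega⟩
    subst ht
    have hcomm : Commute ((y : G) ^ p) (c ^ C) := ((hZy c hcZ).pow_pow C p).symm
    have hd : (c ^ C) ^ p ^ t = 1 := by
      rcases Nat.eq_zero_or_pos t with ht0 | htp
      · have hp2 : p ≠ 2 := h2.resolve_right (by omega)
        obtain ⟨d, hd⟩ := hp.dvd_choose_self two_ne_zero (lt_of_le_of_ne hp.two_le hp2.symm)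
        rw [hC, hd, pow_mul, hcp, one_pow, one_pow]
      · obtain ⟨t', rfl⟩ : ∃ t', t = t' + 1 := ⟨t - 1, by omega⟩
        rw [← pow_mul, mul_comm, pow_mul, pow_succ', pow_mul, hcp, one_pow, one_pow]
    rw [show t + 3 - 2 = t + 1 by omega] at hoyp ⊢
    refine orderOf_eq_prime_pow ?_ ?_
    · rw [hu, hcomm.mul_pow, hd, mul_one]
      intro h
      have := Nat.le_of_dvd (pow_pos hp.pos t) (hoyp ▸ orderOf_dvd_of_pow_eq_one h)
      exact absurd ((Nat.pow_le_pow_iff_right hp.one_lt).1 this) (by omega)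
    · rw [hu, hcomm.mul_pow, pow_succ p t, pow_mul (c ^ C), hd, one_pow, mul_one, ← pow_succ p t,
        ← hoyp, pow_orderOf_eq_one]
  have hZu : Z = Subgroup.zpowers u := by
    refine (Subgroup.eq_of_le_of_card_ge (Subgroup.zpowers_le.2 huZ) ?_).symm
    rw [Nat.card_zpowers, hou, hZeq, Nat.card_zpowers, hoyp]
  obtain ⟨i, hi⟩ : ∃ i : ℕ, u ^ i = ((x : G) ^ p)⁻¹ :=
    mem_powers_iff_mem_zpowers.2 (hZu ▸ inv_mem hxpZ)
  set w := (x : G) * (y : G) ^ i with hw
  have hwp : w ^ p = 1 := by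
    have h := mul_pow_central (a := (x : G)) (b := (y : G) ^ i) (c := c ^ i) (hswap i)
      ((hZx c hcZ).pow_left i) ((hZy c hcZ).pow_pow i i) p
    rw [hw, h, ← pow_mul, mul_comm i p, pow_mul, ← hC, ← pow_mul c i C, mul_comm i C, pow_mul,
      mul_assoc, ← (((hZy c hcZ).pow_pow C p).symm).mul_pow, ← hu, hi, mul_inv_cancel]
  have hwnot : w ∉ M' := fun h => hxnot (by simpa [hw] using mul_mem h (inv_mem (pow_mem y.2 i)))
  have hw1 : w ≠ 1 := fun h => hwnot (h ▸ one_mem M')
  obtain ⟨H1, hH1, hwH1⟩ := Sylow.exists_subgroup_card_pow_prime_le p (n := 1) (m := s)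
    (hG ▸ pow_dvd_pow p hsm.le) (Subgroup.zpowers w)
    (by rw [Nat.card_zpowers, orderOf_eq_prime hwp hw1, pow_one]) hs
  obtain ⟨H0, hH0⟩ := Sylow.exists_subgroup_card_pow_prime p (n := s) (G := Z)
    (by rw [hZeq, Nat.card_zpowers, hoyp]; exact pow_dvd_pow p (by omega))
  have heq := huniq H1 (H0.map Z.subtype) hH1
    (by rw [Subgroup.card_map_of_injective Z.subtype_injective]; exact hH0)
  have : w ∈ H0.map Z.subtype := heq ▸ hwH1 (Subgroup.mem_zpowers w)
  exact hwnot (Subgroup.map_subtype_le H0 this).2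

end CfsgLib.UniqueSubgroup
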