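import Mathlib.GroupTheory.Transfer
import Mathlib.GroupTheory.PGroup
import Mathlib.GroupTheory.QuotientGroup.Basic
import Mathlib.Tactic
import Cfsg.Agent.FGSB.UniqueSubgroup

/-!
A group acting on two finite abelian groups of coprime prime power orders such that every
nonidentity element has only the trivial fixed points.
-/

set_option autoImplicit false
set_option linter.unusedSectionVars false
set_option linter.style.haveILetI false

namespace CfsgLib.SemiregularPair

open Subgroup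

section OneSide

/-- Every element fixes `Z` and a nonidentity element fixes nothing else. -/
def Semi {Γ : Type*} [Group Γ] {W : Type*} [Group W] (ρ : Γ →* MulAut W) (Z : Subgroup W) : Prop :=
  (∀ γ, ∀ z ∈ Z, ρ γ z = z) ∧ ∀ γ, γ ≠ 1 → ∀ w, ρ γ w = w → w ∈ Z

variable {Γ : Type*} [Group Γ] [Finite Γ] {W : Type*} [CommGroup W] [Finite W]
  {ρ : Γ →* MulAut W} {Z : Subgroup W}

theorem coprime_lift (h : Semi ρ Z) {p : ℕ} (hW : IsPGroup p W) {γ : Γ} (hγ : γ ≠ 1)
    (hc : (orderOf γ).Coprime p) {w : W} (hw : ρ γ w * w⁻¹ ∈ Z) : w ∈ Z := by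
  set z := ρ γ w * w⁻¹
  have key : ∀ j : ℕ, ρ (γ ^ j) w = z ^ j * w := by
    intro j
    induction j with
    | zero => simp
    | succ j ih =>
      rw [pow_succ', map_mul, MulAut.mul_apply, ih, map_mul, map_pow, h.1 γ z hw, pow_succ]
      show z ^ j * ρ γ w = z ^ j * (ρ γ w * w⁻¹) * w
      rw [mul_assoc, inv_mul_cancel_right]
  have h1 := key (orderOf γ)
  rw [pow_orderOf_eq_one, map_one, MulAut.one_apply, right_eq_mul] at h1
  obtain ⟨k, hk⟩ := hW z
  have h2 : z = 1 := orderOf_eq_one_iff.1 (Nat.eq_one_of_dvd_coprimes (hc.pow_right k)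
    (orderOf_dvd_iff_pow_eq_one.2 h1) (orderOf_dvd_iff_pow_eq_one.2 hk))
  exact h.2 γ hγ w (mul_inv_eq_one.1 h2)

theorem norm_range_mem (h : Semi ρ Z) {γ : Γ} (hγ : γ ≠ 1) {s : ℕ} (hs : γ ^ s = 1) (w : W) :
    ∏ j ∈ Finset.range s, ρ (γ ^ j) w ∈ Z := by
  refine h.2 γ hγ _ ?_
  rw [map_prod]
  have e1 : ∏ j ∈ Finset.range (s + 1), ρ (γ ^ j) w = (∏ j ∈ Finset.range s, ρ (γ ^ (j + 1)) w) * w := by
    rw [Finset.prod_range_succ']; simp
  have e2 : ∏ j ∈ Finset.range (s + 1), ρ (γ ^ j) w = (∏ j ∈ Finset.range s, ρ (γ ^ j) w) * w := by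
    rw [Finset.prod_range_succ, hs]; simp
  rw [e2] at e1
  rw [mul_right_cancel e1]
  refine Finset.prod_congr rfl fun j _ => ?_
  rw [pow_succ', map_mul, MulAut.mul_apply]

/-- No elementary abelian subgroup of order `s ^ 2`. -/
theorem no_two_generators (h : Semi ρ Z) {p : ℕ} (hW : IsPGroup p W) (hZ : Z ≠ ⊤) {s : ℕ} (hs : s.Prime)
    (hsp : s.Coprime p) {c d : Γ} (hcd : Commute c d) (hc : c ^ s = 1) (hc1 : c ≠ 1) (hd : d ^ s = 1)
    (hdc : d ∉ zpowers c) : False := by
  obtain ⟨w, -, hw⟩ := SetLike.exists_of_lt (lt_top_iff_ne_top.2 hZ)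
  refine hw ?_
  have hline : ∀ i : ℕ, ∏ j ∈ Finset.range s, ρ ((c ^ i * d) ^ j) w ∈ Z := fun i => by
    refine norm_range_mem h (fun e => hdc ?_) ?_ w
    · rw [eq_inv_of_mul_eq_one_right e]
      exact inv_mem (pow_mem (mem_zpowers c) i)
    · rw [(hcd.pow_left i).mul_pow, ← pow_mul, mul_comm i, pow_mul, hc, one_pow, hd, one_mul]
  have htot : ∏ j ∈ Finset.range s, ∏ i ∈ Finset.range s, ρ ((c ^ i * d) ^ j) w ∈ Z := by
    rw [Finset.prod_comm]
    exact prod_mem fun i _ => hline i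
  rw [← Finset.prod_erase_mul _ _ (Finset.mem_range.2 hs.pos)] at htot
  have hother : ∏ j ∈ (Finset.range s).erase 0, ∏ i ∈ Finset.range s, ρ ((c ^ i * d) ^ j) w ∈ Z := by
    refine prod_mem fun j hj => ?_
    obtain ⟨hj0, hj⟩ := Finset.mem_erase.1 hj
    have e : ∀ i : ℕ, ρ ((c ^ i * d) ^ j) w = ρ ((c ^ j) ^ i) (ρ (d ^ j) w) := fun i => by
      rw [(hcd.pow_left i).mul_pow, ← pow_mul, mul_comm i, pow_mul, map_mul, MulAut.mul_apply]
    simp only [e]
    refine norm_range_mem h (fun e' => ?_) (by rw [← pow_mul, mul_comm, pow_mul, hc, one_pow]) _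
    have h1 : orderOf c = s := by
      haveI := Fact.mk hs
      exact orderOf_eq_prime hc hc1
    have := Nat.le_of_dvd (Nat.pos_of_ne_zero hj0) (h1 ▸ orderOf_dvd_iff_pow_eq_one.2 e')
    exact absurd (Finset.mem_range.1 hj) (not_lt.2 this)
  have h1 : w ^ s ∈ Z := by
    have h2 := (Z.mul_mem_cancel_left hother).1 htot
    simpa using h2
  obtain ⟨k, hk⟩ := hW w
  obtain ⟨m, hm⟩ := exists_pow_eq_self_of_coprime (x := w) (n := s)
    (Nat.Coprime.coprime_dvd_right (orderOf_dvd_iff_pow_eq_one.2 hk) (hsp.pow_right k))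
  exact hm ▸ pow_mem h1 m

/-- The averaging argument. -/
theorem average (h : Semi ρ Z) {p : ℕ} [Fact p.Prime] (hW : IsPGroup p W) (B : Subgroup Γ) (hB : B ≠ ⊥)
    (hBp : ¬ p ∣ Nat.card B) (β : Γ ≃* Γ) (hβ : B.map β.toMonoidHom = B) (e : W ≃* W)
    (he : ∀ γ w, e (ρ γ w) = ρ (β γ) (e w)) (heZ : ∀ z ∈ Z, e z = z) {w₀ z : W} (hw : e w₀ = w₀ * z)
    (hz : z ∈ Z) : z = 1 := by
  classical
  haveI : Fintype B := Fintype.ofFinite B
  obtain ⟨b₀, hb₀⟩ := (nontrivial_iff_exists_ne (1 : B)).1 ((nontrivial_iff_ne_bot B).2 hB)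
  set N : W → W := fun w => ∏ b : B, ρ b w with hN
  have hNZ : ∀ w, N w ∈ Z := fun w => by
    refine h.2 (b₀ : Γ) (fun e => hb₀ (Subtype.ext e)) _ ?_
    simp only [hN, map_prod]
    exact Fintype.prod_equiv (Equiv.mulLeft b₀) _ _ fun b => by
      simp [map_mul, MulAut.mul_apply]
  let σ : B ≃* B := (β.subgroupMap B).trans (MulEquiv.subgroupCongr hβ)
  have h1 : e (N w₀) = N (e w₀) := by
    simp only [hN, map_prod]
    refine Fintype.prod_equiv σ.toEquiv _ _ fun b => ?_
    rw [he]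
    rfl
  rw [heZ _ (hNZ _), hw] at h1
  have h2 : N (w₀ * z) = N w₀ * z ^ Nat.card B := by
    simp only [hN, map_mul, Finset.prod_mul_distrib, Nat.card_eq_fintype_card]
    congr 1
    simp [h.1 _ z hz]
  rw [h2, left_eq_mul] at h1
  obtain ⟨k, hk⟩ := hW z
  exact orderOf_eq_one_iff.1 (Nat.eq_one_of_dvd_coprimes
    (((Nat.Prime.coprime_iff_not_dvd Fact.out).2 hBp).pow_left k)
    (orderOf_dvd_iff_pow_eq_one.2 hk) (orderOf_dvd_iff_pow_eq_one.2 h1))

/-- A `p`-element moves some point only inside `Z`. -/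
theorem exists_move (h : Semi ρ Z) {p : ℕ} [hp : Fact p.Prime] (hW : IsPGroup p W) (hZ : Z ≠ ⊤) {t : Γ}
    (ht : t ≠ 1) (htp : IsPGroup p (zpowers t)) : ∃ w z : W, z ∈ Z ∧ z ≠ 1 ∧ ρ t w = w * z := by
  classical
  let ψ : Γ → (W ⧸ Z) →* (W ⧸ Z) := fun g => QuotientGroup.map Z Z (ρ g).toMonoidHom
    fun z hz => by simpa [h.1 g z hz] using hz
  have hψ : ∀ (g : Γ) (w : W), ψ g (w : W ⧸ Z) = ((ρ g w : W) : W ⧸ Z) := fun g w => rfl
  letI : MulAction (zpowers t) (W ⧸ Z) :=
    { smul := fun g a => ψ g a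
      one_smul := fun a => by
        obtain ⟨a, rfl⟩ := QuotientGroup.mk_surjective a
        show ψ _ _ = _
        simp [hψ]
      mul_smul := fun g g' a => by
        obtain ⟨a, rfl⟩ := QuotientGroup.mk_surjective a
        show ψ _ _ = ψ _ (ψ _ _)
        simp [hψ, map_mul, MulAut.mul_apply] }
  haveI : Nontrivial (W ⧸ Z) := Finite.one_lt_card_iff_nontrivial.1
    (lt_of_le_of_ne Nat.card_pos (fun e => hZ (index_eq_one.1 e.symm)))
  obtain ⟨b, hb, hb1⟩ := htp.exists_fixed_point_of_prime_dvd_card_of_fixed_point (W ⧸ Z)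
    (by
      obtain ⟨k, hk⟩ := (hW.to_quotient Z).exists_card_eq
      rcases k with _ | k
      · exact absurd hk (by rw [pow_zero]; exact (Finite.one_lt_card (α := W ⧸ Z)).ne')
      · exact hk ▸ dvd_pow_self p (Nat.succ_ne_zero k))
    (a := 1) (fun g => map_one (ψ g))
  obtain ⟨w, rfl⟩ := QuotientGroup.mk_surjective b
  have h1 : ((ρ t w : W) : W ⧸ Z) = (w : W ⧸ Z) := hb ⟨t, mem_zpowers t⟩
  refine ⟨w, w⁻¹ * ρ t w, QuotientGroup.eq.1 h1.symm, fun e => hb1 ?_, (mul_inv_cancel_left _ _).symm⟩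
  exact ((QuotientGroup.eq_one_iff w).2 (h.2 t ht w (inv_mul_eq_one.1 e).symm)).symm

/-- No nontrivial `p'`-subgroup is normalized by a nontrivial `p`-element. -/
theorem no_normalized (h : Semi ρ Z) {p : ℕ} [Fact p.Prime] (hW : IsPGroup p W) (hZ : Z ≠ ⊤)
    (B : Subgroup Γ) (hB : B ≠ ⊥) (hBp : ¬ p ∣ Nat.card B) {t : Γ} (ht : t ≠ 1)
    (htp : IsPGroup p (zpowers t)) (htB : B.map (MulAut.conj t).toMonoidHom = B) : False := by
  obtain ⟨w, z, hz, hz1, hw⟩ := exists_move h hW hZ ht htp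
  refine hz1 (average h hW B hB hBp (MulAut.conj t) htB (ρ t) (fun γ v => ?_) (h.1 t) hw hz)
  rw [← MulAut.mul_apply, ← map_mul, ← MulAut.mul_apply, ← map_mul, MulAut.conj_apply, inv_mul_cancel_right]

/-- The kernel of the action modulo `Z`. -/
def modKer (h : Semi ρ Z) : Subgroup Γ where
  carrier := {γ | ∀ w, ρ γ w * w⁻¹ ∈ Z}
  one_mem' := fun w => by simp
  mul_mem' := fun {a b} ha hb w => by
    rw [map_mul, MulAut.mul_apply]
    have := mul_mem (ha (ρ b w)) (hb w)
    rwa [show ρ a (ρ b w) * (ρ b w)⁻¹ * (ρ b w * w⁻¹) = ρ a (ρ b w) * w⁻¹ by group] at this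
  inv_mem' := fun {a} ha w => by
    have h1 := inv_mem (ha (ρ a⁻¹ w))
    rw [← MulAut.mul_apply, ← map_mul, mul_inv_cancel, map_one, MulAut.one_apply] at h1
    simpa using h1

theorem isPGroup_modKer (h : Semi ρ Z) {p : ℕ} [hp : Fact p.Prime] (hW : IsPGroup p W) (hZ : Z ≠ ⊤) :
    IsPGroup p (modKer h) := by
  intro γ
  by_contra hcon
  push Not at hcon
  set k := (orderOf γ).factorization p
  refine absurd ?_ hZ
  refine eq_top_iff.2 fun w _ => coprime_lift h hW (γ := ((γ ^ p ^ k : modKer h) : Γ))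
    (fun e => hcon k (Subtype.ext e)) ?_ ((γ ^ p ^ k : modKer h).2 w)
  rw [Subgroup.orderOf_coe, orderOf_pow_of_dvd (pow_ne_zero _ hp.out.ne_zero) (Nat.ordProj_dvd _ _)]
  exact (Nat.coprime_ordCompl hp.out (orderOf_pos γ).ne').symm

/-- An involution inverts everything modulo `Z`, in odd characteristic. -/
theorem involution_inverts (h : Semi ρ Z) {γ : Γ} (hγ : γ ≠ 1) (h2 : γ ^ 2 = 1) (w : W) :
    ρ γ w * w ∈ Z := by
  refine h.2 γ hγ _ ?_
  rw [map_mul, ← MulAut.mul_apply, ← map_mul, ← pow_two, h2, map_one, MulAut.one_apply, mul_comm]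

end OneSide

/-- The pair cannot exist. -/
theorem core {Γ X Y : Type*} [Group Γ] [Finite Γ] [CommGroup X] [Finite X] [CommGroup Y] [Finite Y]
    {r q : ℕ} [Fact r.Prime] [Fact q.Prime] (hrq : r ≠ q) (hX : IsPGroup r X) (hY : IsPGroup q Y)
    (ρX : Γ →* MulAut X) (ρY : Γ →* MulAut Y) (ZX : Subgroup X) (ZY : Subgroup Y) (hSX : Semi ρX ZX)
    (hSY : Semi ρY ZY) (hZX : ZX ≠ ⊤) (hZY : ZY ≠ ⊤) (α : Γ ≃* Γ) (f : Y ≃* Y) (g : X ≃* X)
    (hf : ∀ γ y, f (ρY γ y) = ρY (α γ) (f y)) (hg : ∀ γ x, g (ρX γ x) = ρX (α γ) (g x))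
    (hfZ : ∀ z ∈ ZY, f z = z) (hgZ : ∀ z ∈ ZX, g z = z) {y₀ z : Y} (hy₀ : f y₀ = y₀ * z) (hz : z ∈ ZY)
    (hz1 : z ≠ 1) (hr : r ∣ Nat.card Γ) : False := by
  classical
  have hr' := (Fact.out : r.Prime)
  have hq' := (Fact.out : q.Prime)
  have T2 : ∀ B : Subgroup Γ, B ≠ ⊥ → B.map α.toMonoidHom = B → q ∣ Nat.card B := fun B hB hBα =>
    by_contra fun hq => hz1 (average hSY hY B hB hq α hBα f hf hfZ hy₀ hz)
  suffices ∀ n, ∀ M : Subgroup Γ, Nat.card M = n → M.map α.toMonoidHom = M → r ∣ n → False from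
    this _ ⊤ rfl (map_top_of_surjective _ α.surjective) (by rwa [card_top])
  intro n
  induction n using Nat.strong_induction_on with
  | _ n IH =>
  intro M hn hMα hrn
  subst hn
  have hMbot : M ≠ ⊥ := fun e => by
    rw [e, card_bot, Nat.dvd_one] at hrn
    exact hr'.ne_one hrn
  obtain ⟨t, ht⟩ := exists_prime_orderOf_dvd_card' (G := M) r hrn
  have ht1 : (t : Γ) ≠ 1 := fun e => by
    rw [← Subgroup.orderOf_coe, e, orderOf_one] at ht
    exact hr'.ne_one ht.symm
  have htp : IsPGroup r (zpowers (t : Γ)) :=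
    IsPGroup.of_card (n := 1) (by rw [Nat.card_zpowers, Subgroup.orderOf_coe, ht, pow_one])
  have hαM : ∀ γ, α γ ∈ M ↔ γ ∈ M := fun γ => by
    constructor
    · intro hγ
      rw [← hMα] at hγ
      obtain ⟨δ, hδ, e⟩ := hγ
      exact α.injective e ▸ hδ
    · intro hγ
      rw [← hMα]
      exact mem_map_of_mem _ hγ
  -- subgroups normal in `M`
  have T1 : ∀ B : Subgroup Γ, B ≤ M → M ≤ normalizer (B : Set Γ) → B ≠ ⊥ → r ∣ Nat.card B := by
    intro B _ hBn hB
    by_contra hBr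
    refine no_normalized hSX hX hZX B hB hBr ht1 htp ?_
    ext y
    rw [Subgroup.mem_map_equiv, MulAut.conj_symm_apply]
    simpa using (mem_normalizer_iff.1 (inv_mem (hBn t.2)) y).symm
  set s := (Nat.card M).minFac
  have hs : s.Prime := Nat.minFac_prime (fun e => hMbot (card_eq_one.1 e))
  haveI := Fact.mk hs
  by_cases hs2 : s = 2
  · -- a unique involution
    obtain ⟨w, hw⟩ := exists_prime_orderOf_dvd_card' (G := M) 2 (hs2 ▸ Nat.minFac_dvd _)
    have hw1 : (w : Γ) ≠ 1 := fun e => by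
      rw [← Subgroup.orderOf_coe, e, orderOf_one] at hw
      omega
    have hw2 : (w : Γ) ^ 2 = 1 := by rw [← hw, ← Subgroup.orderOf_coe, pow_orderOf_eq_one]
    have huniq : ∀ v : Γ, v ∈ M → v ≠ 1 → v ^ 2 = 1 → v = w := by
      intro v hv hv1 hv2
      suffices h : v * w = 1 by
        rw [eq_inv_of_mul_eq_one_left h, inv_eq_of_mul_eq_one_right (by rw [← pow_two]; exact hw2)]
      by_cases hr2 : r = 2
      · -- inversion on `Y`
        set K := M ⊓ modKer hSY
        have hK : v * (w : Γ) ∈ K := ⟨mul_mem hv w.2, fun y => by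
          have h1 := involution_inverts hSY hv1 hv2 (ρY w y)
          have h2 := involution_inverts hSY hw1 hw2 y
          rw [map_mul, MulAut.mul_apply]
          have := mul_mem h1 (inv_mem h2)
          rwa [show ρY v (ρY w y) * ρY w y * (ρY w y * y)⁻¹ = ρY v (ρY w y) * y⁻¹ by
            rw [mul_inv_rev, mul_comm y⁻¹, ← mul_assoc, mul_inv_cancel_right]] at this⟩
        by_contra hne
        obtain ⟨k, hk⟩ := ((isPGroup_modKer hSY hY hZY).to_le (inf_le_right (a := M))).exists_card_eq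
        have hdvd := T1 K inf_le_left (fun m hm => mem_normalizer_iff.2 fun γ => ?_)
          (fun e => hne (mem_bot.1 (e ▸ hK)))
        · rw [show Nat.card K = q ^ k from hk] at hdvd
          exact hrq ((Nat.prime_dvd_prime_iff_eq hr' hq').1 (hr'.dvd_of_dvd_pow hdvd))
        · have key : ∀ m ∈ M, ∀ γ ∈ K, m * γ * m⁻¹ ∈ K := fun m hm γ hγ =>
            Subgroup.mem_inf.2 ⟨mul_mem (mul_mem hm (Subgroup.mem_inf.1 hγ).1) (inv_mem hm), fun y => by
              set y' := ρY m⁻¹ y with hy'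
              have e : y = ρY m y' := by
                rw [hy', ← MulAut.mul_apply, ← map_mul, mul_inv_cancel, map_one, MulAut.one_apply]
              rw [map_mul, map_mul, MulAut.mul_apply, MulAut.mul_apply, ← hy', e, ← map_inv (ρY m) y',
                ← map_mul, hSY.1 m _ (hγ.2 y')]
              exact (Subgroup.mem_inf.1 hγ).2 y'⟩
          exact ⟨key m hm γ, fun h => by simpa [mul_assoc] using key _ (inv_mem hm) _ h⟩
      · -- inversion on `X`
        set K := M ⊓ modKer hSX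
        have hK : v * (w : Γ) ∈ K := ⟨mul_mem hv w.2, fun y => by
          have h1 := involution_inverts hSX hv1 hv2 (ρX w y)
          have h2 := involution_inverts hSX hw1 hw2 y
          rw [map_mul, MulAut.mul_apply]
          have := mul_mem h1 (inv_mem h2)
          rwa [show ρX v (ρX w y) * ρX w y * (ρX w y * y)⁻¹ = ρX v (ρX w y) * y⁻¹ by
            rw [mul_inv_rev, mul_comm y⁻¹, ← mul_assoc, mul_inv_cancel_right]] at this⟩
        by_contra hne
        obtain ⟨k, hk⟩ := ((isPGroup_modKer hSX hX hZX).to_le (inf_le_right (a := M))).exists_card_eq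
        have key : ∀ γ ∈ K, α γ ∈ K := fun γ hγ => ⟨(hαM γ).2 hγ.1, fun x => by
          obtain ⟨x', rfl⟩ := g.surjective x
          rw [← hg, ← map_inv g, ← map_mul, hgZ _ (hγ.2 x')]
          exact hγ.2 x'⟩
        have hKα : K.map α.toMonoidHom = K := eq_of_le_of_card_ge
          (by rintro _ ⟨γ, hγ, rfl⟩; exact key γ hγ)
          (by rw [card_map_of_injective (f := α.toMonoidHom) α.injective])
        have hdvd := T2 K (fun e => hne (mem_bot.1 (e ▸ hK))) hKα
        rw [show Nat.card K = r ^ k from hk] at hdvd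
        exact hrq ((Nat.prime_dvd_prime_iff_eq hq' hr').1 (hq'.dvd_of_dvd_pow hdvd)).symm
    set B := zpowers (w : Γ)
    have hBle : B ≤ M := zpowers_le.2 w.2
    have hBcard : Nat.card B = 2 := by rw [Nat.card_zpowers, Subgroup.orderOf_coe, hw]
    have hfix : ∀ φ : Γ ≃* Γ, (∀ γ ∈ M, φ γ ∈ M) → B.map φ.toMonoidHom = B := fun φ hφ => by
      show (zpowers (w : Γ)).map _ = _
      rw [MonoidHom.map_zpowers]
      refine congrArg _ (huniq _ (hφ _ w.2) (fun e => hw1 (φ.map_eq_one_iff.1 e)) ?_)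
      show φ (w : Γ) ^ 2 = 1
      rw [← map_pow, hw2, map_one]
    have hBbot : B ≠ ⊥ := fun e => hw1 (zpowers_eq_bot.1 e)
    have h1 := T2 B hBbot (hfix α fun γ hγ => (hαM γ).2 hγ)
    have h2 : ¬ r ∣ Nat.card B := by
      rw [hBcard] at h1 ⊢
      rw [Nat.prime_dvd_prime_iff_eq hr' Nat.prime_two]
      rw [Nat.prime_dvd_prime_iff_eq hq' Nat.prime_two] at h1
      omega
    exact no_normalized hSX hX hZX B hBbot h2 ht1 htp
      (hfix _ fun γ hγ => mul_mem (mul_mem t.2 hγ) (inv_mem t.2))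
  -- a cyclic Sylow subgroup for the smallest prime
  obtain ⟨P⟩ : Nonempty (Sylow s M) := inferInstance
  have hPcyc : IsCyclic (P : Subgroup M) := by
    obtain ⟨m, hm⟩ := P.2.exists_card_eq
    rcases Nat.lt_or_ge m 2 with hm2 | hm2
    · interval_cases m
      · haveI : Subsingleton (P : Subgroup M) := (Nat.card_eq_one_iff_unique.1 (by rw [hm, pow_zero])).1
        exact isCyclic_of_subsingleton
      · exact isCyclic_of_prime_card (p := s) (by rw [hm, pow_one])
    haveI : Nontrivial (P : Subgroup M) := Finite.one_lt_card_iff_nontrivial.1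
      (hm ▸ Nat.one_lt_pow (by omega) hs.one_lt)
    haveI := P.2.center_nontrivial
    obtain ⟨c, hc⟩ := exists_prime_orderOf_dvd_card' (G := center (P : Subgroup M)) s (by
      obtain ⟨j, hj⟩ := (P.2.to_subgroup (center (P : Subgroup M))).exists_card_eq
      rcases j with _ | j
      · exact absurd hj (by rw [pow_zero]; exact (Finite.one_lt_card (α := center (P : Subgroup M))).ne')
      · exact hj ▸ dvd_pow_self s (Nat.succ_ne_zero j))
    have hcs : orderOf (c : (P : Subgroup M)) = s := by rw [Subgroup.orderOf_coe, hc]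
    refine CfsgLib.UniqueSubgroup.isCyclic_of_unique s hs m _ hm 1 le_rfl (by omega) (Or.inl hs2) ?_
    suffices h : ∀ H : Subgroup (P : Subgroup M), Nat.card H = s ^ 1 → H = zpowers (c : (P : Subgroup M)) from
      fun H K hH hK => (h H hH).trans (h K hK).symm
    intro H hH
    obtain ⟨d, hd⟩ := exists_prime_orderOf_dvd_card' (G := H) s (by rw [hH, pow_one])
    have hds : orderOf (d : (P : Subgroup M)) = s := by rw [Subgroup.orderOf_coe, hd]
    have hHd : zpowers (d : (P : Subgroup M)) = H :=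
      eq_of_le_of_card_ge (zpowers_le.2 d.2) (by rw [Nat.card_zpowers, hds, hH, pow_one])
    rw [← hHd]
    refine eq_of_le_of_card_ge (zpowers_le.2 (by_contra fun hdc => ?_))
      (by rw [Nat.card_zpowers, Nat.card_zpowers, hcs, hds])
    let ι : (P : Subgroup M) →* Γ := M.subtype.comp (P : Subgroup M).subtype
    have hι : Function.Injective ι := M.subtype_injective.comp (P : Subgroup M).subtype_injective
    have hcd : Commute (ι (c : (P : Subgroup M))) (ι d) :=
      (show Commute (c : (P : Subgroup M)) d from (mem_center_iff.1 c.2 d).symm).map ι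
    have hc1 : ι (c : (P : Subgroup M)) ≠ 1 := fun e => by
      rw [← map_one ι] at e
      rw [hι e, orderOf_one] at hcs
      exact hs.ne_one hcs.symm
    have hpow : ∀ v : (P : Subgroup M), orderOf v = s → ι v ^ s = 1 := fun v hv => by
      rw [← map_pow, orderOf_dvd_iff_pow_eq_one.1 hv.dvd, map_one]
    have hdc' : ι d ∉ zpowers (ι (c : (P : Subgroup M))) := by
      rw [← MonoidHom.map_zpowers]
      rintro ⟨v, hv, e⟩
      exact hdc (hι e ▸ hv)
    by_cases hsr : s = r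
    · exact no_two_generators hSY hY hZY hs
        ((Nat.coprime_primes hs hq').2 (hsr ▸ hrq)) hcd (hpow _ hcs) hc1 (hpow _ hds) hdc'
    · exact no_two_generators hSX hX hZX hs ((Nat.coprime_primes hs hr').2 hsr) hcd (hpow _ hcs) hc1
        (hpow _ hds) hdc'
  have hcompl := hPcyc.isComplement' (G := M) (p := s) rfl
  set L := (MonoidHom.transferSylow P (hPcyc.normalizer_le_centralizer rfl)).ker
  have hLs : ¬ s ∣ Nat.card L :=
    MonoidHom.not_dvd_card_ker_transferSylow P (hPcyc.normalizer_le_centralizer rfl)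
  set L' := L.map M.subtype with hL'
  have hL'card : Nat.card L' = Nat.card L := card_map_of_injective M.subtype_injective
  have hmem : ∀ γ : M, ¬ s ∣ orderOf γ → γ ∈ L := fun γ hγ => by
    rw [MonoidHom.mem_ker]
    obtain ⟨k, hk⟩ := P.2 (MonoidHom.transferSylow P (hPcyc.normalizer_le_centralizer rfl) γ)
    exact orderOf_eq_one_iff.1 (Nat.eq_one_of_dvd_coprimes
      (((Nat.Prime.coprime_iff_not_dvd hs).2 hγ).pow_left k) (orderOf_dvd_iff_pow_eq_one.2 hk)
      (orderOf_map_dvd _ γ))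
  have hL'α : L'.map α.toMonoidHom = L' := by
    refine eq_of_le_of_card_ge ?_ (by rw [card_map_of_injective (f := α.toMonoidHom) α.injective])
    rintro _ ⟨_, ⟨γ, hγ, rfl⟩, rfl⟩
    refine ⟨⟨α γ, (hαM γ).2 γ.2⟩, hmem _ fun hdv => hLs ?_, rfl⟩
    rw [← Subgroup.orderOf_coe] at hdv
    have e : orderOf (α (γ : Γ)) = orderOf γ := by rw [α.orderOf_eq, Subgroup.orderOf_coe]
    exact (e ▸ hdv).trans (Subgroup.orderOf_dvd_natCard L hγ)
  by_cases hsr : s = r
  · -- `L` is an `r'`-group normalized by `t`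
    by_cases hLbot : L' = ⊥
    · have hMs : ¬ q ∣ Nat.card M := by
        rw [← hcompl.card_mul, ← hL'card, hLbot, card_bot, one_mul]
        obtain ⟨k, hk⟩ := P.2.exists_card_eq
        rw [hk]
        exact fun hd => hrq (hsr ▸ ((Nat.prime_dvd_prime_iff_eq hq' hs).1 (hq'.dvd_of_dvd_pow hd)).symm)
      exact hMs (T2 M hMbot hMα)
    · refine hLs ?_
      rw [hsr, ← hL'card]
      refine T1 L' (map_subtype_le L) ?_ hLbot
      intro m hm
      refine mem_normalizer_iff.2 fun y => ?_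
      have key : ∀ m : M, ∀ y ∈ L', (m : Γ) * y * (m : Γ)⁻¹ ∈ L' := by
        rintro m _ ⟨y, hy, rfl⟩
        exact ⟨m * y * m⁻¹, (MonoidHom.normal_ker _).conj_mem y hy m, rfl⟩
      exact ⟨key ⟨m, hm⟩ y, fun h => by simpa [mul_assoc] using key ⟨m, hm⟩⁻¹ _ h⟩
  · refine IH _ ?_ L' rfl hL'α ?_
    · rw [hL'card, ← hcompl.card_mul]
      refine lt_mul_of_one_lt_right Nat.card_pos ?_
      obtain ⟨k, hk⟩ := P.2.exists_card_eq
      have := P.dvd_card_of_dvd_card (Nat.minFac_dvd _)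
      exact lt_of_lt_of_le hs.one_lt (Nat.le_of_dvd Nat.card_pos this)
    · rw [hL'card]
      have h1 : r ∣ Nat.card L * Nat.card (P : Subgroup M) := hcompl.card_mul.symm ▸ hrn
      refine ((Nat.Prime.dvd_mul hr').1 h1).resolve_right fun hd => hsr ?_
      obtain ⟨k, hk⟩ := P.2.exists_card_eq
      rw [hk] at hd
      exact ((Nat.prime_dvd_prime_iff_eq hr' hs).1 (hr'.dvd_of_dvd_pow hd)).symm

end CfsgLib.SemiregularPair
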