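import Mathlib.GroupTheory.Sylow
import Mathlib.GroupTheory.SpecificGroups.Cyclic
import Mathlib.Data.Nat.Choose.Dvd
import Cfsg.Agent.Solvable.PGroupRank
import Cfsg.Agent.Solvable.PGroupBasic
import Cfsg.Agent.Solvable.Basics
import Cfsg.Agent.FGSB.Small

/-!
Counting cyclic subgroups of order divisible by the square of an odd prime.
-/

set_option autoImplicit false
set_option linter.style.haveILetI false

namespace CfsgLib.CyclicCount

open Subgroup
open scoped Pointwise

variable {G : Type*} [Group G]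

/-- `(a y) ^ p = y ^ p` for a commutator of order `p`. -/
theorem mul_pow_prime {p : ℕ} (hp : p.Prime) (hp2 : p ≠ 2) {a y c : G} (hy : y * a * y⁻¹ = c * a)
    (hca : Commute c a) (hcy : Commute c y) (hc : c ^ p = 1) (ha : a ^ p = 1) :
    (a * y) ^ p = y ^ p := by
  have hya : ∀ j : ℕ, y ^ j * a = c ^ j * a * y ^ j := by
    intro j
    induction j with
    | zero => simp
    | succ j ih =>
      calc y ^ (j + 1) * a = y * (y ^ j * a) := by rw [pow_succ']; group
        _ = (y * c ^ j) * a * y ^ j := by rw [ih]; group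
        _ = c ^ j * (y * a * y⁻¹) * (y * y ^ j) := by rw [(hcy.pow_left j).symm.eq]; group
        _ = c ^ (j + 1) * a * y ^ (j + 1) := by rw [hy, pow_succ c j, pow_succ' y j]; group
  have key : ∀ j : ℕ, (a * y) ^ j = c ^ (j.choose 2) * a ^ j * y ^ j := by
    intro j
    induction j with
    | zero => simp
    | succ j ih =>
      calc (a * y) ^ (j + 1) = c ^ (j.choose 2) * a ^ j * (y ^ j * a) * y := by
            rw [pow_succ, ih]; group
        _ = c ^ (j.choose 2) * (a ^ j * c ^ j) * a * y ^ j * y := by rw [hya j]; group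
        _ = c ^ (j.choose 2) * (c ^ j * a ^ j) * a * y ^ j * y := by rw [(hca.pow_pow j j).symm.eq]
        _ = c ^ ((j + 1).choose 2) * a ^ (j + 1) * y ^ (j + 1) := by
            rw [Nat.choose_succ_succ, Nat.choose_one_right, Nat.add_comm j, pow_add, pow_succ a,
              pow_succ y]; group
  obtain ⟨d, hd⟩ := hp.dvd_choose_self (k := 2) (by norm_num)
    (lt_of_le_of_ne hp.two_le (Ne.symm hp2))
  rw [key, hd, pow_mul, hc, one_pow, ha, one_mul, one_mul]

variable [Finite G]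

/-- Equal `p`-th powers give equal orders when `p ^ 2` divides one order. -/
theorem orderOf_eq_of_pow {p : ℕ} (hp : p.Prime) {a b : G} (h : a ^ p = b ^ p)
    (hd : p ^ 2 ∣ orderOf a) : orderOf b = orderOf a := by
  have hpa : p ∣ orderOf a := (dvd_pow_self p two_ne_zero).trans hd
  have h1 : orderOf (a ^ p) = orderOf a / p := by
    rw [orderOf_pow, Nat.gcd_eq_right hpa]
  have h2 : orderOf (b ^ p) ∣ orderOf b := orderOf_pow_dvd p
  rw [← h, h1] at h2
  have h3 : p ∣ orderOf a / p := by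
    obtain ⟨d, hd'⟩ := hd
    rw [hd', pow_two, mul_assoc, Nat.mul_div_cancel_left _ hp.pos]
    exact dvd_mul_right p d
  have hpb := h3.trans h2
  have h4 : orderOf (b ^ p) = orderOf b / p := by rw [orderOf_pow, Nat.gcd_eq_right hpb]
  rw [← h, h1] at h4
  exact Nat.eq_mul_of_div_eq_left hpb h4.symm |>.trans (Nat.div_mul_cancel hpa)

/-- Cyclic subgroups of order `n`. -/
abbrev Cyc (G : Type*) [Group G] (n : ℕ) : Type _ :=
  {C : Subgroup G // IsCyclic C ∧ Nat.card C = n}

theorem Cyc.exists_gen {n : ℕ} (C : Cyc G n) : ∃ x : G, zpowers x = C.1 ∧ orderOf x = n := by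
  obtain ⟨C, hC, hc⟩ := C
  obtain ⟨g, hg⟩ := hC.exists_generator
  have h1 : zpowers (g : G) = C := le_antisymm (zpowers_le.2 g.2) fun y hy => by
    obtain ⟨i, hi⟩ := mem_zpowers_iff.1 (hg ⟨y, hy⟩)
    exact mem_zpowers_iff.2 ⟨i, congrArg Subtype.val hi⟩
  exact ⟨g, h1, by rw [← Nat.card_zpowers, h1, hc]⟩

theorem Cyc.eq_of_mem {n : ℕ} (C : Cyc G n) {x : G} (hx : x ∈ C.1) (ho : orderOf x = n) :
    C.1 = zpowers x :=
  (eq_of_le_of_card_ge (zpowers_le.2 hx) (le_of_eq (C.2.2.trans (ho.symm.trans (Nat.card_zpowers x).symm)))).symm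

/-- The generators of a cyclic subgroup. -/
theorem card_gen {n : ℕ} (hn : 0 < n) (C : Cyc G n) :
    Nat.card {x : G // x ∈ C.1 ∧ orderOf x = n} = n.totient := by
  classical
  haveI := C.2.1
  haveI : Fintype C.1 := Fintype.ofFinite _
  have e : {x : G // x ∈ C.1 ∧ orderOf x = n} ≃ {x : C.1 // orderOf x = n} :=
    { toFun := fun x => ⟨⟨x.1, x.2.1⟩, by rw [Subgroup.orderOf_mk]; exact x.2.2⟩
      invFun := fun x => ⟨x.1.1, x.1.2, by rw [Subgroup.orderOf_coe]; exact x.2⟩
      left_inv := fun x => rfl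
      right_inv := fun x => rfl }
  rw [Nat.card_congr e, Nat.card_eq_fintype_card, Fintype.card_subtype]
  exact IsCyclic.card_orderOf_eq_totient (by rw [← Nat.card_eq_fintype_card, C.2.2])

/-- Elements of order `n` in `T` and cyclic subgroups of order `n` in `T`. -/
theorem count (T : Subgroup G) {n : ℕ} (hn : 0 < n) :
    Nat.card {x : G // x ∈ T ∧ orderOf x = n} = Nat.card {C : Cyc G n // C.1 ≤ T} * n.totient := by
  classical
  haveI : Fintype {C : Cyc G n // C.1 ≤ T} := Fintype.ofFinite _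
  let F : (Σ C : {C : Cyc G n // C.1 ≤ T}, {x : G // x ∈ C.1.1 ∧ orderOf x = n}) →
      {x : G // x ∈ T ∧ orderOf x = n} := fun z => ⟨z.2.1, z.1.2 z.2.2.1, z.2.2.2⟩
  have hF : Function.Bijective F := by
    constructor
    · rintro ⟨C, x, hx⟩ ⟨D, y, hy⟩ e
      obtain rfl : x = y := congrArg Subtype.val e
      obtain rfl : C = D := Subtype.ext (Subtype.ext
        ((C.1.eq_of_mem hx.1 hx.2).trans (D.1.eq_of_mem hy.1 hy.2).symm))
      rfl
    · rintro ⟨x, hxT, hx⟩
      exact ⟨⟨⟨⟨zpowers x, inferInstance, by rw [Nat.card_zpowers, hx]⟩, zpowers_le.2 hxT⟩,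
        ⟨x, mem_zpowers x, hx⟩⟩, rfl⟩
  rw [← Nat.card_congr (Equiv.ofBijective F hF), Nat.card_sigma,
    Finset.sum_congr rfl fun C _ => card_gen hn C.1, Finset.sum_const, smul_eq_mul,
    Finset.card_univ, Nat.card_eq_fintype_card]

/-- The cyclic subgroups of order `n` in `CA`. -/
theorem dvd_card_class {p n : ℕ} [hp : Fact p.Prime] (hn : 0 < n) (hp2 : p ≠ 2) (hpn : p ^ 2 ∣ n)
    (A : Subgroup G) (hAc : ∀ a ∈ A, a ^ p = 1) (hA : Nat.card A = p ^ 2) (hAnc : ¬ IsCyclic A)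
    (C : Cyc G n) (hCA : C.1 ≤ normalizer (A : Set G))
    (hkey : ∀ y ∈ C.1, ∀ a ∈ A, ∃ c : G, y * a * y⁻¹ = c * a ∧ Commute c a ∧ Commute c y ∧ c ^ p = 1) :
    p ∣ Nat.card {D : Cyc G n // D.1 ≤ C.1 ⊔ A} ∧
      ∀ D : Cyc G n, D.1 ≤ C.1 ⊔ A → D.1 ⊔ A = C.1 ⊔ A := by
  classical
  have hord : ∀ a ∈ A, ∀ y ∈ C.1, (orderOf (a * y) = n ↔ orderOf y = n) := by
    intro a ha y hy
    obtain ⟨c, h1, h2, h3, h4⟩ := hkey y hy a ha
    have he := mul_pow_prime hp.out hp2 h1 h2 h3 h4 (hAc a ha)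
    constructor
    · intro h; exact (orderOf_eq_of_pow hp.out he (by rw [h]; exact hpn)).trans h
    · intro h; exact (orderOf_eq_of_pow hp.out he.symm (by rw [h]; exact hpn)).trans h
  have hsplit : ∀ t ∈ C.1 ⊔ A, ∃ a ∈ A, ∃ y ∈ C.1, a * y = t := by
    intro t ht
    have hmem : t ∈ ((C.1 : Set G) * (A : Set G)) := by
      rw [← Subgroup.coe_mul_of_left_le_normalizer_right _ _ hCA]
      exact ht
    obtain ⟨y, hy, a, ha, rfl⟩ := hmem
    exact ⟨y * a * y⁻¹, (mem_normalizer_iff.1 (hCA hy) a).1 ha, y, hy, inv_mul_cancel_right _ y⟩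
  refine ⟨?_, fun D hD => ?_⟩
  · let F : {y : G // y ∈ C.1 ∧ orderOf y = n} × A → {t : G // t ∈ C.1 ⊔ A ∧ orderOf t = n} :=
      fun z => ⟨z.2.1 * z.1.1, mul_mem (mem_sup_right z.2.2) (mem_sup_left z.1.2.1),
        (hord _ z.2.2 _ z.1.2.1).2 z.1.2.2⟩
    have hF : Function.Surjective F := by
      rintro ⟨t, ht, hto⟩
      obtain ⟨a, ha, y, hy, rfl⟩ := hsplit t ht
      exact ⟨(⟨y, hy, (hord a ha y hy).1 hto⟩, ⟨a, ha⟩), rfl⟩
    have hfib : ∀ t, Nat.card {z // F z = t} = Nat.card (C.1 ⊓ A : Subgroup G) := by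
      intro t
      obtain ⟨⟨⟨y, hy, hyo⟩, ⟨a, ha⟩⟩, rfl⟩ := hF t
      refine (Nat.card_congr (Equiv.ofBijective (fun d : (C.1 ⊓ A : Subgroup G) =>
        (⟨(⟨(d : G) * y, mul_mem (mem_inf.1 d.2).1 hy,
            (hord _ (mem_inf.1 d.2).2 y hy).2 hyo⟩,
          ⟨a * (d : G)⁻¹, mul_mem ha (inv_mem (mem_inf.1 d.2).2)⟩),
          Subtype.ext (by simp [F, mul_assoc])⟩ : {z // F z = F (⟨y, hy, hyo⟩, ⟨a, ha⟩)})) ?_)).symm
      constructor
      · intro d e he
        have := congrArg (fun z : {z // F z = F (⟨y, hy, hyo⟩, ⟨a, ha⟩)} => z.1.1.1) he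
        exact Subtype.ext (mul_right_cancel this)
      · rintro ⟨⟨⟨y', hy', hyo'⟩, ⟨a', ha'⟩⟩, e⟩
        have e' : a' * y' = a * y := congrArg Subtype.val e
        have hd : y' * y⁻¹ = a'⁻¹ * a := by
          rw [eq_inv_mul_iff_mul_eq, ← mul_assoc, e', mul_inv_cancel_right]
        refine ⟨⟨y' * y⁻¹, mem_inf.2 ⟨mul_mem hy' (inv_mem hy), hd ▸ mul_mem (inv_mem ha') ha⟩⟩, ?_⟩
        refine Subtype.ext (Prod.ext (Subtype.ext (inv_mul_cancel_right y' y)) (Subtype.ext ?_))
        show a * (y' * y⁻¹)⁻¹ = a'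
        rw [hd]; group
    haveI : Fintype {t : G // t ∈ C.1 ⊔ A ∧ orderOf t = n} := Fintype.ofFinite _
    have h1 : Nat.card {t : G // t ∈ C.1 ⊔ A ∧ orderOf t = n} * Nat.card (C.1 ⊓ A : Subgroup G) =
        n.totient * p ^ 2 := by
      have e := Nat.card_congr (Equiv.sigmaFiberEquiv F)
      rw [Nat.card_sigma, Finset.sum_congr rfl fun t _ => hfib t, Finset.sum_const, smul_eq_mul,
        Finset.card_univ, ← Nat.card_eq_fintype_card, Nat.card_prod, card_gen hn C, hA] at e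
      exact e
    rw [count _ hn, Nat.mul_right_comm, Nat.mul_comm n.totient] at h1
    have h2 := Nat.eq_of_mul_eq_mul_right (Nat.totient_pos.2 hn) h1
    obtain ⟨j, hj, hd⟩ := (Nat.dvd_prime_pow hp.out).1
      (hA ▸ card_dvd_of_le (inf_le_right : C.1 ⊓ A ≤ A))
    have hj2 : j ≠ 2 := by
      intro e
      subst e
      have heq := eq_of_le_of_card_ge (inf_le_right : C.1 ⊓ A ≤ A) (by rw [hA, hd])
      have hle : A ≤ C.1 := heq ▸ inf_le_left
      haveI := C.2.1
      exact hAnc (isCyclic_of_injective (inclusion hle) (inclusion_injective hle))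
    rw [hd] at h2
    rcases j with _ | _ | j
    · rw [pow_zero, mul_one] at h2
      exact h2 ▸ dvd_pow_self p two_ne_zero
    · rw [zero_add, pow_one, pow_two] at h2
      exact (Nat.eq_of_mul_eq_mul_right hp.out.pos h2) ▸ dvd_rfl
    · omega
  · refine le_antisymm (sup_le hD le_sup_right) (sup_le ?_ le_sup_right)
    obtain ⟨t, ht, hto⟩ := D.exists_gen
    obtain ⟨a, ha, y, hy, rfl⟩ := hsplit t (hD (ht ▸ mem_zpowers t))
    rw [C.eq_of_mem hy ((hord a ha y hy).1 hto), zpowers_le]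
    have := mul_mem (mem_sup_right (S := D.1) (inv_mem ha)) (mem_sup_left (T := A) (ht ▸ mem_zpowers (a * y)))
    rwa [inv_mul_cancel_left] at this

/-- Elements of order `p ^ s m`, `s > 1`, when the Sylow `p`-subgroups are not cyclic. -/
theorem dvd_card_orderOf {p : ℕ} [hp : Fact p.Prime] (hp2 : p ≠ 2) (P : Sylow p G)
    (hP : ¬ IsCyclic (P : Subgroup G)) (s m : ℕ) (hs : 1 < s) (hm : Nat.Coprime p m) :
    p ^ s ∣ Nat.card {g : G // orderOf g = p ^ s * m} := by
  classical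
  have hm0 : 0 < m := Nat.pos_of_ne_zero fun e => by
    rw [e, Nat.coprime_zero_right] at hm
    exact hp.out.ne_one hm
  set n := p ^ s * m with hn_def
  have hn : 0 < n := Nat.mul_pos (pow_pos hp.out.pos s) hm0
  have hpn : p ^ 2 ∣ n := Dvd.dvd.mul_right (pow_dvd_pow p hs) m
  have hcount : Nat.card {g : G // orderOf g = n} = Nat.card (Cyc G n) * n.totient := by
    have h1 : Nat.card {x : G // x ∈ (⊤ : Subgroup G) ∧ orderOf x = n} = _ := count ⊤ hn
    rw [Nat.card_congr (Equiv.subtypeEquivRight (fun x => (and_iff_right (mem_top x)))),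
      Nat.card_congr (Equiv.subtypeUnivEquiv (fun C => le_top))] at h1
    exact h1
  have htot : n.totient = p ^ (s - 1) * ((p - 1) * m.totient) := by
    rw [hn_def, Nat.totient_mul (hm.pow_left s), Nat.totient_prime_pow hp.out (by omega), mul_assoc]
  by_cases hpm : p ∣ m.totient
  · rw [hcount, htot]
    obtain ⟨d, hd⟩ := hpm
    refine Dvd.dvd.mul_left ⟨(p - 1) * d, ?_⟩ _
    rw [hd]
    conv_rhs => rw [show s = s - 1 + 1 by omega, pow_succ]
    ring
  suffices p ∣ Nat.card (Cyc G n) by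
    rw [hcount, htot, ← mul_assoc]
    refine Dvd.dvd.mul_right ?_ _
    rw [show s = s - 1 + 1 by omega, pow_succ, Nat.mul_comm, show s - 1 + 1 - 1 = s - 1 by omega]
    exact mul_dvd_mul this dvd_rfl
  -- the conjugation action of P
  letI : MulAction (P : Subgroup G) (Cyc G n) :=
    { smul := fun g C => ⟨C.1.map (MulAut.conj (g : G)).toMonoidHom,
        @MulEquiv.isCyclic _ _ _ _ (C.1.equivMapOfInjective _ (MulAut.conj (g : G)).injective) |>.1 C.2.1,
        (Nat.card_congr (C.1.equivMapOfInjective _ (MulAut.conj (g : G)).injective).toEquiv).symm.trans C.2.2⟩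
      one_smul := fun C => Subtype.ext (by
        show C.1.map (MulAut.conj (1 : G)).toMonoidHom = C.1
        ext y; simp)
      mul_smul := fun g h C => Subtype.ext (by
        show C.1.map (MulAut.conj ((g : G) * h)).toMonoidHom =
          (C.1.map (MulAut.conj (h : G)).toMonoidHom).map (MulAut.conj (g : G)).toMonoidHom
        rw [map_map]; congr 1; ext y; simp [mul_assoc]) }
  refine (Nat.modEq_zero_iff_dvd).1 ((P.2.card_modEq_card_fixedPoints (Cyc G n)).trans
    (Nat.modEq_zero_iff_dvd.2 ?_))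
  -- a normal elementary abelian subgroup
  obtain ⟨A₀, hA₀n, ⟨hA₀c, hA₀e⟩, hA₀⟩ := CfsgLib.PGroupRank.exists_normal_sq hp2 P.2 hP
  set A := A₀.map (P : Subgroup G).subtype
  have hA : Nat.card A = p ^ 2 :=
    (Nat.card_congr (A₀.equivMapOfInjective _ (P : Subgroup G).subtype_injective).toEquiv).symm.trans hA₀
  have hAe : ∀ a ∈ A, a ^ p = 1 := by
    rintro _ ⟨a, ha, rfl⟩
    rw [← map_pow, hA₀e a ha, map_one]
  have hAnc : ¬ IsCyclic A := by
    intro hc
    obtain ⟨g, hg⟩ := hc.exists_generator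
    have h1 : Nat.card A = orderOf g := (orderOf_eq_card_of_forall_mem_zpowers hg).symm
    have h2 : orderOf g ∣ p := orderOf_dvd_of_pow_eq_one (Subtype.ext (hAe g g.2))
    rw [← h1, hA] at h2
    have := Nat.le_of_dvd hp.out.pos h2
    nlinarith [hp.out.two_le]
  haveI := P.2.isNilpotent
  have hA₀ne : A₀ ≠ ⊥ := fun e => by
    rw [e, Subgroup.card_bot] at hA₀
    exact absurd hA₀.symm (Nat.one_lt_pow two_ne_zero hp.out.one_lt).ne'
  obtain ⟨z, hz, hz1⟩ : ∃ z ∈ A₀ ⊓ center (P : Subgroup G), z ≠ 1 := by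
    by_contra hcon
    push Not at hcon
    exact CfsgLib.PGroupBasic.inf_center_ne_bot A₀ hA₀ne ((eq_bot_iff_forall _).2 hcon)
  haveI hzn : (zpowers z).Normal := ⟨fun w hw g => by
    have : w ∈ center (P : Subgroup G) := zpowers_le.2 hz.2 hw
    rw [mem_center_iff.1 this g, mul_inv_cancel_right]
    exact hw⟩
  have hzo : orderOf z = p := orderOf_eq_prime (hA₀e z hz.1) hz1
  have hzlt : zpowers z < A₀ := lt_of_le_of_ne (zpowers_le.2 hz.1) fun e => by
    have := congrArg (fun H : Subgroup (P : Subgroup G) => Nat.card H) e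
    rw [Nat.card_zpowers, hzo, hA₀, pow_two] at this
    nlinarith [hp.out.two_le]
  obtain ⟨a₀, ha₀, ha₀z, ha₀c⟩ := CfsgLib.PGroupBasic.exists_central_mod (zpowers z) A₀ hzlt
  have hcomm : ∀ a ∈ A₀, ∀ g : (P : Subgroup G), g * a * g⁻¹ * a⁻¹ ∈ zpowers z := by
    let U : Subgroup (P : Subgroup G) := Subgroup.comap (QuotientGroup.mk' (zpowers z))
      (center ((P : Subgroup G) ⧸ zpowers z))
    have hU : ∀ a, a ∈ U → ∀ g : (P : Subgroup G), g * a * g⁻¹ * a⁻¹ ∈ zpowers z := by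
      intro a ha g
      rw [← QuotientGroup.eq_one_iff, QuotientGroup.mk_mul, QuotientGroup.mk_mul, QuotientGroup.mk_mul,
        QuotientGroup.mk_inv, QuotientGroup.mk_inv]
      have := mem_center_iff.1 (show (a : (P : Subgroup G) ⧸ zpowers z) ∈ center _ from ha) g
      rw [this]; group
    have hzU : zpowers z ≤ U := fun w hw => by
      show (w : (P : Subgroup G) ⧸ zpowers z) ∈ center _
      rw [(QuotientGroup.eq_one_iff w).2 hw]
      exact one_mem _
    have ha₀U : a₀ ∈ U := mem_center_iff.2 fun q => by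
      obtain ⟨g, rfl⟩ := QuotientGroup.mk_surjective q
      have := (QuotientGroup.eq_one_iff _).2 (ha₀c g)
      rw [QuotientGroup.mk_mul, QuotientGroup.mk_mul, QuotientGroup.mk_mul, QuotientGroup.mk_inv,
        QuotientGroup.mk_inv, mul_inv_eq_one, mul_inv_eq_iff_eq_mul] at this
      exact this.symm
    have hle : A₀ ≤ U := by
      set B := zpowers z ⊔ zpowers a₀
      have hBA : B ≤ A₀ := sup_le (zpowers_le.2 hz.1) (zpowers_le.2 ha₀)
      have hB2 : Nat.card A₀ ≤ Nat.card B := by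
        obtain ⟨k, hk⟩ := (P.2.to_subgroup B).exists_card_eq
        have hlt : Nat.card (zpowers z) < Nat.card B := CfsgLib.Solvable.card_lt_of_lt
          (lt_of_le_of_ne le_sup_left fun e => ha₀z (e ▸ mem_sup_right (mem_zpowers a₀)))
        rw [Nat.card_zpowers, hzo, hk] at hlt
        rw [hA₀, hk]
        refine Nat.pow_le_pow_right hp.out.pos ?_
        by_contra hk2
        have : p ^ k ≤ p ^ 1 := Nat.pow_le_pow_right hp.out.pos (by omega)
        rw [pow_one] at this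
        omega
      rw [← eq_of_le_of_card_ge hBA hB2]
      exact sup_le hzU (zpowers_le.2 ha₀U)
    exact fun a ha => hU a (hle ha)
  -- properties of fixed subgroups
  have hfixed : ∀ C : Cyc G n, (∀ g : (P : Subgroup G), g • C = C) →
      C.1 ≤ normalizer (A : Set G) ∧
      ∀ y ∈ C.1, ∀ a ∈ A, ∃ c : G, y * a * y⁻¹ = c * a ∧ Commute c a ∧ Commute c y ∧ c ^ p = 1 := by
    intro C hC
    obtain ⟨x, hx, hxo⟩ := C.exists_gen
    obtain ⟨u, w, huw, hu, hw, ⟨ku, hku⟩, hwp⟩ := CfsgLib.FGSBSmall.exists_prime_split hp.out x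
    have hfix : ∀ g ∈ (P : Subgroup G), ∀ v ∈ C.1, g * v * g⁻¹ ∈ C.1 := by
      intro g hg v hv
      have e : C.1.map (MulAut.conj g).toMonoidHom = C.1 := congrArg Subtype.val (hC ⟨g, hg⟩)
      rw [← e]
      exact mem_map_of_mem (MulAut.conj g).toMonoidHom hv
    have hsub : ∀ v ∈ zpowers x, ∀ g ∈ (P : Subgroup G), g * v * g⁻¹ ∈ zpowers v := by
      intro v hv g hg
      obtain ⟨i, hi⟩ := mem_zpowers_iff.1 hv
      obtain ⟨j, hj⟩ := mem_zpowers_iff.1 (hx ▸ hfix g hg x (hx ▸ mem_zpowers x))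
      refine mem_zpowers_iff.2 ⟨j, ?_⟩
      rw [← hi, ← zpow_mul, mul_comm, zpow_mul, hj, conj_zpow]
    have huP : u ∈ (P : Subgroup G) := by
      have hU : IsPGroup p (zpowers u) := IsPGroup.of_card (n := ku) (by rw [Nat.card_zpowers, hku])
      have hn' : (P : Subgroup G) ≤ normalizer (zpowers u : Set G) := by
        intro g hg
        refine mem_normalizer_iff.2 fun v => ⟨fun hv => ?_, fun hv => ?_⟩
        · obtain ⟨i, rfl⟩ := mem_zpowers_iff.1 hv
          rw [← conj_zpow]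
          exact zpow_mem (hsub u hu g hg) i
        · obtain ⟨i, hi⟩ := mem_zpowers_iff.1 hv
          have := zpow_mem (hsub u hu g⁻¹ (inv_mem hg)) i
          rw [conj_zpow, hi] at this
          simpa [mul_assoc] using this
      have := P.3 (P.2.to_sup_of_normal_right' hU hn') le_sup_left
      exact this ▸ mem_sup_right (mem_zpowers u)
    have hwo : orderOf w ∣ m := by
      have h1 : orderOf w ∣ p ^ s * m := by
        rw [← hn_def, ← hxo, ← Nat.card_zpowers x]
        exact Subgroup.orderOf_dvd_natCard _ hw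
      exact (Nat.Coprime.pow_right s hwp).dvd_of_dvd_mul_left h1
    have hwc : ∀ g ∈ (P : Subgroup G), g * w = w * g := by
      intro g hg
      have hgn : g ∈ normalizer (zpowers w : Set G) := by
        refine mem_normalizer_iff.2 fun v => ⟨fun hv => ?_, fun hv => ?_⟩
        · obtain ⟨i, rfl⟩ := mem_zpowers_iff.1 hv
          rw [← conj_zpow]
          exact zpow_mem (hsub w hw g hg) i
        · obtain ⟨i, hi⟩ := mem_zpowers_iff.1 hv
          have := zpow_mem (hsub w hw g⁻¹ (inv_mem hg)) i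
          rw [conj_zpow, hi] at this
          simpa [mul_assoc] using this
      set φ := (zpowers w).normalizerMonoidHom ⟨g, hgn⟩
      have h1 : orderOf φ ∣ Nat.card (MulAut (zpowers w)) := orderOf_dvd_natCard φ
      rw [IsCyclic.card_mulAut, Nat.card_zpowers] at h1
      have h2 : orderOf φ ∣ orderOf g :=
        Subgroup.orderOf_mk g hgn ▸ orderOf_map_dvd (zpowers w).normalizerMonoidHom ⟨g, hgn⟩
      obtain ⟨e, he⟩ := IsPGroup.iff_orderOf.1 P.2 ⟨g, hg⟩
      rw [Subgroup.orderOf_mk] at he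
      rw [he] at h2
      have hone := Nat.eq_one_of_dvd_coprimes
        (((Nat.Prime.coprime_iff_not_dvd hp.out).2 fun hd => hpm
          (hd.trans (Nat.totient_dvd_of_dvd hwo))).pow_left e) h2 h1
      rw [orderOf_eq_one_iff] at hone
      have h3 := congrArg (fun f : MulAut (zpowers w) => ((f ⟨w, mem_zpowers w⟩ : zpowers w) : G)) hone
      exact mul_inv_eq_iff_eq_mul.1 h3
    have hyuw : ∀ y ∈ C.1, ∃ u' ∈ (P : Subgroup G), ∃ w', (∀ g ∈ (P : Subgroup G), g * w' = w' * g) ∧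
        y = u' * w' := by
      intro y hy
      obtain ⟨i, rfl⟩ := mem_zpowers_iff.1 (hx ▸ hy)
      refine ⟨u ^ i, zpow_mem huP i, w ^ i, fun g hg => (Commute.zpow_right (hwc g hg) i).eq, ?_⟩
      rw [← huw, (show Commute u w from hwc u huP).mul_zpow]
    have hkey' : ∀ y ∈ C.1, ∀ a ∈ A, y * a * y⁻¹ ∈ A ∧
        ∃ c : G, y * a * y⁻¹ = c * a ∧ Commute c a ∧ Commute c y ∧ c ^ p = 1 := by
      intro y hy a ha
      obtain ⟨u', hu', w', hw', rfl⟩ := hyuw y hy
      obtain ⟨a', ha', rfl⟩ := ha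
      have e : u' * w' * (a' : G) * (u' * w')⁻¹ = u' * (a' : G) * u'⁻¹ := by
        calc u' * w' * (a' : G) * (u' * w')⁻¹ = u' * (w' * (a' : G)) * w'⁻¹ * u'⁻¹ := by group
          _ = u' * (a' : G) * u'⁻¹ := by rw [← hw' _ a'.2]; group
      show u' * w' * (a' : G) * (u' * w')⁻¹ ∈ A ∧ _
      rw [e]
      refine ⟨⟨⟨u', hu'⟩ * a' * ⟨u', hu'⟩⁻¹, hA₀n.conj_mem a' ha' _, rfl⟩, ?_⟩
      obtain ⟨i, hi⟩ := mem_zpowers_iff.1 (hcomm a' ha' ⟨u', hu'⟩)
      have hi' : ((z : G)) ^ i = u' * (a' : G) * u'⁻¹ * (a' : G)⁻¹ := congrArg Subtype.val hi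
      have hzc : ∀ g ∈ (P : Subgroup G), Commute (z : G) g := fun g hg =>
        (congrArg Subtype.val (mem_center_iff.1 hz.2 ⟨g, hg⟩)).symm
      refine ⟨(z : G) ^ i, by simp only [Subgroup.coe_subtype, e, hi']; group, (hzc _ a'.2).zpow_left i, ?_, ?_⟩
      · exact ((hzc u' hu').mul_right (hw' _ z.2)).zpow_left i
      · rw [← zpow_natCast, ← zpow_mul, mul_comm, zpow_mul, zpow_natCast, ← SubmonoidClass.coe_pow,
          hA₀e z hz.1, OneMemClass.coe_one, one_zpow]
    refine ⟨fun y hy => mem_normalizer_iff.2 fun a => ⟨fun ha => (hkey' y hy a ha).1, fun ha => ?_⟩,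
      fun y hy a ha => (hkey' y hy a ha).2⟩
    have := (hkey' y⁻¹ (inv_mem hy) _ ha).1
    simpa [mul_assoc] using this
  -- the partition by CA
  set X := MulAction.fixedPoints (P : Subgroup G) (Cyc G n)
  haveI : Fintype X := Fintype.ofFinite _
  rw [Nat.card_eq_fintype_card, ← Finset.card_univ,
    Finset.card_eq_sum_card_fiberwise (f := fun C : X => (C.1.1 ⊔ A : Subgroup G))
      (t := Finset.univ.image fun C : X => (C.1.1 ⊔ A : Subgroup G))
      (fun C _ => Finset.mem_image_of_mem _ (Finset.mem_univ C))]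
  refine Finset.dvd_sum fun T hT => ?_
  obtain ⟨C, -, rfl⟩ := Finset.mem_image.1 hT
  obtain ⟨hCA, hkey⟩ := hfixed C.1 C.2
  obtain ⟨hdvd, hclass⟩ := dvd_card_class hn hp2 hpn A hAe hA hAnc C.1 hCA hkey
  set T := C.1.1 ⊔ A
  have hTP : ∀ g : (P : Subgroup G), ∀ D : Cyc G n, D.1 ≤ T → (g • D).1 ≤ T := by
    intro g D hD
    refine (map_mono hD).trans ?_
    rw [Subgroup.map_sup]
    refine sup_le ?_ ?_
    · exact (congrArg Subtype.val (C.2 g)).le.trans le_sup_left
    · refine le_trans ?_ le_sup_right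
      rintro _ ⟨_, ⟨a, ha, rfl⟩, rfl⟩
      exact ⟨g * a * g⁻¹, hA₀n.conj_mem a ha g, rfl⟩
  letI : MulAction (P : Subgroup G) {D : Cyc G n // D.1 ≤ T} :=
    { smul := fun g D => ⟨g • D.1, hTP g D.1 D.2⟩
      one_smul := fun D => Subtype.ext (one_smul _ D.1)
      mul_smul := fun g h D => Subtype.ext (mul_smul g h D.1) }
  have h1 := (P.2.card_modEq_card_fixedPoints {D : Cyc G n // D.1 ≤ T}).symm.trans
    (Nat.modEq_zero_iff_dvd.2 hdvd)
  have h2 := Nat.modEq_zero_iff_dvd.1 h1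
  rw [← Fintype.card_subtype, ← Nat.card_eq_fintype_card]
  refine (congrArg (p ∣ ·) (Nat.card_congr ?_)).mp h2
  exact
    { toFun := fun D => ⟨⟨D.1.1, fun g => congrArg Subtype.val (D.2 g)⟩, hclass D.1.1 D.1.2⟩
      invFun := fun D => ⟨⟨D.1.1, le_sup_left.trans (le_of_eq D.2)⟩, fun g => Subtype.ext (D.1.2 g)⟩
      left_inv := fun D => rfl
      right_inv := fun D => rfl }

end CfsgLib.CyclicCount
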