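import Cfsg.Agent.FGSB.FrobeniusCount
import Cfsg.Agent.FGSB.CyclicCount
import Cfsg.Agent.Char.Burnside
import Mathlib.Data.ZMod.Basic
import Mathlib.GroupTheory.Transfer

/-!
# Few values of the number of elements of a given order: congruence arithmetic

Frobenius' congruence `n ∣ #{x | x ^ n = 1}` pins down the numbers of elements of order `p q`, `4 p`
and so on when only two nontrivial values are available.
-/

set_option autoImplicit false
set_option linter.style.haveILetI false
set_option linter.unusedSectionVars false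

namespace CfsgLib.ThreeCounts

open Subgroup

variable {G : Type*} [Group G] [Finite G]

/-- The number of elements of order `m`. -/
noncomputable def cnt (G : Type*) [Group G] (m : ℕ) : ℕ := Nat.card {g : G // orderOf g = m}

/-- The values available for the number of elements of order `m > 1`. -/
def TwoValued (G : Type*) [Group G] (a b : ℕ) : Prop :=
  ∀ m : ℕ, 2 < m → cnt G m = 0 ∨ cnt G m = a ∨ cnt G m = b

theorem cnt_pos_iff {m : ℕ} : cnt G m ≠ 0 ↔ ∃ g : G, orderOf g = m := by
  refine ⟨fun h => ?_, fun ⟨g, hg⟩ => ?_⟩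
  · obtain ⟨⟨g, hg⟩⟩ := (Nat.card_ne_zero.1 h).1
    exact ⟨g, hg⟩
  · haveI : Nonempty {g : G // orderOf g = m} := ⟨⟨g, hg⟩⟩
    exact Nat.card_pos.ne'

theorem cnt_one : cnt G 1 = 1 := by
  refine Nat.card_eq_one_iff_unique.2 ⟨⟨fun a b => Subtype.ext ?_⟩, ⟨⟨1, orderOf_one⟩⟩⟩
  rw [orderOf_eq_one_iff.1 a.2, orderOf_eq_one_iff.1 b.2]

theorem totient_dvd_cnt {m : ℕ} (hm : 0 < m) : m.totient ∣ cnt G m := by
  have h := CfsgLib.CyclicCount.count (G := G) ⊤ hm
  have e : cnt G m = Nat.card {x : G // x ∈ (⊤ : Subgroup G) ∧ orderOf x = m} :=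
    Nat.card_congr (Equiv.subtypeEquivRight fun x => by simp)
  rw [e, h]
  exact dvd_mul_left _ _

theorem two_dvd_cnt {m : ℕ} (hm : 2 < m) : 2 ∣ cnt G m :=
  (Nat.totient_even hm).two_dvd.trans (totient_dvd_cnt (by omega))

theorem card_pow_eq_one (n : ℕ) (hn : n ≠ 0) :
    Nat.card {x : G // x ^ n = 1} = ∑ d ∈ n.divisors, cnt G d := by
  classical
  haveI := Fintype.ofFinite G
  simp only [cnt, Nat.card_eq_fintype_card, Fintype.card_subtype]
  exact (sum_card_orderOf_eq_card_pow_eq_one hn).symm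

theorem card_eq_sum : Nat.card G = ∑ d ∈ (Nat.card G).divisors, cnt G d := by
  rw [← card_pow_eq_one _ Nat.card_pos.ne']
  exact (Nat.card_congr (Equiv.subtypeUnivEquiv fun x => pow_card_eq_one')).symm

/-- Frobenius' congruence. -/
theorem sum_eq_zero {r n : ℕ} (hr : r ∣ n) (hn : n ∣ Nat.card G) :
    ∑ d ∈ n.divisors, (cnt G d : ZMod r) = 0 := by
  have h := CfsgLib.FrobCount.frobenius hn
  rw [card_pow_eq_one _ (ne_zero_of_dvd_ne_zero Nat.card_pos.ne' hn)] at h
  rw [← Nat.cast_sum, ZMod.natCast_eq_zero_iff]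
  exact hr.trans h

theorem sum_divisors_mul_prime {M : Type*} [AddCommMonoid M] {n p : ℕ} (hp : p.Prime) (hn : ¬ p ∣ n)
    (f : ℕ → M) : ∑ d ∈ (n * p).divisors, f d = ∑ d ∈ n.divisors, (f d + f (d * p)) := by
  classical
  have hn0 : n ≠ 0 := fun h => hn (h ▸ dvd_zero p)
  rw [Finset.sum_add_distrib]
  have e : (n * p).divisors = n.divisors ∪ n.divisors.image (· * p) := by
    ext d
    simp only [Nat.mem_divisors, Finset.mem_union, Finset.mem_image]
    constructor
    · rintro ⟨hd, -⟩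
      by_cases hpd : p ∣ d
      · obtain ⟨c, rfl⟩ := hpd
        refine Or.inr ⟨c, ⟨?_, hn0⟩, mul_comm _ _⟩
        rw [mul_comm n p] at hd
        exact Nat.dvd_of_mul_dvd_mul_left hp.pos hd
      · exact Or.inl ⟨((hp.coprime_iff_not_dvd.2 hpd).symm).dvd_of_dvd_mul_right hd, hn0⟩
    · rintro (⟨hd, -⟩ | ⟨c, ⟨hc, -⟩, rfl⟩)
      · exact ⟨hd.mul_right p, mul_ne_zero hn0 hp.ne_zero⟩
      · exact ⟨Nat.mul_dvd_mul_right hc p, mul_ne_zero hn0 hp.ne_zero⟩
  rw [e, Finset.sum_union, Finset.sum_image]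
  · intro x _ y _ h
    exact Nat.eq_of_mul_eq_mul_right hp.pos h
  · rw [Finset.disjoint_left]
    intro d hd hd'
    obtain ⟨c, -, rfl⟩ := Finset.mem_image.1 hd'
    exact hn ((dvd_mul_left p c).trans (Nat.mem_divisors.1 hd).1)

theorem two_ne_zero' {r : ℕ} [hr : Fact r.Prime] (hr2 : r ≠ 2) : (2 : ZMod r) ≠ 0 := by
  rw [show (2 : ZMod r) = ((2 : ℕ) : ZMod r) from (Nat.cast_ofNat).symm, ne_eq, ZMod.natCast_eq_zero_iff]
  exact fun h => hr2 ((Nat.prime_dvd_prime_iff_eq hr.out Nat.prime_two).1 h)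

/-- One odd prime. -/
theorem sum_prime {p : ℕ} (hp : p.Prime) (hpG : p ∣ Nat.card G) : (cnt G p : ZMod p) = -1 := by
  have h := sum_eq_zero (G := G) (dvd_refl p) hpG
  rw [hp.divisors, Finset.sum_pair hp.one_lt.ne, cnt_one, Nat.cast_one] at h
  linear_combination h

theorem prime_value {a b p : ℕ} (hv : TwoValued G a b) (hp : p.Prime) (hp2 : p ≠ 2)
    (hpG : p ∣ Nat.card G) : cnt G p = a ∨ cnt G p = b := by
  haveI := Fact.mk hp
  refine (hv p (lt_of_le_of_ne hp.two_le hp2.symm)).resolve_left ?_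
  exact cnt_pos_iff.2 (exists_prime_orderOf_dvd_card' p hpG)

theorem sum_two {p q r : ℕ} (hp : p.Prime) (hq : q.Prime) (hpq : p ≠ q) (hr : r ∣ p * q)
    (hpG : p ∣ Nat.card G) (hqG : q ∣ Nat.card G) :
    (1 + cnt G p + cnt G q + cnt G (p * q) : ZMod r) = 0 := by
  have hcop : p.Coprime q := (Nat.coprime_primes hp hq).2 hpq
  have h := sum_eq_zero (G := G) hr (hcop.mul_dvd_of_dvd_of_dvd hpG hqG)
  rw [sum_divisors_mul_prime hq (fun h => hpq ((Nat.prime_dvd_prime_iff_eq hq hp).1 h).symm),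
    hp.divisors, Finset.sum_pair hp.one_lt.ne, cnt_one, one_mul, Nat.cast_one] at h
  linear_combination h

theorem sum_three {p q s r : ℕ} (hp : p.Prime) (hq : q.Prime) (hs : s.Prime) (hpq : p ≠ q) (hps : p ≠ s)
    (hqs : q ≠ s) (hr : r ∣ p * q * s) (hpG : p ∣ Nat.card G) (hqG : q ∣ Nat.card G) (hsG : s ∣ Nat.card G) :
    (1 + cnt G p + cnt G q + cnt G s + cnt G (p * q) + cnt G (p * s) + cnt G (q * s) +
      cnt G (p * q * s) : ZMod r) = 0 := by
  have hcop : p.Coprime q := (Nat.coprime_primes hp hq).2 hpq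
  have hcop2 : (p * q).Coprime s :=
    Nat.Coprime.mul_left ((Nat.coprime_primes hp hs).2 hps) ((Nat.coprime_primes hq hs).2 hqs)
  have h := sum_eq_zero (G := G) hr (hcop2.mul_dvd_of_dvd_of_dvd (hcop.mul_dvd_of_dvd_of_dvd hpG hqG) hsG)
  rw [sum_divisors_mul_prime hs ((Nat.Prime.coprime_iff_not_dvd hs).1 hcop2.symm),
    sum_divisors_mul_prime hq (fun h => hpq ((Nat.prime_dvd_prime_iff_eq hq hp).1 h).symm),
    hp.divisors, Finset.sum_pair hp.one_lt.ne, cnt_one, one_mul, one_mul, Nat.cast_one] at h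
  linear_combination h

/-- Two odd primes with the same value `a` force the value `b ≡ 1` on their product. -/
theorem same_pair {a b p q : ℕ} (hv : TwoValued G a b) (hp : p.Prime) (hq : q.Prime) (hpq : p ≠ q)
    (hp2 : p ≠ 2) (hq2 : q ≠ 2)
    (hpG : p ∣ Nat.card G) (hqG : q ∣ Nat.card G) (ha : cnt G p = a) (ha' : cnt G q = a) :
    cnt G (p * q) = b ∧ (b : ZMod p) = 1 := by
  haveI := Fact.mk hp
  haveI := Fact.mk hq
  have h0 : (a : ZMod q) = -1 := ha' ▸ sum_prime hq hqG
  have h1 : (a : ZMod p) = -1 := ha ▸ sum_prime hp hpG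
  have h := sum_two (r := p) hp hq hpq (dvd_mul_right p q) hpG hqG
  rw [ha, ha', h1] at h
  have hN : (cnt G (p * q) : ZMod p) = 1 := by linear_combination h
  have hpq3 : 2 < p * q := lt_of_lt_of_le (lt_of_le_of_ne hp.two_le hp2.symm) (Nat.le_mul_of_pos_right p hq.pos)
  rcases hv _ hpq3 with e | e | e
  · rw [e, Nat.cast_zero] at hN
    exact absurd hN zero_ne_one
  · rw [e, h1] at hN
    exact absurd (by linear_combination -hN : (2 : ZMod p) = 0) (two_ne_zero' hp2)
  · exact ⟨e, e ▸ hN⟩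

/-- In a group of odd order two primes have different values. -/
theorem odd_same_false (hodd : Odd (Nat.card G)) {a b p q : ℕ} (hv : TwoValued G a b) (hp : p.Prime)
    (hq : q.Prime) (hpq : p ≠ q) (hpG : p ∣ Nat.card G) (hqG : q ∣ Nat.card G)
    (ha : cnt G p = a) (ha' : cnt G q = a) : False := by
  have hne2 : ∀ r, r ∣ Nat.card G → r ≠ 2 := fun r hr e =>
    Nat.not_even_iff_odd.2 hodd (even_iff_two_dvd.2 (e ▸ hr))
  haveI := Fact.mk hp
  haveI := Fact.mk hq
  obtain ⟨hpq', hb⟩ := same_pair hv hp hq hpq (hne2 p hpG) (hne2 q hqG) hpG hqG ha ha'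
  -- every prime has the value `a`
  have hall : ∀ s : ℕ, s.Prime → s ∣ Nat.card G → cnt G s = a := by
    intro s hs hsG
    refine (prime_value hv hs (hne2 s hsG) hsG).resolve_right fun hsb => ?_
    haveI := Fact.mk hs
    have hb1 : (b : ZMod s) = -1 := hsb ▸ sum_prime hs hsG
    have hps : p ≠ s := fun e => by
      have h1 : (b : ZMod p) = -1 := by subst e; exact hb1
      rw [hb] at h1
      exact two_ne_zero' (hne2 p hpG) (by linear_combination h1)
    have hqs : q ≠ s := fun e => by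
      obtain ⟨-, hb'⟩ := same_pair hv hq hp (Ne.symm hpq) (hne2 q hqG) (hne2 p hpG) hqG hpG ha' ha
      have h1 : (b : ZMod q) = -1 := by subst e; exact hb1
      rw [hb'] at h1
      exact two_ne_zero' (hne2 q hqG) (by linear_combination h1)
    have hmixed : ∀ r : ℕ, r.Prime → r ∣ Nat.card G → cnt G r = a → r ≠ s → (b : ZMod r) = 1 →
        cnt G (r * s) = a ∧ (a : ZMod s) = 0 := by
      intro r hr hrG hra hrs hbr
      haveI := Fact.mk hr
      have har : (a : ZMod r) = -1 := hra ▸ sum_prime hr hrG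
      have h1 := sum_two (r := r) hr hs hrs (dvd_mul_right r s) hrG hsG
      rw [hra, hsb, har, hbr] at h1
      have e : cnt G (r * s) = a := by
        have h2 : (cnt G (r * s) : ZMod r) = -1 := by linear_combination h1
        rcases hv _ (lt_of_lt_of_le (lt_of_le_of_ne hr.two_le (hne2 r hrG).symm) (Nat.le_mul_of_pos_right r hs.pos)) with e | e | e
        · rw [e, Nat.cast_zero] at h2
          exact absurd (by linear_combination h2 : (1 : ZMod r) = 0) one_ne_zero
        · exact e
        · rw [e, hbr] at h2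
          exact absurd (by linear_combination h2 : (2 : ZMod r) = 0) (two_ne_zero' (hne2 r hrG))
      refine ⟨e, ?_⟩
      have h3 := sum_two (r := s) hr hs hrs (dvd_mul_left s r) hrG hsG
      rw [hra, hsb, e, hb1] at h3
      have h4 : (2 : ZMod s) * a = 0 := by linear_combination h3
      exact (mul_eq_zero.1 h4).resolve_left (two_ne_zero' (hne2 s hsG))
    obtain ⟨-, hb'⟩ := same_pair hv hq hp (Ne.symm hpq) (hne2 q hqG) (hne2 p hpG) hqG hpG ha' ha
    obtain ⟨eps, has⟩ := hmixed p hp hpG ha hps hb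
    obtain ⟨eqs, -⟩ := hmixed q hq hqG ha' hqs hb'
    have h5 := sum_three (r := p) hp hq hs hpq hps hqs ((dvd_mul_right p q).mul_right s) hpG hqG hsG
    rw [ha, ha', hsb, hpq', eps, eqs] at h5
    have ha1 : (a : ZMod p) = -1 := ha ▸ sum_prime hp hpG
    rw [ha1, hb] at h5
    have h6 : (cnt G (p * q * s) : ZMod p) = 1 := by linear_combination h5
    have h7 : cnt G (p * q * s) = b := by
      rcases hv _ (lt_of_lt_of_le (lt_of_le_of_ne hp.two_le (hne2 p hpG).symm)
        (Nat.le_of_dvd (Nat.mul_pos (Nat.mul_pos hp.pos hq.pos) hs.pos) ((dvd_mul_right p q).mul_right s))) with e | e | e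
      · rw [e, Nat.cast_zero] at h6
        exact absurd h6 zero_ne_one
      · rw [e, ha1] at h6
        exact absurd (by linear_combination -h6 : (2 : ZMod p) = 0) (two_ne_zero' (hne2 p hpG))
      · exact e
    have h8 := sum_three (r := s) hp hq hs hpq hps hqs (dvd_mul_left s (p * q)) hpG hqG hsG
    rw [ha, ha', hsb, hpq', eps, eqs, h7, hb1, has] at h8
    exact two_ne_zero' (hne2 s hsG) (by linear_combination -h8)
  have hdvd : Nat.card G ∣ 1 + a := by
    rw [Nat.dvd_iff_prime_pow_dvd_dvd]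
    intro r k hr hrk
    rcases Nat.eq_zero_or_pos k with rfl | hk
    · simp
    haveI := Fact.mk hr
    have hrG : r ∣ Nat.card G := (dvd_pow_self r hk.ne').trans hrk
    obtain ⟨s, hs, hsG, hrs⟩ : ∃ s, s.Prime ∧ s ∣ Nat.card G ∧ r ≠ s := by
      by_cases e : r = p
      · exact ⟨q, hq, hqG, e ▸ hpq⟩
      · exact ⟨p, hp, hpG, e⟩
    obtain ⟨-, hbr⟩ := same_pair hv hr hs hrs (hne2 r hrG) (hne2 s hsG) hrG hsG (hall r hr hrG) (hall s hs hsG)
    have har : (a : ZMod r) = -1 := hall r hr hrG ▸ sum_prime hr hrG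
    have hhigh : ∀ i, 2 ≤ i → cnt G (r ^ i) = 0 := by
      intro i hi
      by_contra h
      have h3 : 2 < r ^ i := lt_of_lt_of_le (lt_of_le_of_ne hr.two_le (hne2 r hrG).symm)
        (Nat.le_of_dvd (pow_pos hr.pos i) (dvd_pow_self r (by omega)))
      have h2 : (cnt G (r ^ i) : ZMod r) = 0 := by
        rw [ZMod.natCast_eq_zero_iff]
        refine dvd_trans ?_ (totient_dvd_cnt (pow_pos hr.pos i))
        rw [Nat.totient_prime_pow hr (by omega)]
        exact (dvd_pow_self r (by omega)).mul_right _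
      rcases hv _ h3 with e | e | e
      · exact h e
      · rw [e, har] at h2
        exact one_ne_zero (by linear_combination -h2)
      · rw [e, hbr] at h2
        exact one_ne_zero h2
    have h := CfsgLib.FrobCount.frobenius hrk
    rw [card_pow_eq_one _ (pow_ne_zero k hr.ne_zero), Nat.sum_divisors_prime_pow hr,
      ← Finset.sum_subset (Finset.range_subset_range.2 (show 2 ≤ k + 1 by omega)) (fun i _ hi => hhigh i (by
        rw [Finset.mem_range] at hi; omega)),
      Finset.sum_range_succ, Finset.sum_range_one, pow_zero, pow_one, cnt_one, hall r hr hrG] at h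
    exact h
  have hle : Nat.card G ≤ 1 + a := Nat.le_of_dvd (by omega) hdvd
  have hsub : ({1, p, q} : Finset ℕ) ⊆ (Nat.card G).divisors := by
    intro x hx
    simp only [Finset.mem_insert, Finset.mem_singleton] at hx
    rw [Nat.mem_divisors]
    rcases hx with rfl | rfl | rfl
    · exact ⟨one_dvd _, Nat.card_pos.ne'⟩
    · exact ⟨hpG, Nat.card_pos.ne'⟩
    · exact ⟨hqG, Nat.card_pos.ne'⟩
  have hsum : ∑ d ∈ ({1, p, q} : Finset ℕ), cnt G d ≤ Nat.card G :=
    (Finset.sum_le_sum_of_subset hsub).trans_eq card_eq_sum.symm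
  rw [Finset.sum_insert (by simp [hp.one_lt.ne, hq.one_lt.ne]), Finset.sum_pair hpq, cnt_one, ha, ha'] at hsum
  have : a ≠ 0 := ha ▸ cnt_pos_iff.2 (exists_prime_orderOf_dvd_card' p hpG)
  omega

section Even

variable {z : G}

/-- A central involution shifts the orders of elements of odd order. -/
theorem cnt_two_mul (hzc : z ∈ center G) (hz : orderOf z = 2) (hu : ∀ g : G, orderOf g = 2 → g = z)
    {m : ℕ} (hm : Odd m) : cnt G (2 * m) = cnt G m := by
  have hm2 : (orderOf z).Coprime m := hz ▸ Nat.coprime_two_left.2 hm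
  have hzz : z * z = 1 := by rw [← pow_two, ← hz]; exact pow_orderOf_eq_one z
  have hc : ∀ g : G, Commute z g := fun g => (mem_center_iff.1 hzc g).symm
  have hto : ∀ g : G, orderOf g = m → orderOf (z * g) = 2 * m := fun g hg => by
    rw [(hc g).orderOf_mul_eq_mul_orderOf_of_coprime (hg.symm ▸ hm2), hz, hg]
  have hfrom : ∀ g : G, orderOf g = 2 * m → orderOf (z * g) = m := fun g hg => by
    have h1 : orderOf (g ^ m) = 2 := by
      rw [orderOf_pow' _ hm.pos.ne', hg, Nat.gcd_eq_right (dvd_mul_left m 2), Nat.mul_div_cancel _ hm.pos]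
    have h2 : (z * g) ^ m = 1 := by
      rw [(hc g).mul_pow, hu _ h1]
      obtain ⟨k, hk⟩ := hm
      rw [hk, pow_succ, pow_mul, pow_two, hzz, one_pow, one_mul, hzz]
    have h3 := orderOf_dvd_of_pow_eq_one h2
    have h4 : orderOf g ∣ Nat.lcm (orderOf z) (orderOf (z * g)) := by
      have := ((Commute.refl z).mul_right (hc g)).orderOf_mul_dvd_lcm
      rwa [← mul_assoc, hzz, one_mul] at this
    rw [hg, hz] at h4
    have h5 : 2 * m ∣ 2 * orderOf (z * g) := h4.trans (Nat.lcm_dvd_mul _ _)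
    exact Nat.dvd_antisymm h3 (Nat.dvd_of_mul_dvd_mul_left two_pos h5)
  exact (Nat.card_congr
    { toFun := fun g : {g : G // orderOf g = m} => (⟨z * g.1, hto g.1 g.2⟩ : {g : G // orderOf g = 2 * m})
      invFun := fun g => ⟨z * g.1, hfrom g.1 g.2⟩
      left_inv := fun g => Subtype.ext (by simp [← mul_assoc, hzz])
      right_inv := fun g => Subtype.ext (by simp [← mul_assoc, hzz]) }).symm

theorem sum_four_prime (hzc : z ∈ center G) (hz : orderOf z = 2) (hu : ∀ g : G, orderOf g = 2 → g = z)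
    (h4 : 4 ∣ Nat.card G) {p r : ℕ} (hp : p.Prime) (hp2 : p ≠ 2) (hpG : p ∣ Nat.card G) (hr : r ∣ p) :
    (2 + 2 * cnt G p + cnt G 4 + cnt G (4 * p) : ZMod r) = 0 := by
  have hop : Odd p := hp.odd_of_ne_two hp2
  have hcop : Nat.Coprime 4 p := Nat.Coprime.pow_left 2 (Nat.coprime_two_left.2 hop)
  have h := sum_eq_zero (G := G) (hr.mul_left 4) (hcop.mul_dvd_of_dvd_of_dvd h4 hpG)
  have hc2 : cnt G 2 = 1 := by
    rw [show (2 : ℕ) = 2 * 1 from rfl, cnt_two_mul hzc hz hu odd_one, cnt_one]
  rw [sum_divisors_mul_prime hp ((Nat.Prime.coprime_iff_not_dvd hp).1 hcop.symm),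
    show Nat.divisors 4 = {1, 2, 4} from by decide, Finset.sum_insert (by decide), Finset.sum_pair (by decide),
    cnt_two_mul hzc hz hu hop, one_mul, cnt_one, hc2, Nat.cast_one] at h
  linear_combination h

theorem sum_four_two (hzc : z ∈ center G) (hz : orderOf z = 2) (hu : ∀ g : G, orderOf g = 2 → g = z)
    (h4 : 4 ∣ Nat.card G) {p q r : ℕ} (hp : p.Prime) (hq : q.Prime) (hpq : p ≠ q) (hp2 : p ≠ 2) (hq2 : q ≠ 2)
    (hpG : p ∣ Nat.card G) (hqG : q ∣ Nat.card G) (hr : r ∣ p * q) :
    (2 + cnt G 4 + 2 * cnt G p + 2 * cnt G q + 2 * cnt G (p * q) + cnt G (4 * p) + cnt G (4 * q) +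
      cnt G (4 * p * q) : ZMod r) = 0 := by
  have hop : Odd p := hp.odd_of_ne_two hp2
  have hoq : Odd q := hq.odd_of_ne_two hq2
  have hcop : Nat.Coprime 4 p := Nat.Coprime.pow_left 2 (Nat.coprime_two_left.2 hop)
  have hcop2 : (4 * p).Coprime q :=
    Nat.Coprime.mul_left (Nat.Coprime.pow_left 2 (Nat.coprime_two_left.2 hoq)) ((Nat.coprime_primes hp hq).2 hpq)
  have h := sum_eq_zero (G := G) (r := r) (n := 4 * p * q) (by rw [mul_assoc]; exact hr.mul_left 4)
    (hcop2.mul_dvd_of_dvd_of_dvd (hcop.mul_dvd_of_dvd_of_dvd h4 hpG) hqG)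
  have hc2 : cnt G 2 = 1 := by
    rw [show (2 : ℕ) = 2 * 1 from rfl, cnt_two_mul hzc hz hu odd_one, cnt_one]
  rw [sum_divisors_mul_prime hq ((Nat.Prime.coprime_iff_not_dvd hq).1 hcop2.symm),
    sum_divisors_mul_prime hp ((Nat.Prime.coprime_iff_not_dvd hp).1 hcop.symm),
    show Nat.divisors 4 = {1, 2, 4} from by decide, Finset.sum_insert (by decide), Finset.sum_pair (by decide),
    cnt_two_mul hzc hz hu hop, cnt_two_mul hzc hz hu hoq,
    show 2 * p * q = 2 * (p * q) from mul_assoc 2 p q, cnt_two_mul hzc hz hu (hop.mul hoq),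
    cnt_one, hc2, Nat.cast_one] at h
  simp only [one_mul] at h
  linear_combination h

theorem four_cnt (hzc : z ∈ center G) (hz : orderOf z = 2) (hu : ∀ g : G, orderOf g = 2 → g = z)
    (h4 : 4 ∣ Nat.card G) : (cnt G 4 : ZMod 4) = 2 := by
  have h := sum_eq_zero (G := G) (dvd_refl 4) h4
  have hc2 : cnt G 2 = 1 := by
    rw [show (2 : ℕ) = 2 * 1 from rfl, cnt_two_mul hzc hz hu odd_one, cnt_one]
  rw [show Nat.divisors 4 = {1, 2, 4} from by decide, Finset.sum_insert (by decide), Finset.sum_pair (by decide),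
    cnt_one, hc2, Nat.cast_one] at h
  have : ∀ x : ZMod 4, 1 + (1 + x) = 0 → x = 2 := by decide
  exact this _ h

theorem four_dvd_cnt {k : ℕ} (hk : Odd k) (hk1 : 1 < k) : (cnt G (4 * k) : ZMod 4) = 0 := by
  rw [ZMod.natCast_eq_zero_iff]
  refine dvd_trans ?_ (totient_dvd_cnt (by omega))
  rw [Nat.totient_mul (Nat.Coprime.pow_left 2 (Nat.coprime_two_left.2 hk))]
  have h2 : 2 ∣ k.totient := (Nat.totient_even (show 2 < k by obtain ⟨j, hj⟩ := hk; omega)).two_dvd
  have : Nat.totient 4 = 2 := by decide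
  rw [this]
  exact Nat.mul_dvd_mul_left 2 h2

theorem four_same_false (hzc : z ∈ center G) (hz : orderOf z = 2) (hu : ∀ g : G, orderOf g = 2 → g = z)
    (h4 : 4 ∣ Nat.card G) {a b p q : ℕ} (hv : TwoValued G a b) (hp : p.Prime) (hq : q.Prime) (hpq : p ≠ q)
    (hp2 : p ≠ 2) (hq2 : q ≠ 2) (hpG : p ∣ Nat.card G) (hqG : q ∣ Nat.card G)
    (ha : cnt G p = a) (ha' : cnt G q = a) (h4v : cnt G 4 = a ∨ cnt G 4 = b) : False := by
  haveI := Fact.mk hp
  haveI := Fact.mk hq
  have hop : Odd p := hp.odd_of_ne_two hp2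
  have hoq : Odd q := hq.odd_of_ne_two hq2
  obtain ⟨epq, hb⟩ := same_pair hv hp hq hpq hp2 hq2 hpG hqG ha ha'
  obtain ⟨-, hb'⟩ := same_pair hv hq hp (Ne.symm hpq) hq2 hp2 hqG hpG ha' ha
  have hap : (a : ZMod p) = -1 := ha ▸ sum_prime hp hpG
  have haq : (a : ZMod q) = -1 := ha' ▸ sum_prime hq hqG
  have h2p := two_ne_zero' (r := p) hp2
  have h2q := two_ne_zero' (r := q) hq2
  have e1 := sum_four_prime hzc hz hu h4 hp hp2 hpG (dvd_refl p)
  have e2 := sum_four_prime hzc hz hu h4 hq hq2 hqG (dvd_refl q)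
  have e3 := sum_four_two hzc hz hu h4 hp hq hpq hp2 hq2 hpG hqG (dvd_mul_right p q)
  have m0 := four_cnt hzc hz hu h4
  have mp := four_dvd_cnt (G := G) hop hp.one_lt
  have mpq := four_dvd_cnt (G := G) (hop.mul hoq) (by have := hp.two_le; have := hq.two_le; nlinarith)
  rw [← mul_assoc] at mpq
  have hp3 : 2 < 4 * p := by have := hp.two_le; omega
  have hq3 : 2 < 4 * q := by have := hq.two_le; omega
  have hpq3 : 2 < 4 * p * q := by have := hp.two_le; have := hq.two_le; nlinarith
  have h24 : (2 : ZMod 4) ≠ 0 := by decide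
  rcases h4v with e4 | e4
  · rw [ha, e4, hap] at e1
    rw [ha', e4, haq] at e2
    have hNp : cnt G (4 * p) = b := by
      have h : (cnt G (4 * p) : ZMod p) = 1 := by linear_combination e1
      rcases hv _ hp3 with e | e | e
      · rw [e, Nat.cast_zero] at h; exact absurd h zero_ne_one
      · rw [e, hap] at h; exact absurd (by linear_combination -h : (2 : ZMod p) = 0) h2p
      · exact e
    have hNq : cnt G (4 * q) = b := by
      have h : (cnt G (4 * q) : ZMod q) = 1 := by linear_combination e2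
      rcases hv _ hq3 with e | e | e
      · rw [e, Nat.cast_zero] at h; exact absurd h zero_ne_one
      · rw [e, haq] at h; exact absurd (by linear_combination -h : (2 : ZMod q) = 0) h2q
      · exact e
    rw [ha, ha', e4, epq, hNp, hNq, hap, hb] at e3
    have h : (cnt G (4 * p * q) : ZMod p) = -1 := by linear_combination e3
    rcases hv _ hpq3 with e | e | e
    · rw [e, Nat.cast_zero] at h; exact one_ne_zero (by linear_combination h : (1 : ZMod p) = 0)
    · rw [e, ← e4, m0] at mpq; exact h24 mpq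
    · rw [e, hb] at h; exact h2p (by linear_combination h)
  · rw [ha, e4, hap, hb] at e1
    rw [ha', e4, haq, hb'] at e2
    have hNp : cnt G (4 * p) = a := by
      have h : (cnt G (4 * p) : ZMod p) = -1 := by linear_combination e1
      rcases hv _ hp3 with e | e | e
      · rw [e, Nat.cast_zero] at h; exact absurd (by linear_combination h : (1 : ZMod p) = 0) one_ne_zero
      · exact e
      · rw [e, hb] at h; exact absurd (by linear_combination h : (2 : ZMod p) = 0) h2p
    have hNq : cnt G (4 * q) = a := by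
      have h : (cnt G (4 * q) : ZMod q) = -1 := by linear_combination e2
      rcases hv _ hq3 with e | e | e
      · rw [e, Nat.cast_zero] at h; exact absurd (by linear_combination h : (1 : ZMod q) = 0) one_ne_zero
      · exact e
      · rw [e, hb'] at h; exact absurd (by linear_combination h : (2 : ZMod q) = 0) h2q
    rw [ha, ha', e4, epq, hNp, hNq, hap, hb] at e3
    have h : (cnt G (4 * p * q) : ZMod p) = 1 := by linear_combination e3
    rcases hv _ hpq3 with e | e | e
    · rw [e, Nat.cast_zero] at h; exact zero_ne_one h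
    · rw [e, hap] at h; exact h2p (by linear_combination -h)
    · rw [e, ← e4, m0] at mpq; exact h24 mpq

theorem four_diff_false (hzc : z ∈ center G) (hz : orderOf z = 2) (hu : ∀ g : G, orderOf g = 2 → g = z)
    (h4 : 4 ∣ Nat.card G) {a b p q : ℕ} (hv : TwoValued G a b) (hp : p.Prime) (hq : q.Prime) (hpq : p ≠ q)
    (hp2 : p ≠ 2) (hq2 : q ≠ 2) (hpG : p ∣ Nat.card G) (hqG : q ∣ Nat.card G)
    (ha : cnt G p = a) (hb : cnt G q = b) (e4 : cnt G 4 = a) : False := by
  haveI := Fact.mk hp
  haveI := Fact.mk hq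
  have hop : Odd p := hp.odd_of_ne_two hp2
  have hoq : Odd q := hq.odd_of_ne_two hq2
  have hap : (a : ZMod p) = -1 := ha ▸ sum_prime hp hpG
  have hbq : (b : ZMod q) = -1 := hb ▸ sum_prime hq hqG
  have h2p := two_ne_zero' (r := p) hp2
  have h2q := two_ne_zero' (r := q) hq2
  have m0 := four_cnt hzc hz hu h4
  have mp := four_dvd_cnt (G := G) hop hp.one_lt
  have mq := four_dvd_cnt (G := G) hoq hq.one_lt
  have h24 : (2 : ZMod 4) ≠ 0 := by decide
  have hp3 : 2 < 4 * p := by have := hp.two_le; omega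
  have hq3 : 2 < 4 * q := by have := hq.two_le; omega
  have e1 := sum_four_prime hzc hz hu h4 hp hp2 hpG (dvd_refl p)
  rw [ha, e4, hap] at e1
  have hbp' : (cnt G (4 * p) : ZMod p) = 1 := by linear_combination e1
  have hNp : cnt G (4 * p) = b := by
    rcases hv _ hp3 with e | e | e
    · rw [e, Nat.cast_zero] at hbp'; exact absurd hbp' zero_ne_one
    · rw [e, ← e4, m0] at mp; exact absurd mp h24
    · exact e
  have hbp : (b : ZMod p) = 1 := hNp ▸ hbp'
  have e5 := sum_two (G := G) (r := p) hp hq hpq (dvd_mul_right p q) hpG hqG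
  rw [ha, hb, hap, hbp] at e5
  have hN : cnt G (p * q) = a := by
    have h : (cnt G (p * q) : ZMod p) = -1 := by linear_combination e5
    rcases hv _ (by have := hp.two_le; have h := hq.two_le; calc 2 < 2 * 2 := by norm_num
                                                                                                                   _ ≤ p * q := Nat.mul_le_mul this h) with e | e | e
    · rw [e, Nat.cast_zero] at h; exact absurd (by linear_combination h : (1 : ZMod p) = 0) one_ne_zero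
    · exact e
    · rw [e, hbp] at h; exact absurd (by linear_combination h : (2 : ZMod p) = 0) h2p
  have e6 := sum_two (G := G) (r := q) hp hq hpq (dvd_mul_left q p) hpG hqG
  rw [ha, hb, hN, hbq] at e6
  have haq : (a : ZMod q) = 0 :=
    (mul_eq_zero.1 (by linear_combination e6 : (2 : ZMod q) * a = 0)).resolve_left h2q
  have e7 := sum_four_prime hzc hz hu h4 hq hq2 hqG (dvd_refl q)
  rw [hb, e4, hbq, haq] at e7
  have hNq : cnt G (4 * q) = 0 := by
    have h : (cnt G (4 * q) : ZMod q) = 0 := by linear_combination e7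
    rcases hv _ hq3 with e | e | e
    · exact e
    · rw [e, ← e4, m0] at mq; exact absurd mq h24
    · rw [e, hbq] at h; exact absurd (by linear_combination -h : (1 : ZMod q) = 0) one_ne_zero
  have hNpq : cnt G (4 * p * q) = 0 := by
    by_contra h
    obtain ⟨g, hg⟩ := cnt_pos_iff.1 h
    refine cnt_pos_iff.2 ⟨g ^ p, ?_⟩ hNq
    rw [orderOf_pow' _ hp.ne_zero, hg, show 4 * p * q = (4 * q) * p by ring,
      Nat.gcd_eq_right (dvd_mul_left p (4 * q)), Nat.mul_div_cancel _ hp.pos]
  have e8 := sum_four_two hzc hz hu h4 hp hq hpq hp2 hq2 hpG hqG (dvd_mul_left q p)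
  rw [e4, ha, hb, hN, hNp, hNq, hNpq, haq, hbq, Nat.cast_zero] at e8
  exact one_ne_zero (by linear_combination -e8 : (1 : ZMod q) = 0)

end Even

theorem primeFactors_card_le {S : Finset ℕ} (hS : S.card ≤ 2)
    (h : ∀ r : ℕ, r.Prime → r ∣ Nat.card G → r ∈ S) : (Nat.card G).primeFactors.card ≤ 2 :=
  (Finset.card_le_card fun r hr => h r (Nat.prime_of_mem_primeFactors hr) (Nat.dvd_of_mem_primeFactors hr)).trans hS

/-- Odd order: at most two primes. -/
theorem odd_primes_le (hodd : Odd (Nat.card G)) {a b : ℕ} (hv : TwoValued G a b) :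
    (Nat.card G).primeFactors.card ≤ 2 := by
  by_contra hcon
  obtain ⟨p, q, s, hp, hq, hs, hpq, hps, hqs⟩ := Finset.two_lt_card_iff.1 (not_le.1 hcon)
  have hne2 : ∀ r, r ∣ Nat.card G → r ≠ 2 := fun r hr e =>
    Nat.not_even_iff_odd.2 hodd (even_iff_two_dvd.2 (e ▸ hr))
  have hval : ∀ r ∈ (Nat.card G).primeFactors, cnt G r = a ∨ cnt G r = b := fun r hr =>
    prime_value hv (Nat.prime_of_mem_primeFactors hr) (hne2 r (Nat.dvd_of_mem_primeFactors hr))
      (Nat.dvd_of_mem_primeFactors hr)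
  have hv' : TwoValued G b a := fun m hm => (hv m hm).imp_right Or.symm
  have key : ∀ r ∈ (Nat.card G).primeFactors, ∀ t ∈ (Nat.card G).primeFactors, r ≠ t →
      cnt G r = cnt G t → False := fun r hr t ht hne e => by
    rcases hval r hr with e' | e'
    · exact odd_same_false hodd hv (Nat.prime_of_mem_primeFactors hr) (Nat.prime_of_mem_primeFactors ht) hne
        (Nat.dvd_of_mem_primeFactors hr) (Nat.dvd_of_mem_primeFactors ht) e' (e ▸ e')
    · exact odd_same_false hodd hv' (Nat.prime_of_mem_primeFactors hr) (Nat.prime_of_mem_primeFactors ht) hne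
        (Nat.dvd_of_mem_primeFactors hr) (Nat.dvd_of_mem_primeFactors ht) e' (e ▸ e')
  rcases hval p hp with e1 | e1 <;> rcases hval q hq with e2 | e2 <;> rcases hval s hs with e3 | e3
  all_goals first
    | exact key p hp q hq hpq (e1.trans e2.symm)
    | exact key p hp s hs hps (e1.trans e3.symm)
    | exact key q hq s hs hqs (e2.trans e3.symm)

/-- A central unique involution and an element of order four: at most one odd prime. -/
theorem four_primes_le {z : G} (hzc : z ∈ center G) (hz : orderOf z = 2) (hu : ∀ g : G, orderOf g = 2 → g = z)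
    (h4 : cnt G 4 ≠ 0) {a b : ℕ} (hv : TwoValued G a b) {p q : ℕ} (hp : p.Prime) (hq : q.Prime)
    (hp2 : p ≠ 2) (hq2 : q ≠ 2) (hpG : p ∣ Nat.card G) (hqG : q ∣ Nat.card G) : p = q := by
  by_contra hpq
  obtain ⟨g, hg⟩ := cnt_pos_iff.1 h4
  have h4G : 4 ∣ Nat.card G := hg ▸ orderOf_dvd_natCard g
  have h4v := (hv 4 (by omega)).resolve_left h4
  have hv' : TwoValued G b a := fun m hm => (hv m hm).imp_right Or.symm
  rcases prime_value hv hp hp2 hpG with e1 | e1 <;> rcases prime_value hv hq hq2 hqG with e2 | e2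
  · exact four_same_false hzc hz hu h4G hv hp hq hpq hp2 hq2 hpG hqG e1 e2 h4v
  · rcases h4v with e4 | e4
    · exact four_diff_false hzc hz hu h4G hv hp hq hpq hp2 hq2 hpG hqG e1 e2 e4
    · exact four_diff_false hzc hz hu h4G hv' hq hp (Ne.symm hpq) hq2 hp2 hqG hpG e2 e1 e4
  · rcases h4v with e4 | e4
    · exact four_diff_false hzc hz hu h4G hv hq hp (Ne.symm hpq) hq2 hp2 hqG hpG e2 e1 e4
    · exact four_diff_false hzc hz hu h4G hv' hp hq hpq hp2 hq2 hpG hqG e1 e2 e4
  · exact four_same_false hzc hz hu h4G hv' hp hq hpq hp2 hq2 hpG hqG e1 e2 h4v.symm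

/-- The two nontrivial values. -/
theorem exists_values
    (h : (((fun m : ℕ => Nat.card {g : G // orderOf g = m}) '' Set.range (orderOf : G → ℕ))).ncard = 3) :
    ∃ a b : ℕ, a ≠ b ∧ TwoValued G a b ∧ (cnt G 2 = 0 ∨ cnt G 2 = 1 ∨ cnt G 2 = a ∨ cnt G 2 = b) := by
  set V := (fun m : ℕ => Nat.card {g : G // orderOf g = m}) '' Set.range (orderOf : G → ℕ) with hV
  have h1 : 1 ∈ V := ⟨1, ⟨1, orderOf_one⟩, cnt_one (G := G)⟩
  have hVf : V.Finite := Set.toFinite _
  have h2 : (V \ {1}).ncard = 2 := by rw [Set.ncard_sdiff_singleton_of_mem h1, h]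
  obtain ⟨a, b, hab, hVab⟩ := Set.ncard_eq_two.1 h2
  have hmem : ∀ m : ℕ, cnt G m = 0 ∨ cnt G m = 1 ∨ cnt G m = a ∨ cnt G m = b := by
    intro m
    by_cases h0 : cnt G m = 0
    · exact Or.inl h0
    obtain ⟨g, hg⟩ := cnt_pos_iff.1 h0
    have hmV : cnt G m ∈ V := ⟨m, ⟨g, hg⟩, rfl⟩
    by_cases h1' : cnt G m = 1
    · exact Or.inr (Or.inl h1')
    have : cnt G m ∈ ({a, b} : Set ℕ) := hVab ▸ ⟨hmV, h1'⟩
    exact Or.inr (Or.inr (by simpa using this))
  refine ⟨a, b, hab, fun m hm => ?_, hmem 2⟩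
  rcases hmem m with e | e | e
  · exact Or.inl e
  · have := two_dvd_cnt (G := G) hm
    rw [e] at this
    omega
  · exact Or.inr e

theorem isSolvable_of_primeFactors_le (h : (Nat.card G).primeFactors.card ≤ 2) : Group.IsSolvable G := by
  have hn0 : Nat.card G ≠ 0 := Nat.card_pos.ne'
  have hprod := Nat.prod_factorization_pow_eq_self hn0
  rw [Finsupp.prod, Nat.support_factorization] at hprod
  rcases h.eq_or_lt with h2 | h2
  · obtain ⟨p, q, hpq, hS⟩ := Finset.card_eq_two.1 h2
    rw [hS, Finset.prod_pair hpq] at hprod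
    have hp : p ∈ (Nat.card G).primeFactors := by rw [hS]; simp
    have hq : q ∈ (Nat.card G).primeFactors := by rw [hS]; simp
    exact CfsgLib.Char.isSolvable_of_card_eq p q _ _ (Nat.prime_of_mem_primeFactors hp)
      (Nat.prime_of_mem_primeFactors hq) hprod.symm
  · rcases Nat.eq_zero_or_pos (Nat.card G).primeFactors.card with h0 | h0
    · rw [Finset.card_eq_zero.1 h0, Finset.prod_empty] at hprod
      exact CfsgLib.Char.isSolvable_of_card_eq 2 3 0 0 Nat.prime_two Nat.prime_three (by simpa using hprod.symm)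
    · obtain ⟨p, hS⟩ := Finset.card_eq_one.1 (show (Nat.card G).primeFactors.card = 1 by omega)
      rw [hS, Finset.prod_singleton] at hprod
      have hp : p ∈ (Nat.card G).primeFactors := by rw [hS]; simp
      have hpp := Nat.prime_of_mem_primeFactors hp
      obtain ⟨q, hqp, hq⟩ := Nat.exists_infinite_primes (p + 1)
      exact CfsgLib.Char.isSolvable_of_card_eq p q ((Nat.card G).factorization p) 0 hpp hq (by rw [pow_zero, mul_one]; exact hprod.symm)

/-- At most one odd prime gives solvability. -/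
theorem isSolvable_of_one_odd_prime
    (h : ∀ p q : ℕ, p.Prime → q.Prime → p ≠ 2 → q ≠ 2 → p ∣ Nat.card G → q ∣ Nat.card G → p = q) :
    Group.IsSolvable G := by
  refine isSolvable_of_primeFactors_le ?_
  by_contra hcon
  obtain ⟨p, q, r, hp, hq, hr, hpq, hpr, hqr⟩ := Finset.two_lt_card_iff.1 (not_le.1 hcon)
  rw [Nat.mem_primeFactors] at hp hq hr
  by_cases h2 : p = 2
  · subst h2
    exact hqr (h q r hq.1 hr.1 (Ne.symm hpq) (Ne.symm hpr) hq.2.1 hr.2.1)
  by_cases h3 : q = 2
  · subst h3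
    exact hpr (h p r hp.1 hr.1 hpq (Ne.symm hqr) hp.2.1 hr.2.1)
  exact hpq (h p q hp.1 hq.1 h2 h3 hp.2.1 hq.2.1)

/-- Three values of the counting function force solvability. -/
theorem isSolvable
    (h : (((fun m : ℕ => Nat.card {g : G // orderOf g = m}) '' Set.range (orderOf : G → ℕ))).ncard = 3) :
    Group.IsSolvable G := by
  obtain ⟨a, b, hab, hv, h2⟩ := exists_values h
  rcases Nat.even_or_odd (Nat.card G) with hev | hodd
  swap
  · exact isSolvable_of_primeFactors_le (odd_primes_le hodd hv)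
  haveI : Fact (Nat.Prime 2) := ⟨Nat.prime_two⟩
  obtain ⟨z, hz⟩ := exists_prime_orderOf_dvd_card' 2 (even_iff_two_dvd.1 hev)
  have h20 : cnt G 2 ≠ 0 := cnt_pos_iff.2 ⟨z, hz⟩
  by_cases hi : cnt G 2 = 1
  swap
  · -- the number of involutions uses up one value
    have hiodd : ¬ 2 ∣ cnt G 2 := by
      intro hd
      have hs := sum_eq_zero (G := G) (dvd_refl 2) (even_iff_two_dvd.1 hev)
      rw [Nat.prime_two.divisors, Finset.sum_pair (by decide), cnt_one, Nat.cast_one,
        (ZMod.natCast_eq_zero_iff _ _).2 hd, add_zero] at hs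
      exact one_ne_zero hs
    obtain ⟨c, hc⟩ : ∃ c, TwoValued G c c := by
      rcases ((h2.resolve_left h20).resolve_left hi) with e | e
      · refine ⟨b, fun m hm => ?_⟩
        rcases hv m hm with e' | e' | e'
        · exact Or.inl e'
        · exact absurd ((e'.trans e.symm) ▸ two_dvd_cnt (G := G) hm) hiodd
        · exact Or.inr (Or.inl e')
      · refine ⟨a, fun m hm => ?_⟩
        rcases hv m hm with e' | e' | e'
        · exact Or.inl e'
        · exact Or.inr (Or.inl e')
        · exact absurd ((e'.trans e.symm) ▸ two_dvd_cnt (G := G) hm) hiodd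
    refine isSolvable_of_one_odd_prime fun p q hp hq hp2 hq2 hpG hqG => by_contra fun hpq => ?_
    haveI := Fact.mk hp
    have e1 : cnt G p = c := (prime_value hc hp hp2 hpG).elim id id
    have e2 : cnt G q = c := (prime_value hc hq hq2 hqG).elim id id
    obtain ⟨-, h1⟩ := same_pair hc hp hq hpq hp2 hq2 hpG hqG e1 e2
    have h3 : (c : ZMod p) = -1 := e1 ▸ sum_prime hp hpG
    rw [h1] at h3
    exact two_ne_zero' hp2 (by linear_combination h3)
  -- a unique, hence central, involution
  have hu : ∀ g : G, orderOf g = 2 → g = z := fun g hg => by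
    obtain ⟨hss, -⟩ := Nat.card_eq_one_iff_unique.1 hi
    exact congrArg Subtype.val (hss.elim (⟨g, hg⟩ : {g : G // orderOf g = 2}) ⟨z, hz⟩)
  have hzc : z ∈ center G := mem_center_iff.2 fun g => by
    have : g * z * g⁻¹ = z := hu _ (by rw [← MulAut.conj_apply, MulEquiv.orderOf_eq, hz])
    exact mul_inv_eq_iff_eq_mul.1 this
  by_cases h4 : cnt G 4 = 0
  swap
  · exact isSolvable_of_one_odd_prime fun p q => four_primes_le hzc hz hu h4 hv
  -- the Sylow `2`-subgroup has order two
  obtain ⟨S⟩ : Nonempty (Sylow 2 G) := inferInstance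
  have hSle : (S : Subgroup G) ≤ zpowers z := by
    intro g hg
    obtain ⟨k, hk⟩ := IsPGroup.iff_orderOf.1 S.2 ⟨g, hg⟩
    rw [orderOf_mk] at hk
    rcases k with _ | _ | k
    · rw [show g = 1 from orderOf_eq_one_iff.1 (by simpa using hk)]; exact one_mem _
    · rw [hu g (by simpa using hk)]; exact mem_zpowers z
    · exfalso
      refine cnt_pos_iff.2 ⟨g ^ (2 ^ k), ?_⟩ h4
      rw [orderOf_pow' _ (pow_ne_zero k two_ne_zero), hk, show k + 1 + 1 = k + 2 from rfl, pow_add,
        Nat.gcd_eq_right (dvd_mul_right _ _), Nat.mul_div_cancel_left _ (pow_pos two_pos k)]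
      rfl
  haveI : IsCyclic (S : Subgroup G) :=
    isCyclic_of_injective (Subgroup.inclusion hSle) (Subgroup.inclusion_injective hSle)
  have hmin : (Nat.card G).minFac = 2 := (Nat.minFac_eq_two_iff _).2 (even_iff_two_dvd.1 hev)
  have hcomp := IsCyclic.isComplement' hmin (P := S) inferInstance
  set K := (MonoidHom.transferSylow S (IsCyclic.normalizer_le_centralizer hmin (P := S) inferInstance)).ker
  have hidx : K.index = Nat.card (S : Subgroup G) := hcomp.symm.index_eq_card
  have hSdvd : Nat.card (S : Subgroup G) ∣ 2 := by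
    have h := card_dvd_of_le hSle
    rwa [Nat.card_zpowers, hz] at h
  have hKodd : Odd (Nat.card K) := by
    rw [Nat.odd_iff, ← Nat.two_dvd_ne_zero]
    intro hd
    obtain ⟨k, hk⟩ := exists_prime_orderOf_dvd_card' 2 hd
    have hkz : (k : G) = z := hu _ (by rw [orderOf_coe, hk])
    have hzS : z ∈ (S : Subgroup G) := by
      have h2S : 2 ∣ Nat.card (S : Subgroup G) := S.dvd_card_of_dvd_card (even_iff_two_dvd.1 hev)
      have e := eq_of_le_of_card_ge hSle (by rw [Nat.card_zpowers, hz]; exact Nat.le_of_dvd Nat.card_pos h2S)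
      exact e ▸ mem_zpowers z
    have : z ∈ K ⊓ (S : Subgroup G) := ⟨hkz ▸ k.2, hzS⟩
    rw [hcomp.disjoint.eq_bot, mem_bot] at this
    rw [this, orderOf_one] at hz
    omega
  haveI : K.Normal := MonoidHom.normal_ker _
  have hvK : TwoValued ↥K a b := by
    intro m hm
    rcases Nat.even_or_odd m with he | ho
    · refine Or.inl (by_contra fun h0 => ?_)
      obtain ⟨g, hg⟩ := cnt_pos_iff.1 h0
      exact Nat.not_even_iff_odd.2 hKodd (even_iff_two_dvd.2 ((even_iff_two_dvd.1 he).trans (hg ▸ orderOf_dvd_natCard g)))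
    have e : cnt ↥K m = cnt G m := by
      refine Nat.card_congr
        { toFun := fun g => ⟨(g.1 : G), by rw [orderOf_coe]; exact g.2⟩
          invFun := fun g => ⟨⟨g.1, ?_⟩, by rw [orderOf_mk]; exact g.2⟩
          left_inv := fun g => rfl
          right_inv := fun g => rfl }
      rw [← QuotientGroup.eq_one_iff, ← orderOf_eq_one_iff]
      refine Nat.eq_one_of_dvd_coprimes (Nat.coprime_two_left.2 ho).symm
        (by have h := orderOf_map_dvd (QuotientGroup.mk' K) g.1; rwa [g.2] at h) ?_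
      refine (_root_.orderOf_dvd_natCard _).trans ?_
      rw [← index_eq_card, hidx]
      exact hSdvd
    rw [e]
    exact hv m hm
  have hKs : Group.IsSolvable K := isSolvable_of_primeFactors_le (odd_primes_le hKodd hvK)
  haveI := hKs
  haveI : Group.IsSolvable (G ⧸ K) := by
    have hc : Nat.card (G ⧸ K) ∣ 2 := by rw [← index_eq_card, hidx]; exact hSdvd
    obtain ⟨i, -, hi⟩ := (Nat.dvd_prime_pow Nat.prime_two).1 (hc.trans (pow_one 2).symm.dvd)
    exact CfsgLib.Char.isSolvable_of_card_eq 2 3 i 0 Nat.prime_two Nat.prime_three (by rw [hi, pow_zero, mul_one])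
  exact Group.isSolvable_of_ker_le_range K.subtype (QuotientGroup.mk' K) (by simp)

end CfsgLib.ThreeCounts
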