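import Cfsg.Agent.FGSB.FrobeniusCount

/-!
Frobenius' theorem in its general form: the number of `n`-th roots of the elements of a conjugacy class.
-/

set_option autoImplicit false
set_option linter.unusedSectionVars false
set_option linter.style.haveILetI false

namespace CfsgLib.FrobRoots

open scoped Classical
open Subgroup

universe u

theorem card_pow_mem {D : Type u} [Group D] [Finite D] (K : Subgroup D) [K.Normal] (n : ℕ) :
    Nat.card {w : D // w ^ n ∈ K} = Nat.card K * Nat.card {v : D ⧸ K // v ^ n = 1} := by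
  rw [← Nat.card_prod]
  refine Nat.card_congr ((Equiv.subtypeEquivRight fun w => ?_).trans
    (QuotientGroup.preimageMkEquivSubgroupProdSet K {v : D ⧸ K | v ^ n = 1}))
  change w ^ n ∈ K ↔ (w : D ⧸ K) ^ n = 1
  rw [← QuotientGroup.mk_pow, QuotientGroup.eq_one_iff]

/-- Frobenius' theorem for an arbitrary exponent. -/
theorem gcd_dvd_card_pow_eq_one (D : Type u) [Group D] [Finite D] (n : ℕ) :
    Nat.gcd n (Nat.card D) ∣ Nat.card {x : D // x ^ n = 1} := by
  refine (CfsgLib.FrobCount.frobenius (Nat.gcd_dvd_right n (Nat.card D))).trans (dvd_of_eq ?_)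
  refine Nat.card_congr (Equiv.subtypeEquivRight fun x => ⟨fun h => ?_, fun h => ?_⟩)
  · obtain ⟨t, ht⟩ := Nat.gcd_dvd_left n (Nat.card D)
    rw [ht, pow_mul, h, one_pow]
  · exact pow_gcd_eq_one.2 ⟨h, pow_card_eq_one'⟩

/-- Roots of prime power degree of a central element of prime power order. -/
theorem gcd_dvd_card_prime_roots {D : Type u} [Group D] [Finite D] {q : ℕ} (hq : q.Prime) (a : ℕ)
    {c : D} (hc : c ∈ center D) {k : ℕ} (hck : c ^ q ^ k = 1) :
    Nat.gcd (q ^ a) (Nat.card D) ∣ Nat.card {w : D // w ^ q ^ a = c} := by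
  haveI := Fintype.ofFinite D
  by_cases hne : IsEmpty {w : D // w ^ q ^ a = c}
  · rw [Nat.card_of_isEmpty (α := {w : D // w ^ q ^ a = c})]; exact dvd_zero _
  obtain ⟨⟨w₀, hw₀⟩⟩ := not_isEmpty_iff.1 hne
  by_cases hc1 : c = 1
  · subst hc1; exact gcd_dvd_card_pow_eq_one D _
  haveI : Fact q.Prime := ⟨hq⟩
  obtain ⟨i₀, -, hi₀⟩ := (Nat.dvd_prime_pow hq).1 (orderOf_dvd_of_pow_eq_one hck)
  obtain ⟨j, rfl⟩ : ∃ j, i₀ = j + 1 := by
    rcases i₀ with _ | j
    · rw [pow_zero] at hi₀; exact absurd (orderOf_eq_one_iff.1 hi₀) hc1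
    · exact ⟨j, rfl⟩
  set n := q ^ a with hn
  have hord : orderOf w₀ = q ^ (a + (j + 1)) := by
    refine orderOf_eq_prime_pow (n := a + j) ?_ ?_
    · rw [pow_add, ← hn, pow_mul, hw₀]
      intro h
      have := orderOf_dvd_of_pow_eq_one h
      rw [hi₀] at this
      exact absurd ((Nat.pow_dvd_pow_iff_le_right hq.one_lt).1 this) (by omega)
    · rw [add_assoc, pow_add, ← hn, pow_mul, hw₀, ← hi₀, pow_orderOf_eq_one]
  refine (Nat.gcd_dvd_left n _).trans ?_
  -- the quotient counts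
  have hA : ∀ (K : Subgroup D) (b : ℕ), b ≤ j + 1 → K.Normal → Nat.card K = q ^ b →
      ∃ A : ℕ, n ∣ A ∧ Nat.card {w : D // w ^ n ∈ K} = q ^ b * A := by
    intro K b hb hK hKc
    refine ⟨Nat.card {v : D ⧸ K // v ^ n = 1}, CfsgLib.FrobCount.frobenius ?_, by
      rw [card_pow_mem, hKc]⟩
    have h := (orderOf_dvd_natCard w₀).trans (dvd_of_eq (card_eq_card_quotient_mul_card_subgroup K))
    rw [hord, hKc] at h
    refine Nat.dvd_of_mul_dvd_mul_right (pow_pos hq.pos b) (dvd_trans ?_ h)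
    rw [hn, ← pow_add]
    exact pow_dvd_pow q (by omega)
  have hnorm : ∀ d : D, d ∈ center D → (zpowers d).Normal := fun d hd =>
    ⟨fun m hm g => by
      rw [mem_center_iff.1 ((zpowers_le.2 hd) hm) g, mul_inv_cancel_right]; exact hm⟩
  have hK' : Nat.card (zpowers (c ^ q)) = q ^ j := by
    rw [Nat.card_zpowers, orderOf_pow' c hq.ne_zero, hi₀, Nat.gcd_eq_right (dvd_pow_self q (by omega)),
      pow_succ, Nat.mul_div_cancel _ hq.pos]
  obtain ⟨A, hAd, hAc⟩ := hA (zpowers c) (j + 1) le_rfl (hnorm c hc) (by rw [Nat.card_zpowers, hi₀])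
  obtain ⟨B, hBd, hBc⟩ := hA (zpowers (c ^ q)) j (by omega) (hnorm _ (pow_mem hc q)) hK'
  set N := Nat.card {w : D // w ^ n = c} with hN
  -- all generators have the same number of roots
  have hgen : ∀ i : ℕ, ¬ q ∣ i →
      (Finset.univ.filter fun w : D => w ^ n = c ^ i).card = N := by
    intro i hi
    obtain ⟨m, hm1, hm0⟩ := Nat.chineseRemainder
      (Nat.Coprime.pow_left (a + (j + 1)) (hq.coprime_iff_not_dvd.2 hi)) 1 0
    obtain ⟨i', rfl⟩ := Nat.modEq_zero_iff_dvd.1 hm0
    have hsol : ∀ (l : ℕ) (w : D), w ^ n = c ^ l → w ^ q ^ (a + (j + 1)) = 1 := by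
      intro l w hw
      rw [pow_add, ← hn, pow_mul, hw, ← pow_mul, mul_comm, pow_mul, ← hi₀, pow_orderOf_eq_one,
        one_pow]
    have hinv : ∀ w : D, w ^ q ^ (a + (j + 1)) = 1 → w ^ (i * i') = w := by
      intro w hw
      rw [pow_eq_pow_mod (i * i') hw, hm1, ← pow_eq_pow_mod 1 hw, pow_one]
    have hcc : c ^ q ^ (a + (j + 1)) = 1 := by
      rw [add_comm a, pow_add, pow_mul, ← hi₀, pow_orderOf_eq_one, one_pow]
    rw [hN, Nat.card_eq_fintype_card, Fintype.card_subtype]
    refine Finset.card_nbij' (fun w => w ^ i') (fun w => w ^ i) ?_ ?_ ?_ ?_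
    · intro w hw
      simp only [Finset.mem_coe, Finset.mem_filter, Finset.mem_univ, true_and] at hw ⊢
      rw [← pow_mul, mul_comm, pow_mul, hw, ← pow_mul, hinv c hcc]
    · intro w hw
      simp only [Finset.mem_coe, Finset.mem_filter, Finset.mem_univ, true_and] at hw ⊢
      rw [← pow_mul, mul_comm, pow_mul, hw]
    · intro w hw
      simp only [Finset.mem_coe, Finset.mem_filter, Finset.mem_univ, true_and] at hw
      change (w ^ i') ^ i = w
      rw [← pow_mul, mul_comm, hinv w (hsol i w hw)]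
    · intro w hw
      simp only [Finset.mem_coe, Finset.mem_filter, Finset.mem_univ, true_and] at hw
      change (w ^ i) ^ i' = w
      rw [← pow_mul, hinv w (hsol 1 w (by rw [pow_one]; exact hw))]
  -- the split
  set S₁ := Finset.univ.filter fun w : D => w ^ n ∈ zpowers c with hS₁
  set S₀ := Finset.univ.filter fun w : D => w ^ n ∈ zpowers (c ^ q) with hS₀
  have hS₁c : S₁.card = q ^ (j + 1) * A := by
    rw [← hAc, Nat.card_eq_fintype_card, Fintype.card_subtype]
  have hS₀c : S₀.card = q ^ j * B := by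
    rw [← hBc, Nat.card_eq_fintype_card, Fintype.card_subtype]
  have hsub : zpowers (c ^ q) ≤ zpowers c := zpowers_le.2 (pow_mem (mem_zpowers c) q)
  set T := Finset.univ.filter fun d : D => d ∈ zpowers c ∧ d ∉ zpowers (c ^ q) with hT
  have hTc : T.card = q ^ (j + 1) - q ^ j := by
    have h1 : T = (Finset.univ.filter fun d : D => d ∈ zpowers c) \
        (Finset.univ.filter fun d : D => d ∈ zpowers (c ^ q)) := by
      ext d; simp [hT]
    rw [h1, Finset.card_sdiff_of_subset (fun d => by simpa using @hsub d), ← Fintype.card_subtype,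
      ← Fintype.card_subtype, ← Nat.card_eq_fintype_card, ← Nat.card_eq_fintype_card, hK',
      Nat.card_zpowers, hi₀]
  have hdiff : (S₁ \ S₀).card = (q ^ (j + 1) - q ^ j) * N := by
    rw [Finset.card_eq_sum_card_fiberwise (s := S₁ \ S₀) (t := T) (f := fun w => w ^ n)
      (fun w hw => by simpa [hS₁, hS₀, hT] using hw), ← hTc, ← smul_eq_mul]
    refine (Finset.sum_congr rfl fun d hd => ?_).trans (Finset.sum_const N)
    simp only [hT, Finset.mem_filter, Finset.mem_univ, true_and] at hd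
    obtain ⟨hd1, hd2⟩ := hd
    obtain ⟨i, rfl⟩ := mem_powers_iff_mem_zpowers.2 hd1
    have hqi : ¬ q ∣ i := fun ⟨t, ht⟩ => hd2 (by
      show c ^ i ∈ zpowers (c ^ q)
      rw [ht, pow_mul]; exact pow_mem (mem_zpowers _) t)
    rw [← hgen i hqi]
    congr 1
    ext w
    simp only [hS₁, hS₀, Finset.mem_filter, Finset.mem_sdiff, Finset.mem_univ, true_and]
    exact ⟨fun h => h.2, fun h => ⟨⟨h ▸ hd1, h ▸ hd2⟩, h⟩⟩
  have h1 := Finset.card_sdiff_add_card_eq_card (show S₀ ⊆ S₁ from fun w hw => by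
    simp only [hS₁, hS₀, Finset.mem_filter, Finset.mem_univ, true_and] at hw ⊢; exact hsub hw)
  rw [hdiff, hS₁c, hS₀c] at h1
  have h2 : (q - 1) * N + B = q * A := by
    refine Nat.eq_of_mul_eq_mul_left (pow_pos hq.pos j) ?_
    rw [show q ^ (j + 1) - q ^ j = q ^ j * (q - 1) by rw [Nat.mul_sub, mul_one, pow_succ], pow_succ] at h1
    linarith
  have h3 : n ∣ (q - 1) * N := (Nat.dvd_add_left hBd).1 (h2 ▸ hAd.mul_left q)
  refine (Nat.Coprime.dvd_mul_left (Nat.Coprime.pow_left a ?_)).1 h3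
  refine hq.coprime_iff_not_dvd.2 fun h => ?_
  have h4 := hq.two_le
  exact absurd (Nat.le_of_dvd (by omega) h) (by omega)

theorem exists_isolate {q V M : ℕ} (h : (q ^ V).Coprime M) :
    ∃ e f : ℕ, e ≡ 1 [MOD M] ∧ q ^ V ∣ e ∧ f ≡ 1 [MOD q ^ V] ∧ M ∣ f ∧
      e + f ≡ 1 [MOD q ^ V * M] := by
  obtain ⟨e, he1, he0⟩ := Nat.chineseRemainder h.symm 1 0
  obtain ⟨f, hf1, hf0⟩ := Nat.chineseRemainder h 1 0
  refine ⟨e, f, he1, Nat.modEq_zero_iff_dvd.1 he0, hf1, Nat.modEq_zero_iff_dvd.1 hf0, ?_⟩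
  refine (Nat.modEq_and_modEq_iff_modEq_mul h).1 ⟨?_, ?_⟩
  · simpa using he0.add hf1
  · simpa using he1.add hf0

theorem pow_of_modEq {G : Type u} [Group G] {x : G} {N i : ℕ} (hx : x ^ N = 1)
    (hi : i ≡ 1 [MOD N]) : x ^ i = x := by
  rw [pow_eq_pow_mod i hx, hi, ← pow_eq_pow_mod 1 hx, pow_one]

theorem pow_of_dvd {G : Type u} [Group G] {x : G} {N i : ℕ} (hx : x ^ N = 1) (hi : N ∣ i) :
    x ^ i = 1 :=
  orderOf_dvd_iff_pow_eq_one.1 ((orderOf_dvd_of_pow_eq_one hx).trans hi)

/-- The number of `n`-th roots of a central element. -/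
theorem gcd_dvd_card_roots {C : Type u} [Group C] [Finite C] {c : C} (hc : c ∈ center C) (n : ℕ) :
    Nat.gcd n (Nat.card C) ∣ Nat.card {x : C // x ^ n = c} := by
  haveI := Fintype.ofFinite C
  rcases Nat.eq_zero_or_pos n with rfl | hn0
  · rw [Nat.gcd_zero_left]
    by_cases h : c = 1
    · subst h
      rw [Nat.card_congr (Equiv.subtypeUnivEquiv fun x => pow_zero x)]
    · haveI : IsEmpty {x : C // x ^ 0 = c} := ⟨fun x => h (by rw [← x.2, pow_zero])⟩
      rw [Nat.card_of_isEmpty (α := {x : C // x ^ 0 = c})]; exact dvd_zero _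
  refine (Nat.dvd_iff_prime_pow_dvd_dvd _ _).2 fun q k hq hk => ?_
  obtain ⟨a, u, hqu, hnu⟩ := Nat.exists_eq_pow_mul_and_not_dvd hn0.ne' q hq.ne_one
  obtain ⟨V, M, hqM, hCM⟩ := Nat.exists_eq_pow_mul_and_not_dvd (Nat.card_pos (α := C)).ne' q hq.ne_one
  have hk' : q ^ k ∣ Nat.gcd (q ^ a) (Nat.card C) := by
    refine Nat.dvd_gcd ?_ (hk.trans (Nat.gcd_dvd_right _ _))
    have h := hk.trans (Nat.gcd_dvd_left _ _)
    rw [hnu] at h
    exact (Nat.Coprime.dvd_mul_right (Nat.Coprime.pow_left k (hq.coprime_iff_not_dvd.2 hqu))).1 h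
  refine hk'.trans ?_
  have hcopM : (q ^ V).Coprime M := Nat.Coprime.pow_left V (hq.coprime_iff_not_dvd.2 hqM)
  obtain ⟨e, f, he1, he0, hf1, hf0, hef⟩ := exists_isolate hcopM
  have hall : ∀ x : C, x ^ (q ^ V * M) = 1 := fun x => by rw [← hCM]; exact pow_card_eq_one'
  obtain ⟨i, hi1, hi0⟩ := Nat.chineseRemainder
    (Nat.Coprime.pow_left V (hq.coprime_iff_not_dvd.2 hqu)) 1 0
  obtain ⟨u', rfl⟩ := Nat.modEq_zero_iff_dvd.1 hi0
  set F : C → ℕ := fun z => (Finset.univ.filter fun x : C => x ^ n = c ∧ x ^ e = z).card with hF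
  have hsum : Nat.card {x : C // x ^ n = c} = ∑ z : C, F z := by
    rw [Nat.card_eq_fintype_card, Fintype.card_subtype,
      Finset.card_eq_sum_card_fiberwise (f := fun x : C => x ^ e) (t := Finset.univ)
        (fun x _ => Finset.mem_univ _)]
    refine Finset.sum_congr rfl fun z _ => ?_
    rw [hF, Finset.filter_filter]
  -- the fibres
  have hfib : ∀ z : C, Nat.gcd (q ^ a) (Nat.card (centralizer ({z} : Set C))) ∣ F z := by
    intro z
    by_cases hne : (Finset.univ.filter fun x : C => x ^ n = c ∧ x ^ e = z) = ∅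
    · simp only [hF, hne, Finset.card_empty, dvd_zero]
    obtain ⟨x₀, hx₀⟩ := Finset.nonempty_iff_ne_empty.2 hne
    simp only [Finset.mem_filter, Finset.mem_univ, true_and] at hx₀
    have hzM : z ^ M = 1 := by
      rw [← hx₀.2, ← pow_mul]; exact pow_of_dvd (hall x₀) (Nat.mul_dvd_mul_right he0 M)
    have hzn : z ^ n = c ^ e := by rw [← hx₀.2, ← pow_mul, mul_comm, pow_mul, hx₀.1]
    set D := centralizer ({z} : Set C) with hD
    have hcD : ∀ t : ℕ, c ^ t ∈ D := fun t =>
      mem_centralizer_singleton_iff.2 (mem_center_iff.1 (pow_mem hc t) z).symm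
    set c' : D := ⟨c ^ f, hcD f⟩ with hc'
    have hc'Z : c' ∈ center D := mem_center_iff.2 fun g => Subtype.ext (mem_center_iff.1 (pow_mem hc f) g)
    have hc'q : c' ^ q ^ V = 1 := Subtype.ext (by
      change (c ^ f) ^ q ^ V = 1
      rw [← pow_mul]
      exact pow_of_dvd (hall c) (by rw [mul_comm f]; exact Nat.mul_dvd_mul_left _ hf0))
    refine dvd_trans (gcd_dvd_card_prime_roots hq a hc'Z hc'q) (dvd_of_eq ?_)
    have hwq : ∀ w : D, w ^ q ^ a = c' → (w : C) ^ q ^ V = 1 := by
      intro w hw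
      have h1 : (w : C) ^ q ^ (a + V) = 1 := by
        have := congrArg Subtype.val (show w ^ q ^ (a + V) = 1 by rw [pow_add, pow_mul, hw, hc'q])
        simpa using this
      have h2 := pow_gcd_eq_one.2 ⟨h1, hall (w : C)⟩
      refine pow_of_dvd h2 ?_
      exact (Nat.Coprime.dvd_mul_right (Nat.Coprime.coprime_dvd_left (Nat.gcd_dvd_left _ _)
        (Nat.Coprime.pow_left _ (hq.coprime_iff_not_dvd.2 hqM)))).1 (Nat.gcd_dvd_right _ _)
    simp only [hF]
    rw [Nat.card_eq_fintype_card, Fintype.card_subtype]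
    refine Finset.card_bij' (fun w _ => (w : C) ^ u' * z)
      (fun x hx => (⟨x ^ (f * u), mem_centralizer_singleton_iff.2 (by
        rw [← (Finset.mem_filter.1 hx).2.2]; exact ((Commute.refl x).pow_pow _ _).eq)⟩ : D)) ?_ ?_ ?_ ?_
    · intro w hw
      have hw2 := (Finset.mem_filter.1 hw).2
      have hcw : Commute (w : C) z := mem_centralizer_singleton_iff.1 w.2
      have hwV := hwq w hw2
      simp only [Finset.mem_filter, Finset.mem_univ, true_and]
      refine ⟨?_, ?_⟩
      · rw [(hcw.pow_left u').mul_pow, hzn]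
        have h3 : ((w : C) ^ u') ^ n = c ^ f := by
          rw [← pow_mul, show u' * n = u * u' * q ^ a by rw [hnu]; ring, pow_mul,
            pow_of_modEq hwV hi1]
          exact congrArg Subtype.val hw2
        rw [h3, ← pow_add, add_comm]
        exact pow_of_modEq (hall c) hef
      · rw [(hcw.pow_left u').mul_pow, ← pow_mul, pow_of_dvd hwV (he0.mul_left u'), one_mul,
          pow_of_modEq hzM he1]
    · intro x hx
      have hx2 := (Finset.mem_filter.1 hx).2
      simp only [Finset.mem_filter, Finset.mem_univ, true_and]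
      refine Subtype.ext ?_
      change (x ^ (f * u)) ^ q ^ a = c ^ f
      rw [← pow_mul, show f * u * q ^ a = n * f by rw [hnu]; ring, pow_mul, hx2.1]
    · intro w hw
      have hw2 := (Finset.mem_filter.1 hw).2
      have hcw : Commute (w : C) z := mem_centralizer_singleton_iff.1 w.2
      have hwV := hwq w hw2
      refine Subtype.ext ?_
      change ((w : C) ^ u' * z) ^ (f * u) = w
      rw [(hcw.pow_left u').mul_pow, pow_of_dvd hzM (hf0.mul_right u), mul_one, ← pow_mul,
        show u' * (f * u) = f * (u * u') by ring, pow_mul, pow_of_modEq hwV hf1, pow_of_modEq hwV hi1]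
    · intro x hx
      have hx2 := (Finset.mem_filter.1 hx).2
      change (x ^ (f * u)) ^ u' * z = x
      have hxf : (x ^ f) ^ q ^ V = 1 := by
        rw [← pow_mul]
        exact pow_of_dvd (hall x) (by rw [mul_comm f]; exact Nat.mul_dvd_mul_left _ hf0)
      rw [← pow_mul, mul_assoc, pow_mul, pow_of_modEq hxf hi1, ← hx2.2, ← pow_add, add_comm]
      exact pow_of_modEq (hall x) hef
  -- the classes
  have hconj : ∀ g z : C, F (g * z * g⁻¹) = F z := by
    intro g z
    simp only [hF]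
    refine Finset.card_nbij' (fun x => g⁻¹ * x * g) (fun x => g * x * g⁻¹) ?_ ?_ ?_ ?_
    · intro x hx
      simp only [Finset.mem_coe, Finset.mem_filter, Finset.mem_univ, true_and] at hx ⊢
      rw [show g⁻¹ * x * g = g⁻¹ * x * g⁻¹⁻¹ by rw [inv_inv], conj_pow, conj_pow, hx.1, hx.2]
      refine ⟨?_, by group⟩
      rw [mem_center_iff.1 hc g⁻¹, mul_assoc, inv_inv, inv_mul_cancel, mul_one]
    · intro x hx
      simp only [Finset.mem_coe, Finset.mem_filter, Finset.mem_univ, true_and] at hx ⊢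
      rw [conj_pow, conj_pow, hx.1, hx.2]
      exact ⟨by rw [mem_center_iff.1 hc g, mul_inv_cancel_right], rfl⟩
    · intro x _; group
    · intro x _; group
  haveI : Fintype (ConjClasses C) := Fintype.ofSurjective ConjClasses.mk ConjClasses.mk_surjective
  rw [hsum, ← Finset.sum_fiberwise Finset.univ (ConjClasses.mk (α := C))]
  refine Finset.dvd_sum fun K _ => ?_
  obtain ⟨z, rfl⟩ := ConjClasses.mk_surjective K
  rw [Finset.sum_congr rfl (fun y hy => ?_), Finset.sum_const, smul_eq_mul,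
    CfsgLib.FrobCount.card_conj_fibre]
  rotate_left
  · exact F z
  · obtain ⟨g, rfl⟩ := isConj_iff.1 (ConjClasses.mk_eq_mk_iff_isConj.1 (Finset.mem_filter.1 hy).2.symm)
    exact hconj g z
  refine dvd_trans ?_ (Nat.mul_dvd_mul_left _ (hfib z))
  rw [← Nat.gcd_mul_left, Subgroup.index_mul_card]
  exact Nat.dvd_gcd ((Nat.gcd_dvd_left _ _).trans (dvd_mul_left _ _)) (Nat.gcd_dvd_right _ _)

/-- The number of elements whose `n`-th power lies in a given class. -/
theorem gcd_dvd_card_roots_class {G : Type u} [Group G] [Finite G] (c : G) (n : ℕ) :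
    Nat.gcd (Nat.card {y : G // IsConj c y} * n) (Nat.card G) ∣
      Nat.card {x : G // IsConj c (x ^ n)} := by
  haveI := Fintype.ofFinite G
  set C := centralizer ({c} : Set G) with hC
  have hcC : c ∈ C := mem_centralizer_singleton_iff.2 rfl
  have hh : Nat.card {y : G // IsConj c y} = C.index := by
    rw [hC, ← CfsgLib.FrobCount.card_conj_fibre, Nat.card_eq_fintype_card, Fintype.card_subtype]
    congr 1
    exact Finset.filter_congr fun y _ => by rw [ConjClasses.mk_eq_mk_iff_isConj, isConj_comm]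
  have hN : ∀ y : G, IsConj c y →
      Nat.card {x : G // x ^ n = y} = Nat.card {x : C // x ^ n = (⟨c, hcC⟩ : C)} := by
    intro y hy
    obtain ⟨g, rfl⟩ := isConj_iff.1 hy
    refine Nat.card_congr
      { toFun := fun x => ⟨⟨g⁻¹ * x.1 * g, mem_centralizer_singleton_iff.2 ?_⟩, Subtype.ext ?_⟩
        invFun := fun x => ⟨g * (x.1 : G) * g⁻¹, by
          rw [conj_pow, ← Subgroup.coe_pow, x.2]⟩
        left_inv := fun x => Subtype.ext (by simp [mul_assoc])
        right_inv := fun x => Subtype.ext (Subtype.ext (by simp [mul_assoc])) }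
    · have h : c = (g⁻¹ * x.1 * g) ^ n := by
        rw [show g⁻¹ * x.1 * g = g⁻¹ * x.1 * g⁻¹⁻¹ by rw [inv_inv], conj_pow, x.2]; group
      have h2 := ((Commute.refl (g⁻¹ * x.1 * g)).pow_right n).eq
      rwa [← h] at h2
    · change (g⁻¹ * x.1 * g) ^ n = c
      rw [show g⁻¹ * x.1 * g = g⁻¹ * x.1 * g⁻¹⁻¹ by rw [inv_inv], conj_pow, x.2]; group
  have hcount : Nat.card {x : G // IsConj c (x ^ n)} =
      C.index * Nat.card {x : C // x ^ n = (⟨c, hcC⟩ : C)} := by
    rw [← hh, Nat.card_congr (Equiv.sigmaSubtypeFiberEquivSubtype (p := fun x : G => IsConj c (x ^ n))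
      (fun x : G => x ^ n) (q := fun y => IsConj c y) fun _ => Iff.rfl).symm, Nat.card_sigma,
      Finset.sum_congr rfl fun y _ => hN y.1 y.2, Finset.sum_const, Finset.card_univ, smul_eq_mul,
      ← Nat.card_eq_fintype_card]
  rw [hcount, hh]
  conv_lhs => rw [← Subgroup.index_mul_card C, Nat.gcd_mul_left]
  refine Nat.mul_dvd_mul_left _ (gcd_dvd_card_roots (mem_center_iff.2 fun g => Subtype.ext ?_) n)
  exact mem_centralizer_singleton_iff.1 g.2

end CfsgLib.FrobRoots
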