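import Cfsg.Agent.Blocks.PSolvablePrincipal
import Cfsg.Agent.Char.PPrimeKernel
import Cfsg.Agent.Solvable.Glauberman
import Cfsg.Agent.Solvable.Fitting
import Cfsg.Agent.Comp.Basic

/-!
# Two principal blocks with the same characters of degree prime to the block's prime

If `G` is `p`- and `q`-soluble and the characters of `p'`-degree in the principal `p`-block are
those of `q'`-degree in the principal `q`-block, then `p = q`.
-/

set_option autoImplicit false
set_option linter.unusedSectionVars false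
set_option linter.style.haveILetI false

namespace CfsgLib.EqualPrimeDegree

open CfsgLib.Char CfsgLib.Char.PPrimeKernel
open scoped Pointwise

universe u

variable {G : Type u} [Group G] [Finite G] {p : ℕ} [hp : Fact p.Prime]

/-- If every irreducible character of degree prime to `p` trivial on the normal `p'`-subgroup `N`
is trivial on `M`, then `M` meets a Sylow subgroup inside its derived subgroup. -/
theorem mem_commutator_of_mem (P : Sylow p G) (N M : Subgroup G) [N.Normal]
    (hN : ¬ p ∣ Nat.card N)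
    (hkey : ∀ χ : Cfsg.IrrCharacter G, (∀ k ∈ N, (χ : G → ℂ) k = (χ : G → ℂ) 1) →
      ¬ p ∣ Cfsg.charDegree (χ : G → ℂ) → ∀ k ∈ M, (χ : G → ℂ) k = (χ : G → ℂ) 1)
    (x : (P : Subgroup G)) (hx : (x : G) ∈ M) : x ∈ commutator (P : Subgroup G) := by
  classical
  haveI := Fintype.ofFinite G
  haveI := Fintype.ofFinite (P : Subgroup G)
  haveI := Fintype.ofFinite (G ⧸ N)
  by_contra hxc
  obtain ⟨lam, hlam⟩ := exists_hom_ne_one hxc
  have hφ : Function.Injective ((QuotientGroup.mk' N).comp (P : Subgroup G).subtype) := by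
    refine (injective_iff_map_eq_one _).2 fun y hy => Subtype.ext ?_
    have hyN : (y : G) ∈ N := (QuotientGroup.eq_one_iff _).1 hy
    obtain ⟨k, hk⟩ := IsPGroup.iff_card.1 P.2
    have h1 : orderOf (y : G) ∣ Nat.card (P : Subgroup G) := by
      rw [Subgroup.orderOf_coe]; exact orderOf_dvd_natCard y
    have h2 : orderOf (y : G) ∣ Nat.card N := by
      rw [show (y : G) = ((⟨_, hyN⟩ : N) : G) from rfl, Subgroup.orderOf_coe]
      exact orderOf_dvd_natCard _
    exact orderOf_eq_one_iff.1 (Nat.eq_one_of_dvd_coprimes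
      (((hp.out.coprime_iff_not_dvd.2 hN)).pow_left k) (hk ▸ h1) h2)
  obtain ⟨R, hR⟩ : ∃ R, ((QuotientGroup.mk' N).comp (P : Subgroup G).subtype).range = R :=
    ⟨_, rfl⟩
  have hidx : ¬ p ∣ R.index := by
    have h1 := (P.mapSurjective (QuotientGroup.mk'_surjective N)).not_dvd_index
    rw [Sylow.coe_mapSurjective] at h1
    rwa [← hR, MonoidHom.range_comp, Subgroup.range_subtype]
  obtain ⟨e, he⟩ : ∃ e : (P : Subgroup G) ≃* R, ∀ y, ((e y : R) : G ⧸ N) = ((y : G) : G ⧸ N) :=
    ⟨(MonoidHom.ofInjective hφ).trans (MulEquiv.subgroupCongr hR), fun _ => rfl⟩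
  haveI := Fintype.ofFinite R
  have hirr := isIrrCharacter_ofHom (lam.comp e.symm.toMonoidHom)
  have hchar : Cfsg.IsCharacter R (fun y => ((lam.comp e.symm.toMonoidHom) y : ℂ)) :=
    IsIrrCharacter.isCharacter hirr
  obtain ⟨f, d, hf, hd, hpd, hfc⟩ := exists_constituent_not_dvd (IsCharacter.indFun hchar)
    (m := R.index) (by rw [indFun_one]; simp) hidx
  rw [classInner_indFun _ (IsIrrCharacter.isClassFunction hf), ← classInner_conj] at hfc
  have hne : Cfsg.classInner (fun y : R => f y)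
      (fun y => ((lam.comp e.symm.toMonoidHom) y : ℂ)) ≠ 0 :=
    fun h => hfc (by rw [h, map_zero])
  have hχ : Cfsg.IsIrrCharacter G (fun g : G => f (g : G ⧸ N)) :=
    IsIrrCharacter.comp_surjective hf (QuotientGroup.mk' N) (QuotientGroup.mk'_surjective N)
  have hfx : f ((x : G) : G ⧸ N) = f 1 := by
    refine hkey ⟨_, hχ⟩ (fun k hk => ?_) ?_ _ hx
    · exact congrArg f ((QuotientGroup.eq_one_iff k).2 hk)
    · rwa [charDegree_eq_natCast (show (fun g : G => f (g : G ⧸ N)) 1 = (d : ℂ) from hd)]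
  have := constituent_apply_eq (IsCharacter.restrict (IsIrrCharacter.isCharacter hf) _)
    hirr hne (x := e x) (by rw [he]; exact hfx)
  exact hlam (Units.ext (by simpa using this))

/-- A normal subgroup meeting a Sylow `p`-subgroup inside its derived subgroup has a normal
subgroup of order prime to `p` containing a `p`-power power of each element. -/
theorem exists_complement (P : Sylow p G) (K : Subgroup G) [K.Normal]
    (hKc : ∀ x : (P : Subgroup G), (x : G) ∈ K → x ∈ commutator (P : Subgroup G)) :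
    ∃ K₀ : Subgroup G, K₀.Normal ∧
    K₀ ≤ K ∧ ¬ p ∣ Nat.card K₀ ∧
      ∀ g ∈ K, ∃ k : ℕ, g ^ p ^ k ∈ K₀ := by
  classical
  have hKP : ∀ x : (P : Subgroup G), (x : G) ∈ K → x ∈ frattini (P : Subgroup G) := fun x hx =>
    (CfsgLib.PGroupBasic.commutator_pow_le_frattini P.2).1 (hKc x hx)
  obtain ⟨K₀, hK₀⟩ : ∃ K₀, Subgroup.closure {g : G | g ∈ K ∧ (orderOf g).Coprime p} = K₀ :=
    ⟨_, rfl⟩
  have hset : ∀ (n g : G), n ∈ {g : G | g ∈ K ∧ (orderOf g).Coprime p} →
      g * n * g⁻¹ ∈ {g : G | g ∈ K ∧ (orderOf g).Coprime p} := fun n g hn =>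
    ⟨Subgroup.Normal.conj_mem inferInstance n hn.1 g, by
      have e : orderOf (g * n * g⁻¹) = orderOf n := by
        simpa using orderOf_injective (MulAut.conj g).toMonoidHom (MulAut.conj g).injective n
      rw [e]; exact hn.2⟩
  have hn0 : K₀.Normal := ⟨fun n hn g => by
    rw [← hK₀] at hn ⊢
    have := Subgroup.mem_map_of_mem (MulAut.conj g).toMonoidHom hn
    rw [MonoidHom.map_closure] at this
    refine Subgroup.closure_mono ?_ (by simpa using this)
    rintro _ ⟨m, hm, rfl⟩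
    simpa using hset m g hm⟩
  refine ⟨K₀, hn0, hK₀ ▸ (Subgroup.closure_le K).2 fun g hg => hg.1, ?_, fun g hg => ?_⟩
  · obtain ⟨H, hH⟩ : ∃ H, K ⊔ (P : Subgroup G) = H := ⟨_, rfl⟩
    have hKH : K ≤ H := hH ▸ le_sup_left
    have hPH : (P : Subgroup G) ≤ H := hH ▸ le_sup_right
    haveI : (K.subgroupOf H).Normal := Subgroup.normal_subgroupOf
    obtain ⟨S, hS⟩ : ∃ S : Sylow p H, P.subtype hPH = S := ⟨_, rfl⟩
    obtain ⟨k, hk⟩ : ∃ k, K.relIndex H = p ^ k := by
      have h2 : K.relIndex H ∣ Nat.card (P : Subgroup G) := by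
        refine dvd_trans ?_ (Subgroup.index_dvd_card (K.subgroupOf (P : Subgroup G)))
        change K.relIndex H ∣ K.relIndex (P : Subgroup G)
        rw [← hH, sup_comm, Subgroup.relIndex_sup_right]
      obtain ⟨j, hj⟩ := IsPGroup.iff_card.1 P.2
      obtain ⟨i, -, hi⟩ := (Nat.dvd_prime_pow hp.out).1 (hj ▸ h2)
      exact ⟨i, hi⟩
    have hres : Cfsg.pResidual p H ≤ K.subgroupOf H := CfsgLib.PResidual.pResidual_le (k := k) hk
    have hbot := CfsgLib.LocalB.Tate.inf_pResidual_eq_bot S fun x hx => by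
      subst hS
      let e : ((P.subtype hPH : Sylow p H) : Subgroup H) ≃* (P : Subgroup G) :=
        Subgroup.subgroupOfEquivOfLe hPH
      have hxK : ((e x : (P : Subgroup G)) : G) ∈ K := Subgroup.mem_subgroupOf.1 (hres hx)
      have h1 := hKP (e x) hxK
      rw [frattini, Order.radical] at h1 ⊢
      simp only [Subgroup.mem_iInf] at h1 ⊢
      intro M hM
      have h2 := h1 (M.map e.toMonoidHom) ((OrderIso.isCoatom_iff e.mapSubgroup M).2 hM)
      obtain ⟨w, hw, hwx⟩ := h2
      exact e.injective hwx ▸ hw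
    intro hd
    obtain ⟨g, hg⟩ := exists_prime_orderOf_dvd_card' (G := K₀) p hd
    have hgK : (g : G) ∈ (Cfsg.pResidual p H).map H.subtype := by
      have h1 : K₀ ≤ (Cfsg.pResidual p H).map H.subtype := by
        rw [← hK₀, Subgroup.closure_le]
        rintro y ⟨hyK, hyo⟩
        exact ⟨⟨y, hKH hyK⟩, CfsgLib.PResidual.mem_pResidual p
          (by rwa [← Subgroup.orderOf_coe]), rfl⟩
      exact h1 g.2
    obtain ⟨w, hw, hwg⟩ := hgK
    have how : orderOf w = p := by
      rw [← Subgroup.orderOf_coe, ← Subgroup.coe_subtype, hwg, Subgroup.orderOf_coe, hg]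
    have hwp : IsPGroup p (Subgroup.zpowers w) :=
      IsPGroup.of_card (n := 1) (by rw [Nat.card_zpowers, pow_one, how])
    obtain ⟨Q, hQ⟩ := hwp.exists_le_sylow
    obtain ⟨c, hc⟩ := MulAction.exists_smul_eq H Q S
    have h1 : c * w * c⁻¹ ∈ (S : Subgroup H) := by
      rw [← hc, Sylow.coe_subgroup_smul]
      exact Subgroup.smul_mem_pointwise_smul w (MulAut.conj c) (Q : Subgroup H)
        (hQ (Subgroup.mem_zpowers _))
    have h2 : c * w * c⁻¹ = 1 := congrArg Subtype.val
      (hbot ⟨_, h1⟩ (Subgroup.Normal.conj_mem inferInstance _ hw c))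
    rw [conj_eq_one_iff] at h2
    rw [h2, orderOf_one] at how
    exact hp.out.ne_one how.symm
  · refine ⟨(orderOf g).factorization p, hK₀ ▸ Subgroup.subset_closure ⟨pow_mem hg _, ?_⟩⟩
    rw [orderOf_pow' _ (pow_ne_zero _ hp.out.ne_zero),
      Nat.gcd_eq_right (Nat.ordProj_dvd _ _)]
    exact (hp.out.coprime_iff_not_dvd.2
      (Nat.not_dvd_ordCompl hp.out (orderOf_pos g).ne')).symm

/-- A normal subgroup inside the derived group of a Sylow subgroup lies in the Frattini
subgroup. -/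
theorem le_frattini_of_le_commutator (P : Sylow p G) (D : Subgroup G) [D.Normal]
    (hD : D ≤ ⁅(P : Subgroup G), (P : Subgroup G)⁆) : D ≤ frattini G := by
  refine le_iInf₂ fun U hU => ?_
  by_contra hDU
  have htop : D ⊔ U = ⊤ := hU.2 _ (lt_of_le_of_ne le_sup_right fun he => hDU (he ▸ le_sup_left))
  have hDP : D ≤ P := hD.trans (Subgroup.commutator_le_self _)
  have h1 : U.subgroupOf (P : Subgroup G) ⊔ frattini (P : Subgroup G) = ⊤ := by
    rw [eq_top_iff]
    rintro ⟨x, hx⟩ -
    obtain ⟨d, hd, u, hu, hdu⟩ := Subgroup.mem_sup_of_normal_left.1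
      (show x ∈ D ⊔ U by rw [htop]; trivial)
    have hd' : (⟨d, hDP hd⟩ : (P : Subgroup G)) ∈ frattini (P : Subgroup G) := by
      refine (CfsgLib.PGroupBasic.commutator_pow_le_frattini P.2).1 ?_
      have h2 := hD hd
      rw [← Subgroup.map_subtype_commutator] at h2
      obtain ⟨w, hw, hwd⟩ := h2
      exact (Subtype.ext hwd : w = ⟨d, hDP hd⟩) ▸ hw
    have huP : u ∈ (P : Subgroup G) := by
      rw [show u = d⁻¹ * x by rw [← hdu, inv_mul_cancel_left]]
      exact mul_mem (inv_mem (hDP hd)) hx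
    rw [show (⟨x, hx⟩ : (P : Subgroup G)) = ⟨d, hDP hd⟩ * ⟨u, huP⟩ from Subtype.ext hdu.symm]
    exact mul_mem (Subgroup.mem_sup_right hd') (Subgroup.mem_sup_left hu)
  have h2 : U.subgroupOf (P : Subgroup G) = ⊤ := frattini_nongenerating h1
  exact hDU (hDP.trans (Subgroup.subgroupOf_eq_top.1 h2))

/-- Over a normal subgroup of the Frattini subgroup, a normal subgroup with quotient a
`p`-group is covered by a normal `p`-subgroup. -/
theorem exists_normal_pgroup (D U : Subgroup G) [D.Normal] [U.Normal] (hDU : D ≤ U)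
    (hDΦ : D ≤ frattini G) {a : ℕ} (hrel : D.relIndex U = p ^ a) :
    ∃ S : Subgroup G, S.Normal ∧ IsPGroup p S ∧ U ≤ S ⊔ D := by
  obtain ⟨R⟩ : Nonempty (Sylow p U) := inferInstance
  obtain ⟨S, hS⟩ : ∃ S, (R : Subgroup U).map U.subtype = S := ⟨_, rfl⟩
  have htop' : (R : Subgroup U) ⊔ D.subgroupOf U = ⊤ := by
    refine Subgroup.index_eq_one.1 ?_
    have h1 := Subgroup.index_dvd_of_le (le_sup_left : (R : Subgroup U) ≤ _ ⊔ D.subgroupOf U)
    have h2 := Subgroup.index_dvd_of_le
      (le_sup_right : D.subgroupOf U ≤ (R : Subgroup U) ⊔ D.subgroupOf U)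
    change _ ∣ D.relIndex U at h2
    rw [hrel] at h2
    exact Nat.eq_one_of_dvd_coprimes
      ((hp.out.coprime_iff_not_dvd.2 R.not_dvd_index).pow_left a) h2 h1
  have hU : U ≤ S ⊔ D := by
    have := congrArg (Subgroup.map U.subtype) htop'
    rw [Subgroup.map_sup, hS, Subgroup.map_subgroupOf_eq_of_le hDU, ← MonoidHom.range_eq_map,
      Subgroup.range_subtype] at this
    exact this.ge
  have hn := Sylow.normalizer_sup_eq_top R
  rw [hS] at hn
  refine ⟨S, Subgroup.normalizer_eq_top_iff.1 (frattini_nongenerating (eq_top_iff.2 ?_)),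
    hS ▸ R.2.map _, hU⟩
  rw [← hn]
  exact sup_le le_sup_left (hU.trans (sup_le (Subgroup.le_normalizer.trans le_sup_left)
    (hDΦ.trans le_sup_right)))

/-- Over a soluble normal subgroup of the Frattini subgroup, a normal subgroup with quotient of
coprime order has a normal complement. -/
theorem exists_normal_complement (D U : Subgroup G) [D.Normal] [U.Normal] (hDU : D ≤ U)
    (hDΦ : D ≤ frattini G) (hs : Group.IsSolvable D)
    (hcop : (Nat.card D).Coprime (D.relIndex U)) :
    ∃ K : Subgroup G, K.Normal ∧ Nat.card K = D.relIndex U := by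
  have hcD : Nat.card (D.subgroupOf U) = Nat.card D :=
    Nat.card_congr (Subgroup.subgroupOfEquivOfLe hDU).toEquiv
  obtain ⟨K', hK'⟩ := Subgroup.exists_right_complement'_of_coprime (N := D.subgroupOf U)
    (by rw [hcD]; exact hcop)
  obtain ⟨K, hK⟩ : ∃ K, K'.map U.subtype = K := ⟨_, rfl⟩
  have hcard : Nat.card K = D.relIndex U := by
    rw [← hK, Subgroup.card_map_of_injective U.subtype_injective]
    exact hK'.symm.index_eq_card.symm
  have hsup : U ≤ K ⊔ D := by
    have := congrArg (Subgroup.map U.subtype) hK'.sup_eq_top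
    rw [Subgroup.map_sup, hK, Subgroup.map_subgroupOf_eq_of_le hDU, ← MonoidHom.range_eq_map,
      Subgroup.range_subtype, sup_comm] at this
    exact this.ge
  have hKU : K ≤ U := hK ▸ Subgroup.map_subtype_le K'
  refine ⟨K, Subgroup.normalizer_eq_top_iff.1 (frattini_nongenerating (eq_top_iff.2 ?_)), hcard⟩
  intro g _
  obtain ⟨x, hx, hxe⟩ := CfsgLib.SZ.conj_rel (A := K) (B := MulAut.conj g • K) (K := D)
    Subgroup.le_normalizer_of_normal (by rw [hcard]; exact hcop.symm) (Or.inr hs)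
    (fun y hy => by
      obtain ⟨z, hz, rfl⟩ := hy
      exact hsup ((inferInstance : U.Normal).conj_mem z (hKU hz) g))
    (Nat.card_congr (Subgroup.equivSMul (MulAut.conj g) K).toEquiv.symm)
  have hmem : g⁻¹ * x ∈ Subgroup.normalizer (K : Set G) := by
    rw [Subgroup.mem_normalizer_iff]
    intro y
    have h1 := SetLike.ext_iff.1 hxe (g * (g⁻¹ * x * y * (g⁻¹ * x)⁻¹) * g⁻¹)
    simpa [Subgroup.mem_pointwise_smul_iff_inv_smul_mem, MulAut.smul_def, MulAut.inv_apply,
      mul_assoc] using h1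
  rw [show g = x * (g⁻¹ * x)⁻¹ by group]
  exact mul_mem (Subgroup.mem_sup_right (hDΦ hx)) (Subgroup.mem_sup_left (inv_mem hmem))

/-- The configuration left over: a nontrivial group whose `q'`-core is a `p`-group and whose
`p'`-core is a `q`-group, both inside the Frattini subgroup, is not both `p`- and `q`-soluble. -/
theorem not_isPSolvable_of_frattini [Nontrivial G] {q : ℕ} [hq : Fact q.Prime] (hpq : p ≠ q)
    (hps : Cfsg.IsPSolvable p G) (hqs : Cfsg.IsPSolvable q G) {A B : Subgroup G}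
    [A.Normal] [B.Normal] (hA : IsPGroup p A) (hB : IsPGroup q B)
    (hAmax : ∀ S : Subgroup G, S.Normal → (Nat.card S).Coprime q → S ≤ A)
    (hBmax : ∀ S : Subgroup G, S.Normal → (Nat.card S).Coprime p → S ≤ B)
    (hΦ : A ⊔ B ≤ frattini G) : False := by
  classical
  obtain ⟨D, hD⟩ : ∃ D, A ⊔ B = D := ⟨_, rfl⟩
  haveI : D.Normal := hD ▸ inferInstance
  rw [hD] at hΦ
  have hDtop : D ≠ ⊤ := fun h => by
    obtain ⟨U, hU, -⟩ := (eq_top_or_exists_le_coatom (⊥ : Subgroup G)).resolve_left bot_ne_top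
    exact hU.1 (top_le_iff.1 ((h ▸ hΦ).trans (frattini_le_coatom hU)))
  haveI : Nontrivial (G ⧸ D) := QuotientGroup.nontrivial_iff.2 hDtop
  have hπ : Function.Surjective (QuotientGroup.mk' D) := QuotientGroup.mk'_surjective D
  have hle : ∀ V : Subgroup (G ⧸ D), D ≤ V.comap (QuotientGroup.mk' D) := fun V x hx => by
    rw [Subgroup.mem_comap, QuotientGroup.mk'_apply, (QuotientGroup.eq_one_iff x).2 hx]
    exact V.one_mem
  have hrelV : ∀ V : Subgroup (G ⧸ D),
      D.relIndex (V.comap (QuotientGroup.mk' D)) = Nat.card V := fun V => by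
    have h := Subgroup.relIndex_comap ⊥ (QuotientGroup.mk' D) (V.comap (QuotientGroup.mk' D))
    rw [Subgroup.map_comap_eq_self_of_surjective hπ, Subgroup.relIndex_bot_left,
      MonoidHom.comap_bot, QuotientGroup.ker_mk'] at h
    exact h
  -- a normal subgroup of `G / D` of prime power order
  have hpow : ∀ (r : ℕ) [Fact r.Prime], (∀ S : Subgroup G, S.Normal → IsPGroup r S → S ≤ D) →
      ∀ V : Subgroup (G ⧸ D), V.Normal → IsPGroup r V → V = ⊥ := by
    intro r _ hr V hV hVp
    haveI := hV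
    obtain ⟨a, ha⟩ := IsPGroup.iff_card.1 hVp
    obtain ⟨S, hS, hSr, hUS⟩ := exists_normal_pgroup (p := r) D _ (hle V) hΦ
      (a := a) (by rw [hrelV, ha])
    have hUD := hUS.trans (sup_le (hr S hS hSr) le_rfl)
    rw [← Subgroup.map_comap_eq_self_of_surjective hπ V, eq_bot_iff]
    rintro _ ⟨y, hy, rfl⟩
    exact (QuotientGroup.eq_one_iff y).2 (hUD hy)
  have hcpq : p.Coprime q := (Nat.coprime_primes hp.out hq.out).2 hpq
  have hAB : A ⊓ B = ⊥ := disjoint_iff.1 (IsPGroup.disjoint_of_ne p q hpq A B hA hB)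
  obtain ⟨a, ha⟩ := IsPGroup.iff_card.1 hA
  obtain ⟨b, hb⟩ := IsPGroup.iff_card.1 hB
  have hp' := hpow p fun S hS hSp => by
    obtain ⟨i, hi⟩ := IsPGroup.iff_card.1 hSp
    exact (hAmax S hS (hi ▸ hcpq.pow_left i)).trans (hD ▸ le_sup_left)
  have hq' := hpow q fun S hS hSq => by
    obtain ⟨i, hi⟩ := IsPGroup.iff_card.1 hSq
    exact (hBmax S hS (hi ▸ hcpq.symm.pow_left i)).trans (hD ▸ le_sup_right)
  have hpsY : Cfsg.IsPSolvable p (G ⧸ D) := CfsgLib.PConstrained.isPSolvable_map _ hπ hps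
  have hqsY : Cfsg.IsPSolvable q (G ⧸ D) := CfsgLib.PConstrained.isPSolvable_map _ hπ hqs
  obtain ⟨W, hW⟩ : ∃ W, Cfsg.pPrimeCore p (G ⧸ D) = W := ⟨_, rfl⟩
  haveI : W.Normal := hW ▸ CfsgLib.Solvable.pPrimeCore_normal p
  have hW1 : W ≠ ⊥ := hW ▸ (CfsgLib.PConstrained.exists_core_ne_bot hpsY).resolve_left fun h =>
    h (hp' _ (CfsgLib.Solvable.pCore_normal p) (CfsgLib.Solvable.isPGroup_pCore p))
  have hWp : (Nat.card W).Coprime p := hW ▸ CfsgLib.Solvable.coprime_card_pPrimeCore p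
  haveI := (Subgroup.nontrivial_iff_ne_bot W).2 hW1
  rcases CfsgLib.PConstrained.exists_core_ne_bot
    (CfsgLib.PConstrained.isPSolvable_comap W.subtype W.subtype_injective hqsY) with h | h
  · refine h ((Subgroup.map_eq_bot_iff_of_injective _ W.subtype_injective).1 (hq' _
      (CfsgLib.PConstrained.normal_map_pCore inferInstance) ?_))
    exact (CfsgLib.Solvable.isPGroup_pCore q).map _
  obtain ⟨V, hV⟩ : ∃ V, (Cfsg.pPrimeCore q W).map W.subtype = V := ⟨_, rfl⟩
  haveI : V.Normal := hV ▸ CfsgLib.PConstrained.normal_map_pPrimeCore inferInstance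
  have hVc : Nat.card V = Nat.card (Cfsg.pPrimeCore q W) :=
    hV ▸ Subgroup.card_map_of_injective W.subtype_injective
  have hVq : (Nat.card V).Coprime q := hVc ▸ CfsgLib.Solvable.coprime_card_pPrimeCore q
  have hVp : (Nat.card V).Coprime p :=
    hWp.coprime_dvd_left (Subgroup.card_dvd_of_le (hV ▸ Subgroup.map_subtype_le _))
  have hDs : Group.IsSolvable D := by
    haveI := hA.isNilpotent
    haveI := hB.isNilpotent
    rw [← hD]
    rw [sup_comm]
    exact CfsgLib.Comp.isSolvable_sup (A := A) (B := B) inferInstance inferInstance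
  have hDcard : Nat.card D ∣ p ^ a * q ^ b := by
    rw [← hD, ← ha, ← hb]
    exact CfsgLib.Solvable.card_sup_dvd Subgroup.le_normalizer_of_normal
  obtain ⟨K, hK, hKc⟩ := exists_normal_complement D _ (hle V) hΦ hDs (by
    rw [hrelV]
    exact Nat.Coprime.coprime_dvd_left hDcard
      (Nat.Coprime.mul_left (hVp.symm.pow_left a) (hVq.symm.pow_left b)))
  rw [hrelV] at hKc
  have hKbot : K = ⊥ := le_bot_iff.1 (hAB ▸ le_inf (hAmax K hK (hKc ▸ hVq))
    (hBmax K hK (hKc ▸ hVp)))
  rw [hKbot, Subgroup.card_bot, hVc] at hKc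
  exact h (Subgroup.eq_bot_of_card_eq _ hKc.symm)

/-- The image in `G / L`, `L ≤ M = O_{q'}(G)`, of `M` is the `q'`-core. -/
theorem le_map_of_coprime {q : ℕ} (L M : Subgroup G) [L.Normal] (hLM : L ≤ M)
    (hM : M = Cfsg.pPrimeCore q G) (S : Subgroup (G ⧸ L)) (hS : S.Normal)
    (hSq : (Nat.card S).Coprime q) : S ≤ M.map (QuotientGroup.mk' L) := by
  have hπ : Function.Surjective (QuotientGroup.mk' L) := QuotientGroup.mk'_surjective L
  rw [← Subgroup.map_comap_eq_self_of_surjective hπ S]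
  refine Subgroup.map_mono (hM ▸ CfsgLib.Solvable.le_pPrimeCore q (hS.comap _) ?_)
  have hL : L ≤ S.comap (QuotientGroup.mk' L) := fun x hx => by
    rw [Subgroup.mem_comap, QuotientGroup.mk'_apply, (QuotientGroup.eq_one_iff x).2 hx]
    exact S.one_mem
  have h := Subgroup.relIndex_comap ⊥ (QuotientGroup.mk' L) (S.comap (QuotientGroup.mk' L))
  rw [Subgroup.map_comap_eq_self_of_surjective hπ, Subgroup.relIndex_bot_left,
    MonoidHom.comap_bot, QuotientGroup.ker_mk'] at h
  have h2 := Subgroup.relIndex_mul_relIndex ⊥ L (S.comap (QuotientGroup.mk' L)) bot_le hL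
  rw [Subgroup.relIndex_bot_left, Subgroup.relIndex_bot_left, h] at h2
  rw [← h2]
  exact Nat.Coprime.mul_left ((hM ▸ CfsgLib.Solvable.coprime_card_pPrimeCore q :
    (Nat.card M).Coprime q).coprime_dvd_left (Subgroup.card_dvd_of_le hLM)) hSq

/-- The image of `M` is a `p`-group inside the derived group of a Sylow subgroup. -/
theorem image_data (P : Sylow p G) (N M L : Subgroup G) [N.Normal] [M.Normal] [L.Normal]
    (hNmax : ∀ S : Subgroup G, S.Normal → (Nat.card S).Coprime p → S ≤ N)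
    (hNp : ¬ p ∣ Nat.card N) (hL : M ⊓ N = L)
    (hkey : ∀ χ : Cfsg.IrrCharacter G, (∀ k ∈ N, (χ : G → ℂ) k = (χ : G → ℂ) 1) →
      ¬ p ∣ Cfsg.charDegree (χ : G → ℂ) → ∀ k ∈ M, (χ : G → ℂ) k = (χ : G → ℂ) 1) :
    IsPGroup p (M.map (QuotientGroup.mk' L)) ∧
      M.map (QuotientGroup.mk' L) ≤ frattini (G ⧸ L) := by
  have hc := mem_commutator_of_mem P N M hNp hkey
  obtain ⟨K₀, hn, hle, hnp, hpow⟩ := exists_complement P M hc
  have hK₀ : K₀ ≤ L :=
    hL ▸ le_inf hle (hNmax K₀ hn (hp.out.coprime_iff_not_dvd.2 hnp).symm)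
  have hpg : IsPGroup p (M.map (QuotientGroup.mk' L)) := by
    rintro ⟨y, m, hm, rfl⟩
    obtain ⟨k, hk⟩ := hpow m hm
    refine ⟨k, Subtype.ext ?_⟩
    rw [SubgroupClass.coe_pow, OneMemClass.coe_one, ← map_pow]
    exact (QuotientGroup.eq_one_iff _).2 (hK₀ hk)
  refine ⟨hpg, ?_⟩
  haveI : (M.map (QuotientGroup.mk' L)).Normal :=
    (inferInstance : M.Normal).map _ (QuotientGroup.mk'_surjective L)
  refine le_frattini_of_le_commutator (P.mapSurjective (QuotientGroup.mk'_surjective L)) _ ?_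
  intro y hy
  have hyP : y ∈ ((P.mapSurjective (QuotientGroup.mk'_surjective L)) : Subgroup (G ⧸ L)) :=
    CfsgLib.Fitting.pCore_le_sylow _ (CfsgLib.Solvable.le_pCore p inferInstance hpg hy)
  rw [Sylow.coe_mapSurjective] at hyP ⊢
  obtain ⟨x, hx, rfl⟩ := hyP
  obtain ⟨m, hm, hmx⟩ := hy
  have hxM : x ∈ M := by
    have h2 : m⁻¹ * x ∈ M := (hL ▸ inf_le_left : L ≤ M) (QuotientGroup.eq.1 hmx)
    simpa using M.mul_mem hm h2
  rw [← Subgroup.map_commutator]
  refine ⟨x, ?_, rfl⟩
  rw [← Subgroup.map_subtype_commutator]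
  exact ⟨⟨x, hx⟩, hc ⟨x, hx⟩ hxM, rfl⟩

end CfsgLib.EqualPrimeDegree
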