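import Cfsg.Agent.Transfer.Alperin
import Cfsg.Agent.Transfer.Frobenius
import Mathlib.GroupTheory.Focal

/-!
The local form of the focal subgroup theorem and of the `p`-complement criterion in terms of
tame Sylow intersections.
-/

set_option autoImplicit false
set_option linter.style.haveILetI false
set_option linter.unusedSectionVars false

namespace CfsgLib.TameFocal

open Subgroup CfsgLib.Fusion CfsgLib.Solvable CfsgLib.SZ
open scoped Pointwise commutatorElement

variable {G : Type*} [Group G] [Finite G] {p : ℕ} [hp : Fact p.Prime] {P : Sylow p G}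

/-- Elements normalizing `D` whose effect on `D` lies in `F`. -/
def movers (D F : Subgroup G) : Subgroup G where
  carrier := {y | y ∈ normalizer (D : Set G) ∧ ∀ a ∈ D, a⁻¹ * (y⁻¹ * a * y) ∈ F}
  one_mem' := ⟨one_mem _, fun a _ => by simp [F.one_mem]⟩
  mul_mem' := by
    rintro y z ⟨hy, hy'⟩ ⟨hz, hz'⟩
    refine ⟨mul_mem hy hz, fun a ha => ?_⟩
    have h1 : y⁻¹ * a * y ∈ D := (mem_normalizer_iff'.1 hy (y⁻¹ * a)).2 (by simpa using ha)
    have := F.mul_mem (hy' a ha) (hz' _ h1)
    simpa [mul_assoc] using this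
  inv_mem' := by
    rintro y ⟨hy, hy'⟩
    refine ⟨inv_mem hy, fun a ha => ?_⟩
    have h1 : y * a * y⁻¹ ∈ D := (mem_normalizer_iff.1 hy a).1 ha
    have := F.inv_mem (hy' _ h1)
    simpa [mul_assoc] using this

/-- A bound for the focal subgroup through tame intersections. -/
theorem mem_of_conj {F : Subgroup G}
    (h1 : ∀ x ∈ normalizer ((P : Subgroup G) : Set G), ∀ a ∈ (P : Subgroup G), a⁻¹ * (x⁻¹ * a * x) ∈ F)
    (h2 : ∀ Q : Sylow p G, IsTame P Q →
      ∀ x ∈ normalizer (((P : Subgroup G) ⊓ Q : Subgroup G) : Set G), (∃ k, orderOf x = p ^ k) →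
        ∀ a ∈ (P : Subgroup G) ⊓ Q, a⁻¹ * (x⁻¹ * a * x) ∈ F) :
    ∀ (n : ℕ) (A : Subgroup G) (g : G), Nat.card P - Nat.card A = n → A ≤ P →
      MulAut.conj g⁻¹ • A ≤ (P : Subgroup G) → ∀ a ∈ A, a⁻¹ * (g⁻¹ * a * g) ∈ F := by
  intro n
  induction n using Nat.strong_induction_on with
  | _ n ih =>
  intro A g hn hA hgA
  have hC := alperin hA hgA
  clear hA hgA
  induction hC with
  | one A => intro a _; simp [F.one_mem]
  | step A Q x g hQ hAD hx _ ihg =>
    intro a ha
    have hcard : Nat.card (MulAut.conj x⁻¹ • A : Subgroup G) = Nat.card A :=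
      Nat.card_congr (Subgroup.equivSMul (MulAut.conj x⁻¹) A).toEquiv.symm
    set D := (P : Subgroup G) ⊓ Q with hD
    have hxa : x⁻¹ * a * x ∈ MulAut.conj x⁻¹ • A := ⟨a, ha, by simp [mul_assoc]⟩
    have e : a⁻¹ * (x⁻¹ * a * x) ∈ F := by
      have hxD : MulAut.conj x⁻¹ • D = D := conj_smul_eq_iff_mem_normalizer.2 (inv_mem hx)
      rcases (hAD : A ≤ D).lt_or_eq with hlt | heq
      · have hlt' : Nat.card A < Nat.card D :=
          lt_of_le_of_ne (card_le_of_le hAD) fun h => hlt.ne (eq_of_le_of_card_ge hAD h.ge)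
        have : Nat.card D ≤ Nat.card P := card_le_of_le inf_le_left
        exact ih _ (by omega) D x rfl inf_le_left (hxD.le.trans inf_le_left) a (hAD ha)
      · by_cases hDP : D = P
        · exact h1 x (by rw [← hDP]; exact hx) a (hDP ▸ hAD ha)
        have hlt : D < P := lt_of_le_of_ne inf_le_left hDP
        have hTgt := lt_inf_normalizer P.2 hlt
        set N := normalizer (D : Set G) with hN
        set T := (P : Subgroup G) ⊓ N with hT
        have hTcard : Nat.card A < Nat.card T := by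
          rw [heq]
          exact lt_of_le_of_ne (card_le_of_le hTgt.le) fun h => hTgt.ne (eq_of_le_of_card_ge hTgt.le h.ge)
        have hTP : Nat.card T ≤ Nat.card P := card_le_of_le inf_le_left
        suffices N ≤ movers D F from (this hx).2 a (hAD ha)
        let S : Sylow p N := ((P.2.to_le inf_le_left : IsPGroup p T).comap_subtype (K := N)).toSylow hQ.1
        set L : Subgroup N := closure {y : N | ∃ k, orderOf y = p ^ k} with hL
        haveI : L.Normal := by
          rw [hL]
          refine ⟨fun y hy g => ?_⟩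
          have hmap : (closure {y : N | ∃ k, orderOf y = p ^ k}).map (MulAut.conj g).toMonoidHom ≤
              closure {y : N | ∃ k, orderOf y = p ^ k} := by
            rw [MonoidHom.map_closure, closure_le]
            rintro _ ⟨z, ⟨k, hk⟩, rfl⟩
            exact subset_closure ⟨k, by rw [← hk]; exact (MulAut.conj g).orderOf_eq z⟩
          exact hmap ⟨y, hy, rfl⟩
        have hSL : (S : Subgroup N) ≤ L := fun y hy => subset_closure (by
          obtain ⟨k, hk⟩ := S.2 ⟨y, hy⟩
          obtain ⟨j, -, hj⟩ := (Nat.dvd_prime_pow hp.out).1 (orderOf_dvd_of_pow_eq_one hk)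
          exact ⟨j, by rw [← Subgroup.orderOf_coe] at hj; exact hj⟩)
        have htop : (movers D F).subgroupOf N = ⊤ := by
          rw [eq_top_iff, ← Sylow.normalizer_sup_eq_top' S hSL, sup_le_iff]
          constructor
          · intro m hm
            refine mem_subgroupOf.2 ⟨m.2, fun b hb => ?_⟩
            refine ih (Nat.card P - Nat.card T) (by omega) T m rfl inf_le_left ?_ b (hTgt.le hb)
            rintro _ ⟨t, ht, rfl⟩
            have := (mem_normalizer_iff.1 (inv_mem hm) ⟨t, ht.2⟩).1 (show (⟨t, ht.2⟩ : N) ∈ (S : Subgroup N) from ht)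
            exact (show _ ∈ T from this).1
          · rw [hL, closure_le]
            rintro y ⟨k, hk⟩
            exact mem_subgroupOf.2 ⟨y.2, h2 Q hQ y y.2 ⟨k, by rw [Subgroup.orderOf_coe]; exact hk⟩⟩
        exact subgroupOf_eq_top.1 htop
    have := F.mul_mem e (ihg (by rw [hcard]; exact hn) _ hxa)
    simpa [mul_assoc] using this

theorem inf_commutator_eq (P : Sylow p G) :
    (P : Subgroup G) ⊓ commutator G =
      ⁅(P : Subgroup G), normalizer ((P : Subgroup G) : Set G)⁆ ⊔
        ⨆ (Q : Sylow p G) (_ : IsTame P Q)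
          (x : G) (_ : x ∈ normalizer (((P : Subgroup G) ⊓ Q : Subgroup G) : Set G) ∧ ∃ k : ℕ, orderOf x = p ^ k),
          ⁅(P : Subgroup G) ⊓ (Q : Subgroup G), zpowers x⁆ := by
  set F := ⁅(P : Subgroup G), normalizer ((P : Subgroup G) : Set G)⁆ ⊔
    ⨆ (Q : Sylow p G) (_ : IsTame P Q)
      (x : G) (_ : x ∈ normalizer (((P : Subgroup G) ⊓ Q : Subgroup G) : Set G) ∧ ∃ k : ℕ, orderOf x = p ^ k),
      ⁅(P : Subgroup G) ⊓ (Q : Subgroup G), zpowers x⁆ with hF
  refine le_antisymm ?_ (sup_le (le_inf ?_ ?_) ?_)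
  · have key := fun A g hA hgA => mem_of_conj (P := P) (F := F) (fun x hx a ha => by
      have : a⁻¹ * (x⁻¹ * a * x) = ⁅a⁻¹, x⁻¹⁆ := by simp [commutatorElement_def, mul_assoc]
      rw [this]
      exact mem_sup_left (commutator_mem_commutator (inv_mem ha) (inv_mem hx))) (fun Q hQ x hx hxp a ha => by
      have : a⁻¹ * (x⁻¹ * a * x) = ⁅a⁻¹, x⁻¹⁆ := by simp [commutatorElement_def, mul_assoc]
      rw [this]
      refine mem_sup_right (mem_iSup_of_mem Q (mem_iSup_of_mem hQ (mem_iSup_of_mem x (mem_iSup_of_mem ⟨hx, hxp⟩ ?_))))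
      exact commutator_mem_commutator (inv_mem ha) (inv_mem (mem_zpowers x))) _ A g rfl hA hgA
    rw [inf_comm, commutator_inf_eq_focalSubgroup P, focalSubgroup_def, closure_le]
    rintro _ ⟨hmem, x, hx, u, rfl⟩
    have h3 : u * x⁻¹ * u⁻¹ ∈ (P : Subgroup G) := by
      have := (P : Subgroup G).mul_mem ((P : Subgroup G).inv_mem hx) hmem
      simpa [commutatorElement_def, mul_assoc] using this
    have := key (zpowers x⁻¹) u⁻¹ (zpowers_le.2 ((P : Subgroup G).inv_mem hx)) (by
      rintro _ ⟨_, ⟨i, rfl⟩, rfl⟩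
      have h4 : (MulAut.conj u⁻¹⁻¹) (x⁻¹ ^ i) = (u * x⁻¹ * u⁻¹) ^ i := by
        rw [inv_inv, map_zpow, MulAut.conj_apply]
      show (MulAut.conj u⁻¹⁻¹) (x⁻¹ ^ i) ∈ (P : Subgroup G)
      rw [h4]
      exact Subgroup.zpow_mem _ h3 i) x⁻¹ (mem_zpowers _)
    simpa [commutatorElement_def, mul_assoc] using this
  · rw [commutator_le]
    intro a ha x hx
    rw [commutatorElement_def, mul_assoc a x, mul_assoc a]
    exact (P : Subgroup G).mul_mem ha ((mem_normalizer_iff.1 hx _).1 ((P : Subgroup G).inv_mem ha))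
  · exact commutator_mono le_top le_top |>.trans (le_of_eq (commutator_def G).symm)
  · refine iSup_le fun Q => iSup_le fun hQ => iSup_le fun x => iSup_le fun hx => le_inf ?_ ?_
    · rw [commutator_le]
      intro a ha y hy
      have hy' := (zpowers_le.2 hx.1) hy
      rw [commutatorElement_def, mul_assoc a y, mul_assoc a]
      exact (P : Subgroup G).mul_mem ha.1
        ((mem_normalizer_iff.1 hy' _).1 (((P : Subgroup G) ⊓ Q).inv_mem ha)).1
    · exact commutator_mono le_top le_top |>.trans (le_of_eq (commutator_def G).symm)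

/-- Elements normalizing `D` that act on it like an element of `T`. -/
theorem exists_act {D T : Subgroup G} (hT : T ≤ normalizer (D : Set G))
    (hidx : ¬ p ∣ T.relIndex (normalizer (D : Set G))) {k : ℕ}
    (hC : (centralizer (D : Set G)).relIndex (normalizer (D : Set G)) = p ^ k) {x : G}
    (hx : x ∈ normalizer (D : Set G)) : ∃ t ∈ T, ∀ a ∈ D, x⁻¹ * a * x = t⁻¹ * a * t := by
  let M : Subgroup G :=
    { carrier := {y | y ∈ normalizer (D : Set G) ∧ ∃ t ∈ T, ∀ a ∈ D, y⁻¹ * a * y = t⁻¹ * a * t}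
      one_mem' := ⟨one_mem _, 1, one_mem _, fun a _ => rfl⟩
      mul_mem' := by
        rintro y z ⟨hy, t, ht, hyt⟩ ⟨hz, s, hs, hzs⟩
        refine ⟨mul_mem hy hz, t * s, mul_mem ht hs, fun a ha => ?_⟩
        have h1 : y⁻¹ * a * y ∈ D := (mem_normalizer_iff'.1 hy (y⁻¹ * a)).2 (by simpa using ha)
        have h2 := hzs _ h1
        rw [show (y * z)⁻¹ * a * (y * z) = z⁻¹ * (y⁻¹ * a * y) * z by group, h2, hyt a ha]
        group
      inv_mem' := by
        rintro y ⟨hy, t, ht, hyt⟩
        refine ⟨inv_mem hy, t⁻¹, inv_mem ht, fun a ha => ?_⟩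
        have h1 : t * a * t⁻¹ ∈ D := (mem_normalizer_iff.1 (hT ht) a).1 ha
        have h2 := hyt _ h1
        rw [show t⁻¹ * (t * a * t⁻¹) * t = a by group] at h2
        conv_lhs => rw [← h2]
        group }
  have hCM : centralizer (D : Set G) ≤ M := fun y hy =>
    ⟨centralizer_le_normalizer _ hy, 1, one_mem _, fun a ha => by
      rw [mem_centralizer_iff] at hy
      rw [mul_assoc, hy a ha, inv_one, one_mul, mul_one, inv_mul_cancel_left]⟩
  have hTM : T ≤ M := fun t ht => ⟨hT ht, t, ht, fun a _ => rfl⟩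
  have hle : M.relIndex (normalizer (D : Set G)) = 1 := by
    refine Nat.eq_one_of_dvd_coprimes ((hp.out.coprime_iff_not_dvd.2 hidx).pow_left k) ?_
      (relIndex_dvd_of_le_left _ hTM)
    rw [← hC]
    exact relIndex_dvd_of_le_left _ hCM
  exact (relIndex_eq_one.1 hle hx).2

theorem hasNormalPComplement_of_tame
    (h : ∀ Q : Sylow p G, (P : Subgroup G) ⊓ Q ≠ ⊥ → IsTame P Q →
      IsPGroup p (normalizer (((P : Subgroup G) ⊓ Q : Subgroup G) : Set G) ⧸
        (centralizer (((P : Subgroup G) ⊓ Q : Subgroup G) : Set G)).subgroupOf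
          (normalizer (((P : Subgroup G) ⊓ Q : Subgroup G) : Set G)))) :
    Cfsg.HasNormalPComplement p G := by
  have key : ∀ (A : Subgroup G) (g : G), Conn P A g →
      ∃ t ∈ (P : Subgroup G), ∀ a ∈ A, g⁻¹ * a * g = t⁻¹ * a * t := by
    intro A g hC
    induction hC with
    | one A => exact ⟨1, one_mem _, fun a _ => rfl⟩
    | step A Q x g hQ hAD hx _ ih =>
      obtain ⟨s, hs, hs'⟩ := ih
      set D := (P : Subgroup G) ⊓ Q with hD
      obtain ⟨t, ht, ht'⟩ : ∃ t ∈ (P : Subgroup G), ∀ a ∈ A, x⁻¹ * a * x = t⁻¹ * a * t := by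
        by_cases hbot : D = ⊥
        · refine ⟨1, one_mem _, fun a ha => ?_⟩
          have ha1 : a = 1 := by
            have h0 := hAD ha
            rw [hbot] at h0
            exact Subgroup.mem_bot.1 h0
          rw [ha1]
          simp
        · obtain ⟨k, hk⟩ := (h Q hbot hQ).exists_card_eq
          rw [← index_eq_card] at hk
          obtain ⟨t, ht, ht'⟩ := exists_act (p := p) (T := (P : Subgroup G) ⊓ normalizer (D : Set G)) inf_le_right hQ.1 hk hx
          exact ⟨t, ht.1, fun a ha => ht' a (hAD ha)⟩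
      refine ⟨t * s, mul_mem ht hs, fun a ha => ?_⟩
      have h2 := hs' (x⁻¹ * a * x) ⟨a, ha, by simp [mul_assoc]⟩
      rw [show (x * g)⁻¹ * a * (x * g) = g⁻¹ * (x⁻¹ * a * x) * g by group, h2, ht' a ha]
      group
  refine hasNormalPComplement_of_localCondition fun R hR g hg hgp => ?_
  obtain ⟨S, hS⟩ := hR.exists_le_sylow
  obtain ⟨c, hc⟩ := MulAction.exists_smul_eq G S P
  have hRP : MulAut.conj c • R ≤ (P : Subgroup G) := by
    rw [← hc, Sylow.coe_subgroup_smul]
    exact pointwise_smul_le_pointwise_smul_iff.2 hS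
  set R' := MulAut.conj c • R with hR'
  set g' := c * g * c⁻¹ with hg'
  have hfix : MulAut.conj g'⁻¹ • R' = R' := by
    rw [hR', smul_smul, ← map_mul, show g'⁻¹ * c = c * g⁻¹ by rw [hg']; group, map_mul, mul_smul,
      conj_smul_eq_iff_mem_normalizer.2 (inv_mem hg)]
  obtain ⟨t, ht, ht'⟩ := key R' g' (alperin hRP (hfix.le.trans hRP))
  have hpow : ∀ m : ℕ, ∀ a ∈ R', (g' ^ m)⁻¹ * a * g' ^ m = (t ^ m)⁻¹ * a * t ^ m := by
    intro m
    induction m with
    | zero => intro a _; simp
    | succ m ih =>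
      intro a ha
      have h1 : g'⁻¹ * a * g' ∈ R' := hfix.le ⟨a, ha, by simp [mul_assoc]⟩
      rw [pow_succ', pow_succ', show (g' * g' ^ m)⁻¹ * a * (g' * g' ^ m) = (g' ^ m)⁻¹ * (g'⁻¹ * a * g') * g' ^ m by group,
        ih _ h1, ht' a ha]
      group
  obtain ⟨k, hk⟩ := P.2 ⟨t, ht⟩
  have htk : t ^ p ^ k = 1 := by simpa using congrArg Subtype.val hk
  have hord : orderOf g' = orderOf g := by
    rw [hg', ← MulAut.conj_apply]
    exact (MulAut.conj c).orderOf_eq g
  have hcen : g' ∈ centralizer (R' : Set G) := by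
    have h1 : g' ^ p ^ k ∈ centralizer (R' : Set G) := mem_centralizer_iff.2 fun a ha => by
      have := hpow (p ^ k) a ha
      rw [htk, inv_one, one_mul, mul_one, mul_assoc, inv_mul_eq_iff_eq_mul] at this
      exact this
    obtain ⟨i, hi⟩ := exists_pow_eq_self_of_coprime (x := g') (n := p ^ k) (by rw [hord]; exact (hgp.pow_right k).symm)
    rw [← hi]
    exact Subgroup.pow_mem _ h1 i
  rw [mem_centralizer_iff] at hcen ⊢
  intro a ha
  have h1 := hcen (c * a * c⁻¹) ⟨a, ha, by simp [MulAut.smul_def]⟩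
  have h2 : c * (a * g) * c⁻¹ = c * (g * a) * c⁻¹ := by
    simpa [hg', mul_assoc] using h1
  exact mul_left_cancel (mul_right_cancel h2)

end CfsgLib.TameFocal
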