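import Mathlib.RingTheory.AdjoinRoot
import Mathlib.RingTheory.Polynomial.Cyclotomic.Roots
import Mathlib.FieldTheory.Finite.Basic
import Mathlib.LinearAlgebra.Basis.VectorSpace
import Mathlib.LinearAlgebra.Finsupp.LinearCombination

/-!
A fixed-point-free operator of prime order `q` on a vector space over `ZMod p` has a transitive
semilinear normaliser if and only if `p` is a primitive root modulo `q`.
-/

set_option autoImplicit false
set_option linter.unusedSectionVars false

namespace CfsgLib.PrimRootAct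

open Polynomial

variable {p q : ℕ} [hp : Fact p.Prime] [hq : Fact q.Prime]

theorem natCard_adjoinRoot {f : (ZMod p)[X]} (hf : f ≠ 0) :
    Nat.card (AdjoinRoot f) = p ^ f.natDegree := by
  have := (AdjoinRoot.powerBasis hf).finite
  rw [Module.natCard_eq_pow_finrank (K := ZMod p), Nat.card_zmod, (AdjoinRoot.powerBasis hf).finrank,
    AdjoinRoot.powerBasis_dim]

theorem pow_card_adjoinRoot {f : (ZMod p)[X]} [Fact (Irreducible f)] (x : AdjoinRoot f) :
    x ^ p ^ f.natDegree = x := by
  have hf : f ≠ 0 := (Fact.out : Irreducible f).ne_zero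
  have hc := natCard_adjoinRoot hf
  have : Finite (AdjoinRoot f) := Nat.finite_of_card_ne_zero (by rw [hc]; exact pow_ne_zero _ hp.out.ne_zero)
  have := Fintype.ofFinite (AdjoinRoot f)
  rw [← hc, Nat.card_eq_fintype_card]
  exact FiniteField.pow_card x

theorem map_eval_pow {f : (ZMod p)[X]} {K : Type*} [Field K] [Algebra (ZMod p) K] {x : K}
    (hx : aeval x f = 0) (i : ℕ) : aeval (x ^ p ^ i) f = 0 := by
  have : CharP K p := charP_of_injective_algebraMap (algebraMap (ZMod p) K).injective p
  induction i with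
  | zero => rwa [pow_zero, pow_one]
  | succ i ih =>
    rw [pow_succ, pow_mul, ← expand_aeval, ZMod.expand_card, map_pow, ih, zero_pow hp.out.ne_zero]

/-- The roots of an irreducible polynomial over `ZMod p` are the conjugates of one of them. -/
theorem exists_pow_eq_of_root {f : (ZMod p)[X]} [Fact (Irreducible f)] {x : AdjoinRoot f}
    (hx : aeval x f = 0) : ∃ i : ℕ, x = AdjoinRoot.root f ^ p ^ i := by
  classical
  have hf : Irreducible f := Fact.out
  have hr : aeval (AdjoinRoot.root f) f = 0 := AdjoinRoot.aeval_eq f ▸ AdjoinRoot.mk_self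
  have : CharP (AdjoinRoot f) p :=
    charP_of_injective_algebraMap (algebraMap (ZMod p) (AdjoinRoot f)).injective p
  -- no positive power of Frobenius below the degree fixes the root
  have hfix : ∀ d : ℕ, AdjoinRoot.root f ^ p ^ d = AdjoinRoot.root f → 0 < d → f.natDegree ≤ d := by
    intro d hd hd0
    have hall : ∀ y : AdjoinRoot f, y ^ p ^ d = y := by
      have h : iterateFrobenius (AdjoinRoot f) p d = RingHom.id _ := by
        refine AdjoinRoot.ringHom_ext (Subsingleton.elim _ _) ?_
        rw [iterateFrobenius_def, hd, RingHom.id_apply]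
      intro y
      rw [← iterateFrobenius_def, h, RingHom.id_apply]
    have : Finite (AdjoinRoot f) := Nat.finite_of_card_ne_zero
      (by rw [natCard_adjoinRoot hf.ne_zero]; exact pow_ne_zero _ hp.out.ne_zero)
    have := Fintype.ofFinite (AdjoinRoot f)
    have h1 : 1 < p ^ d := Nat.one_lt_pow hd0.ne' hp.out.one_lt
    have hle : Fintype.card (AdjoinRoot f) ≤ p ^ d := by
      have h2 := Polynomial.card_le_degree_of_subset_roots (p := (X ^ p ^ d - X : (AdjoinRoot f)[X]))
        (Z := Finset.univ) (fun y _ => by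
          rw [mem_roots (FiniteField.X_pow_card_sub_X_ne_zero _ h1)]
          simp [hall y])
      rwa [Finset.card_univ, FiniteField.X_pow_card_sub_X_natDegree_eq _ h1] at h2
    rw [← Nat.card_eq_fintype_card, natCard_adjoinRoot hf.ne_zero] at hle
    exact (Nat.pow_le_pow_iff_right hp.out.one_lt).1 hle
  -- so the conjugates exhaust the roots
  let s := (Finset.range f.natDegree).image fun i => AdjoinRoot.root f ^ p ^ i
  have hinj : Set.InjOn (fun i => AdjoinRoot.root f ^ p ^ i) (Finset.range f.natDegree : Set ℕ) := by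
    suffices ∀ i j, i < j → j < f.natDegree → AdjoinRoot.root f ^ p ^ i ≠ AdjoinRoot.root f ^ p ^ j by
      intro i hi j hj h
      rcases lt_trichotomy i j with h' | h' | h'
      · exact absurd h (this i j h' (Finset.mem_range.1 hj))
      · exact h'
      · exact absurd h.symm (this j i h' (Finset.mem_range.1 hi))
    intro i j hij hj h
    have h2 : AdjoinRoot.root f ^ p ^ (f.natDegree - j + i) = AdjoinRoot.root f := by
      rw [pow_add, mul_comm, pow_mul, h, ← pow_mul, ← pow_add, Nat.add_sub_cancel' hj.le,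
        pow_card_adjoinRoot]
    exact absurd (hfix _ h2 (by omega)) (by omega)
  by_contra hcon
  push Not at hcon
  have hsub : (insert x s).val ⊆ (f.map (algebraMap (ZMod p) (AdjoinRoot f))).roots := by
    intro y hy
    rw [mem_roots (map_ne_zero hf.ne_zero), IsRoot.def, eval_map, ← aeval_def]
    have hy' : y ∈ insert x s := hy
    rcases Finset.mem_insert.1 hy' with rfl | hy
    · exact hx
    · obtain ⟨i, -, rfl⟩ := Finset.mem_image.1 hy
      exact map_eval_pow hr i
  have h3 := Polynomial.card_le_degree_of_subset_roots hsub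
  rw [natDegree_map, Finset.card_insert_of_notMem (fun h => by
    obtain ⟨i, -, hi⟩ := Finset.mem_image.1 h
    exact hcon i hi.symm), Finset.card_image_of_injOn hinj, Finset.card_range] at h3
  omega

/-- `p` is a primitive root modulo `q` when every residue prime to `q` is a power of `p`. -/
theorem orderOf_eq_of_forall (hne : p ≠ q)
    (h : ∀ k : ℕ, ¬ q ∣ k → ∃ i : ℕ, p ^ i ≡ k [MOD q]) : orderOf (p : ZMod q) = q - 1 := by
  classical
  have hp0 : (p : ZMod q) ≠ 0 := fun h' =>
    hne ((Nat.prime_dvd_prime_iff_eq hq.out hp.out).1 ((ZMod.natCast_eq_zero_iff _ _).1 h')).symm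
  refine le_antisymm (Nat.le_of_dvd (by have := hq.out.two_le; omega)
    (orderOf_dvd_of_pow_eq_one (ZMod.pow_card_sub_one_eq_one hp0))) ?_
  have hsub : (Finset.univ : Finset (ZMod q)).erase 0 ⊆
      (Finset.range (orderOf (p : ZMod q))).image fun i => (p : ZMod q) ^ i := by
    intro z hz
    obtain ⟨i, hi⟩ := h z.val (fun hd => Finset.ne_of_mem_erase hz (by
      rw [← ZMod.natCast_zmod_val z]; exact (ZMod.natCast_eq_zero_iff _ _).2 hd))
    refine Finset.mem_image.2 ⟨i % orderOf (p : ZMod q), Finset.mem_range.2 (Nat.mod_lt _ ?_), ?_⟩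
    · exact Nat.pos_of_ne_zero fun h0 => by
        have := orderOf_dvd_of_pow_eq_one (ZMod.pow_card_sub_one_eq_one hp0)
        rw [h0, zero_dvd_iff] at this
        have := hq.out.two_le; omega
    · rw [pow_mod_orderOf, ← Nat.cast_pow, (ZMod.natCast_eq_natCast_iff _ _ _).2 hi,
        ZMod.natCast_zmod_val]
  have := (Finset.card_le_card hsub).trans Finset.card_image_le
  rwa [Finset.card_erase_of_mem (Finset.mem_univ _), Finset.card_univ, ZMod.card,
    Finset.card_range] at this

variable {V : Type*} [AddCommGroup V] [Module (ZMod p) V] [Finite V]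

theorem map_aeval {T S : Module.End (ZMod p) V} {A : V →ₗ[ZMod p] V}
    (h : ∀ v, A (T v) = S (A v)) (g : (ZMod p)[X]) (v : V) :
    A (aeval T g v) = aeval S g (A v) := by
  induction g using Polynomial.induction_on' generalizing v with
  | add g g' hg hg' =>
    rw [map_add, map_add, LinearMap.add_apply, LinearMap.add_apply, map_add, hg, hg']
  | monomial n c =>
    rw [aeval_monomial, aeval_monomial, Module.End.mul_apply, Module.End.mul_apply,
      Module.algebraMap_end_apply, Module.algebraMap_end_apply, map_smul]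
    congr 1
    induction n generalizing v with
    | zero => simp
    | succ n ih => rw [pow_succ, pow_succ, Module.End.mul_apply, Module.End.mul_apply, ih, h]

/-- Transitivity of the normaliser of a fixed-point-free operator of order `q` forces `p` to be a
primitive root modulo `q`. -/
theorem orderOf_eq_of_transitive (hne : p ≠ q) (T : Module.End (ZMod p) V) (hT : T ^ q = 1)
    (hfpf : ∀ v, T v = v → v = 0) [Nontrivial V]
    (htr : ∀ v w : V, v ≠ 0 → w ≠ 0 → ∃ (A : V →ₗ[ZMod p] V) (k : ℕ),
      Function.Injective A ∧ (∀ u, A (T u) = (T ^ k) (A u)) ∧ A v = w)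
    (hall : ∀ k : ℕ, ¬ q ∣ k → ∃ A : V →ₗ[ZMod p] V,
      Function.Injective A ∧ ∀ u, A (T u) = (T ^ k) (A u)) :
    orderOf (p : ZMod q) = q - 1 := by
  classical
  have : Module.Finite (ZMod p) V := Module.Finite.of_finite
  -- cyclic submodules
  let C : V → Set V := fun v => Set.range fun g : (ZMod p)[X] => aeval T g v
  have hC : ∀ v w : V, v ≠ 0 → w ≠ 0 → (C v).ncard ≤ (C w).ncard := by
    intro v w hv hw
    obtain ⟨A, k, hA, hAT, hAv⟩ := htr v w hv hw
    refine Set.ncard_le_ncard_of_injOn A ?_ hA.injOn (Set.toFinite _)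
    rintro _ ⟨g, rfl⟩
    refine ⟨g.comp (X ^ k), ?_⟩
    show aeval T (g.comp (X ^ k)) w = A (aeval T g v)
    rw [map_aeval hAT, hAv, aeval_comp, aeval_X_pow]
  have hgen : ∀ (g : (ZMod p)[X]) (w : V), aeval T g w ≠ 0 → w ∈ C (aeval T g w) := by
    intro g w hg
    have hw : w ≠ 0 := fun h => hg (by rw [h, map_zero])
    have hsub : C (aeval T g w) ⊆ C w := by
      rintro _ ⟨h, rfl⟩
      exact ⟨h * g, by simp only [map_mul, Module.End.mul_apply]⟩
    rw [Set.eq_of_subset_of_ncard_le hsub (hC w _ hw hg) (Set.toFinite _)]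
    exact ⟨1, by simp⟩
  have hdich : ∀ g : (ZMod p)[X], aeval T g = 0 ∨ Function.Injective (aeval T g) := by
    intro g
    by_contra hcon
    push Not at hcon
    obtain ⟨hg0, hinj⟩ := hcon
    obtain ⟨w, hw⟩ : ∃ w, aeval T g w ≠ 0 := by
      by_contra h; push Not at h; exact hg0 (LinearMap.ext h)
    obtain ⟨v, hv, hv0⟩ : ∃ v, aeval T g v = 0 ∧ v ≠ 0 := by
      by_contra h; push Not at h
      exact hinj ((injective_iff_map_eq_zero _).2 h)
    -- `v + w` lies in the module of `w`, hence so does `v`
    have hu : aeval T g (v + w) = aeval T g w := by rw [map_add, hv, zero_add]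
    obtain ⟨s, hs⟩ := hgen g (v + w) (hu ▸ hw)
    change aeval T s (aeval T g (v + w)) = v + w at hs
    rw [hu] at hs
    have hvmem : v = aeval T (s * g - 1) w := by
      rw [map_sub, map_mul, map_one, LinearMap.sub_apply, Module.End.mul_apply, hs,
        Module.End.one_apply, add_sub_cancel_right]
    obtain ⟨t, ht⟩ := hgen (s * g - 1) w (hvmem ▸ hv0)
    change aeval T t (aeval T (s * g - 1) w) = w at ht
    rw [← hvmem] at ht
    apply hw
    rw [← ht, ← Module.End.mul_apply, ← map_mul, mul_comm, map_mul, Module.End.mul_apply, hv, map_zero]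
  have hint : IsIntegral (ZMod p) T := Algebra.IsIntegral.isIntegral T
  set f := minpoly (ZMod p) T with hf
  have hirr : Irreducible f := by
    refine ⟨minpoly.not_isUnit _ _, fun g h hgh => ?_⟩
    have hz : aeval T g * aeval T h = 0 := by rw [← map_mul, ← hgh, hf, minpoly.aeval]
    have hu : ∀ a b : (ZMod p)[X], f = a * b → aeval T a = 0 → IsUnit b := by
      intro a b hab ha
      obtain ⟨c, hc⟩ := minpoly.dvd (ZMod p) T ha
      rw [← hf] at hc
      refine isUnit_iff_exists_inv'.2 ⟨c, mul_left_cancel₀ (minpoly.ne_zero hint) ?_⟩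
      rw [← hf, mul_one, ← mul_assoc, ← hc, ← hab]
    rcases hdich g with hg | hg
    · exact Or.inr (hu g h hgh hg)
    · refine Or.inl (hu h g (hgh.trans (mul_comm g h)) (LinearMap.ext fun v => hg ?_))
      rw [← Module.End.mul_apply, hz]
      simp
  have : Fact (Irreducible f) := ⟨hirr⟩
  have hroot : ∀ g : (ZMod p)[X], aeval T g = 0 → aeval (AdjoinRoot.root f) g = 0 := fun g hg => by
    rw [AdjoinRoot.aeval_eq, AdjoinRoot.mk_eq_zero]
    exact minpoly.dvd _ _ hg
  set r := AdjoinRoot.root f
  have hrq : r ^ q = 1 := by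
    have := hroot (X ^ q - 1) (by rw [map_sub, aeval_X_pow, map_one, hT, sub_self])
    rwa [map_sub, aeval_X_pow, map_one, sub_eq_zero] at this
  have hr1 : r ≠ 1 := by
    intro h1
    have hd : f ∣ X - 1 := by
      rw [← AdjoinRoot.mk_eq_zero, map_sub, AdjoinRoot.mk_X, map_one, ← sub_eq_zero.2 h1]
    have h0 : aeval T (X - 1 : (ZMod p)[X]) = 0 := by
      obtain ⟨c, hc⟩ := hd
      rw [hc, map_mul, hf, minpoly.aeval, zero_mul]
    rw [map_sub, aeval_X, map_one, sub_eq_zero] at h0
    obtain ⟨v, hv⟩ := exists_ne (0 : V)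
    exact hv (hfpf v (by rw [h0, Module.End.one_apply]))
  refine orderOf_eq_of_forall hne fun k hk => ?_
  obtain ⟨A, hA, hAT⟩ := hall k hk
  have hk' : aeval T (f.comp (X ^ k)) = 0 := by
    have hs : Function.Surjective A := Finite.surjective_of_injective hA
    ext w
    obtain ⟨u, rfl⟩ := hs w
    rw [aeval_comp, aeval_X_pow, ← map_aeval hAT, hf, minpoly.aeval, LinearMap.zero_apply,
      LinearMap.zero_apply, map_zero]
  have hrk : aeval (r ^ k) f = 0 := by
    have := hroot _ hk'
    rwa [aeval_comp, aeval_X_pow] at this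
  obtain ⟨i, hi⟩ := exists_pow_eq_of_root hrk
  refine ⟨i, ?_⟩
  rw [← orderOf_eq_prime hrq hr1]
  exact (isOfFinOrder_iff_pow_eq_one.2 ⟨q, hq.out.pos, hrq⟩).pow_eq_pow_iff_modEq.1 hi.symm

/-- If `p` is a primitive root modulo `q`, then the normaliser of a fixed-point-free operator of
order `q` is transitive on non-zero vectors, with every Frobenius twist. -/
theorem exists_semilinear (hord : orderOf (p : ZMod q) = q - 1) (T : Module.End (ZMod p) V)
    (hT : T ^ q = 1) (hfpf : ∀ v, T v = v → v = 0) (j : ℕ) {v w : V} (hv : v ≠ 0) (hw : w ≠ 0) :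
    ∃ φ : V →+ V, Function.Injective φ ∧ φ v = w ∧ ∀ u, φ (T u) = (T ^ p ^ j) (φ u) := by
  classical
  set Φ := cyclotomic q (ZMod p) with hΦdef
  have hΦ0 : Φ ≠ 0 := cyclotomic_ne_zero q _
  have hΦdeg : Φ.natDegree = q - 1 := by
    rw [hΦdef, natDegree_cyclotomic, Nat.totient_prime hq.out]
  have hne : p ≠ q := by
    rintro rfl
    rw [ZMod.natCast_self, orderOf_eq_zero_iff'.2 fun n hn => by simp [hn.ne']] at hord
    have := hp.out.two_le; omega
  have : NeZero ((q : ℕ) : ZMod p) := ⟨fun h =>
    hne ((Nat.prime_dvd_prime_iff_eq hp.out hq.out).1 ((ZMod.natCast_eq_zero_iff _ _).1 h))⟩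
  have hirr : Irreducible Φ := by
    obtain ⟨f, hf, hfd⟩ := exists_irreducible_of_natDegree_pos (f := Φ)
      (by have := hq.out.two_le; omega)
    have : Fact (Irreducible f) := ⟨hf⟩
    have hroot : IsRoot (cyclotomic q (AdjoinRoot f)) (AdjoinRoot.root f) := by
      rw [IsRoot.def, ← map_cyclotomic q (algebraMap (ZMod p) (AdjoinRoot f)), eval_map, ← aeval_def,
        AdjoinRoot.aeval_eq, AdjoinRoot.mk_eq_zero]
      exact hfd
    have : NeZero ((q : ℕ) : AdjoinRoot f) := NeZero.of_injective
      (algebraMap (ZMod p) (AdjoinRoot f)).injective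
    have hprim := isRoot_cyclotomic_iff.1 hroot
    have hpow : AdjoinRoot.root f ^ p ^ f.natDegree = AdjoinRoot.root f ^ 1 := by
      rw [pow_card_adjoinRoot, pow_one]
    have hle : q - 1 ≤ f.natDegree := by
      rw [← hord]
      refine Nat.le_of_dvd hf.natDegree_pos (orderOf_dvd_of_pow_eq_one ?_)
      have h1 := (isOfFinOrder_iff_pow_eq_one.2 ⟨q, hq.out.pos, hprim.pow_eq_one⟩).pow_eq_pow_iff_modEq.1 hpow
      rw [← hprim.eq_orderOf] at h1
      rw [← Nat.cast_pow, ← Nat.cast_one, ZMod.natCast_eq_natCast_iff]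
      exact h1
    obtain ⟨c, hc⟩ := hfd
    have hc0 : c ≠ 0 := fun h => hΦ0 (by rw [hc, h, mul_zero])
    have hdeg := natDegree_mul hf.ne_zero hc0
    rw [← hc, hΦdeg] at hdeg
    have : IsUnit c := by
      rw [isUnit_iff_degree_eq_zero, degree_eq_natDegree hc0, show c.natDegree = 0 by omega]
      rfl
    rw [hc]
    exact (irreducible_mul_isUnit this).2 hf
  have : Fact (Irreducible Φ) := ⟨hirr⟩
  have hΦT : aeval T Φ = 0 := by
    rw [hΦdef, cyclotomic_prime, map_sum]
    simp only [aeval_X_pow]
    have h0 : (T - 1) * ∑ i ∈ Finset.range q, T ^ i = 0 := by rw [mul_geom_sum, hT, sub_self]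
    refine LinearMap.ext fun u => ?_
    have h1 := congrArg (fun f : Module.End (ZMod p) V => f u) h0
    simp only [Module.End.mul_apply, LinearMap.sub_apply, Module.End.one_apply, LinearMap.zero_apply,
      sub_eq_zero] at h1
    exact hfpf _ h1
  let L : AdjoinRoot Φ →+* Module.End (ZMod p) V :=
    Ideal.Quotient.lift _ (aeval T : (ZMod p)[X] →ₐ[ZMod p] _).toRingHom fun g hg => by
      obtain ⟨c, rfl⟩ := Ideal.mem_span_singleton'.1 hg
      show aeval T (c * Φ) = 0
      rw [map_mul, hΦT, mul_zero]
  let iK : Module (AdjoinRoot Φ) V := Module.compHom V L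
  have hrootsmul : ∀ u : V, AdjoinRoot.root Φ • u = T u := fun u => by
    show L (AdjoinRoot.mk Φ X) u = T u
    show aeval T (X : (ZMod p)[X]) u = T u
    rw [aeval_X]
  have : Module.Finite (AdjoinRoot Φ) V := Module.Finite.of_finite
  have hb : LinearIndepOn (AdjoinRoot Φ) id ({v} : Set V) := (linearIndepOn_singleton_iff _).2 hv
  have hc : LinearIndepOn (AdjoinRoot Φ) id ({w} : Set V) := (linearIndepOn_singleton_iff _).2 hw
  let b := Module.Basis.extend hb
  let c := Module.Basis.extend hc
  obtain ⟨iv, hiv⟩ : ∃ i, b i = v := ⟨⟨v, hb.subset_extend _ rfl⟩, Module.Basis.extend_apply_self _ _⟩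
  obtain ⟨iw, hiw⟩ : ∃ i, c i = w := ⟨⟨w, hc.subset_extend _ rfl⟩, Module.Basis.extend_apply_self _ _⟩
  obtain ⟨e₀⟩ : Nonempty ((hb.extend (Set.subset_univ _) : Set V) ≃ (hc.extend (Set.subset_univ _) : Set V)) :=
    ⟨b.indexEquiv c⟩
  let e := e₀.trans (Equiv.swap (e₀ iv) iw)
  have hev : e iv = iw := by simp [e]
  have := Fintype.ofFinite (hb.extend (Set.subset_univ _) : Set V)
  have : CharP (AdjoinRoot Φ) p :=
    charP_of_injective_algebraMap (algebraMap (ZMod p) (AdjoinRoot Φ)).injective p
  let σ := iterateFrobenius (AdjoinRoot Φ) p j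
  let φ : V →+ V :=
    { toFun := fun u => ∑ i, σ (b.repr u i) • c (e i)
      map_zero' := by simp
      map_add' := fun u u' => by
        simp only [map_add, Finsupp.add_apply, add_smul, Finset.sum_add_distrib] }
  have hφsmul : ∀ (a : AdjoinRoot Φ) (u : V), φ (a • u) = σ a • φ u := fun a u => by
    show ∑ i, σ (b.repr (a • u) i) • c (e i) = σ a • ∑ i, σ (b.repr u i) • c (e i)
    rw [Finset.smul_sum]
    refine Finset.sum_congr rfl fun i _ => ?_
    rw [map_smul, Finsupp.smul_apply, smul_eq_mul, map_mul, mul_smul]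
  refine ⟨φ, (injective_iff_map_eq_zero φ).2 fun u hu => ?_, ?_, fun u => ?_⟩
  · have hli := Fintype.linearIndependent_iff.1 (c.linearIndependent.comp e e.injective)
      (fun i => σ (b.repr u i)) hu
    refine b.repr.injective (Finsupp.ext fun i => ?_)
    rw [map_zero, Finsupp.zero_apply]
    exact σ.injective ((hli i).trans (map_zero σ).symm)
  · show ∑ i, σ (b.repr v i) • c (e i) = w
    have hrv : b.repr v = Finsupp.single iv 1 := by
      have h := b.repr_self iv
      rwa [hiv] at h
    rw [Finset.sum_eq_single iv, hrv, Finsupp.single_eq_same, map_one, one_smul, hev, hiw]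
    · intro i _ hi
      rw [hrv, Finsupp.single_eq_of_ne hi, map_zero, zero_smul]
    · exact fun h => absurd (Finset.mem_univ _) h
  · rw [← hrootsmul, hφsmul, show σ (AdjoinRoot.root Φ) = AdjoinRoot.root Φ ^ p ^ j from
      iterateFrobenius_def _ _ _]
    generalize φ u = y
    induction p ^ j generalizing y with
    | zero => rw [pow_zero, pow_zero, one_smul, Module.End.one_apply]
    | succ m ih => rw [pow_succ, pow_succ, mul_smul, hrootsmul, ih, Module.End.mul_apply]

end CfsgLib.PrimRootAct
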