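import Mathlib.GroupTheory.Transfer
import Mathlib.GroupTheory.SpecificGroups.Alternating.Simple
import Mathlib.FieldTheory.Finite.Basic
import Mathlib.Tactic.NormNum.Prime
import Cfsg.Agent.FGSB.Jordan
import Cfsg.Agent.Dickson.OrderSixty

/-!
# Groups generated by two elements of large prime order in alternating groups
-/

set_option autoImplicit false

namespace CfsgLib.AltGen

open Equiv Equiv.Perm MulAction
open scoped Pointwise

variable {α : Type*} [Fintype α] [DecidableEq α]

/-- A power with exponent prime to the order has the same fixed points. -/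
theorem apply_eq_self_of_pow_apply {x : Perm α} {i : ℕ} (hi : i.Coprime (orderOf x)) {z : α}
    (h : (x ^ i) z = z) : x z = z := by
  obtain ⟨j, hj⟩ := exists_pow_eq_self_of_coprime hi
  rw [← hj, Perm.pow_apply_eq_self_of_apply_eq_self h]

theorem sign_of_sq_eq_one {σ : Perm α} (h : σ ^ 2 = 1) :
    sign σ = (-1) ^ (σ.support.card / 2) := by
  have hall : ∀ n ∈ σ.cycleType, n = 2 := fun n hn => by
    have h1 : n ∣ 2 := (dvd_of_mem_cycleType hn).trans (orderOf_dvd_of_pow_eq_one h)
    have h2 := two_le_of_mem_cycleType hn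
    have h3 := Nat.le_of_dvd (by norm_num) h1
    omega
  have hrep : σ.cycleType = Multiset.replicate (Multiset.card σ.cycleType) 2 :=
    Multiset.eq_replicate_card.2 hall
  have hsum : σ.support.card = 2 * Multiset.card σ.cycleType := by
    conv_lhs => rw [← sum_cycleType, hrep, Multiset.sum_replicate]
    rw [smul_eq_mul, mul_comm]
  rw [sign_of_cycleType, sum_cycleType, hsum, Nat.mul_div_cancel_left _ (by norm_num : 0 < 2),
    pow_add, pow_mul]
  simp

theorem ne_twice_odd {H : Type*} [Group H] [Finite H] (X : Set H)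
    (hX : Subgroup.closure X = ⊤) (hodd : ∀ x ∈ X, Odd (orderOf x)) (k : ℕ) (hk : Odd k) :
    Nat.card H ≠ 2 * k := by
  classical
  intro hcard
  have := Fintype.ofFinite H
  have : Fact (Nat.Prime 2) := ⟨Nat.prime_two⟩
  let φ : H →* ℤˣ := sign.comp (MulAction.toPermHom H H)
  have h1 : X ⊆ φ.ker := by
    intro x hx
    have h2 : orderOf (φ x) ∣ 2 := by
      apply orderOf_dvd_of_pow_eq_one
      exact Int.units_sq _
    have h3 : orderOf (φ x) ∣ orderOf x := orderOf_map_dvd φ x
    have h4 := Nat.dvd_gcd h2 h3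
    rw [Nat.coprime_iff_gcd_eq_one.1 (Nat.prime_two.coprime_iff_not_dvd.2
      (hodd x hx).not_two_dvd_nat), Nat.dvd_one, orderOf_eq_one_iff] at h4
    exact h4
  rw [← Subgroup.closure_le, hX] at h1
  obtain ⟨t, ht⟩ := exists_prime_orderOf_dvd_card' (G := H) 2 (hcard ▸ dvd_mul_right 2 k)
  have ht1 : t ≠ 1 := fun h => by rw [h, orderOf_one] at ht; norm_num at ht
  have hsupp : (MulAction.toPermHom H H t).support = Finset.univ := by
    ext x
    simp [ht1]
  have h2 : φ t = -1 := by
    change sign (MulAction.toPermHom H H t) = -1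
    rw [sign_of_sq_eq_one (by rw [← map_pow, ← ht, pow_orderOf_eq_one, map_one]), hsupp,
      Finset.card_univ, ← Nat.card_eq_fintype_card, hcard,
      Nat.mul_div_cancel_left _ (by norm_num : 0 < 2), hk.neg_one_pow]
  rw [MonoidHom.mem_ker.1 (h1 (Subgroup.mem_top t))] at h2
  exact absurd h2 (by decide)

theorem eq_top_of_card_gt_factorial {A : Type*} [Group A] [Finite A] [IsSimpleGroup A]
    (H : Subgroup A) (h : H.index.factorial < Nat.card A) : H = ⊤ := by
  classical
  by_contra hH
  have hne : (MulAction.toPermHom A (A ⧸ H)).ker ≠ ⊤ := fun htop => hH (eq_top_iff.2 fun a _ => by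
    have h0 : MulAction.toPermHom A (A ⧸ H) a = 1 := MonoidHom.mem_ker.1 (htop ▸ Subgroup.mem_top a)
    have h1 : a • ((1 : A) : A ⧸ H) = ((1 : A) : A ⧸ H) :=
      DFunLike.congr_fun h0 ((1 : A) : A ⧸ H)
    rw [MulAction.Quotient.smul_coe, smul_eq_mul, mul_one, QuotientGroup.eq] at h1
    simpa using h1)
  have hbot := ((MulAction.toPermHom A (A ⧸ H)).normal_ker.eq_bot_or_eq_top).resolve_right hne
  have := Nat.card_le_card_of_injective _ ((MonoidHom.ker_eq_bot_iff _).1 hbot)
  rw [Nat.card_perm] at this
  exact absurd this (not_le.2 h)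

theorem isPretransitive_of_two {G : Subgroup (Perm α)} {x y : Perm α} (hx : x ∈ G) (hy : y ∈ G)
    {p : ℕ} (hp : p.Prime) (hxp : orderOf x = p) (hyc : y.IsCycle)
    (hlt : Fintype.card α < p + y.support.card) (hfix : ∀ z, y z = z → x z ≠ z) :
    IsPretransitive G α := by
  classical
  obtain ⟨y0, hy0⟩ := hyc.nonempty_support
  rw [isPretransitive_iff_base y0]
  intro z
  by_cases hz : y z = z
  · by_contra hno
    have hinj : Function.Injective (fun i : Fin p => (x ^ (i : ℕ)) z) := by
      intro i j hij
      have key : ∀ a b : ℕ, a < b → b < p → (x ^ a) z ≠ (x ^ b) z := by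
        intro a b hab hb h
        apply hfix z hz
        refine apply_eq_self_of_pow_apply (i := b - a) ?_ ((x ^ a).injective ?_)
        · rw [hxp]
          exact (hp.coprime_iff_not_dvd.2 (Nat.not_dvd_of_pos_of_lt (by omega) (by omega))).symm
        · rw [← Perm.mul_apply, ← pow_add, show a + (b - a) = b by omega, ← h]
      rcases lt_trichotomy (i : ℕ) j with h | h | h
      · exact absurd hij (key _ _ h j.2)
      · exact Fin.ext h
      · exact absurd hij.symm (key _ _ h i.2)
    have hsub : Finset.univ.image (fun i : Fin p => (x ^ (i : ℕ)) z) ⊆ y.supportᶜ := by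
      intro w hw
      obtain ⟨i, -, rfl⟩ := Finset.mem_image.1 hw
      rw [Finset.mem_compl, mem_support, not_not]
      by_contra hw'
      obtain ⟨l, hl⟩ := hyc.exists_zpow_eq (mem_support.1 hy0) hw'
      refine hno ⟨⟨(x ^ (i : ℕ))⁻¹ * y ^ l,
        G.mul_mem (G.inv_mem (G.pow_mem hx _)) (G.zpow_mem hy _)⟩, ?_⟩
      change ((x ^ (i : ℕ))⁻¹ * y ^ l) y0 = z
      rw [Perm.mul_apply, hl]
      simp
    have := Finset.card_le_card hsub
    rw [Finset.card_image_of_injective _ hinj, Finset.card_univ, Fintype.card_fin,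
      Finset.card_compl] at this
    have := y.support.card_le_univ
    omega
  · obtain ⟨l, hl⟩ := hyc.exists_zpow_eq (mem_support.1 hy0) hz
    exact ⟨⟨y ^ l, G.zpow_mem hy l⟩, hl⟩

theorem isPreprimitive_of_cycle {G : Subgroup (Perm α)} [IsPretransitive G α] {y : Perm α}
    (hy : y ∈ G) (hyc : y.IsCycle) (hq : y.support.card.Prime)
    (hlt : Fintype.card α < 2 * y.support.card) : IsPreprimitive G α := by
  classical
  obtain ⟨a, ha⟩ := hyc.nonempty_support
  have ha' : y a ≠ a := mem_support.1 ha
  refine IsPreprimitive.of_isTrivialBlock_base a fun {B} haB hB => ?_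
  let yG : G := ⟨y, hy⟩
  have hord : orderOf y = y.support.card := hyc.orderOf
  have hdvd : B.ncard ∣ Fintype.card α := by
    rw [← Nat.card_eq_fintype_card]
    exact hB.ncard_dvd_card ⟨a, haB⟩
  by_cases h2 : ∃ i : ℕ, 0 < i ∧ i < y.support.card ∧ (y ^ i) a ∈ B
  · obtain ⟨i, hi0, hiq, hia⟩ := h2
    have hstab : yG ^ i • B = B := by
      rcases hB.smul_eq_or_disjoint (yG ^ i) with h | h
      · exact h
      · exfalso
        exact Set.disjoint_left.1 h ⟨a, haB, rfl⟩ hia
    obtain ⟨j, hj⟩ := exists_pow_eq_self_of_coprime (x := y) (n := i) (by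
      rw [hord]
      exact (hq.coprime_iff_not_dvd.2 (Nat.not_dvd_of_pos_of_lt hi0 hiq)).symm)
    have hyB : yG • B = B := by
      have : (yG ^ i) ^ j = yG := Subtype.ext (by simpa using hj)
      rw [← this]
      exact MulAction.mem_stabilizer_iff.1
        (Subgroup.pow_mem _ (MulAction.mem_stabilizer_iff.2 hstab) j)
    have hsub : (y.support : Set α) ⊆ B := by
      intro z hz
      obtain ⟨l, hl⟩ := hyc.exists_zpow_eq ha' (mem_support.1 hz)
      have : yG ^ l • B = B := MulAction.mem_stabilizer_iff.1
        (Subgroup.zpow_mem _ (MulAction.mem_stabilizer_iff.2 hyB) l)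
      rw [← this, ← hl]
      exact ⟨a, haB, by simp [yG, Subgroup.smul_def]⟩
    have hcard : y.support.card ≤ B.ncard := by
      rw [← Set.ncard_coe_finset]
      exact Set.ncard_le_ncard hsub (Set.toFinite B)
    have hBd : B.ncard = Fintype.card α := by
      obtain ⟨c, hc⟩ := hdvd
      rcases c with _ | _ | c
      · simp only [mul_zero] at hc
        have := Fintype.card_pos_iff.2 ⟨a⟩
        omega
      · omega
      · rw [hc] at hlt; nlinarith
    right
    rw [Set.eq_univ_iff_ncard, hBd, Nat.card_eq_fintype_card]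
  · push Not at h2
    left
    have hinj : Function.Injective
        (fun v : Fin y.support.card × B => (y ^ (v.1 : ℕ)) (v.2 : α)) := by
      rintro ⟨i, b⟩ ⟨j, c⟩ h
      have key : ∀ u v : ℕ, u ≤ v → v < y.support.card → ∀ b c : B,
          (y ^ u) (b : α) = (y ^ v) (c : α) → u = v := by
        intro u v huv hv b c h
        by_contra hne
        have hmem : (y ^ (v - u)) (c : α) ∈ B := by
          rw [show (y ^ (v - u)) (c : α) = b from (y ^ u).injective (by
            rw [← Perm.mul_apply, ← pow_add, show u + (v - u) = v by omega, h])]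
          exact b.2
        have hst : yG ^ (v - u) • B = B := by
          rcases hB.smul_eq_or_disjoint (yG ^ (v - u)) with h' | h'
          · exact h'
          · exact absurd hmem (fun hm => Set.disjoint_left.1 h' ⟨c, c.2, rfl⟩ hm)
        exact h2 (v - u) (by omega) (by omega) (hst ▸ ⟨a, haB, rfl⟩)
      simp only at h
      have hij : i = j := by
        rcases le_total (i : ℕ) j with hle | hle
        · exact Fin.ext (key _ _ hle j.2 b c h)
        · exact Fin.ext (key _ _ hle i.2 c b h.symm).symm
      subst hij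
      exact Prod.ext rfl (Subtype.ext ((y ^ (i : ℕ)).injective h))
    have h3 := Nat.card_le_card_of_injective _ hinj
    rw [Nat.card_prod, Nat.card_fin, Nat.card_coe_set_eq, Nat.card_eq_fintype_card] at h3
    have h5 : B.ncard ≤ 1 := by
      by_contra hgt
      have : y.support.card * 2 ≤ y.support.card * B.ncard := Nat.mul_le_mul_left _ (by omega)
      omega
    exact Set.ncard_le_one_iff_subsingleton.1 h5

theorem even_of_odd_orderOf {x : Perm α} (h : Odd (orderOf x)) : x ∈ alternatingGroup α := by
  rw [mem_alternatingGroup]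
  have h2 : orderOf (sign x) ∣ 2 := orderOf_dvd_of_pow_eq_one (Int.units_sq _)
  have h3 : orderOf (sign x) ∣ orderOf x := orderOf_map_dvd sign x
  have h4 := Nat.dvd_gcd h2 h3
  rw [Nat.coprime_iff_gcd_eq_one.1 (Nat.prime_two.coprime_iff_not_dvd.2 h.not_two_dvd_nat),
    Nat.dvd_one, orderOf_eq_one_iff] at h4
  exact h4

theorem index_mul_card_fixingSubgroup {G : Subgroup (Perm α)} {k : ℕ}
    (hk : IsMultiplyPretransitive G α k) (s : Set α) (hs : s.ncard = k) :
    Nat.card G * (Fintype.card α - k).factorial =
      (Fintype.card α).factorial * Nat.card (fixingSubgroup G s) := by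
  have h := hk.index_of_fixingSubgroup_mul hs
  rw [Nat.card_eq_fintype_card (α := α)] at h
  rw [← h, mul_right_comm, Subgroup.index_mul_card]

end CfsgLib.AltGen
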