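import Mathlib.GroupTheory.SpecificGroups.Alternating.Simple
import Mathlib.LinearAlgebra.Matrix.ProjectiveSpecialLinearGroup
import Mathlib.LinearAlgebra.Matrix.ToLin
import Mathlib.LinearAlgebra.FiniteDimensional.Lemmas

/-!
The alternating group of degree `n+1` inside the projective special linear group of dimension `n`.
-/

set_option autoImplicit false

namespace CfsgLib.AltInPSL

open Equiv
open scoped commutatorElement

variable (n : ℕ) (F : Type*) [Field F]

def sumForm : (Fin (n + 1) → F) →ₗ[F] F where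
  toFun v := ∑ i, v i
  map_add' u v := by simp [Finset.sum_add_distrib]
  map_smul' c v := by simp [Finset.mul_sum]

theorem finrank_ker : Module.finrank F (LinearMap.ker (sumForm n F)) = n := by
  have h := LinearMap.finrank_range_add_finrank_ker (sumForm n F)
  have hs : Function.Surjective (sumForm n F) := fun c =>
    ⟨Pi.single 0 c, by simp [sumForm]⟩
  rw [LinearMap.range_eq_top.2 hs, finrank_top, Module.finrank_self, Module.finrank_fintype_fun_eq_card,
    Fintype.card_fin] at h
  omega

def act (σ : Perm (Fin (n + 1))) : Module.End F (LinearMap.ker (sumForm n F)) where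
  toFun v := ⟨fun i => (v : Fin (n + 1) → F) (σ⁻¹ i), by
    rw [LinearMap.mem_ker]
    show ∑ i, (v : Fin (n + 1) → F) (σ⁻¹ i) = 0
    rw [Equiv.sum_comp σ⁻¹ (v : Fin (n + 1) → F)]
    exact v.2⟩
  map_add' u v := rfl
  map_smul' c v := rfl

def actHom : Perm (Fin (n + 1)) →* Module.End F (LinearMap.ker (sumForm n F)) where
  toFun := act n F
  map_one' := rfl
  map_mul' σ τ := by
    ext v i
    show (v : Fin (n + 1) → F) ((σ * τ)⁻¹ i) = (v : Fin (n + 1) → F) (τ⁻¹ (σ⁻¹ i))
    rw [mul_inv_rev]
    rfl

theorem main (hn : 5 ≤ n) :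
    ∃ f : alternatingGroup (Fin (n + 1)) →* Matrix.ProjectiveSpecialLinearGroup (Fin n) F,
      Function.Injective f := by
  classical
  let b := Module.finBasisOfFinrankEq F (LinearMap.ker (sumForm n F)) (finrank_ker n F)
  let M : alternatingGroup (Fin (n + 1)) →* Matrix (Fin n) (Fin n) F :=
    ((LinearMap.toMatrixAlgEquiv b).toMulEquiv.toMonoidHom.comp (actHom n F)).comp
      (alternatingGroup (Fin (n + 1))).subtype
  haveI hsimple : IsSimpleGroup (alternatingGroup (Fin (n + 1))) :=
    alternatingGroup.isSimpleGroup (by rw [Nat.card_eq_fintype_card, Fintype.card_fin]; omega)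
  -- a three cycle moving a vector
  have h01 : (⟨0, by omega⟩ : Fin (n + 1)) ≠ ⟨1, by omega⟩ := by simp [Fin.ext_iff]
  have h12 : (⟨1, by omega⟩ : Fin (n + 1)) ≠ ⟨2, by omega⟩ := by simp [Fin.ext_iff]
  have h02 : (⟨0, by omega⟩ : Fin (n + 1)) ≠ ⟨2, by omega⟩ := by simp [Fin.ext_iff]
  let i0 : Fin (n + 1) := ⟨0, by omega⟩
  let i1 : Fin (n + 1) := ⟨1, by omega⟩
  let i2 : Fin (n + 1) := ⟨2, by omega⟩
  let i3 : Fin (n + 1) := ⟨3, by omega⟩
  let σ : alternatingGroup (Fin (n + 1)) :=
    ⟨swap i0 i1 * swap i1 i2, by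
      rw [Equiv.Perm.mem_alternatingGroup, map_mul, Equiv.Perm.sign_swap h01, Equiv.Perm.sign_swap h12]
      decide⟩
  have hσ : M σ ≠ 1 := by
    intro h
    have h' : actHom n F (σ : Perm (Fin (n + 1))) = 1 :=
      (LinearMap.toMatrixAlgEquiv b).injective (by rw [map_one]; exact h)
    let v : LinearMap.ker (sumForm n F) := ⟨Pi.single i0 1 - Pi.single i3 1, by
      rw [LinearMap.mem_ker, map_sub]
      simp [sumForm]⟩
    have h2 := congrFun (congrArg Subtype.val (LinearMap.congr_fun h' v)) i0
    have hinv : ((σ : Perm (Fin (n + 1))))⁻¹ i0 = i2 := by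
      rw [Equiv.Perm.inv_eq_iff_eq]
      show i0 = swap i0 i1 (swap i1 i2 i2)
      rw [swap_apply_right, swap_apply_right]
    have h3 : (v : Fin (n + 1) → F) ((σ : Perm (Fin (n + 1)))⁻¹ i0) = (v : Fin (n + 1) → F) i0 := h2
    rw [hinv] at h3
    simp [v, i0, i2, i3, Fin.ext_iff] at h3
  -- perfectness
  have hcomm : commutator (alternatingGroup (Fin (n + 1))) = ⊤ := by
    rcases (inferInstance : (commutator (alternatingGroup (Fin (n + 1)))).Normal).eq_bot_or_eq_top with h | h
    · exfalso
      have hc : ∀ x y : alternatingGroup (Fin (n + 1)), x * y = y * x := fun x y => by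
        have : ⁅x, y⁆ ∈ commutator (alternatingGroup (Fin (n + 1))) :=
          Subgroup.commutator_mem_commutator (Subgroup.mem_top x) (Subgroup.mem_top y)
        rw [h, Subgroup.mem_bot] at this
        exact commutatorElement_eq_one_iff_mul_comm.1 this
      let τ : alternatingGroup (Fin (n + 1)) :=
        ⟨swap i0 i1 * swap i1 i3, by
          rw [Equiv.Perm.mem_alternatingGroup, map_mul, Equiv.Perm.sign_swap h01,
            Equiv.Perm.sign_swap (show i1 ≠ i3 by simp [i1, i3, Fin.ext_iff])]
          decide⟩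
      have h2 := congrArg (fun z : alternatingGroup (Fin (n + 1)) => (z : Perm (Fin (n + 1))) i2) (hc σ τ)
      simp [σ, τ, swap_apply_def, i0, i1, i2, i3, Fin.ext_iff] at h2
    · exact h
  have hab : ∀ {B : Type _} [CommGroup B] (φ : alternatingGroup (Fin (n + 1)) →* B), φ = 1 := by
    intro B _ φ
    ext x
    have h : commutator _ ≤ φ.ker := Abelianization.commutator_subset_ker φ
    rw [hcomm] at h
    exact h (Subgroup.mem_top x)
  have hdet : ∀ g, (M g).det = 1 := fun g => by
    have h := hab ((Units.map (Matrix.detMonoidHom (n := Fin n) (R := F))).comp M.toHomUnits)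
    have h' := congrArg Units.val (DFunLike.congr_fun h g)
    simpa using h'
  let f : alternatingGroup (Fin (n + 1)) →* Matrix.SpecialLinearGroup (Fin n) F :=
    { toFun := fun g => ⟨M g, hdet g⟩
      map_one' := Subtype.ext (map_one M)
      map_mul' := fun a c => Subtype.ext (map_mul M a c) }
  let ψ : alternatingGroup (Fin (n + 1)) →* Matrix.ProjectiveSpecialLinearGroup (Fin n) F :=
    (QuotientGroup.mk' (Subgroup.center (Matrix.SpecialLinearGroup (Fin n) F))).comp f
  refine ⟨ψ, ?_⟩
  rw [← MonoidHom.ker_eq_bot_iff]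
  refine (ψ.normal_ker.eq_bot_or_eq_top).resolve_right fun h => hσ ?_
  have hc : ∀ g, f g ∈ Subgroup.center (Matrix.SpecialLinearGroup (Fin n) F) := fun g => by
    have hg : g ∈ ψ.ker := h ▸ Subgroup.mem_top g
    exact (QuotientGroup.eq_one_iff (f g)).1 hg
  have h1 : ∀ g, f g = 1 := by
    intro g
    have hle : commutator _ ≤ f.ker := by
      rw [commutator_def, Subgroup.commutator_le]
      intro x _ y _
      rw [MonoidHom.mem_ker, map_commutatorElement, commutatorElement_eq_one_iff_mul_comm]
      exact Subgroup.mem_center_iff.1 (hc y) (f x)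
    rw [hcomm] at hle
    exact hle (Subgroup.mem_top g)
  exact congrArg Subtype.val (h1 σ)

end CfsgLib.AltInPSL
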