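import Mathlib.GroupTheory.Transfer
import Mathlib.GroupTheory.SpecificGroups.Alternating.Simple
import Mathlib.FieldTheory.Finite.Basic
import Mathlib.Tactic.NormNum.Prime
import Cfsg.Agent.FGSB.AltGen

/-!
# Degree thirteen: a primitive group with an 11-cycle contains the alternating group
-/

set_option autoImplicit false

namespace CfsgLib.AltGen

open Equiv Equiv.Perm MulAction

variable {α : Type*} [Fintype α] [DecidableEq α]

section Thirteen

variable {G : Subgroup (Perm α)}

/-- A power of a cycle fixing a moved point is trivial. -/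
theorem zpow_eq_one_of_apply_eq {g : Perm α} (hc : g.IsCycle) {y : α} (hy : g y ≠ y) {l : ℤ}
    (h : (g ^ l) y = y) : g ^ l = 1 := by
  ext z
  rw [Perm.one_apply]
  by_cases hz : g z = z
  · exact Perm.zpow_apply_eq_self_of_apply_eq_self hz l
  · obtain ⟨j, rfl⟩ := hc.exists_zpow_eq hy hz
    rw [← Perm.mul_apply, (Commute.zpow_zpow_self g l j).eq, Perm.mul_apply, h]

theorem thirteen_of_five (hA : G ≤ alternatingGroup α) (hcard : Fintype.card α = 13)
    (hprim : IsPreprimitive G α) (h3 : IsMultiplyPretransitive G α 3)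
    (h5 : 5 ∣ Nat.card G) : alternatingGroup α ≤ G := by
  classical
  have : Fact (Nat.Prime 5) := ⟨by norm_num⟩
  obtain ⟨w, hw⟩ := exists_prime_orderOf_dvd_card' (G := G) 5 h5
  have hw' : orderOf (w : Perm α) = 5 := by rw [Subgroup.orderOf_coe, hw]
  obtain ⟨n, hn⟩ := cycleType_prime_order (σ := (w : Perm α)) (hw'.symm ▸ by norm_num)
  rw [hw'] at hn
  have hsupp : (w : Perm α).support.card = 5 * (n + 1) := by
    rw [← sum_cycleType, hn, Multiset.sum_replicate, smul_eq_mul, mul_comm]
  have hle : (w : Perm α).support.card ≤ 13 := hcard ▸ Finset.card_le_univ _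
  rcases (show n = 0 ∨ n = 1 by omega) with rfl | rfl
  · refine Jordan.alternatingGroup_le_of_isCycle hprim w.2 ?_ (by rw [hsupp]; norm_num)
      (by rw [hsupp, hcard]; norm_num)
    rw [← card_cycleType_eq_one, hn]; simp
  -- two five-cycles and three fixed points
  set F : Finset α := (w : Perm α).supportᶜ with hF
  have hFc : F.card = 3 := by rw [Finset.card_compl, hsupp, hcard]
  obtain ⟨a, b, c, hab, hac, hbc, habc⟩ := Finset.card_eq_three.1 hFc
  let K : Subgroup G := fixingSubgroup G (F : Set α)
  have hKmem : ∀ k : G, k ∈ K ↔ ∀ z ∈ F, (k : Perm α) z = z := fun k => by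
    rw [mem_fixingSubgroup_iff]; rfl
  have hwK : w ∈ K := (hKmem w).2 fun z hz => by
    simpa [hF] using hz
  have hpw : IsPGroup 5 (Subgroup.zpowers (⟨w, hwK⟩ : K)) :=
    IsPGroup.of_card (n := 1) (by rw [Nat.card_zpowers, ← Subgroup.orderOf_coe, hw, pow_one])
  obtain ⟨P, hP⟩ := hpw.exists_le_sylow
  let v₁ : Fin 3 ↪ α := ⟨![a, b, c], by
    intro i j h; fin_cases i <;> fin_cases j <;>
      first
        | rfl
        | exact absurd h hab
        | exact absurd h hac
        | exact absurd h hbc
        | exact absurd h hab.symm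
        | exact absurd h hac.symm
        | exact absurd h hbc.symm⟩
  let v₂ : Fin 3 ↪ α := ⟨![b, c, a], by
    intro i j h; fin_cases i <;> fin_cases j <;>
      first
        | rfl
        | exact absurd h hab
        | exact absurd h hac
        | exact absurd h hbc
        | exact absurd h hab.symm
        | exact absurd h hac.symm
        | exact absurd h hbc.symm⟩
  obtain ⟨h, hh⟩ := h3.exists_smul_eq v₁ v₂
  have hha : (h : Perm α) a = b := DFunLike.congr_fun hh 0
  have hhb : (h : Perm α) b = c := DFunLike.congr_fun hh 1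
  have hhc : (h : Perm α) c = a := DFunLike.congr_fun hh 2
  have hFmem : ∀ z, z ∈ F ↔ z = a ∨ z = b ∨ z = c := fun z => by rw [habc]; simp
  have hhF : ∀ z ∈ F, (h : Perm α) z ∈ F := fun z hz => by
    rcases (hFmem z).1 hz with rfl | rfl | rfl
    · rw [hha]; exact (hFmem _).2 (by tauto)
    · rw [hhb]; exact (hFmem _).2 (by tauto)
    · rw [hhc]; exact (hFmem _).2 (by tauto)
  have hhK : h ∈ Subgroup.normalizer (K : Set G) := by
    have hinv : ∀ z ∈ F, (h : Perm α)⁻¹ z ∈ F := fun z hz => by
      have hbij : F.image (h : Perm α) = F :=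
        Finset.eq_of_subset_of_card_le (Finset.image_subset_iff.2 hhF)
          (by rw [Finset.card_image_of_injective _ (h : Perm α).injective])
      rw [← hbij, Finset.mem_image] at hz
      obtain ⟨u, hu, rfl⟩ := hz
      simpa using hu
    rw [Subgroup.mem_normalizer_iff]
    intro k
    simp only [SetLike.mem_coe, hKmem, Subgroup.coe_mul, Subgroup.coe_inv, Perm.mul_apply]
    constructor
    · intro hk z hz
      rw [hk _ (hinv z hz)]; simp
    · intro hk z hz
      have := hk _ (hhF z hz)
      simpa using this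
  -- correct `h` so that it normalises `P`
  let P' : Subgroup G := (P : Subgroup K).map K.subtype
  have hwP : w ∈ P' := ⟨⟨w, hwK⟩, hP (Subgroup.mem_zpowers _), rfl⟩
  obtain ⟨h', hh'F, hh'P⟩ : ∃ h' : G, (∀ z ∈ F, (h' : Perm α) z = (h : Perm α) z) ∧
      h' ∈ Subgroup.normalizer (P' : Set G) := by
    let ψ : K ≃* K :=
      { toFun := fun k => ⟨h * k * h⁻¹, (Subgroup.mem_normalizer_iff.1 hhK k).1 k.2⟩
        invFun := fun k => ⟨h⁻¹ * k * h, (Subgroup.mem_normalizer_iff''.1 hhK k).1 k.2⟩
        left_inv := fun k => Subtype.ext (by simp [mul_assoc])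
        right_inv := fun k => Subtype.ext (by simp [mul_assoc])
        map_mul' := fun k l => Subtype.ext (by simp [mul_assoc]) }
    obtain ⟨k, hk⟩ := MulAction.exists_smul_eq K P
      (P.comapOfInjective ψ.symm.toMonoidHom ψ.symm.injective (by simp))
    refine ⟨(k : G)⁻¹ * h, fun z hz => ?_, ?_⟩
    · simp only [Subgroup.coe_mul, Perm.mul_apply]
      exact (hKmem _).1 (K.inv_mem k.2) _ (hhF z hz)
    · rw [Subgroup.mem_normalizer_iff_map_conj_eq]
      have hmap : ∀ u ∈ (P : Subgroup K), ψ u ∈ ((k • P : Sylow 5 K) : Subgroup K) := by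
        intro u hu
        rw [hk]
        change ψ.symm (ψ u) ∈ (P : Subgroup K)
        rwa [MulEquiv.symm_apply_apply]
      refine Subgroup.eq_of_le_of_card_ge ?_ ?_
      · rintro _ ⟨_, ⟨u, hu, rfl⟩, rfl⟩
        have := hmap u hu
        rw [Sylow.coe_subgroup_smul, Subgroup.mem_pointwise_smul_iff_inv_smul_mem] at this
        refine ⟨_, this, ?_⟩
        simp [MulAut.smul_def, ψ, mul_assoc, MulAut.conj_symm_apply]
      · exact (Subgroup.card_map_of_injective (MulEquiv.injective _)).ge
  -- the three-part of `h'`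
  obtain ⟨e, m, hm3, hord⟩ := Nat.exists_eq_pow_mul_and_not_dvd (orderOf_pos h').ne' 3 (by norm_num)
  set u : G := h' ^ m with hu
  have hupow : u ^ 3 ^ e = 1 := by rw [hu, ← pow_mul, mul_comm, ← hord, pow_orderOf_eq_one]
  have huP : u ∈ Subgroup.normalizer (P' : Set G) := Subgroup.pow_mem _ hh'P m
  have hne : (u : Perm α) a ≠ a := by
    have h1 : (h' : Perm α) a = b := by rw [hh'F a ((hFmem a).2 (by tauto)), hha]
    have h2 : (h' : Perm α) b = c := by rw [hh'F b ((hFmem b).2 (by tauto)), hhb]
    have h3' : (h' : Perm α) c = a := by rw [hh'F c ((hFmem c).2 (by tauto)), hhc]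
    have hper : ∀ j : ℕ, ((h' : Perm α) ^ (3 * j)) a = a := fun j => by
      induction j with
      | zero => simp
      | succ j ih =>
        rw [show 3 * (j + 1) = 3 * j + 1 + 1 + 1 by ring]
        simp only [pow_succ, Perm.mul_apply]
        rw [h1, h2, h3', ih]
    have hm' : m = 3 * (m / 3) + m % 3 := by omega
    rw [hu, SubgroupClass.coe_pow, hm', pow_add, Perm.mul_apply]
    rcases (show m % 3 = 1 ∨ m % 3 = 2 by omega) with h | h <;> rw [h]
    · rw [pow_one, h1]
      intro hcon
      exact hab (((h' : Perm α) ^ (3 * (m / 3))).injective (hcon.trans (hper _).symm)).symm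
    · rw [pow_two, Perm.mul_apply, h1, h2]
      intro hcon
      exact hac (((h' : Perm α) ^ (3 * (m / 3))).injective (hcon.trans (hper _).symm)).symm
  -- `P` is abelian and its orbits off `F` are the two cycles of `w`
  have hPab : IsMulCommutative P' := by
    have hPg : IsPGroup 5 P' := P.isPGroup'.map _
    obtain ⟨j, hj⟩ := IsPGroup.iff_card.1 hPg
    have hj2 : j ≤ 2 := by
      by_contra hgt
      have h1 : 5 ^ 3 ∣ Nat.card (Perm α) :=
        (hj ▸ pow_dvd_pow 5 (by omega) : 5 ^ 3 ∣ Nat.card P').trans
          (P'.card_subgroup_dvd_card.trans G.card_subgroup_dvd_card)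
      rw [Nat.card_perm, Nat.card_eq_fintype_card, hcard] at h1
      norm_num [Nat.factorial] at h1
    interval_cases j
    · have : Subsingleton P' := (Nat.card_eq_one_iff_unique.1 (by simpa using hj)).1
      exact ⟨⟨fun _ _ => Subsingleton.elim _ _⟩⟩
    · have : IsCyclic P' := isCyclic_of_prime_card (by simpa using hj)
      exact IsCyclic.isMulCommutative
    · exact IsPGroup.isMulCommutative_of_card_eq_prime_sq hj
  have hPfix : ∀ π ∈ P', ∀ z ∈ F, (π : Perm α) z = z := by
    rintro _ ⟨k, -, rfl⟩ z hz
    exact (hKmem _).1 k.2 z hz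
  have hpowfix : ∀ z, z ∉ F → ∀ i : ℕ, ¬ 5 ∣ i → ((w : Perm α) ^ i) z ≠ z := by
    intro z hz i hi hc
    apply hz
    rw [hF, Finset.mem_compl, mem_support, not_not]
    exact apply_eq_self_of_pow_apply (hw' ▸ ((by norm_num : Nat.Prime 5).coprime_iff_not_dvd.2 hi).symm) hc
  -- P-orbit of a moved point has five points
  have horb : ∀ x0, x0 ∉ F → ∀ π ∈ P', ∃ i : ℕ, (π : Perm α) x0 = ((w : Perm α) ^ i) x0 := by
    intro x0 hx0 π hπ
    have hpg : IsPGroup 5 P' := P.isPGroup'.map _
    obtain ⟨j, hj⟩ := hpg.card_orbit x0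
    let O : Set α := orbit P' x0
    have hwO : ∀ i : Fin 5, ((w : Perm α) ^ (i : ℕ)) x0 ∈ O := fun i =>
      ⟨⟨w ^ (i : ℕ), P'.pow_mem hwP _⟩, by simp [Subgroup.smul_def]⟩
    have hinj : Function.Injective (fun i : Fin 5 => ((w : Perm α) ^ (i : ℕ)) x0) := by
      intro s t hst
      simp only at hst
      have key : ∀ s t : ℕ, s < t → t < 5 →
          ((w : Perm α) ^ s) x0 ≠ ((w : Perm α) ^ t) x0 := fun s t h1 h2 h => by
        refine hpowfix x0 hx0 (t - s) (Nat.not_dvd_of_pos_of_lt (by omega) (by omega))
          (((w : Perm α) ^ s).injective ?_)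
        rw [← Perm.mul_apply, ← pow_add, show s + (t - s) = t by omega, ← h]
      rcases lt_trichotomy (s : ℕ) t with h | h | h
      · exact absurd hst (key _ _ h t.2)
      · exact Fin.ext h
      · exact absurd hst.symm (key _ _ h s.2)
    have hOsub : O ⊆ ((Fᶜ : Finset α) : Set α) := by
      rintro _ ⟨ρ, rfl⟩
      rw [Finset.mem_coe, Finset.mem_compl]
      intro hmem
      apply hx0
      have := hPfix _ (P'.inv_mem ρ.2) _ hmem
      simp [Subgroup.smul_def] at this
      rw [this]
      simpa [Subgroup.smul_def] using hmem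
    have hOcard : Nat.card O = 5 := by
      have h1 : 5 ≤ Nat.card O := by
        have := Nat.card_le_card_of_injective (fun i : Fin 5 => (⟨_, hwO i⟩ : O))
          fun s t h => hinj (congrArg Subtype.val h)
        simpa using this
      have h2 : Nat.card O ≤ 10 := by
        rw [Nat.card_coe_set_eq]
        refine (Set.ncard_le_ncard hOsub (Set.toFinite _)).trans ?_
        rw [Set.ncard_coe_finset, Finset.card_compl, hFc, hcard]
      change Nat.card O = 5 ^ j at hj
      rcases j with _ | _ | j
      · rw [pow_zero] at hj; omega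
      · simpa using hj
      · have : 5 ^ 2 ≤ Nat.card O := hj.symm ▸ Nat.pow_le_pow_right (by norm_num) (by omega)
        omega
    have hrange : Set.range (fun i : Fin 5 => ((w : Perm α) ^ (i : ℕ)) x0) = O := by
      refine Set.eq_of_subset_of_ncard_le (by rintro _ ⟨i, rfl⟩; exact hwO i) ?_ (Set.toFinite _)
      rw [Set.ncard_range_of_injective hinj, Nat.card_fin, ← Nat.card_coe_set_eq, hOcard]
    obtain ⟨i, hi⟩ := hrange.symm.le (show (π : Perm α) x0 ∈ O from ⟨⟨π, hπ⟩, rfl⟩)
    exact ⟨i, hi.symm⟩
  -- `u` fixes every point off `F`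
  have hu3 : ∀ x0, x0 ∉ F → (u : Perm α) x0 = x0 := by
    intro x0 hx0
    have huF : ∀ z, z ∉ F → (u : Perm α) z ∉ F := by
      intro z hz hc
      apply hz
      have hk : ∀ j : ℕ, ∀ y ∈ F, ((h' : Perm α) ^ j) y ∈ F := fun j => by
        induction j with
        | zero => simp
        | succ j ih =>
          intro y hy
          rw [pow_succ', Perm.mul_apply, hh'F _ (ih y hy)]
          exact hhF _ (ih y hy)
      have hbij : F.image ((u : Perm α)) = F :=
        Finset.eq_of_subset_of_card_le (Finset.image_subset_iff.2 fun y hy => by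
          rw [hu, SubgroupClass.coe_pow]; exact hk m y hy)
          (by rw [Finset.card_image_of_injective _ (u : Perm α).injective])
      rw [← hbij, Finset.mem_image] at hc
      obtain ⟨y, hy, hyz⟩ := hc
      rwa [← (u : Perm α).injective hyz]
    -- `u` maps the orbit of a point to the orbit of its image
    have hconj : ∀ z, z ∉ F → ∀ i : ℕ, ∃ l : ℕ,
        (u : Perm α) (((w : Perm α) ^ i) z) = ((w : Perm α) ^ l) ((u : Perm α) z) := by
      intro z hz i
      obtain ⟨l, hl⟩ := horb _ (huF z hz) (u * w ^ i * u⁻¹)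
        ((Subgroup.mem_normalizer_iff.1 huP _).1 (P'.pow_mem hwP i))
      refine ⟨l, ?_⟩
      rw [← hl]
      simp
    let R : α → α → Prop := fun y z => ∃ i : ℕ, z = ((w : Perm α) ^ i) y
    have hper5 : ∀ (y : α) (i : ℕ), ((w : Perm α) ^ i) y = ((w : Perm α) ^ (i % 5)) y := by
      intro y i
      conv_lhs => rw [← pow_mod_orderOf, hw']
    have hRsymm : ∀ {y z}, R y z → R z y := by
      rintro y _ ⟨i, rfl⟩
      refine ⟨4 * i, ?_⟩
      rw [← Perm.mul_apply, ← pow_add, hper5, show (4 * i + i) % 5 = 0 by omega]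
      simp
    have hRtrans : ∀ {y z v}, R y z → R z v → R y v := by
      rintro y _ _ ⟨i, rfl⟩ ⟨j, rfl⟩
      exact ⟨j + i, by rw [pow_add, Perm.mul_apply]⟩
    -- at most two classes
    have htwo : ∀ y z v, y ∉ F → z ∉ F → v ∉ F → ¬ R y z → ¬ R y v → R z v := by
      intro y z v hy hz hv h1 h2
      by_contra h3'
      let f : Fin 3 × Fin 5 → α := fun d => ((w : Perm α) ^ (d.2 : ℕ)) (![y, z, v] d.1)
      have hcls : ∀ s t : Fin 3, R (![y, z, v] s) (![y, z, v] t) → s = t := by
        intro s t hst
        fin_cases s <;> fin_cases t <;>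
          first
            | rfl
            | exact absurd hst h1
            | exact absurd hst h2
            | exact absurd hst h3'
            | exact absurd (hRsymm hst) h1
            | exact absurd (hRsymm hst) h2
            | exact absurd (hRsymm hst) h3'
      have hnF : ∀ s : Fin 3, ![y, z, v] s ∉ F := fun s => by fin_cases s <;> simpa
      have hf : Function.Injective f := by
        rintro ⟨s, i⟩ ⟨t, j⟩ hst
        simp only [f] at hst
        have hs : s = t := hcls s t
          (hRtrans ⟨i, rfl⟩ (hst ▸ hRsymm (⟨j, rfl⟩ : R (![y, z, v] t) _)))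
        subst hs
        refine Prod.ext rfl (Fin.ext ?_)
        simp only
        by_contra hne'
        rcases Nat.lt_or_gt_of_ne hne' with h | h
        · refine hpowfix _ (hnF s) ((j : ℕ) - i) (Nat.not_dvd_of_pos_of_lt (by omega) (by omega))
            (((w : Perm α) ^ (i : ℕ)).injective ?_)
          rw [← Perm.mul_apply, ← pow_add, show (i : ℕ) + (j - i) = j by omega, ← hst]
        · refine hpowfix _ (hnF s) ((i : ℕ) - j) (Nat.not_dvd_of_pos_of_lt (by omega) (by omega))
            (((w : Perm α) ^ (j : ℕ)).injective ?_)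
          rw [← Perm.mul_apply, ← pow_add, show (j : ℕ) + (i - j) = i by omega, hst]
      have := Fintype.card_le_of_injective f hf
      simp [hcard] at this
    -- odd order forces `u` to fix the class of `x0`
    have hfixclass : R x0 ((u : Perm α) x0) := by
      by_contra hcon
      have hux := huF _ hx0
      have hu2 : ∀ z, R x0 z → R ((u : Perm α) x0) ((u : Perm α) z) := by
        rintro _ ⟨i, rfl⟩; exact hconj x0 hx0 i
      have hu2' : R x0 ((u : Perm α) ((u : Perm α) x0)) := by
        by_contra hc
        obtain ⟨i, hi⟩ := htwo x0 _ _ hx0 hux (huF _ hux) hcon hc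
        -- pull back along `u`
        obtain ⟨i2, hi2⟩ := horb x0 hx0 (u⁻¹ * w ^ i * u)
          ((Subgroup.mem_normalizer_iff''.1 huP _).1 (P'.pow_mem hwP i))
        refine hcon ⟨i2, ?_⟩
        rw [← hi2]
        simp [← hi]
      have hiter : ∀ j : ℕ, R x0 (((u : Perm α) ^ (2 * j)) x0) := fun j => by
        induction j with
        | zero => exact ⟨0, by simp⟩
        | succ j ih =>
          obtain ⟨i, hi⟩ := ih
          obtain ⟨l, hl⟩ := hconj x0 hx0 i
          obtain ⟨l', hl'⟩ := hconj _ hux l
          rw [show 2 * (j + 1) = 2 + 2 * j by ring, pow_add, pow_two, Perm.mul_apply,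
            Perm.mul_apply, hi, hl, hl']
          exact hRtrans hu2' ⟨l', rfl⟩
      have hodd : Odd (3 ^ e) := Odd.pow (by decide)
      obtain ⟨j, hj⟩ := hodd
      obtain ⟨i, hi⟩ := hiter (j + 1)
      refine hcon ⟨i, ?_⟩
      rw [← hi, show 2 * (j + 1) = 1 + 3 ^ e by omega, pow_add, ← SubgroupClass.coe_pow u (3 ^ e),
        hupow]
      simp
    obtain ⟨t, ht⟩ := hfixclass
    obtain ⟨r, hr⟩ := horb x0 hx0 (u * w * u⁻¹) ((Subgroup.mem_normalizer_iff.1 huP _).1 hwP)
    -- `u * w * u⁻¹` is `w ^ r` on the class of `x0`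
    have hcomm : Commute (u * w * u⁻¹) w := Subtype.ext_iff.1
      (hPab.is_comm.comm ⟨_, (Subgroup.mem_normalizer_iff.1 huP _).1 hwP⟩ ⟨w, hwP⟩)
    have hcls : ∀ i : ℕ, ((u * w * u⁻¹ : G) : Perm α) (((w : Perm α) ^ i) x0) =
        ((w : Perm α) ^ (i + r)) x0 := by
      intro i
      rw [← SubgroupClass.coe_pow, ← Perm.mul_apply, ← Subgroup.coe_mul, (hcomm.pow_right i).eq,
        Subgroup.coe_mul, Perm.mul_apply, hr, SubgroupClass.coe_pow, ← Perm.mul_apply, ← pow_add]
    have haff : ∀ i : ℕ, (u : Perm α) (((w : Perm α) ^ i) x0) = ((w : Perm α) ^ (t + r * i)) x0 := by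
      intro i
      induction i with
      | zero => simpa using ht
      | succ i ih =>
        have : (u : Perm α) (((w : Perm α) ^ (i + 1)) x0) =
            ((u * w * u⁻¹ : G) : Perm α) ((u : Perm α) (((w : Perm α) ^ i) x0)) := by
          simp [pow_succ', Perm.mul_apply]
        rw [this, ih, hcls, show t + r * (i + 1) = t + r * i + r by ring]
    have hmod : ∀ i j : ℕ, ((w : Perm α) ^ i) x0 = ((w : Perm α) ^ j) x0 → (i : ZMod 5) = j := by
      intro i j h
      rw [ZMod.natCast_eq_natCast_iff']
      by_contra hne'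
      rw [hper5 x0 i, hper5 x0 j] at h
      rcases Nat.lt_or_gt_of_ne hne' with hlt | hlt
      · refine hpowfix x0 hx0 (j % 5 - i % 5) (Nat.not_dvd_of_pos_of_lt (by omega) (by omega))
          (((w : Perm α) ^ (i % 5)).injective ?_)
        rw [← Perm.mul_apply, ← pow_add, show i % 5 + (j % 5 - i % 5) = j % 5 by omega, ← h]
      · refine hpowfix x0 hx0 (i % 5 - j % 5) (Nat.not_dvd_of_pos_of_lt (by omega) (by omega))
          (((w : Perm α) ^ (j % 5)).injective ?_)
        rw [← Perm.mul_apply, ← pow_add, show j % 5 + (i % 5 - j % 5) = i % 5 by omega, h]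
    have hiter : ∀ k : ℕ, ∃ t' : ℕ, ∀ i : ℕ,
        ((u : Perm α) ^ k) (((w : Perm α) ^ i) x0) = ((w : Perm α) ^ (t' + r ^ k * i)) x0 ∧
        ((r : ZMod 5) = 1 → (t' : ZMod 5) = k * t) := by
      intro k
      induction k with
      | zero => exact ⟨0, fun i => ⟨by simp, by simp⟩⟩
      | succ k ih =>
        obtain ⟨t', ht'⟩ := ih
        refine ⟨t + r * t', fun i => ⟨?_, fun hr1 => ?_⟩⟩
        · rw [pow_succ', Perm.mul_apply, (ht' i).1, haff]
          congr 2; ring
        · push_cast [hr1, (ht' i).2 hr1]; ring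
    obtain ⟨t', ht'⟩ := hiter (3 ^ e)
    have hu1 : (u : Perm α) ^ 3 ^ e = 1 := by rw [← SubgroupClass.coe_pow, hupow]; rfl
    have e0 := hmod 0 _ (by simpa [hu1] using (ht' 0).1)
    have e1 := hmod 1 _ (by simpa [hu1] using (ht' 1).1)
    push_cast at e0 e1
    simp only [← e0, zero_add, mul_one] at e1
    have hr1 : (r : ZMod 5) = 1 := by
      have hr0 : (r : ZMod 5) ≠ 0 := fun h => by
        rw [h, zero_pow (by positivity)] at e1; exact one_ne_zero e1
      apply orderOf_eq_one_iff.1
      refine Nat.eq_one_of_dvd_coprimes ?_ (orderOf_dvd_of_pow_eq_one e1.symm)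
        (orderOf_dvd_of_pow_eq_one (ZMod.pow_card_sub_one_eq_one hr0))
      exact Nat.Coprime.pow_left _ (by norm_num)
    have e2 := (ht' 0).2 hr1
    rw [← e0] at e2
    have ht0 : (t : ZMod 5) = 0 := by
      rcases mul_eq_zero.1 e2.symm with h | h
      · exfalso
        rw [ZMod.natCast_eq_zero_iff] at h
        have := (by norm_num : Nat.Prime 5).dvd_of_dvd_pow h
        omega
      · exact h
    rw [ZMod.natCast_eq_zero_iff] at ht0
    rw [ht, hper5, Nat.mod_eq_zero_of_dvd ht0] <;> simp
  have h3c : (u : Perm α).IsThreeCycle := by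
    rw [← card_support_eq_three_iff]
    have hsub : (u : Perm α).support ⊆ F := fun z hz => by
      by_contra hzF; exact mem_support.1 hz (hu3 z hzF)
    have h1 := Finset.card_le_card hsub
    have h2 : (u : Perm α).support.card ≠ 2 := fun h => by
      have hsw := (card_support_eq_two.1 h).sign_eq
      rw [mem_alternatingGroup.1 (hA u.2)] at hsw
      exact absurd hsw (by decide)
    have h3' : (u : Perm α).support.card ≠ 1 := card_support_ne_one _
    have h4 : (u : Perm α).support.card ≠ 0 := fun h => by
      rw [Finset.card_eq_zero, support_eq_empty_iff] at h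
      exact hne (by rw [h]; rfl)
    omega
  exact alternatingGroup_le_of_isPreprimitive_of_isThreeCycle_mem hprim h3c u.2

theorem thirteen (hA : G ≤ alternatingGroup α) (hcard : Fintype.card α = 13)
    (hprim : IsPreprimitive G α) {g : Perm α} (hg : g ∈ G) (hc : g.IsCycle)
    (hp : g.support.card = 11) : alternatingGroup α ≤ G := by
  classical
  have : Fact (Nat.Prime 11) := ⟨by norm_num⟩
  have h3 : IsMultiplyPretransitive G α 3 :=
    Jordan.isMultiplyPretransitive_of_isCycle hprim hg hc (by rw [hp]; norm_num) 1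
      (by rw [hcard, hp])
  by_contra hnot
  have h5 : ¬ 5 ∣ Nat.card G := fun h => hnot (thirteen_of_five hA hcard hprim h3 h)
  set F : Finset α := g.supportᶜ with hF
  have hFc : F.card = 2 := by rw [Finset.card_compl, hp, hcard]
  let K : Subgroup G := fixingSubgroup G (F : Set α)
  have hKmem : ∀ k : G, k ∈ K ↔ ∀ z ∈ F, (k : Perm α) z = z := fun k => by
    rw [mem_fixingSubgroup_iff]; rfl
  have h2 : IsMultiplyPretransitive G α 2 :=
    isMultiplyPretransitive_of_le (show 2 ≤ 3 by omega) (by rw [Nat.card_eq_fintype_card, hcard]; norm_num)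
  have hGK : Nat.card G = 156 * Nat.card K := by
    have := index_mul_card_fixingSubgroup h2 (F : Set α) (by rw [Set.ncard_coe_finset, hFc])
    rw [hcard, show (13 : ℕ) - 2 = 11 by norm_num] at this
    have h156 : (13).factorial = 156 * (11).factorial := by norm_num [Nat.factorial]
    rw [h156, mul_right_comm] at this
    exact Nat.eq_of_mul_eq_mul_right (Nat.factorial_pos 11) this
  let gK : K := ⟨⟨g, hg⟩, (hKmem _).2 fun z hz => by simpa [hF] using hz⟩
  have hgord : orderOf gK = 11 := by
    rw [← Subgroup.orderOf_coe, ← Subgroup.orderOf_coe]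
    exact hc.orderOf.trans hp
  obtain ⟨x0, hx0⟩ := hc.nonempty_support
  have hkS : ∀ k : K, ∀ z, z ∈ g.support → ((k : G) : Perm α) z ∈ g.support := by
    intro k z hz
    by_contra hcon
    have h1 := (hKmem _).1 k.2 _ (by simpa [hF] using hcon : ((k : G) : Perm α) z ∈ F)
    rw [((k : G) : Perm α).injective h1] at hcon
    exact hcon hz
  have hpowK : ∀ k : K, Commute k gK → k ∈ Subgroup.zpowers gK := by
    intro k hk
    obtain ⟨l, hl⟩ := hc.exists_zpow_eq (mem_support.1 hx0) (mem_support.1 (hkS k x0 hx0))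
    refine ⟨l, Subtype.ext (Subtype.ext ?_)⟩
    simp only [SubgroupClass.coe_zpow, gK]
    ext z
    by_cases hz : z ∈ g.support
    · obtain ⟨j, rfl⟩ := hc.exists_zpow_eq (mem_support.1 hx0) (mem_support.1 hz)
      have h1 : (g ^ j) (((k : G) : Perm α) x0) = ((k : G) : Perm α) ((g ^ j) x0) := by
        have := congrArg (fun y : K => ((y : G) : Perm α) x0) (hk.zpow_right j).eq
        simpa [gK, Perm.mul_apply] using this.symm
      rw [← h1, ← hl, ← Perm.mul_apply, ← Perm.mul_apply, ← zpow_add, ← zpow_add, add_comm]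
    · rw [(hKmem _).1 k.2 z (by simpa [hF] using hz),
        Perm.zpow_apply_eq_self_of_apply_eq_self (by simpa using hz)]
  have hsyl : ¬ 11 ^ 2 ∣ Nat.card K := fun h => by
    have h1 : 11 ^ 2 ∣ Nat.card (Perm α) :=
      h.trans (K.card_subgroup_dvd_card.trans G.card_subgroup_dvd_card)
    rw [Nat.card_perm, Nat.card_eq_fintype_card, hcard] at h1
    norm_num [Nat.factorial] at h1
  have hK11 : (Nat.card K).factorization 11 = 1 := by
    refine le_antisymm ?_ ((Nat.Prime.dvd_iff_one_le_factorization (by norm_num) Nat.card_pos.ne').1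
      (hgord ▸ orderOf_dvd_natCard gK))
    by_contra hlt
    exact hsyl ((Nat.Prime.pow_dvd_iff_le_factorization (by norm_num) Nat.card_pos.ne').2 (by omega))
  let P : Sylow 11 K := Sylow.ofCard (Subgroup.zpowers gK) (by rw [Nat.card_zpowers, hgord, hK11, pow_one])
  have hPc : (P : Subgroup K) = Subgroup.zpowers gK := rfl
  have hKcard : Nat.card K = 11 := by
    have hN : Subgroup.normalizer ((P : Subgroup K) : Set K) ≤
        Subgroup.centralizer ((P : Subgroup K) : Set K) := by
      intro z hz
      rw [hPc] at hz ⊢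
      obtain ⟨i, hi⟩ := (mem_powers_iff_mem_zpowers).2
        ((Subgroup.mem_normalizer_iff.1 hz gK).1 (Subgroup.mem_zpowers gK))
      change gK ^ i = z * gK * z⁻¹ at hi
      have hpow : ∀ n : ℕ, z ^ n * gK * (z ^ n)⁻¹ = gK ^ (i ^ n) := by
        intro n
        induction n with
        | zero => simp
        | succ n ih =>
          calc z ^ (n + 1) * gK * (z ^ (n + 1))⁻¹ = z * (z ^ n * gK * (z ^ n)⁻¹) * z⁻¹ := by
                rw [pow_succ']; group
            _ = gK ^ (i ^ (n + 1)) := by rw [ih, ← conj_pow, ← hi, ← pow_mul, pow_succ']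
      have hio : (i : ZMod 11) ^ orderOf z = 1 := by
        have h1 := hpow (orderOf z)
        rw [pow_orderOf_eq_one] at h1
        have h1' : gK ^ 1 = gK ^ (i ^ orderOf z) := by simpa using h1
        have h2 := pow_eq_pow_iff_modEq.1 h1'
        rw [hgord] at h2
        exact_mod_cast ((ZMod.natCast_eq_natCast_iff _ _ _).2 h2).symm
      have hi0 : (i : ZMod 11) ≠ 0 := fun h => by
        rw [h, zero_pow (orderOf_pos z).ne'] at hio; exact zero_ne_one hio
      have hd : orderOf (i : ZMod 11) ∣ 10 :=
        orderOf_dvd_of_pow_eq_one (ZMod.pow_card_sub_one_eq_one hi0)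
      have h5' : ¬ 5 ∣ orderOf (i : ZMod 11) := fun h => h5 ((h.trans
        (orderOf_dvd_of_pow_eq_one hio)).trans ((orderOf_dvd_natCard z).trans K.card_subgroup_dvd_card))
      have h12 : orderOf (i : ZMod 11) ∣ 2 := by
        have hcop : Nat.Coprime (orderOf (i : ZMod 11)) 5 :=
          ((by norm_num : Nat.Prime 5).coprime_iff_not_dvd.2 h5').symm
        exact hcop.dvd_of_dvd_mul_right (by simpa using hd : orderOf (i : ZMod 11) ∣ 2 * 5)
      rcases (Nat.dvd_prime Nat.prime_two).1 h12 with h1 | h1
      · -- centralizes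
        rw [orderOf_eq_one_iff] at h1
        have hz1 : z * gK * z⁻¹ = gK := by
          rw [← hi]
          conv_rhs => rw [← pow_one gK]
          rw [pow_eq_pow_iff_modEq, hgord, ← ZMod.natCast_eq_natCast_iff]
          simpa using h1
        rw [Subgroup.mem_centralizer_iff]
        intro y hy
        obtain ⟨j, rfl⟩ := hy
        exact ((show Commute z gK from mul_inv_eq_iff_eq_mul.1 hz1).zpow_right j).eq.symm
      · exfalso
        have hi1 : (i : ZMod 11) = -1 := by
          have hsq : (i : ZMod 11) ^ 2 = 1 := h1 ▸ pow_orderOf_eq_one _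
          rcases sq_eq_one_iff.1 hsq with h | h
          · rw [h, orderOf_one] at h1; omega
          · exact h
        have hz2 : Commute (z ^ 2) gK := by
          have h2 := hpow 2
          have h2' : gK ^ (i ^ 2) = gK := by
            conv_rhs => rw [← pow_one gK]
            rw [pow_eq_pow_iff_modEq, hgord, ← ZMod.natCast_eq_natCast_iff]
            push_cast; rw [hi1]; ring
          rw [h2'] at h2
          exact mul_inv_eq_iff_eq_mul.1 h2
        obtain ⟨j, hj⟩ := hpowK _ hz2
        set v : K := z ^ 11 with hv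
        have hv2 : v ^ 2 = 1 := by
          change gK ^ j = z ^ 2 at hj
          rw [hv, ← pow_mul, pow_mul', ← hj, ← zpow_natCast, zpow_comm, zpow_natCast,
            ← hgord, pow_orderOf_eq_one, one_zpow]
        have hvg : v * gK * v⁻¹ = gK⁻¹ := by
          rw [hv, hpow 11, eq_inv_iff_mul_eq_one, ← pow_succ, ← orderOf_dvd_iff_pow_eq_one, hgord,
            ← ZMod.natCast_eq_zero_iff]
          push_cast; rw [hi1]; ring
        set vv : Perm α := ((v : G) : Perm α) with hvv
        have hvv2 : vv ^ 2 = 1 := by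
          rw [hvv, ← SubgroupClass.coe_pow, ← SubgroupClass.coe_pow, hv2]; rfl
        have hvvg : vv * g * vv⁻¹ = g⁻¹ := by
          have := congrArg (fun y : K => ((y : G) : Perm α)) hvg
          simpa [gK] using this
        have hsub : vv.support ⊆ g.support := fun y hy => by
          by_contra hyg
          exact mem_support.1 hy ((hKmem _).1 v.2 y (by simpa [hF] using hyg))
        have hodd : Even vv.support.card := by
          have hall : ∀ n ∈ vv.cycleType, n = 2 := fun n hn => by
            have h1 : n ∣ 2 := (dvd_of_mem_cycleType hn).trans (orderOf_dvd_of_pow_eq_one hvv2)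
            have h2 := two_le_of_mem_cycleType hn
            have := Nat.le_of_dvd (by norm_num) h1
            omega
          rw [← sum_cycleType, Multiset.eq_replicate_card.2 hall, Multiset.sum_replicate]
          exact ⟨_, mul_two _⟩
        have hone : (g.support \ vv.support).card ≤ 1 := by
          rw [Finset.card_le_one]
          intro y hy y' hy'
          simp only [Finset.mem_sdiff, mem_support, not_not] at hy hy'
          obtain ⟨l, rfl⟩ := hc.exists_zpow_eq hy.1 hy'.1
          have h1 : vv ((g ^ l) y) = (g⁻¹ ^ l) y := by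
            rw [← hvvg, conj_zpow]
            simp only [Perm.mul_apply]
            rw [Perm.inv_eq_iff_eq.2 hy.2.symm]
          rw [hy'.2, inv_zpow', zpow_neg, Perm.eq_inv_iff_eq, ← Perm.mul_apply, ← zpow_add] at h1
          have h2 : g ^ (l + l) = 1 := zpow_eq_one_of_apply_eq hc hy.1 h1
          rw [← orderOf_dvd_iff_zpow_eq_one, hc.orderOf, hp] at h2
          have h3' : ((orderOf g : ℕ) : ℤ) ∣ l := by rw [hc.orderOf, hp]; omega
          rw [orderOf_dvd_iff_zpow_eq_one.1 h3', Perm.one_apply]
        have h10 : vv.support.card = 10 := by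
          have h1 := Finset.card_sdiff_add_card_eq_card hsub
          obtain ⟨k, hk⟩ := hodd
          omega
        have hsign := sign_of_sq_eq_one hvv2
        rw [h10, mem_alternatingGroup.1 (hA (v : G).2)] at hsign
        exact absurd hsign (by decide)
    set N := (MonoidHom.transferSylow P hN).ker
    have hcompl : Subgroup.IsComplement' N (P : Subgroup K) :=
      MonoidHom.ker_transferSylow_isComplement' P hN
    have hNp : ¬ 11 ∣ Nat.card N := MonoidHom.not_dvd_card_ker_transferSylow P hN
    have hNbot : N = ⊥ := by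
      by_contra hNne
      have := Perm.isPretransitive_of_isCycle_mem hc hg
      have hFeq : (F : Set α) = ((g.support : Set α))ᶜ := by rw [hF, Finset.coe_compl]
      have hprimK : IsPreprimitive K (SubMulAction.ofFixingSubgroup G (F : Set α)) := by
        have htr : IsPretransitive (fixingSubgroup G (F : Set α))
            (SubMulAction.ofFixingSubgroup G (F : Set α)) := by
          convert this
        have := htr
        apply IsPreprimitive.of_prime_card
        convert (by norm_num : Nat.Prime 11) using 1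
        rw [Nat.card_eq_fintype_card, Fintype.card_subtype, ← hp]
        apply congr_arg
        ext y
        simp [SubMulAction.mem_ofFixingSubgroup_iff, hF]
      obtain ⟨nn, hnn, hnn1⟩ := N.bot_or_exists_ne_one.resolve_left hNne
      have hfx : fixedPoints N (SubMulAction.ofFixingSubgroup G (F : Set α)) ≠ Set.univ := by
        intro huniv
        apply hnn1
        apply Subtype.ext; apply Subtype.ext
        ext y
        by_cases hy : y ∈ F
        · simpa using (hKmem _).1 nn.2 y hy
        · have := huniv.symm.le (Set.mem_univ (⟨y, by simpa [SubMulAction.mem_ofFixingSubgroup_iff] using hy⟩ :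
            SubMulAction.ofFixingSubgroup G (F : Set α))) ⟨nn, hnn⟩
          have h' := congrArg Subtype.val this
          change ((nn : G) : Perm α) y = y at h'
          simpa using h' 
      have htr := IsQuasiPreprimitive.isPretransitive_of_normal (N := N) hfx
      apply hNp
      have hcardX : Nat.card (SubMulAction.ofFixingSubgroup G (F : Set α)) = 11 := by
        rw [Nat.card_eq_fintype_card, Fintype.card_subtype, ← hp]
        apply congr_arg
        ext y
        simp [SubMulAction.mem_ofFixingSubgroup_iff, hF]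
      rw [← hcardX]
      obtain ⟨y0⟩ := (Nat.card_pos_iff.1 (hcardX.symm ▸ (by norm_num : 0 < 11))).1
      rw [← MulAction.index_stabilizer_of_transitive N y0]
      exact Subgroup.index_dvd_card _
    have := hcompl.card_mul
    rw [hNbot, Subgroup.card_bot, one_mul, hPc, Nat.card_zpowers, hgord] at this
    omega
  -- the remaining case `|G| = 1716`
  rw [hKcard] at hGK
  obtain ⟨a, b, hab, habF⟩ := Finset.card_eq_two.1 hFc
  let S : Subgroup G := MulAction.stabilizer G a
  have hS : Nat.card S = 132 := by
    have := S.index_mul_card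
    rw [MulAction.index_stabilizer_of_transitive G a, Nat.card_eq_fintype_card (α := α), hcard,
      hGK] at this
    omega
  let gS : S := ⟨⟨g, hg⟩, by
    have : a ∈ F := by rw [habF]; simp
    change g a = a
    simpa [hF] using this⟩
  have hgSord : orderOf gS = 11 := by
    rw [← Subgroup.orderOf_coe, ← Subgroup.orderOf_coe]
    exact hc.orderOf.trans hp
  have hS11 : (Nat.card S).factorization 11 = 1 := by
    rw [hS]
    refine le_antisymm ?_ ((Nat.Prime.dvd_iff_one_le_factorization (by norm_num) (by norm_num)).1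
      (by norm_num))
    by_contra hlt
    have := (Nat.Prime.pow_dvd_iff_le_factorization (p := 11) (k := 2) (n := 132) (by norm_num)
      (by norm_num)).2 (by omega)
    norm_num at this
  let Q : Sylow 11 S := Sylow.ofCard (Subgroup.zpowers gS) (by rw [Nat.card_zpowers, hgSord, hS11, pow_one])
  have hQc : (Q : Subgroup S) = Subgroup.zpowers gS := rfl
  -- elements of `S` normalising `⟨g⟩` lie in `⟨g⟩`
  have hnorm : ∀ z : S, z * gS * z⁻¹ ∈ Subgroup.zpowers gS → z ∈ Subgroup.zpowers gS := by
    intro z hz
    have hzF : ∀ y ∈ F, ((z : G) : Perm α) y = y := by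
      have hza : ((z : G) : Perm α) a = a := z.2
      intro y hy
      rw [habF, Finset.mem_insert, Finset.mem_singleton] at hy
      rcases hy with rfl | rfl
      · exact hza
      · obtain ⟨l, hl⟩ := hz
        have hb : g y = y := by
          have : y ∈ F := by rw [habF]; simp
          simpa [hF] using this
        have hcg : g (((z : G) : Perm α) y) = ((z : G) : Perm α) y := by
          have h1 := congrArg (fun s : S => ((s : G) : Perm α) (((z : G) : Perm α) y)) hl
          simp only [SubgroupClass.coe_zpow, gS, Subgroup.coe_mul, Subgroup.coe_inv, Perm.mul_apply,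
            Perm.inv_def, Equiv.symm_apply_apply, hb] at h1
          by_contra hne
          have h2 : g ^ l = 1 := zpow_eq_one_of_apply_eq hc hne h1
          have : z * gS * z⁻¹ = 1 := by
            rw [← show gS ^ l = z * gS * z⁻¹ from hl]
            exact Subtype.ext (Subtype.ext (by simpa [gS] using h2))
          rw [conj_eq_one_iff] at this
          rw [this, orderOf_one] at hgSord
          omega
        have hmem : ((z : G) : Perm α) y ∈ F := by simpa [hF] using hcg
        rw [habF, Finset.mem_insert, Finset.mem_singleton] at hmem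
        rcases hmem with h | h
        · exact absurd (((z : G) : Perm α).injective (h.trans hza.symm)) hab.symm
        · exact h
    have hzK : (z : G) ∈ K := (hKmem _).2 hzF
    have htop : Subgroup.zpowers gK = ⊤ :=
      Subgroup.eq_top_of_card_eq _ (by rw [Nat.card_zpowers, hgord, hKcard])
    obtain ⟨l, hl⟩ := htop.symm.le (Subgroup.mem_top (⟨z, hzK⟩ : K))
    exact ⟨l, Subtype.ext (by simpa [gK, gS] using congrArg Subtype.val hl)⟩
  have hQN : Subgroup.normalizer ((Q : Subgroup S) : Set S) ≤
      Subgroup.centralizer ((Q : Subgroup S) : Set S) := by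
    intro z hz
    rw [hQc] at hz ⊢
    obtain ⟨l, rfl⟩ := hnorm z ((Subgroup.mem_normalizer_iff.1 hz gS).1 (Subgroup.mem_zpowers gS))
    rw [Subgroup.mem_centralizer_iff]
    rintro y ⟨j, rfl⟩
    exact (Commute.zpow_zpow_self gS j l).eq
  set N := (MonoidHom.transferSylow Q hQN).ker
  have hcompl : Subgroup.IsComplement' N (Q : Subgroup S) :=
    MonoidHom.ker_transferSylow_isComplement' Q hQN
  have hNcard : Nat.card N = 12 := by
    have := hcompl.card_mul
    rw [hQc, Nat.card_zpowers, hgSord, hS] at this
    omega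
  have hNn : N.Normal := MonoidHom.normal_ker _
  have hNQ : ∀ z ∈ N, z ∈ Subgroup.zpowers gS → z = 1 := fun z hzN hzQ => by
    have := Subgroup.disjoint_def.1 hcompl.disjoint hzN
    exact this (hQc ▸ hzQ)
  obtain ⟨t2, ht2⟩ := exists_prime_orderOf_dvd_card' (G := N) 2 (hp := ⟨Nat.prime_two⟩) (by rw [hNcard]; norm_num)
  obtain ⟨t3, ht3⟩ := exists_prime_orderOf_dvd_card' (G := N) 3 (hp := ⟨Nat.prime_three⟩) (by rw [hNcard]; norm_num)
  have ht2ne : t2 ≠ 1 := fun h => by rw [h, orderOf_one] at ht2; omega
  let f : Fin 11 → {n : N // n ≠ 1} := fun i =>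
    ⟨⟨gS ^ (i : ℕ) * t2 * (gS ^ (i : ℕ))⁻¹, hNn.conj_mem _ t2.2 _⟩, fun h => by
      apply ht2ne
      have := congrArg Subtype.val h
      simp only [Subgroup.coe_one, conj_eq_one_iff] at this
      exact Subtype.ext this⟩
  have hf : Function.Injective f := by
    intro i j hij
    have h1 : gS ^ (i : ℕ) * t2 * (gS ^ (i : ℕ))⁻¹ = gS ^ (j : ℕ) * t2 * (gS ^ (j : ℕ))⁻¹ :=
      congrArg (fun v => ((v.1 : N) : S)) hij
    by_contra hne
    have h2 : Commute ((gS ^ (j : ℕ))⁻¹ * gS ^ (i : ℕ)) (t2 : S) := by
      rw [Commute, SemiconjBy]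
      calc (gS ^ (j : ℕ))⁻¹ * gS ^ (i : ℕ) * t2
          = (gS ^ (j : ℕ))⁻¹ * (gS ^ (i : ℕ) * t2 * (gS ^ (i : ℕ))⁻¹) * gS ^ (i : ℕ) := by group
        _ = t2 * ((gS ^ (j : ℕ))⁻¹ * gS ^ (i : ℕ)) := by rw [h1]; group
    have hgen : Commute gS (t2 : S) := by
      have hmem : gS ∈ Subgroup.zpowers ((gS ^ (j : ℕ))⁻¹ * gS ^ (i : ℕ)) := by
        set c := (gS ^ (j : ℕ))⁻¹ * gS ^ (i : ℕ) with hc'
        have hle : Subgroup.zpowers c ≤ Subgroup.zpowers gS := Subgroup.zpowers_le.2
          (Subgroup.mul_mem _ (Subgroup.inv_mem _ (Subgroup.pow_mem _ (Subgroup.mem_zpowers _) _))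
            (Subgroup.pow_mem _ (Subgroup.mem_zpowers _) _))
        have hcne : c ≠ 1 := fun h => hne (by
          rw [hc', inv_mul_eq_one, pow_eq_pow_iff_modEq, hgSord] at h
          exact Fin.ext (Nat.ModEq.eq_of_lt_of_lt h.symm i.2 j.2))
        have hcord : orderOf c = 11 := by
          have hdvd : orderOf c ∣ 11 := hgSord ▸ orderOf_dvd_of_mem_zpowers (hle (Subgroup.mem_zpowers c))
          exact ((Nat.dvd_prime (by norm_num)).1 hdvd).resolve_left (by rwa [orderOf_eq_one_iff])
        rw [Subgroup.eq_of_le_of_card_ge hle (by rw [Nat.card_zpowers, Nat.card_zpowers, hgSord, hcord])]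
        exact Subgroup.mem_zpowers gS
      obtain ⟨l, hl⟩ := hmem
      rw [← hl]; exact h2.zpow_left l
    refine ht2ne (Subtype.ext (hNQ _ t2.2 (hnorm _ ?_)))
    rw [hgen.symm.eq]; simp
  have hsurj : Function.Surjective f := by
    refine (hf.bijective_of_nat_card_le (le_of_eq ?_)).2
    have h := Nat.card_congr (Equiv.sumCompl fun n : N => n = 1)
    rw [Nat.card_sum, hNcard, Nat.card_eq_fintype_card (α := {n : N // n = 1}),
      Fintype.card_subtype_eq] at h
    change 1 + Nat.card {n : N // n ≠ 1} = 12 at h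
    rw [Nat.card_fin]
    omega
  have ht3ne : t3 ≠ 1 := fun h => by rw [h, orderOf_one] at ht3; omega
  obtain ⟨i, hi⟩ := hsurj ⟨t3, ht3ne⟩
  have h1 : orderOf (t3 : S) = orderOf (t2 : S) := by
    have h2 : gS ^ (i : ℕ) * (t2 : S) * (gS ^ (i : ℕ))⁻¹ = t3 :=
      congrArg (fun v => ((v.1 : N) : S)) hi
    rw [← h2]
    exact MulEquiv.orderOf_eq (MulAut.conj (gS ^ (i : ℕ))) t2
  rw [Subgroup.orderOf_coe, Subgroup.orderOf_coe, ht2, ht3] at h1
  omega

end Thirteen

end CfsgLib.AltGen
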