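import Mathlib.NumberTheory.Bertrand
import Mathlib.Tactic.NormNum.Prime

/-!
# Three primes between `n` and `2 n` for `n ≥ 9` (Erdős' argument)
-/

namespace CfsgLib.PrimeTriple

open Nat Finset

/-- The bound on the central binomial coefficient when `(n, 2n]` has at most two primes. -/
theorem centralBinom_le (n : ℕ) (hn : 2 < n)
    (hT : ((Finset.Ioc n (2 * n)).filter Nat.Prime).card ≤ 2) :
    centralBinom n ≤ (2 * n) ^ (Nat.sqrt (2 * n) + 2) * 4 ^ (2 * n / 3) := by
  set f : ℕ → ℕ := fun p => p ^ (centralBinom n).factorization p with hf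
  have h1 : ∀ p, f p ≤ 2 * n := fun p => pow_factorization_choose_le (by omega)
  have hone : ∀ p, ¬ p.Prime → f p = 1 := fun p hp => by
    simp [f, Nat.factorization_eq_zero_of_not_prime _ hp]
  set S := (Finset.range (2 * n + 1)).filter Nat.Prime with hS
  have hprod : centralBinom n = ∏ p ∈ S, f p := by
    rw [hS, Finset.prod_filter_of_ne fun p _ h => by by_contra hp; exact h (hone p hp)]
    exact (prod_pow_factorization_centralBinom n).symm
  set s := Nat.sqrt (2 * n) with hs
  rw [hprod, ← Finset.prod_filter_mul_prod_filter_not S (· ≤ s)]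
  have hA : ∏ p ∈ S.filter (· ≤ s), f p ≤ (2 * n) ^ s := by
    refine (Finset.prod_le_pow_card _ _ _ fun p _ => h1 p).trans
      (Nat.pow_le_pow_right (by omega) ?_)
    refine (Finset.card_le_card fun p hp => ?_).trans (Nat.card_Icc 1 s).le
    simp only [hS, Finset.mem_filter] at hp
    exact Finset.mem_Icc.2 ⟨hp.1.2.one_lt.le, hp.2⟩
  rw [← Finset.prod_filter_mul_prod_filter_not (S.filter (¬ · ≤ s)) (· ≤ 2 * n / 3)]
  have hB : ∏ p ∈ (S.filter (¬ · ≤ s)).filter (· ≤ 2 * n / 3), f p ≤ 4 ^ (2 * n / 3) := by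
    refine le_trans ?_ (primorial_le_four_pow (2 * n / 3))
    refine (Finset.prod_le_prod' (g := fun p => p) fun p hp => ?_).trans ?_
    · simp only [hS, Finset.mem_filter] at hp
      refine (Nat.pow_le_pow_right hp.1.1.2.pos ?_).trans (pow_one p).le
      exact Nat.factorization_choose_le_one (Nat.sqrt_lt'.mp (not_le.1 hp.1.2))
    refine Finset.prod_le_prod_of_subset_of_one_le' (fun p hp => ?_) fun p hp _ => ?_
    · simp only [hS, Finset.mem_filter] at hp
      exact Finset.mem_filter.2 ⟨Finset.mem_range.2 (by omega), hp.1.1.2⟩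
    · exact (Finset.mem_filter.1 hp).2.one_lt.le
  have hC : ∏ p ∈ (S.filter (¬ · ≤ s)).filter (¬ · ≤ 2 * n / 3), f p ≤ (2 * n) ^ 2 := by
    set U := (S.filter (¬ · ≤ s)).filter (¬ · ≤ 2 * n / 3)
    rw [← Finset.prod_filter_mul_prod_filter_not U (· ≤ n)]
    have : ∏ p ∈ U.filter (· ≤ n), f p = 1 := Finset.prod_eq_one fun p hp => by
      simp only [U, hS, Finset.mem_filter] at hp
      simp [f, factorization_centralBinom_of_two_mul_self_lt_three_mul hn hp.2 (by omega)]
    rw [this, one_mul]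
    refine (Finset.prod_le_pow_card _ _ _ fun p _ => h1 p).trans (Nat.pow_le_pow_right (by omega) ?_)
    refine (Finset.card_le_card fun p hp => ?_).trans hT
    simp only [U, hS, Finset.mem_filter, Finset.mem_range] at hp
    exact Finset.mem_filter.2 ⟨Finset.mem_Ioc.2 ⟨by omega, by omega⟩, hp.1.1.1.2⟩
  calc _ ≤ (2 * n) ^ s * (4 ^ (2 * n / 3) * (2 * n) ^ 2) := Nat.mul_le_mul hA (Nat.mul_le_mul hB hC)
    _ = _ := by ring

theorem mul_add_le_two_pow (b : ℕ) (hb : 7 ≤ b) : 8 * b + 8 ≤ 2 ^ b := by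
  induction b, hb using Nat.le_induction with
  | base => norm_num
  | succ b hb ih => rw [pow_succ]; omega

theorem main_inequality (n : ℕ) (hn : 2048 ≤ n) :
    n * ((2 * n) ^ (Nat.sqrt (2 * n) + 2) * 4 ^ (2 * n / 3)) ≤ 4 ^ n := by
  set s := Nat.sqrt (2 * n) with hs
  have hs64 : 64 ≤ s := Nat.le_sqrt.2 (by omega)
  have hsq : s * s ≤ 2 * n := Nat.sqrt_le _
  have hlt : 2 * n < (s + 1) * (s + 1) := Nat.lt_succ_sqrt _
  set b := s / 8
  have hb : 8 * b + 8 ≤ 2 ^ b := mul_add_le_two_pow b (by omega)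
  have hsb : s + 1 ≤ 2 ^ b := by omega
  have h2n : 2 * n ≤ 4 ^ b := by
    refine hlt.le.trans ((Nat.mul_le_mul hsb hsb).trans (le_of_eq ?_))
    rw [← mul_pow]; norm_num
  have hexp : b * (s + 3) + 2 * n / 3 ≤ n := by
    have h8 : 8 * b ≤ s := Nat.mul_div_le s 8
    have h9 : 8 * b * (s + 3) ≤ s * (s + 3) := Nat.mul_le_mul_right _ h8
    have h10 : 64 * s ≤ s * s := Nat.mul_le_mul_right _ hs64
    have h11 : 3 * (2 * n / 3) ≤ 2 * n := Nat.mul_div_le _ _
    nlinarith
  calc n * ((2 * n) ^ (s + 2) * 4 ^ (2 * n / 3))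
      ≤ 2 * n * ((2 * n) ^ (s + 2) * 4 ^ (2 * n / 3)) := Nat.mul_le_mul_right _ (by omega)
    _ = (2 * n) ^ (s + 3) * 4 ^ (2 * n / 3) := by ring
    _ ≤ (4 ^ b) ^ (s + 3) * 4 ^ (2 * n / 3) :=
        Nat.mul_le_mul_right _ (Nat.pow_le_pow_left h2n _)
    _ = 4 ^ (b * (s + 3) + 2 * n / 3) := by rw [← pow_mul, ← pow_add]
    _ ≤ 4 ^ n := Nat.pow_le_pow_right (by norm_num) hexp

/-- Three primes in `(n, 2 n]`; we only record two at distance at least four. -/
theorem exists_spread_primes (n : ℕ) (hn : 9 ≤ n) :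
    ∃ p q : ℕ, p.Prime ∧ q.Prime ∧ n < p ∧ p + 3 ≤ q ∧ q ≤ 2 * n := by
  rcases lt_or_ge n 2048 with hsmall | hlarge
  · have cover : ∀ a c : ℕ, a.Prime → c.Prime → a + 3 ≤ c → n < a → c ≤ 2 * n →
        ∃ p q : ℕ, p.Prime ∧ q.Prime ∧ n < p ∧ p + 3 ≤ q ∧ q ≤ 2 * n :=
      fun a c ha hc h h1 h2 => ⟨a, c, ha, hc, h1, h, h2⟩
    rcases lt_or_ge n 11 with h | h
    · exact cover 11 17 (by norm_num) (by norm_num) (by norm_num) h (by omega)
    rcases lt_or_ge n 13 with h' | h'
    · exact cover 13 19 (by norm_num) (by norm_num) (by norm_num) h' (by omega)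
    rcases lt_or_ge n 17 with h1 | h1
    · exact cover 17 23 (by norm_num) (by norm_num) (by norm_num) h1 (by omega)
    rcases lt_or_ge n 23 with h2 | h2
    · exact cover 23 31 (by norm_num) (by norm_num) (by norm_num) h2 (by omega)
    rcases lt_or_ge n 37 with h3 | h3
    · exact cover 37 43 (by norm_num) (by norm_num) (by norm_num) h3 (by omega)
    rcases lt_or_ge n 67 with h4 | h4
    · exact cover 67 73 (by norm_num) (by norm_num) (by norm_num) h4 (by omega)
    rcases lt_or_ge n 113 with h5 | h5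
    · exact cover 113 131 (by norm_num) (by norm_num) (by norm_num) h5 (by omega)
    rcases lt_or_ge n 199 with h6 | h6
    · exact cover 199 223 (by norm_num) (by norm_num) (by norm_num) h6 (by omega)
    rcases lt_or_ge n 383 with h7 | h7
    · exact cover 383 397 (by norm_num) (by norm_num) (by norm_num) h7 (by omega)
    rcases lt_or_ge n 751 with h8 | h8
    · exact cover 751 761 (by norm_num) (by norm_num) (by norm_num) h8 (by omega)
    rcases lt_or_ge n 1489 with h9 | h9
    · exact cover 1489 1499 (by norm_num) (by norm_num) (by norm_num) h9 (by omega)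
    exact cover 2963 2971 (by norm_num) (by norm_num) (by norm_num) (by omega) (by omega)
  · have hlow := Nat.four_pow_lt_mul_centralBinom n (by omega)
    have hT : 3 ≤ ((Finset.Ioc n (2 * n)).filter Nat.Prime).card := by
      by_contra hT
      have := (Nat.mul_le_mul_left n (centralBinom_le n (by omega) (by omega))).trans
        (main_inequality n hlarge)
      omega
    set T := (Finset.Ioc n (2 * n)).filter Nat.Prime
    have hne : T.Nonempty := Finset.card_pos.1 (by omega)
    have hmem : ∀ x ∈ T, x.Prime ∧ n < x ∧ x ≤ 2 * n := fun x hx => by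
      simp only [T, Finset.mem_filter, Finset.mem_Ioc] at hx
      exact ⟨hx.2, hx.1⟩
    obtain ⟨hp, hp1, -⟩ := hmem _ (T.min'_mem hne)
    obtain ⟨hq, -, hq2⟩ := hmem _ (T.max'_mem hne)
    refine ⟨T.min' hne, T.max' hne, hp, hq, hp1, ?_, hq2⟩
    by_contra hlt
    have hsub : T ⊆ {T.min' hne, T.min' hne + 2} := fun x hx => by
      have h1 := T.min'_le x hx
      have h2 := T.le_max' x hx
      obtain ⟨hxp, hxn, -⟩ := hmem x hx
      have o1 := hp.eq_two_or_odd
      have o2 := hxp.eq_two_or_odd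
      simp only [Finset.mem_insert, Finset.mem_singleton]
      omega
    have := (Finset.card_le_card hsub).trans Finset.card_le_two
    omega

end CfsgLib.PrimeTriple
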