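import Cfsg.Agent.FGSB.AltGen
import Cfsg.Agent.FGSB.AltThirteen
import Cfsg.Agent.FGSB.PrimeTriple

/-!
# Two elements of large prime order generate an alternating group
-/

set_option autoImplicit false

namespace CfsgLib.AltGen

open Equiv Equiv.Perm MulAction

variable {α : Type*} [Fintype α] [DecidableEq α]

theorem le_of_index_small {G : Subgroup (Perm α)} (hA : G ≤ alternatingGroup α)
    (h5 : 5 ≤ Fintype.card α) {i : ℕ} (hi : Nat.card G * i = Nat.card (alternatingGroup α))
    (hlt : i.factorial < Nat.card (alternatingGroup α)) : alternatingGroup α ≤ G := by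
  have : IsSimpleGroup (alternatingGroup α) :=
    alternatingGroup.isSimpleGroup (by rwa [Nat.card_eq_fintype_card])
  have hidx : (G.subgroupOf (alternatingGroup α)).index = i := by
    have h := (G.subgroupOf (alternatingGroup α)).card_mul_index
    rw [Nat.card_congr (Subgroup.subgroupOfEquivOfLe hA).toEquiv, ← hi] at h
    exact Nat.eq_of_mul_eq_mul_left Nat.card_pos h
  exact Subgroup.subgroupOf_eq_top.1 (eq_top_of_card_gt_factorial _ (by rwa [hidx]))

omit [DecidableEq α] in
theorem card_dvd_of_transitive {G : Subgroup (Perm α)} {k : ℕ}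
    (hk : IsMultiplyPretransitive G α k) (hkc : k ≤ Fintype.card α) :
    ∃ j, Nat.card G * (Fintype.card α - k).factorial = (Fintype.card α).factorial * j := by
  classical
  obtain ⟨s, -, hs⟩ := Finset.exists_subset_card_eq (s := (Finset.univ : Finset α))
    (by rwa [Finset.card_univ] : k ≤ _)
  exact ⟨_, index_mul_card_fixingSubgroup hk (s : Set α) (by rw [Set.ncard_coe_finset, hs])⟩

theorem card_alternating_eq (h : 2 ≤ Fintype.card α) :
    2 * Nat.card (alternatingGroup α) = (Fintype.card α).factorial := by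
  have : Nontrivial α := Fintype.one_lt_card_iff_nontrivial.1 h
  rw [two_mul_nat_card_alternatingGroup, Nat.card_perm, Nat.card_eq_fintype_card]

theorem six {x y : Perm α} (hA : Subgroup.closure {x, y} ≤ alternatingGroup α)
    (hcard : Fintype.card α = 6) (hprim : IsPreprimitive (Subgroup.closure ({x, y} : Set (Perm α))) α)
    (hx : Odd (orderOf x)) (hy : Odd (orderOf y)) (hc : y.IsCycle) (hp : y.support.card = 5) :
    alternatingGroup α ≤ Subgroup.closure {x, y} ∨
      Nonempty (Subgroup.closure ({x, y} : Set (Perm α)) ≃* alternatingGroup (Fin 5)) := by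
  classical
  set G := Subgroup.closure ({x, y} : Set (Perm α)) with hG
  have hyG : y ∈ G := Subgroup.subset_closure (by simp)
  have hxG : x ∈ G := Subgroup.subset_closure (by simp)
  have h2 : IsMultiplyPretransitive G α 2 :=
    Jordan.isMultiplyPretransitive_of_isCycle hprim hyG hc (by rw [hp]; norm_num) 0
      (by rw [hcard, hp])
  obtain ⟨j, hj⟩ := card_dvd_of_transitive h2 (by omega)
  have hA6 := card_alternating_eq (α := α) (by omega)
  rw [hcard, show (6 : ℕ).factorial = 720 from rfl,
    show (6 - 2 : ℕ).factorial = 24 from rfl] at hj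
  rw [hcard, show (6 : ℕ).factorial = 720 from rfl] at hA6
  have hA360 : Nat.card (alternatingGroup α) = 360 := by omega
  have hdvd : Nat.card G ∣ 360 := hA360 ▸ Subgroup.card_dvd_of_le hA
  obtain ⟨i, hi⟩ := hdvd
  have hG30 : Nat.card G = 30 * j := by omega
  have hj0 : 1 ≤ j := by have := Nat.card_pos (α := G); omega
  have hij : j * i = 12 := by
    rw [hG30, mul_assoc] at hi
    exact Nat.eq_of_mul_eq_mul_left (by norm_num : 0 < 30) hi.symm
  by_cases h60 : j = 1
  · exfalso
    refine ne_twice_odd ({⟨x, hxG⟩, ⟨y, hyG⟩} : Set G) ?_ ?_ 15 (by decide) (by omega)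
    · apply Subgroup.map_injective G.subtype_injective
      rw [MonoidHom.map_closure, ← MonoidHom.range_eq_map, Subgroup.range_subtype]
      simp [Set.image_insert_eq, hG]
    · rintro z (rfl | rfl) <;> rwa [← Subgroup.orderOf_coe]
  by_cases h2' : j = 2
  · right
    have hc60 : Nat.card G = 60 := by omega
    have : Fact (Nat.Prime 5) := ⟨by norm_num⟩
    obtain ⟨P⟩ := (inferInstance : Nonempty (Sylow 5 G))
    refine Dickson.OrderSixty.nonempty_mulEquiv hc60 P fun hN => ?_
    have hP5 := Dickson.OrderSixty.card_eq_five hc60 P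
    have hfx : fixedPoints (P : Subgroup G) α ≠ Set.univ := by
      intro huniv
      have hbot : (P : Subgroup G) = ⊥ := by
        rw [eq_bot_iff]
        intro u hu
        rw [Subgroup.mem_bot]
        apply Subtype.ext
        ext z
        have := huniv.symm.le (Set.mem_univ z) ⟨u, hu⟩
        exact this
      rw [hbot, Subgroup.card_bot] at hP5
      omega
    have htr := IsQuasiPreprimitive.isPretransitive_of_normal (N := (P : Subgroup G)) hfx
    obtain ⟨a⟩ : Nonempty α := Fintype.card_pos_iff.1 (by omega)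
    have hd := Subgroup.index_dvd_card (MulAction.stabilizer (P : Subgroup G) a)
    rw [MulAction.index_stabilizer_of_transitive (P : Subgroup G) a, Nat.card_eq_fintype_card,
      hcard, hP5] at hd
    norm_num at hd
  · left
    refine le_of_index_small hA (by omega) (i := i) (by rw [hA360, hi]) ?_
    rw [hA360]
    have : i ≤ 4 := by
      by_contra hgt
      have : 3 * 5 ≤ j * i := Nat.mul_le_mul (by omega) (by omega)
      omega
    exact lt_of_le_of_lt (Nat.factorial_le this) (by norm_num [Nat.factorial])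

theorem seven {x y : Perm α} (hA : Subgroup.closure {x, y} ≤ alternatingGroup α)
    (hcard : Fintype.card α = 7) (hprim : IsPreprimitive (Subgroup.closure ({x, y} : Set (Perm α))) α)
    (hx : Odd (orderOf x)) (hy : Odd (orderOf y)) (hc : x.IsCycle) (hp : x.support.card = 5) :
    alternatingGroup α ≤ Subgroup.closure {x, y} := by
  classical
  set G := Subgroup.closure ({x, y} : Set (Perm α)) with hG
  have hyG : y ∈ G := Subgroup.subset_closure (by simp)
  have hxG : x ∈ G := Subgroup.subset_closure (by simp)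
  have h3 : IsMultiplyPretransitive G α 3 :=
    Jordan.isMultiplyPretransitive_of_isCycle hprim hxG hc (by rw [hp]; norm_num) 1
      (by rw [hcard, hp])
  obtain ⟨j, hj⟩ := card_dvd_of_transitive h3 (by omega)
  have hA7 := card_alternating_eq (α := α) (by omega)
  rw [hcard, show (7 : ℕ).factorial = 5040 from rfl,
    show (7 - 3 : ℕ).factorial = 24 from rfl] at hj
  rw [hcard, show (7 : ℕ).factorial = 5040 from rfl] at hA7
  have hA2520 : Nat.card (alternatingGroup α) = 2520 := by omega
  have hdvd : Nat.card G ∣ 2520 := hA2520 ▸ Subgroup.card_dvd_of_le hA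
  obtain ⟨i, hi⟩ := hdvd
  have hG210 : Nat.card G = 210 * j := by omega
  have hj0 : 1 ≤ j := by have := Nat.card_pos (α := G); omega
  have hij : j * i = 12 := by
    rw [hG210, mul_assoc] at hi
    exact Nat.eq_of_mul_eq_mul_left (by norm_num : 0 < 210) hi.symm
  by_cases h1 : j = 1
  · exfalso
    refine ne_twice_odd ({⟨x, hxG⟩, ⟨y, hyG⟩} : Set G) ?_ ?_ 105 (by decide) (by omega)
    · apply Subgroup.map_injective G.subtype_injective
      rw [MonoidHom.map_closure, ← MonoidHom.range_eq_map, Subgroup.range_subtype]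
      simp [Set.image_insert_eq, hG]
    · rintro z (rfl | rfl) <;> rwa [← Subgroup.orderOf_coe]
  · refine le_of_index_small hA (by omega) (i := i) (by rw [hA2520, hi]) ?_
    rw [hA2520]
    have : i ≤ 6 := by
      by_contra hgt
      have : 2 * 7 ≤ j * i := Nat.mul_le_mul (by omega) (by omega)
      omega
    exact lt_of_le_of_lt (Nat.factorial_le this) (by norm_num [Nat.factorial])

/-- Admissible choices of the two primes for degree `m`. -/
def Admissible (m p q : ℕ) : Prop :=
  p.Prime ∧ q.Prime ∧ m ≤ 2 * p ∧ p < q ∧ q ≤ m ∧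
    ((p = 3 ∧ q = 5) ∨ (p = 5 ∧ q = 7) ∨ (p = 11 ∧ q = 13) ∨
      (p + 3 ≤ q ∧ (m < 2 * p ∨ q + 3 ≤ 2 * p)))

theorem exists_admissible (m : ℕ) (hm : 5 ≤ m) : ∃ p q, Admissible m p q := by
  unfold Admissible
  by_cases h18 : 18 ≤ m
  · obtain ⟨p, q, hp, hq, h1, h2, h3⟩ := PrimeTriple.exists_spread_primes (m / 2) (by omega)
    exact ⟨p, q, hp, hq, by omega, by omega, by omega, .inr (.inr (.inr ⟨h2, .inl (by omega)⟩))⟩
  rcases (show m ≤ 6 ∨ (7 ≤ m ∧ m ≤ 10) ∨ (11 ≤ m ∧ m ≤ 14) ∨ (15 ≤ m ∧ m ≤ 16) ∨ m = 17 by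
    omega) with h | h | h | h | h
  · exact ⟨3, 5, by norm_num, by norm_num, by omega, by omega, by omega, .inl ⟨rfl, rfl⟩⟩
  · exact ⟨5, 7, by norm_num, by norm_num, by omega, by omega, by omega, .inr (.inl ⟨rfl, rfl⟩)⟩
  · exact ⟨7, 11, by norm_num, by norm_num, by omega, by omega, by omega,
      .inr (.inr (.inr ⟨by omega, .inr (by omega)⟩))⟩
  · exact ⟨11, 13, by norm_num, by norm_num, by omega, by omega, by omega,
      .inr (.inr (.inl ⟨rfl, rfl⟩))⟩
  · exact ⟨13, 17, by norm_num, by norm_num, by omega, by omega, by omega,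
      .inr (.inr (.inr ⟨by omega, .inl (by omega)⟩))⟩

theorem odd_of_admissible {m p q : ℕ} (hm : 5 ≤ m) (h : Admissible m p q) :
    Odd p ∧ Odd q := by
  obtain ⟨hp, hq, h1, h2, -, -⟩ := h
  exact ⟨hp.odd_of_ne_two (by omega), hq.odd_of_ne_two (by omega)⟩

/-- The local statement: all points are moved by `x` or `y`. -/
theorem exists_mulEquiv_of_cover {m p q : ℕ} (hm : 5 ≤ m) (hpq : Admissible m p q)
    (hαm : Fintype.card α ≤ m) {x y : Perm α} (hx : orderOf x = p) (hy : orderOf y = q)
    (hcov : ∀ z, y z = z → x z ≠ z) :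
    ∃ d : ℕ, 5 ≤ d ∧
      Nonempty (Subgroup.closure ({x, y} : Set (Perm α)) ≃* alternatingGroup (Fin d)) := by
  classical
  obtain ⟨hpodd, hqodd⟩ := odd_of_admissible hm hpq
  obtain ⟨hp, hq, h2p, hplt, hqm, hcases⟩ := hpq
  set G := Subgroup.closure ({x, y} : Set (Perm α)) with hG
  have hxG : x ∈ G := Subgroup.subset_closure (by simp)
  have hyG : y ∈ G := Subgroup.subset_closure (by simp)
  -- cycle structures
  obtain ⟨k, hk⟩ := cycleType_prime_order (σ := x) (hx.symm ▸ hp)
  obtain ⟨l, hl⟩ := cycleType_prime_order (σ := y) (hy.symm ▸ hq)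
  rw [hx] at hk
  rw [hy] at hl
  have hxs : x.support.card = (k + 1) * p := by
    rw [← sum_cycleType, hk, Multiset.sum_replicate, smul_eq_mul]
  have hys : y.support.card = (l + 1) * q := by
    rw [← sum_cycleType, hl, Multiset.sum_replicate, smul_eq_mul]
  have hxle := hxs ▸ x.support.card_le_univ
  have hyle := hys ▸ y.support.card_le_univ
  have hl0 : l = 0 := by
    by_contra hne
    have : 2 * q ≤ (l + 1) * q := Nat.mul_le_mul_right _ (by omega)
    omega
  subst hl0
  have hk1 : k = 0 ∨ (k = 1 ∧ Fintype.card α = 2 * p ∧ m = 2 * p) := by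
    rcases k with _ | _ | k
    · exact .inl rfl
    · right; refine ⟨rfl, ?_, ?_⟩ <;> omega
    · exfalso
      have : 3 * p ≤ (k + 1 + 1 + 1) * p := Nat.mul_le_mul_right _ (by omega)
      have := hp.two_le
      omega
  rw [zero_add, one_mul] at hys hyle
  have hyc : y.IsCycle := by rw [← card_cycleType_eq_one, hl]; simp
  have hxc : k = 0 → x.IsCycle ∧ x.support.card = p := fun hk0 => by
    subst hk0
    exact ⟨by rw [← card_cycleType_eq_one, hk]; simp, by rw [hxs]; simp⟩
  have htr : IsPretransitive G α :=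
    isPretransitive_of_two hxG hyG hp hx hyc (by omega) hcov
  have hprim : IsPreprimitive G α :=
    isPreprimitive_of_cycle hyG hyc (by rw [hys]; exact hq) (by omega)
  have hA : G ≤ alternatingGroup α := by
    rw [hG, Subgroup.closure_le]
    rintro z (rfl | rfl)
    · exact even_of_odd_orderOf (hx.symm ▸ hpodd)
    · exact even_of_odd_orderOf (hy.symm ▸ hqodd)
  have hq5 : 5 ≤ q := by
    have := hp.two_le
    by_contra hlt
    interval_cases q <;> first | omega | norm_num at hq
  have finish : alternatingGroup α ≤ G → ∃ d : ℕ, 5 ≤ d ∧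
      Nonempty (G ≃* alternatingGroup (Fin d)) := fun h =>
    ⟨Fintype.card α, by omega,
      ⟨(MulEquiv.subgroupCongr (le_antisymm hA h)).trans
        (Equiv.altCongrHom (Fintype.equivFin α))⟩⟩
  have jx : k = 0 → p + 3 ≤ Fintype.card α → alternatingGroup α ≤ G := fun hk0 h =>
    Jordan.alternatingGroup_le_of_isCycle hprim hxG (hxc hk0).1 ((hxc hk0).2.symm ▸ hp)
      (by rw [(hxc hk0).2]; exact h)
  have jy : q + 3 ≤ Fintype.card α → alternatingGroup α ≤ G := fun h =>
    Jordan.alternatingGroup_le_of_isCycle hprim hyG hyc (hys.symm ▸ hq) (by rw [hys]; exact h)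
  rcases hcases with ⟨rfl, rfl⟩ | ⟨rfl, rfl⟩ | ⟨rfl, rfl⟩ | ⟨h3, hd⟩
  · rcases hk1 with hk0 | ⟨-, hc6, -⟩
    · exact finish (alternatingGroup_le_of_isPreprimitive_of_isThreeCycle_mem hprim
        (card_support_eq_three_iff.1 (hxc hk0).2) hxG)
    · rcases six hA hc6 hprim (hx.symm ▸ hpodd) (hy.symm ▸ hqodd) hyc hys with h | h
      · exact finish h
      · exact ⟨5, le_rfl, h⟩
  · rcases hk1 with hk0 | ⟨-, hc10, -⟩
    · rcases (show Fintype.card α = 7 ∨ 5 + 3 ≤ Fintype.card α by omega) with h | h
      · exact finish (seven hA h hprim (hx.symm ▸ hpodd) (hy.symm ▸ hqodd) (hxc hk0).1 (hxc hk0).2)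
      · exact finish (jx hk0 h)
    · exact finish (jy (by omega))
  · rcases hk1 with hk0 | ⟨-, hc22, -⟩
    · rcases (show Fintype.card α = 13 ∨ 11 + 3 ≤ Fintype.card α by omega) with h | h
      · exact finish (thirteen hA h hprim hxG (hxc hk0).1 (hxc hk0).2)
      · exact finish (jx hk0 h)
    · exact finish (jy (by omega))
  · rcases hk1 with hk0 | ⟨-, hc2, hm2⟩
    · exact finish (jx hk0 (by omega))
    · exact finish (jy (by omega))

/-- Two elements of admissible prime orders generate an alternating group. -/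
theorem exists_mulEquiv_closure {m p q : ℕ} (hm : 5 ≤ m) (hpq : Admissible m p q)
    (x y : alternatingGroup (Fin m)) (hx : orderOf x = p) (hy : orderOf y = q) :
    ∃ d : ℕ, 5 ≤ d ∧ Nonempty (Subgroup.closure ({x, y} : Set (alternatingGroup (Fin m))) ≃*
      alternatingGroup (Fin d)) := by
  classical
  set σ : Perm (Fin m) := (x : Perm (Fin m)) with hσ
  set τ : Perm (Fin m) := (y : Perm (Fin m)) with hτ
  let P : Fin m → Prop := fun z => σ z ≠ z ∨ τ z ≠ z
  have key : ∀ f : Perm (Fin m), (∀ z, f z ≠ z → P z) → ∀ z, P (f z) ↔ P z := by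
    intro f hf z
    by_cases h : f z = z
    · rw [h]
    · exact iff_of_true (hf _ fun hc => h (f.injective hc)) (hf _ h)
  have hP1 : ∀ z, σ z ≠ z → P z := fun z h => .inl h
  have hP2 : ∀ z, τ z ≠ z → P z := fun z h => .inr h
  let ι : Perm (Subtype P) →* Perm (Fin m) := ofSubtype
  have hι : Function.Injective ι := ofSubtype_injective
  let σ' : Perm (Subtype P) := subtypePerm σ (key σ hP1)
  let τ' : Perm (Subtype P) := subtypePerm τ (key τ hP2)
  have hσ' : ι σ' = σ := ofSubtype_subtypePerm _ hP1
  have hτ' : ι τ' = τ := ofSubtype_subtypePerm _ hP2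
  obtain ⟨d, hd, ⟨e⟩⟩ := exists_mulEquiv_of_cover (α := Subtype P) hm hpq
    (by simpa using Fintype.card_subtype_le P)
    (x := σ') (y := τ') (by rw [← orderOf_injective ι hι, hσ', hσ, Subgroup.orderOf_coe, hx])
    (by rw [← orderOf_injective ι hι, hτ', hτ, Subgroup.orderOf_coe, hy])
    (fun z h1 h2 => by
      rcases z.2 with h | h
      · exact h (congrArg Subtype.val h2)
      · exact h (congrArg Subtype.val h1))
  have h1 : (Subgroup.closure ({x, y} : Set (alternatingGroup (Fin m)))).map
      (alternatingGroup (Fin m)).subtype = (Subgroup.closure {σ', τ'}).map ι := by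
    rw [MonoidHom.map_closure, MonoidHom.map_closure, Set.image_insert_eq, Set.image_singleton,
      Set.image_insert_eq, Set.image_singleton, hσ', hτ']
    rfl
  exact ⟨d, hd, ⟨(Subgroup.equivMapOfInjective _ _ (Subgroup.subtype_injective _)).trans
    ((MulEquiv.subgroupCongr h1).trans
      ((Subgroup.equivMapOfInjective _ ι hι).symm.trans e))⟩⟩

end CfsgLib.AltGen
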