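import Cfsg.Agent.BlocksB.PrincipalNorm
import Cfsg.Agent.BrauerPairs.CoveredBlock
import Cfsg.Agent.Char.PPrimeKernel
import Cfsg.Agent.Char.Kernel

/-!
# Principal blocks with no invariants of a Sylow subgroup

If the trivial character is the only member of the principal block whose restriction to a Sylow
`p`-subgroup contains the trivial character, the group has a normal `p`-complement. Groups all of
whose principal block characters stay irreducible on a Sylow normalizer have a normal subgroup of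
this kind with index prime to `p`.
-/

set_option autoImplicit false
set_option linter.unusedSectionVars false
set_option linter.style.haveILetI false

namespace CfsgLib.BlockDim

open Cfsg Finset CfsgLib.Block CfsgLib.Block.Chr CfsgLib.Char
open scoped ComplexConjugate

universe u

variable {G : Type u} [Group G] [Fintype G] {M : Ideal AlgInt} [M.IsPrime] {p : ℕ}
  [hp : Fact p.Prime]

/-- The character of the regular projective module of the principal block. -/
noncomputable def regBlock (M : Ideal AlgInt) (G : Type u) [Group G] (g : G) : ℂ :=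
  (Nat.card G : ℂ) * blockCoeff (principalBlock M G) g

theorem regBlock_eq [Fintype (IrrCharacter G)] [DecidablePred (· ∈ principalBlock M G)] (g : G) :
    regBlock M G g =
      ∑ χ ∈ univ.filter (· ∈ principalBlock M G), (χ : G → ℂ) 1 * conj ((χ : G → ℂ) g) := by
  rw [regBlock, blockCoeff_eq_sum, ← mul_assoc,
    mul_inv_cancel₀ (Nat.cast_ne_zero.2 Nat.card_pos.ne'), one_mul]

/-- The values are integers divisible by the order of a Sylow subgroup. -/
theorem exists_int_mul (hM : IsPModular p M) (g : G) :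
    ∃ m : ℤ, regBlock M G g = (m : ℂ) ∧ (p : ℤ) ^ (Nat.card G).factorization p ∣ m := by
  classical
  letI := irrFintype (G := G)
  have hfix : ∀ σ : ℂ ≃+* ℂ, σ (regBlock M G g) = regBlock M G g := by
    intro σ
    set f : IrrCharacter G → IrrCharacter G := fun χ =>
      ⟨fun x => σ ((χ : G → ℂ) x), IsIrrCharacter.map_ringEquiv χ.2 σ⟩
    have hinj : Function.Injective f := fun χ ψ h => Subtype.ext (funext fun x =>
      σ.injective (congrFun (congrArg Subtype.val h) x))
    have hmem : ∀ χ, f χ ∈ principalBlock M G ↔ χ ∈ principalBlock M G := fun χ => by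
      rw [PrincipalNorm.mem_principal_iff hM, PrincipalNorm.mem_principal_iff hM,
        PrincipalNorm.regSum, PrincipalNorm.regSum]
      show (∑ x ∈ _, σ ((χ : G → ℂ) x)) ≠ 0 ↔ _
      rw [← map_sum, ne_eq, EmbeddingLike.map_eq_zero_iff]
    rw [regBlock_eq, map_sum]
    refine sum_bij (fun χ _ => f χ) (fun χ hχ => ?_) (fun a _ b _ h => hinj h) (fun χ hχ => ?_)
      fun χ _ => ?_
    · rw [mem_filter] at hχ ⊢
      exact ⟨mem_univ _, (hmem χ).2 hχ.2⟩
    · obtain ⟨ψ, rfl⟩ := (Finite.injective_iff_surjective.1 hinj) χ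
      rw [mem_filter] at hχ
      exact ⟨ψ, mem_filter.2 ⟨mem_univ _, (hmem ψ).1 hχ.2⟩, rfl⟩
    · rw [map_mul, ← IsIrrCharacter.apply_inv χ.2, ← IsIrrCharacter.apply_inv (f χ).2]
  have hint : IsIntegral ℤ (regBlock M G g) := by
    rw [regBlock_eq]
    refine IsIntegral.sum _ fun χ _ => ?_
    rw [← IsIrrCharacter.apply_inv χ.2]
    exact (IsCharacter.isIntegral (IsIrrCharacter.isCharacter χ.2) 1).mul
      (IsCharacter.isIntegral (IsIrrCharacter.isCharacter χ.2) g⁻¹)
  obtain ⟨m, hm⟩ := exists_int_of_fixed hint hfix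
  refine ⟨m, hm, pow_dvd_of_memLocalRing hM ?_⟩
  have hc := (isIntClass_blockCoeff (M := M) (G := G) isPBlock_principalBlock).2 g
  have hn : ((Nat.card G / p ^ (Nat.card G).factorization p : ℕ) : ℂ) *
      blockCoeff (principalBlock M G) g = (m : ℂ) / (p : ℂ) ^ (Nat.card G).factorization p := by
    rw [← hm, regBlock, eq_div_iff (pow_ne_zero _ (Nat.cast_ne_zero.2 hM.1.ne_zero)),
      mul_right_comm]
    congr 1
    rw [← Nat.cast_pow, ← Nat.cast_mul, Nat.div_mul_cancel (Nat.ordProj_dvd _ _)]
  rw [← hn]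
  exact memLocalRing_mul (memLocalRing_of_isIntegral isIntegral_algebraMap) hc

/-- If only the trivial character of the principal block has an invariant of a Sylow subgroup,
there is a normal `p`-complement. -/
theorem exists_normal_complement (hM : IsPModular p M) (P : Sylow p G) [Fintype (P : Subgroup G)]
    (h : ∀ χ : IrrCharacter G, χ ∈ principalBlock M G →
      classInner (fun x : (P : Subgroup G) => (χ : G → ℂ) x) (fun _ => 1) ≠ 0 → χ = oneIrr G) :
    ∃ K : Subgroup G, K.Normal ∧ ¬ p ∣ Nat.card K ∧ K.index = Nat.card (P : Subgroup G) := by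
  classical
  letI := irrFintype (G := G)
  obtain ⟨B, hBdef⟩ : ∃ B, univ.filter (· ∈ principalBlock M G) = B := ⟨_, rfl⟩
  have hBmem : ∀ χ, χ ∈ B ↔ χ ∈ principalBlock M G := fun χ => by simp [← hBdef]
  have h1B : oneIrr G ∈ B := (hBmem _).2 oneIrr_mem_principalBlock
  have hf : ∀ g : G, regBlock M G g = ∑ χ ∈ B, (χ : G → ℂ) 1 * conj ((χ : G → ℂ) g) :=
    fun g => by rw [regBlock_eq, hBdef]
  have hdeg : ∀ χ : IrrCharacter G, ∃ d : ℕ, (χ : G → ℂ) 1 = (d : ℂ) := fun χ => by
    obtain ⟨d, -, hd⟩ := IsIrrCharacter.exists_degree χ.2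
    exact ⟨d, hd⟩
  choose d hd using hdeg
  -- the value at `1` is `|P|`
  have hP1 : regBlock M G 1 = (Nat.card (P : Subgroup G) : ℂ) := by
    have h1 : ∑ x : (P : Subgroup G), regBlock M G (x : G) = regBlock M G 1 := by
      rw [Finset.sum_eq_single (1 : (P : Subgroup G))]
      · simp
      · intro x _ hx
        rw [regBlock, blockCoeff_eq_zero_of_singular hM isPBlock_principalBlock, mul_zero]
        rw [Subgroup.orderOf_coe]
        obtain ⟨k, hk⟩ := IsPGroup.iff_card.1 P.2
        obtain ⟨j, -, hj⟩ := (Nat.dvd_prime_pow hp.out).1 (hk ▸ orderOf_dvd_natCard x)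
        rw [hj]
        refine dvd_pow_self p fun hj0 => hx (orderOf_eq_one_iff.1 (by rw [hj, hj0, pow_zero]))
      · simp
    rw [← h1]
    simp only [hf]
    rw [Finset.sum_comm, Finset.sum_eq_single (oneIrr G)]
    · simp
    · intro χ hχ hne
      have h2 : classInner (fun x : (P : Subgroup G) => (χ : G → ℂ) x) (fun _ => 1) = 0 :=
        by_contra fun hc => hne (h χ ((hBmem χ).1 hχ) hc)
      rw [classInner_def] at h2
      simp only [map_one, mul_one] at h2
      have h3 := (mul_eq_zero.1 h2).resolve_left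
        (inv_ne_zero (Nat.cast_ne_zero.2 Nat.card_pos.ne'))
      rw [← Finset.mul_sum, ← map_sum, h3, map_zero, mul_zero]
    · exact fun hn => absurd h1B hn
  obtain ⟨a, ha⟩ : ∃ a, (Nat.card G).factorization p = a := ⟨_, rfl⟩
  have hPa : Nat.card (P : Subgroup G) = p ^ a := by rw [P.card_eq_multiplicity, ha]
  choose m hm hdvd using exists_int_mul (G := G) hM
  rw [ha] at hdvd
  have hsq : (∑ χ ∈ B, (d χ : ℂ) * (d χ : ℂ)) = (p ^ a : ℕ) := by
    rw [← hPa, ← hP1, hf]
    exact sum_congr rfl fun χ _ => by rw [hd, Complex.conj_natCast]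
  -- the values have absolute value at most `|P|`
  have hbound : ∀ g, |m g| ≤ (p ^ a : ℕ) := by
    intro g
    have h1 : ‖(m g : ℂ)‖ ≤ ∑ χ ∈ B, (d χ : ℝ) * (d χ : ℝ) := by
      rw [← hm, hf]
      refine (norm_sum_le _ _).trans (sum_le_sum fun χ _ => ?_)
      rw [norm_mul, Complex.norm_conj, hd, Complex.norm_natCast]
      refine mul_le_mul_of_nonneg_left ?_ (Nat.cast_nonneg _)
      have h2 := IsCharacter.norm_apply_le (IsIrrCharacter.isCharacter χ.2) g
      rwa [hd, Complex.natCast_re] at h2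
    have h3 : ∑ χ ∈ B, (d χ : ℝ) * (d χ : ℝ) = ((p ^ a : ℕ) : ℝ) := by
      have h4 := congrArg Complex.re hsq
      rw [Complex.natCast_re, Complex.re_sum] at h4
      rw [← h4]
      exact sum_congr rfl fun χ _ => by simp
    rw [h3, Complex.norm_intCast] at h1
    exact_mod_cast h1
  have hval : ∀ g, m g = 0 ∨ m g = (p ^ a : ℕ) ∨ m g = -((p ^ a : ℕ) : ℤ) := by
    intro g
    obtain ⟨c, hc⟩ := hdvd g
    have hb := hbound g
    rw [hc, abs_mul, abs_of_nonneg (by positivity : (0 : ℤ) ≤ (p : ℤ) ^ a)] at hb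
    push_cast at hb ⊢
    have hc1 : |c| ≤ 1 := le_of_mul_le_mul_left (by simpa using hb)
      (pow_pos (by exact_mod_cast hp.out.pos) a)
    rw [hc]
    rcases abs_le.1 hc1 with ⟨h5, h6⟩
    obtain rfl | rfl | rfl : c = -1 ∨ c = 0 ∨ c = 1 := by omega
    · exact Or.inr (Or.inr (by ring))
    · exact Or.inl (by ring)
    · exact Or.inr (Or.inl (by ring))
  -- first and second moments
  have hsum1 : (∑ g : G, (m g : ℂ)) = Nat.card G := by
    simp only [← hm, hf]
    rw [Finset.sum_comm, Finset.sum_eq_single (oneIrr G)]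
    · simp
    · intro χ _ hne
      have h2 : classInner (χ : G → ℂ) (fun _ => 1) = 0 :=
        IsIrrCharacter.classInner_of_ne χ.2 isIrrCharacter_one fun e =>
          hne (Subtype.ext (show (χ : G → ℂ) = fun _ => 1 from by simpa using e))
      rw [classInner_def] at h2
      simp only [map_one, mul_one] at h2
      have h3 := (mul_eq_zero.1 h2).resolve_left
        (inv_ne_zero (Nat.cast_ne_zero.2 Nat.card_pos.ne'))
      rw [← Finset.mul_sum, ← map_sum, h3, map_zero, mul_zero]
    · exact fun hn => absurd h1B hn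
  have hsum2 : (∑ g : G, (m g : ℂ) * (m g : ℂ)) = Nat.card G * (p ^ a : ℕ) := by
    have h1 : ∀ g, (m g : ℂ) * (m g : ℂ) = ∑ χ ∈ B, ∑ ψ ∈ B,
        (d χ : ℂ) * (d ψ : ℂ) * ((ψ : G → ℂ) g * conj ((χ : G → ℂ) g)) := by
      intro g
      rw [show (m g : ℂ) * (m g : ℂ) = (m g : ℂ) * conj (m g : ℂ) by rw [map_intCast],
        ← hm, hf, map_sum, Finset.sum_mul_sum]
      refine sum_congr rfl fun χ _ => sum_congr rfl fun ψ _ => ?_
      rw [hd, hd, map_mul, Complex.conj_natCast, Complex.conj_conj]
      ring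
    simp only [h1]
    rw [Finset.sum_comm, ← hsq, Finset.mul_sum]
    refine sum_congr rfl fun χ hχ => ?_
    rw [Finset.sum_comm, Finset.sum_eq_single χ]
    · rw [← Finset.mul_sum]
      have h2 := IsIrrCharacter.classInner_self χ.2
      rw [classInner_def, inv_mul_eq_iff_eq_mul₀ (Nat.cast_ne_zero.2 Nat.card_pos.ne'),
        mul_one] at h2
      rw [h2]; ring
    · intro ψ _ hne
      have h2 := IsIrrCharacter.classInner_of_ne ψ.2 χ.2 fun e => hne (Subtype.ext (by simpa using e))
      rw [classInner_def] at h2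
      rw [← Finset.mul_sum, (mul_eq_zero.1 h2).resolve_left
        (inv_ne_zero (Nat.cast_ne_zero.2 Nat.card_pos.ne')), mul_zero]
    · exact fun hn => absurd hχ hn
  have hZ1 : ∑ g : G, m g = (Nat.card G : ℤ) := by exact_mod_cast hsum1
  have hZ2 : ∑ g : G, m g * m g = (Nat.card G : ℤ) * (p ^ a : ℕ) := by exact_mod_cast hsum2
  have hpos : ∀ g, m g = 0 ∨ m g = (p ^ a : ℕ) := by
    intro g
    have hnn : ∀ x, 0 ≤ m x * m x - (p ^ a : ℕ) * m x := fun x => by
      rcases hval x with h1 | h1 | h1 <;> rw [h1] <;> ring_nf <;> positivity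
    have h0 : ∑ x : G, (m x * m x - (p ^ a : ℕ) * m x) = 0 := by
      rw [sum_sub_distrib, ← Finset.mul_sum, hZ1, hZ2]; ring
    have h1 := (Finset.sum_eq_zero_iff_of_nonneg fun x _ => hnn x).1 h0 g (mem_univ _)
    rw [← sub_mul] at h1
    exact (mul_eq_zero.1 h1).symm.imp id sub_eq_zero.1
  -- the kernel of the block
  obtain ⟨K, hK⟩ : ∃ K : Subgroup G,
      (⨅ χ : B, kerSubgroup (IsIrrCharacter.isCharacter χ.1.2)) = K := ⟨_, rfl⟩
  haveI hKn : K.Normal := hK ▸ Subgroup.normal_iInf_normal fun _ => kerSubgroup_normal _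
  have hKmem : ∀ g, g ∈ K ↔ m g = (p ^ a : ℕ) := by
    intro g
    rw [← hK, Subgroup.mem_iInf]
    have hre : (m g : ℝ) = ∑ χ ∈ B, (d χ : ℝ) * ((χ : G → ℂ) g).re := by
      have h4 := congrArg Complex.re ((hm g).symm.trans (hf g))
      rw [Complex.re_sum, Complex.intCast_re] at h4
      rw [h4]
      exact sum_congr rfl fun χ _ => by simp [hd]
    have hnn : ∀ χ : IrrCharacter G, ((χ : G → ℂ) g).re ≤ (d χ : ℝ) := fun χ => by
      have h2 := IsCharacter.norm_apply_le (IsIrrCharacter.isCharacter χ.2) g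
      rw [hd, Complex.natCast_re] at h2
      exact (Complex.re_le_norm _).trans h2
    have hS : ∑ χ ∈ B, (d χ : ℝ) * (d χ : ℝ) = ((p ^ a : ℕ) : ℝ) := by
      have h4 := congrArg Complex.re hsq
      rw [Complex.natCast_re, Complex.re_sum] at h4
      rw [← h4]
      exact sum_congr rfl fun χ _ => by simp
    constructor
    · intro hk
      have h1 : (m g : ℝ) = ((p ^ a : ℕ) : ℝ) := by
        rw [hre, ← hS]
        refine sum_congr rfl fun χ hχ => ?_
        rw [(mem_kerSubgroup _ _).1 (hk ⟨χ, hχ⟩), hd, Complex.natCast_re]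
      exact_mod_cast h1
    · rintro hk ⟨χ, hχ⟩
      rw [mem_kerSubgroup, hd]
      have h0 : ∑ χ ∈ B, (d χ : ℝ) * ((d χ : ℝ) - ((χ : G → ℂ) g).re) = 0 := by
        simp only [mul_sub]
        rw [sum_sub_distrib, hS, ← hre, hk]
        simp
      have h1 := (Finset.sum_eq_zero_iff_of_nonneg fun x _ =>
        mul_nonneg (Nat.cast_nonneg _) (sub_nonneg.2 (hnn x))).1 h0 χ hχ
      have hd0 : (d χ : ℝ) ≠ 0 := fun e => irr_one_ne_zero χ (by
        rw [hd]; exact_mod_cast e)
      have h2 := sub_eq_zero.1 ((mul_eq_zero.1 h1).resolve_left hd0)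
      have h3 := IsCharacter.norm_apply_le (IsIrrCharacter.isCharacter χ.2) g
      rw [hd, Complex.natCast_re, h2] at h3
      have h4 := Complex.re_eq_norm.1 (le_antisymm (Complex.re_le_norm _) h3)
      obtain ⟨h4a, h4b⟩ := Complex.nonneg_iff.1 h4
      exact Complex.ext (by simpa using h2.symm) (by simpa using h4b.symm)
  have hcard : (Nat.card K : ℤ) * (p ^ a : ℕ) = Nat.card G := by
    rw [← hZ1, ← Finset.sum_filter_ne_zero,
      show univ.filter (fun g => m g ≠ 0) = univ.filter (· ∈ K) from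
        filter_congr fun g _ => by
          rw [hKmem]
          exact ⟨fun h1 => (hpos g).resolve_left h1, fun h1 => by
            rw [h1]; exact_mod_cast pow_ne_zero a hp.out.ne_zero⟩,
      sum_congr rfl fun g hg => (hKmem g).1 (mem_filter.1 hg).2, sum_const, nsmul_eq_mul,
      Nat.card_eq_fintype_card (α := K), Fintype.card_subtype]
  have hcard' : Nat.card K * p ^ a = Nat.card G := by exact_mod_cast hcard
  refine ⟨K, hKn, ?_, ?_⟩
  · intro hd
    refine Nat.not_dvd_ordCompl hp.out (Nat.card_pos (α := G)).ne' ?_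
    rw [ha]
    exact hd.trans (dvd_of_eq (Nat.eq_div_of_mul_eq_left (pow_ne_zero _ hp.out.ne_zero) hcard'))
  · have h1 := K.card_mul_index
    rw [hPa]
    exact Nat.eq_of_mul_eq_mul_left Nat.card_pos (h1.trans hcard'.symm)

/-- If the characters of the principal block stay irreducible on the normalizer of a Sylow
subgroup `P`, then some normal subgroup of index prime to `p` has a normal `p`-complement. -/
theorem exists_series (hM : IsPModular p M) (P : Sylow p G)
    (h : ∀ χ : IrrCharacter G, χ ∈ principalBlock M G →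
      IsIrrCharacter ↥(Subgroup.normalizer ((P : Subgroup G) : Set G))
        (fun n : ↥(Subgroup.normalizer ((P : Subgroup G) : Set G)) => (χ : G → ℂ) n)) :
    ∃ H K : Subgroup G, H.Normal ∧ K.Normal ∧ K ≤ H ∧ ¬ p ∣ H.index ∧ ¬ p ∣ Nat.card K ∧
      K.relIndex H = Nat.card (P : Subgroup G) := by
  classical
  obtain ⟨H, hH⟩ : ∃ H, Subgroup.normalClosure ((P : Subgroup G) : Set G) = H := ⟨_, rfl⟩
  haveI : H.Normal := hH ▸ Subgroup.normalClosure_normal
  have hPH : (P : Subgroup G) ≤ H := hH ▸ Subgroup.subset_normalClosure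
  have hidx : ¬ p ∣ H.index := fun hd => P.not_dvd_index (hd.trans (Subgroup.index_dvd_of_le hPH))
  haveI := Fintype.ofFinite H
  obtain ⟨P', hP'⟩ : ∃ P' : Sylow p H, (P' : Subgroup H) = (P : Subgroup G).subgroupOf H :=
    ⟨P.subtype hPH, rfl⟩
  haveI := Fintype.ofFinite (P : Subgroup G)
  haveI := Fintype.ofFinite (P' : Subgroup H)
  obtain ⟨N, hN⟩ : ∃ N, Subgroup.normalizer ((P : Subgroup G) : Set G) = N := ⟨_, rfl⟩
  rw [hN] at h
  have hPN : (P : Subgroup G) ≤ N := hN ▸ Subgroup.le_normalizer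
  haveI := Fintype.ofFinite N
  haveI : ((P : Subgroup G).subgroupOf N).Normal :=
    (Subgroup.normal_subgroupOf_iff_le_normalizer hPN).2 (hN ▸ le_rfl)
  haveI := Fintype.ofFinite ((P : Subgroup G).subgroupOf N)
  have hkey : ∀ θ : IrrCharacter H, θ ∈ principalBlock M H →
      classInner (fun x : (P' : Subgroup H) => (θ : H → ℂ) x) (fun _ => 1) ≠ 0 →
      θ = oneIrr H := by
    intro θ hθ hθP
    obtain ⟨χ, hχ, hc⟩ := BrauerPairs.exists_over_of_covers hM isPBlock_principalBlock
      isPBlock_principalBlock oneIrr_mem_principalBlock oneIrr_mem_principalBlock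
      (by
        show classInner (fun _ : H => (1 : ℂ)) (fun _ => 1) ≠ 0
        rw [IsIrrCharacter.classInner_self isIrrCharacter_one]; exact one_ne_zero) hθ
    have hres : classInner (fun x : (P : Subgroup G) => (χ : G → ℂ) x) (fun _ => 1) ≠ 0 := by
      have h2 := PPrimeKernel.classInner_restrict_trans (P' : Subgroup H)
        (IsCharacter.restrict (IsIrrCharacter.isCharacter χ.2) H) θ.2
        (isCharacter_one (G := (P' : Subgroup H))) hc hθP
      let e : (P' : Subgroup H) ≃* (P : Subgroup G) :=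
        (MulEquiv.subgroupCongr hP').trans (Subgroup.subgroupOfEquivOfLe hPH)
      intro h0
      apply h2
      rw [← h0]
      exact classInner_comp_mulEquiv e (fun x : (P : Subgroup G) => (χ : G → ℂ) x) fun _ => 1
    -- `P` lies in the kernel of `χ`
    have hker : ∀ x ∈ (P : Subgroup G), (χ : G → ℂ) x = (χ : G → ℂ) 1 := by
      intro x hx
      have hχN := h χ hχ
      have h1 : classInner (fun n : (P : Subgroup G).subgroupOf N => (χ : G → ℂ) (n : N))
          (fun _ => 1) ≠ 0 := by
        intro h0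
        apply hres
        rw [← h0, ← classInner_pullBack hPN (fun x : (P : Subgroup G) => (χ : G → ℂ) x) fun _ => 1]
        rfl
      have horb : conjOrbit (G := N) (fun _ : (P : Subgroup G).subgroupOf N => (1 : ℂ)) =
          {fun _ => 1} := Finset.eq_singleton_iff_unique_mem.2 ⟨self_mem_conjOrbit _, fun f hf => by
            obtain ⟨g, rfl⟩ := mem_conjOrbit.1 hf; rfl⟩
      have h2 := restrict_eq_smul_sum hχN isIrrCharacter_one h1
      rw [horb, Finset.sum_singleton] at h2
      have h3 := congrFun h2 ⟨⟨x, hPN hx⟩, hx⟩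
      have h4 := congrFun h2 1
      simp only [Pi.smul_apply, smul_eq_mul, mul_one] at h3 h4
      exact (h3.trans h4.symm).trans (by simp)
    have hHker : H ≤ kerSubgroup (IsIrrCharacter.isCharacter χ.2) := by
      rw [← hH]
      haveI := kerSubgroup_normal (IsIrrCharacter.isCharacter χ.2)
      exact Subgroup.normalClosure_le_normal fun x hx => (mem_kerSubgroup _ _).2 (hker x hx)
    have hθ1 : ∀ y : H, (θ : H → ℂ) y = (θ : H → ℂ) 1 := fun y =>
      PPrimeKernel.constituent_apply_eq (IsCharacter.restrict (IsIrrCharacter.isCharacter χ.2) H)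
        θ.2 hc ((mem_kerSubgroup _ _).1 (hHker y.2))
    by_contra hne
    have h5 := IsIrrCharacter.classInner_of_ne θ.2 (oneIrr H).2 fun e => hne (Subtype.ext (by simpa using e))
    rw [classInner_def] at h5
    simp only [oneIrr_apply, map_one, mul_one, hθ1, sum_const, nsmul_eq_mul] at h5
    rcases mul_eq_zero.1 h5 with h6 | h6
    · exact inv_ne_zero (Nat.cast_ne_zero.2 Nat.card_pos.ne') h6
    · rcases mul_eq_zero.1 h6 with h7 | h7
      · exact Nat.cast_ne_zero.2 Finset.univ_nonempty.card_pos.ne' h7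
      · exact irr_one_ne_zero θ h7
  obtain ⟨K', hK'n, hK'p, hK'i⟩ := exists_normal_complement hM P' hkey
  have hK'c : K'.Characteristic := by
    refine Subgroup.characteristic_iff_map_le.2 fun φ x hx => ?_
    obtain ⟨y, hy, rfl⟩ := hx
    obtain ⟨b, hb⟩ := IsPGroup.iff_card.1 P'.2
    rw [← QuotientGroup.eq_one_iff]
    refine orderOf_eq_one_iff.1 (Nat.eq_one_of_dvd_coprimes
      ((hp.out.coprime_iff_not_dvd.2 hK'p).pow_left b).symm ?_ ?_)
    · exact (orderOf_map_dvd (QuotientGroup.mk' K') _).trans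
        ((orderOf_map_dvd φ.toMonoidHom y).trans (Subgroup.orderOf_dvd_natCard _ hy))
    · rw [← hb, ← hK'i, Subgroup.index_eq_card]; exact orderOf_dvd_natCard _
  refine ⟨H, K'.map H.subtype, inferInstance, ConjAct.normal_of_characteristic_of_normal,
    Subgroup.map_subtype_le _, hidx, ?_, ?_⟩
  · rwa [Subgroup.card_map_of_injective H.subtype_injective]
  · rw [Subgroup.relIndex, ← Subgroup.comap_subtype,
      Subgroup.comap_map_eq_self_of_injective H.subtype_injective, hK'i, hP']
    exact Nat.card_congr (Subgroup.subgroupOfEquivOfLe hPH).toEquiv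

end CfsgLib.BlockDim
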