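import Cfsg.Prelude.Def_KGroupFacts
import Mathlib.GroupTheory.Schreier
import Mathlib.GroupTheory.FreeGroup.Basic
import Mathlib.GroupTheory.Finiteness
import Mathlib.LinearAlgebra.FreeModule.PID
import Mathlib.RingTheory.PrincipalIdealDomain
import Mathlib.Algebra.EuclideanDomain.Int
import Mathlib.Algebra.Module.Projective
import Mathlib.LinearAlgebra.Finsupp.VectorSpace
import Mathlib.Tactic.Group
import Mathlib.GroupTheory.NoncommCoprod

/-!
The multiplier maps onto `ker ⊓ commutator` of any finite central extension.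
-/

set_option autoImplicit false
set_option linter.unusedSectionVars false
set_option linter.style.haveILetI false

namespace CfsgLib.CentralExtMult

open Subgroup
open scoped commutatorElement

universe u v w

theorem exists_surjection {Q : Type u} [Group Q] [Finite Q] {A : Type w} [CommGroup A]
    (hA : Cfsg.HasSchurMultiplier Q A) {E : Type v} [Group E] [Finite E] (σ : E →* Q)
    (hs : Function.Surjective σ) (hc : σ.ker ≤ center E) :
    ∃ π : A →* ↥(σ.ker ⊓ commutator E), Function.Surjective π := by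
  classical
  obtain ⟨n, ⟨en⟩⟩ := Finite.exists_equiv_fin E
  let φ : FreeGroup (Fin n) →* E := FreeGroup.lift en.symm
  have hφ : Function.Surjective φ := fun x => ⟨FreeGroup.of (en x), by simp [φ]⟩
  set R := (σ.comp φ).ker with hR
  obtain ⟨K, hK⟩ : ∃ K : Subgroup (FreeGroup (Fin n)), K = ⁅(⊤ : Subgroup (FreeGroup (Fin n))), R⁆ := ⟨_, rfl⟩
  haveI hKn : K.Normal := hK ▸ inferInstance
  have hKR : K ≤ R := hK ▸ commutator_le_right ⊤ R
  let p := QuotientGroup.mk' K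
  have hp : Function.Surjective p := QuotientGroup.mk'_surjective K
  obtain ⟨T, hT⟩ : ∃ T : Subgroup (FreeGroup (Fin n) ⧸ K), T = R.map p := ⟨_, rfl⟩
  haveI hTn : T.Normal := hT ▸ Subgroup.Normal.map inferInstance p hp
  have hTc : T ≤ center (FreeGroup (Fin n) ⧸ K) := by
    rw [hT]
    rintro _ ⟨r, hr, rfl⟩
    rw [mem_center_iff]
    intro x
    obtain ⟨f, rfl⟩ := hp x
    rw [← commutatorElement_eq_one_iff_mul_comm, ← map_commutatorElement]
    exact (QuotientGroup.eq_one_iff _).2 (hK ▸ commutator_mem_commutator (mem_top f) hr)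
  haveI hTf : T.FiniteIndex := by
    haveI : R.FiniteIndex := ⟨by rw [hR, index_ker]; exact Nat.card_pos.ne'⟩
    refine ⟨?_⟩
    rw [hT, index_map_eq R hp (by rwa [QuotientGroup.ker_mk'])]
    exact FiniteIndex.index_ne_zero
  haveI : Finite (commutatorSet (FreeGroup (Fin n) ⧸ K)) := by
    haveI : Finite ((FreeGroup (Fin n) ⧸ K) ⧸ T) := Subgroup.finite_quotient_of_finiteIndex
    refine Finite.of_surjective (fun q : ((FreeGroup (Fin n) ⧸ K) ⧸ T) × ((FreeGroup (Fin n) ⧸ K) ⧸ T) =>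
      (⟨⁅q.1.out, q.2.out⁆, commutator_mem_commutatorSet _ _⟩ : commutatorSet (FreeGroup (Fin n) ⧸ K))) ?_
    rintro ⟨_, a, b, rfl⟩
    refine ⟨((a : (FreeGroup (Fin n) ⧸ K) ⧸ T), (b : (FreeGroup (Fin n) ⧸ K) ⧸ T)), Subtype.ext ?_⟩
    obtain ⟨⟨z, hz⟩, hz'⟩ := QuotientGroup.mk_out_eq_mul T a
    obtain ⟨⟨y, hy⟩, hy'⟩ := QuotientGroup.mk_out_eq_mul T b
    show ⁅(a : (FreeGroup (Fin n) ⧸ K) ⧸ T).out, (b : (FreeGroup (Fin n) ⧸ K) ⧸ T).out⁆ = ⁅a, b⁆
    rw [hz', hy']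
    have hzc : ∀ t, t * z = z * t := fun t => mem_center_iff.1 (hTc hz) t
    have hyc : ∀ t, t * y = y * t := fun t => mem_center_iff.1 (hTc hy) t
    simp only [commutatorElement_def]
    calc a * z * (b * y) * (a * z)⁻¹ * (b * y)⁻¹
        = a * ((z * (b * y)) * z⁻¹) * a⁻¹ * y⁻¹ * b⁻¹ := by group
      _ = a * ((b * y * z) * z⁻¹) * a⁻¹ * y⁻¹ * b⁻¹ := by rw [← hzc (b * y)]
      _ = a * b * (y * a⁻¹) * y⁻¹ * b⁻¹ := by group
      _ = a * b * (a⁻¹ * y) * y⁻¹ * b⁻¹ := by rw [← hyc a⁻¹]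
      _ = a * b * a⁻¹ * b⁻¹ := by group
  obtain ⟨D, hD⟩ : ∃ D : Subgroup (FreeGroup (Fin n) ⧸ K), D = commutator _ := ⟨_, rfl⟩
  haveI : Finite D := hD ▸ inferInstance
  -- the exponent map
  let ab : FreeGroup (Fin n) →* Multiplicative (Fin n → ℤ) :=
    FreeGroup.lift fun i => Multiplicative.ofAdd (Pi.single i 1)
  let abK : FreeGroup (Fin n) ⧸ K →* Multiplicative (Fin n → ℤ) := QuotientGroup.lift K ab (by
    rw [hK]
    exact (commutator_mono le_rfl le_top).trans (by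
      rw [← _root_.commutator_def]; exact Abelianization.commutator_subset_ker ab))
  have hker : ∀ x, abK x = 1 → x ∈ D := by
    intro x hx
    obtain ⟨f, rfl⟩ := hp x
    let g : (Fin n → ℤ) →+ Additive (Abelianization (FreeGroup (Fin n))) :=
      { toFun := fun v => ∑ i, v i • Additive.ofMul (Abelianization.of (FreeGroup.of i))
        map_zero' := by simp
        map_add' := fun u v => by simp [add_smul, Finset.sum_add_distrib] }
    have heq : (AddMonoidHom.toMultiplicativeLeft g).comp ab = Abelianization.of := by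
      refine FreeGroup.ext_hom _ _ fun i => ?_
      show (g (ab (FreeGroup.of i)).toAdd).toMul = _
      simp [g, ab, Pi.single_apply, ite_smul]
    have h1 : Abelianization.of f = 1 := by
      rw [← heq, MonoidHom.comp_apply, show ab f = 1 from hx, map_one]
    have h2 : f ∈ commutator (FreeGroup (Fin n)) := (QuotientGroup.eq_one_iff f).1 h1
    rw [hD, _root_.commutator_def, ← map_top_of_surjective p hp, ← map_commutator, ← _root_.commutator_def]
    exact ⟨f, h2, rfl⟩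
  -- a free complement of the finite part of `T`
  letI : CommGroup T := { (inferInstance : Group T) with
    mul_comm := fun a b => Subtype.ext (mem_center_iff.1 (hTc b.2) a) }
  let f : Additive T →ₗ[ℤ] (Fin n → ℤ) :=
    (MonoidHom.toAdditiveLeft (abK.comp T.subtype)).toIntLinearMap
  obtain ⟨s, hs'⟩ := Module.projective_lifting_property f.rangeRestrict LinearMap.id f.surjective_rangeRestrict
  let C : Subgroup (FreeGroup (Fin n) ⧸ K) :=
    { carrier := {x | ∃ v, ((s v).toMul : FreeGroup (Fin n) ⧸ K) = x}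
      mul_mem' := by
        rintro _ _ ⟨a, rfl⟩ ⟨b, rfl⟩
        exact ⟨a + b, by rw [map_add]; rfl⟩
      one_mem' := ⟨0, by rw [map_zero]; rfl⟩
      inv_mem' := by
        rintro _ ⟨a, rfl⟩
        exact ⟨-a, by rw [map_neg]; rfl⟩ }
  have hCT : C ≤ T := by rintro _ ⟨v, rfl⟩; exact (s v).toMul.2
  haveI hCn : C.Normal := ⟨fun x hx g => by
    rwa [mem_center_iff.1 (hTc (hCT hx)) g, mul_inv_cancel_right]⟩
  have hCD : ∀ x ∈ C, x ∈ D → x = 1 := by
    rintro _ ⟨v, rfl⟩ hv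
    have h2 : abK ((s v).toMul : FreeGroup (Fin n) ⧸ K) = 1 :=
      (Abelianization.commutator_subset_ker abK) (hD ▸ hv)
    have h3 : v = 0 := by
      rw [← show f.rangeRestrict (s v) = v from LinearMap.congr_fun hs' v]
      exact Subtype.ext (congrArg Multiplicative.toAdd h2)
    rw [h3, map_zero]; rfl
  have hsplit : ∀ t ∈ T, ∃ c ∈ C, ∃ d ∈ T ⊓ D, t = c * d := by
    intro t ht
    obtain ⟨v, hv⟩ : ∃ v, v = f.rangeRestrict (Additive.ofMul ⟨t, ht⟩) := ⟨_, rfl⟩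
    have hc' : ((s v).toMul : FreeGroup (Fin n) ⧸ K) ∈ C := ⟨v, rfl⟩
    have hmem' : ((s v).toMul : FreeGroup (Fin n) ⧸ K)⁻¹ * t ∈ T := mul_mem (inv_mem (hCT hc')) ht
    refine ⟨_, hc', _, ⟨hmem', hker _ ?_⟩, (mul_inv_cancel_left _ t).symm⟩
    have h1 : f (s v) = f (Additive.ofMul ⟨t, ht⟩) := congrArg Subtype.val
      ((show f.rangeRestrict (s v) = v from LinearMap.congr_fun hs' v).trans hv)
    rw [map_mul, map_inv]
    apply Multiplicative.toAdd.injective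
    show -f (s v) + f (Additive.ofMul ⟨t, ht⟩) = 0
    rw [h1, neg_add_cancel]
  -- the finite stem extension
  let q := QuotientGroup.mk' C
  have hq : Function.Surjective q := QuotientGroup.mk'_surjective C
  have hfin : Finite ((FreeGroup (Fin n) ⧸ K) ⧸ C) := by
    haveI : Finite ((FreeGroup (Fin n) ⧸ K) ⧸ T) := Subgroup.finite_quotient_of_finiteIndex
    refine Finite.of_surjective (fun x : ((FreeGroup (Fin n) ⧸ K) ⧸ T) × D => q (x.1.out * x.2)) ?_
    intro y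
    obtain ⟨a, rfl⟩ := hq y
    obtain ⟨c, hc', d, hd, hcd⟩ := hsplit _ (QuotientGroup.eq.1 (QuotientGroup.out_eq' (a : (FreeGroup (Fin n) ⧸ K) ⧸ T)))
    refine ⟨((a : (FreeGroup (Fin n) ⧸ K) ⧸ T), ⟨d, hd.2⟩), ?_⟩
    show q ((a : (FreeGroup (Fin n) ⧸ K) ⧸ T).out * d) = q a
    have : a = (a : (FreeGroup (Fin n) ⧸ K) ⧸ T).out * (c * d) := by rw [← hcd, mul_inv_cancel_left]
    conv_rhs => rw [this]
    rw [map_mul, map_mul, map_mul, show q c = 1 from (QuotientGroup.eq_one_iff c).2 hc', one_mul]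
  let σK : FreeGroup (Fin n) ⧸ K →* Q := QuotientGroup.lift K (σ.comp φ) hKR
  have hσK : ∀ x, σK x = 1 ↔ x ∈ T := by
    intro x
    obtain ⟨g, rfl⟩ := hp x
    refine ⟨fun h => hT ▸ mem_map_of_mem p h, fun h => ?_⟩
    rw [hT] at h
    obtain ⟨r, hr, hre⟩ := h
    show σK (p g) = 1
    rw [← hre]; exact hr
  let σ₁ : (FreeGroup (Fin n) ⧸ K) ⧸ C →* Q :=
    QuotientGroup.lift C σK fun x hx => (hσK x).2 (hCT hx)
  let e : ULift.{u} ((FreeGroup (Fin n) ⧸ K) ⧸ C) ≃* (FreeGroup (Fin n) ⧸ K) ⧸ C := MulEquiv.ulift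
  let σ₀ : ULift.{u} ((FreeGroup (Fin n) ⧸ K) ⧸ C) →* Q := σ₁.comp e.toMonoidHom
  have hmem : ∀ y : ULift.{u} ((FreeGroup (Fin n) ⧸ K) ⧸ C), y ∈ σ₀.ker →
      ∃ d ∈ T ⊓ D, q d = e y := by
    intro y hy
    obtain ⟨x, hx⟩ := hq (e y)
    have hxT : x ∈ T := (hσK x).1 (by
      rw [MonoidHom.mem_ker] at hy
      rw [← hy]
      show σ₁ (q x) = σ₁ (e y)
      rw [hx])
    obtain ⟨c, hc', d, hd, hcd⟩ := hsplit x hxT
    exact ⟨d, hd, by rw [← hx, hcd, map_mul, show q c = 1 from (QuotientGroup.eq_one_iff c).2 hc', one_mul]⟩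
  have hstem : Cfsg.IsStemExtension σ₀ := by
    refine ⟨?_, ?_, ?_⟩
    · intro x
      obtain ⟨y, rfl⟩ := hs x
      obtain ⟨g, rfl⟩ := hφ y
      exact ⟨e.symm (q (p g)), rfl⟩
    · intro y hy
      obtain ⟨d, hd, hde⟩ := hmem y hy
      rw [mem_center_iff]
      intro z
      apply e.injective
      rw [map_mul, map_mul, ← hde]
      obtain ⟨b, hb⟩ := hq (e z)
      rw [← hb, ← map_mul, ← map_mul, mem_center_iff.1 (hTc hd.1) b]
    · intro y hy
      obtain ⟨d, hd, hde⟩ := hmem y hy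
      have h1 : y ∈ (commutator (FreeGroup (Fin n) ⧸ K)).map (e.symm.toMonoidHom.comp q) :=
        ⟨d, hD ▸ hd.2, by show e.symm (q d) = y; rw [hde, e.symm_apply_apply]⟩
      rw [_root_.commutator_def, map_commutator] at h1
      rw [_root_.commutator_def]
      exact commutator_mono le_top le_top h1
  obtain ⟨π₀, hπ₀⟩ := hA.2 _ σ₀ hstem
  -- the map onto the given kernel
  have hKφ : K ≤ φ.ker := by
    rw [hK, Subgroup.commutator_le]
    intro g _ r hr
    rw [MonoidHom.mem_ker, map_commutatorElement, commutatorElement_eq_one_iff_mul_comm]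
    exact mem_center_iff.1 (hc hr) _
  let ψ : FreeGroup (Fin n) ⧸ K →* E := QuotientGroup.lift K φ hKφ
  let j : ↥(T ⊓ D) →* σ₀.ker := MonoidHom.mk' (fun d => ⟨e.symm (q d), MonoidHom.mem_ker.2 (by
      show σ₁ (e (e.symm (q (d : FreeGroup (Fin n) ⧸ K)))) = 1
      rw [e.apply_symm_apply]
      exact (hσK _).2 d.2.1)⟩) fun a b => Subtype.ext (by simp)
  have hj : Function.Bijective j := by
    refine ⟨(injective_iff_map_eq_one j).2 fun d hd => Subtype.ext (hCD _ ?_ d.2.2), ?_⟩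
    · have := congrArg (fun t : σ₀.ker => e (t : ULift.{u} ((FreeGroup (Fin n) ⧸ K) ⧸ C))) hd
      simp [j] at this
      exact (QuotientGroup.eq_one_iff (d : FreeGroup (Fin n) ⧸ K)).1 this
    · rintro ⟨y, hy⟩
      obtain ⟨d, hd, hde⟩ := hmem y hy
      exact ⟨⟨d, hd⟩, Subtype.ext (by show e.symm (q d) = y; rw [hde, e.symm_apply_apply])⟩
  have hψD : ∀ x ∈ D, ψ x ∈ commutator E := by
    intro x hx
    have : ψ x ∈ (commutator (FreeGroup (Fin n) ⧸ K)).map ψ := mem_map_of_mem ψ (hD ▸ hx)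
    rw [_root_.commutator_def, map_commutator] at this
    rw [_root_.commutator_def]
    exact commutator_mono le_top le_top this
  let k : ↥(T ⊓ D) →* ↥(σ.ker ⊓ commutator E) := MonoidHom.mk' (fun d => ⟨ψ d, by
      refine ⟨?_, hψD _ d.2.2⟩
      have := (hσK _).2 d.2.1
      obtain ⟨g, hg⟩ := hp (d : FreeGroup (Fin n) ⧸ K)
      rw [← hg] at this ⊢
      exact this⟩) fun a b => Subtype.ext (by simp)
  have hk : Function.Surjective k := by
    rintro ⟨z, hz1, hz2⟩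
    have hmap : (commutator (FreeGroup (Fin n))).map φ = commutator E := by
      rw [_root_.commutator_def, _root_.commutator_def, map_commutator, map_top_of_surjective _ hφ]
    obtain ⟨g, hg, rfl⟩ := hmap.ge hz2
    refine ⟨⟨p g, ⟨(hσK _).1 hz1, ?_⟩⟩, rfl⟩
    rw [hD, _root_.commutator_def, ← map_top_of_surjective p hp, ← map_commutator, ← _root_.commutator_def]
    exact ⟨g, hg, rfl⟩
  refine ⟨k.comp ((MulEquiv.ofBijective j hj).symm.toMonoidHom.comp π₀), ?_⟩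
  rw [MonoidHom.coe_comp, MonoidHom.coe_comp]
  exact hk.comp ((MulEquiv.ofBijective j hj).symm.surjective.comp hπ₀)

/-- Commutators between the two factors of a central extension of a product are killed by coprimality. -/
theorem product {Q₁ : Type u} {Q₂ : Type v} [Group Q₁] [Group Q₂] [Finite Q₁] [Finite Q₂]
    {A B : Type w} [CommGroup A] [CommGroup B]
    (hA : Cfsg.HasSchurMultiplier Q₁ A) (hB : Cfsg.HasSchurMultiplier Q₂ B)
    (hcop : Nat.Coprime (Nat.card (Abelianization Q₁)) (Nat.card (Abelianization Q₂))) :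
    Cfsg.HasSchurMultiplier (Q₁ × Q₂) (A × B) := by
  classical
  obtain ⟨⟨G₁, _, _, s₁, ⟨hs1, hc1, hd1⟩, ⟨e₁⟩⟩, -⟩ := id hA
  obtain ⟨⟨G₂, _, _, s₂, ⟨hs2, hc2, hd2⟩, ⟨e₂⟩⟩, -⟩ := id hB
  refine ⟨⟨G₁ × G₂, inferInstance, inferInstance, s₁.prodMap s₂, ⟨?_, ?_, ?_⟩, ⟨?_⟩⟩, ?_⟩
  · intro x
    obtain ⟨a, ha⟩ := hs1 x.1
    obtain ⟨b, hb⟩ := hs2 x.2
    exact ⟨(a, b), Prod.ext ha hb⟩
  · rintro ⟨a, b⟩ h
    rw [MonoidHom.mem_ker] at h
    rw [mem_center_iff]
    rintro ⟨x, y⟩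
    exact Prod.ext (mem_center_iff.1 (hc1 (congrArg Prod.fst h)) x)
      (mem_center_iff.1 (hc2 (congrArg Prod.snd h)) y)
  · rintro ⟨a, b⟩ h
    rw [MonoidHom.mem_ker] at h
    rw [_root_.commutator_def, ← top_prod_top, commutator_prod_prod]
    exact ⟨by rw [← _root_.commutator_def]; exact hd1 (congrArg Prod.fst h),
      by rw [← _root_.commutator_def]; exact hd2 (congrArg Prod.snd h)⟩
  · exact ((MulEquiv.subgroupCongr (MonoidHom.ker_prodMap s₁ s₂)).trans
      (Subgroup.prodEquiv _ _)).trans (e₁.prodCongr e₂)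
  intro Γ _ _ σ ⟨hs, hc, hd⟩
  let X₁ : Subgroup Γ := ((MonoidHom.snd Q₁ Q₂).comp σ).ker
  let X₂ : Subgroup Γ := ((MonoidHom.fst Q₁ Q₂).comp σ).ker
  let r₁ : X₁ →* Q₁ := ((MonoidHom.fst Q₁ Q₂).comp σ).comp X₁.subtype
  let r₂ : X₂ →* Q₂ := ((MonoidHom.snd Q₁ Q₂).comp σ).comp X₂.subtype
  have hr₁ : Function.Surjective r₁ := fun x => by
    obtain ⟨g, hg⟩ := hs (x, 1)
    exact ⟨⟨g, show (σ g).2 = 1 by rw [hg]⟩, show (σ g).1 = x by rw [hg]⟩
  have hr₂ : Function.Surjective r₂ := fun x => by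
    obtain ⟨g, hg⟩ := hs (1, x)
    exact ⟨⟨g, show (σ g).1 = 1 by rw [hg]⟩, show (σ g).2 = x by rw [hg]⟩
  have hk₁ : ∀ x : X₁, x ∈ r₁.ker ↔ (x : Γ) ∈ σ.ker := fun x => by
    refine ⟨fun h => ?_, fun h => ?_⟩
    · exact Prod.ext h x.2
    · exact congrArg Prod.fst (show σ (x : Γ) = 1 from h)
  have hk₂ : ∀ x : X₂, x ∈ r₂.ker ↔ (x : Γ) ∈ σ.ker := fun x => by
    refine ⟨fun h => ?_, fun h => ?_⟩
    · exact Prod.ext x.2 h
    · exact congrArg Prod.snd (show σ (x : Γ) = 1 from h)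
  have hkc₁ : r₁.ker ≤ center X₁ := fun x hx =>
    mem_center_iff.2 fun y => Subtype.ext (mem_center_iff.1 (hc ((hk₁ x).1 hx)) y)
  have hkc₂ : r₂.ker ≤ center X₂ := fun x hx =>
    mem_center_iff.2 fun y => Subtype.ext (mem_center_iff.1 (hc ((hk₂ x).1 hx)) y)
  have hbr : ∀ (x : X₁) (y : X₂), ⁅(x : Γ), (y : Γ)⁆ ∈ σ.ker := by
    intro x y
    rw [MonoidHom.mem_ker, map_commutatorElement, commutatorElement_eq_one_iff_mul_comm]
    have hx : (σ (x : Γ)).2 = 1 := x.2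
    have hy : (σ (y : Γ)).1 = 1 := y.2
    exact Prod.ext (by simp [hy]) (by simp [hx])
  have hbc : ∀ (x : X₁) (y : X₂) (t : Γ), t * ⁅(x : Γ), (y : Γ)⁆ = ⁅(x : Γ), (y : Γ)⁆ * t :=
    fun x y t => mem_center_iff.1 (hc (hbr x y)) t
  letI : CommGroup σ.ker := { (inferInstance : Group σ.ker) with
    mul_comm := fun a b => Subtype.ext (mem_center_iff.1 (hc b.2) a) }
  have key₁ : ∀ (x : X₁) (y : X₂), ⁅(x : Γ), (y : Γ)⁆ ^ Nat.card (Abelianization Q₁) = 1 := by
    intro x y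
    let b : X₁ →* σ.ker := MonoidHom.mk' (fun x => ⟨⁅(x : Γ), (y : Γ)⁆, hbr x y⟩) fun s t => by
      apply Subtype.ext
      show ⁅(s : Γ) * t, (y : Γ)⁆ = ⁅(s : Γ), (y : Γ)⁆ * ⁅(t : Γ), (y : Γ)⁆
      have : ⁅(s : Γ) * t, (y : Γ)⁆ = s * ⁅(t : Γ), (y : Γ)⁆ * (s : Γ)⁻¹ * ⁅(s : Γ), (y : Γ)⁆ := by
        simp only [commutatorElement_def]; group
      rw [this, hbc t y s, mul_inv_cancel_right]
      exact (hbc t y _).symm
    have hb : r₁.ker ≤ b.ker := fun z hz => Subtype.ext (commutatorElement_eq_one_iff_mul_comm.2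
      (mem_center_iff.1 (hc ((hk₁ z).1 hz)) y).symm)
    let b' : Q₁ →* σ.ker := (r₁.liftOfSurjective hr₁) ⟨b, hb⟩
    have hb' : b' (r₁ x) = b x := MonoidHom.liftOfRightInverse_comp_apply _ _ _ _ x
    have h : b' (r₁ x) ^ Nat.card (Abelianization Q₁) = 1 := by
      rw [← Abelianization.lift_apply_of b' (r₁ x), ← map_pow, pow_card_eq_one', map_one]
    rw [hb'] at h
    exact congrArg Subtype.val h
  have key₂ : ∀ (x : X₁) (y : X₂), ⁅(x : Γ), (y : Γ)⁆ ^ Nat.card (Abelianization Q₂) = 1 := by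
    intro x y
    let b : X₂ →* σ.ker := MonoidHom.mk' (fun y => ⟨⁅(x : Γ), (y : Γ)⁆, hbr x y⟩) fun s t => by
      apply Subtype.ext
      show ⁅(x : Γ), (s : Γ) * t⁆ = ⁅(x : Γ), (s : Γ)⁆ * ⁅(x : Γ), (t : Γ)⁆
      have : ⁅(x : Γ), (s : Γ) * t⁆ = ⁅(x : Γ), (s : Γ)⁆ * (s * ⁅(x : Γ), (t : Γ)⁆ * (s : Γ)⁻¹) := by
        simp only [commutatorElement_def]; group
      rw [this, hbc x t s, mul_inv_cancel_right]
    have hb : r₂.ker ≤ b.ker := fun z hz => Subtype.ext (commutatorElement_eq_one_iff_mul_comm.2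
      (mem_center_iff.1 (hc ((hk₂ z).1 hz)) x))
    let b' : Q₂ →* σ.ker := (r₂.liftOfSurjective hr₂) ⟨b, hb⟩
    have hb' : b' (r₂ y) = b y := MonoidHom.liftOfRightInverse_comp_apply _ _ _ _ y
    have h : b' (r₂ y) ^ Nat.card (Abelianization Q₂) = 1 := by
      rw [← Abelianization.lift_apply_of b' (r₂ y), ← map_pow, pow_card_eq_one', map_one]
    rw [hb'] at h
    exact congrArg Subtype.val h
  have hcomm : ∀ (x : X₁) (y : X₂), Commute (x : Γ) y := by
    intro x y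
    refine commutatorElement_eq_one_iff_mul_comm.1 ?_
    have h := pow_gcd_eq_one.2 ⟨key₁ x y, key₂ x y⟩
    rwa [hcop.gcd_eq_one, pow_one] at h
  obtain ⟨π₁, hπ₁⟩ := exists_surjection hA r₁ hr₁ hkc₁
  obtain ⟨π₂, hπ₂⟩ := exists_surjection hB r₂ hr₂ hkc₂
  let i₁ : A →* σ.ker := MonoidHom.mk' (fun a => ⟨((π₁ a : X₁) : Γ), (hk₁ _).1 (π₁ a).2.1⟩)
    fun a b => Subtype.ext (by simp)
  let i₂ : B →* σ.ker := MonoidHom.mk' (fun a => ⟨((π₂ a : X₂) : Γ), (hk₂ _).1 (π₂ a).2.1⟩)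
    fun a b => Subtype.ext (by simp)
  refine ⟨i₁.coprod i₂, ?_⟩
  rintro ⟨z, hz⟩
  -- the derived group is the product of the two derived groups
  let m : X₁ × X₂ →* Γ := MonoidHom.noncommCoprod X₁.subtype X₂.subtype hcomm
  have hm : Function.Surjective m := by
    intro g
    obtain ⟨x, hx⟩ := hr₁ (σ g).1
    refine ⟨(x, ⟨(x : Γ)⁻¹ * g, ?_⟩), mul_inv_cancel_left _ _⟩
    show (σ ((x : Γ)⁻¹ * g)).1 = 1
    rw [map_mul, map_inv, Prod.fst_mul, Prod.fst_inv, show (σ (x : Γ)).1 = (σ g).1 from hx, inv_mul_cancel]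
  have hmap : (commutator (X₁ × X₂)).map m = commutator Γ := by
    rw [_root_.commutator_def, _root_.commutator_def, map_commutator, map_top_of_surjective _ hm]
  obtain ⟨⟨a, b⟩, hab, habz⟩ := hmap.ge (hd hz)
  rw [_root_.commutator_def, ← top_prod_top, commutator_prod_prod] at hab
  have habz' : (a : Γ) * (b : Γ) = z := habz
  have hσ : σ (a : Γ) * σ (b : Γ) = 1 := by rw [← map_mul, habz']; exact hz
  have ha : a ∈ r₁.ker := by
    have h := congrArg Prod.fst hσ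
    rw [Prod.fst_mul, show (σ (b : Γ)).1 = 1 from b.2, mul_one] at h
    exact h
  have hb : b ∈ r₂.ker := by
    have h := congrArg Prod.snd hσ
    rw [Prod.snd_mul, show (σ (a : Γ)).2 = 1 from a.2, one_mul] at h
    exact h
  obtain ⟨u, hu⟩ := hπ₁ ⟨a, ha, by rw [_root_.commutator_def]; exact hab.1⟩
  obtain ⟨v, hv⟩ := hπ₂ ⟨b, hb, by rw [_root_.commutator_def]; exact hab.2⟩
  refine ⟨(u, v), Subtype.ext ?_⟩
  show ((π₁ u : X₁) : Γ) * ((π₂ v : X₂) : Γ) = z
  rw [hu, hv]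
  exact habz'

end CfsgLib.CentralExtMult
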