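import Cfsg.Agent.Coprime.Sylow
import Mathlib.GroupTheory.Sylow
import Mathlib.GroupTheory.Solvable
import Mathlib.Tactic

/-!
# The product of the fixed point orders of the elements of a `p`-group acting coprimely
-/

set_option autoImplicit false
set_option linter.unusedSectionVars false
set_option linter.style.haveILetI false

namespace CfsgLib.CoprimeFixedProd

open CfsgLib.Coprime

/-- The fixed points of one element. -/
def fix {A : Type*} [Group A] (V : Type*) [Group V] [MulDistribMulAction A V] (a : A) : Subgroup V where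
  carrier := {v | a • v = v}
  one_mem' := smul_one a
  mul_mem' {x y} hx hy := show a • (x * y) = x * y by
    rw [smul_mul', show a • x = x from hx, show a • y = y from hy]
  inv_mem' {x} hx := show a • x⁻¹ = x⁻¹ by rw [smul_inv', show a • x = x from hx]

theorem mem_fix {A V : Type*} [Group A] [Group V] [MulDistribMulAction A V] {a : A} {v : V} :
    v ∈ fix V a ↔ a • v = v := Iff.rfl

theorem mem_fix_iff_zpowers {A V : Type*} [Group A] [Group V] [MulDistribMulAction A V] {a : A} {v : V} :
    v ∈ fix V a ↔ ∀ b ∈ Subgroup.zpowers a, b • v = v := by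
  refine ⟨fun h b hb => ?_, fun h => h a (Subgroup.mem_zpowers a)⟩
  have : Subgroup.zpowers a ≤ MulAction.stabilizer A v := Subgroup.zpowers_le.2 h
  exact this hb

/-- Fixed points multiply along an invariant normal subgroup. -/
theorem card_fixed_split {A V : Type*} [Group A] [Finite A] [Group V] [Finite V] [MulDistribMulAction A V]
    [Group.IsSolvable A] (hcop : (Nat.card A).Coprime (Nat.card V)) (K : Subgroup V) [K.Normal]
    (hK : IsInvariant A K) :
    Nat.card (FixedPoints.subgroup A V) = Nat.card ↥(FixedPoints.subgroup A V ⊓ K) *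
      Nat.card {x : V ⧸ K // ∃ c : V, (c : V ⧸ K) = x ∧ ∀ a : A, a • c = c} := by
  set C := FixedPoints.subgroup A V
  let g : C →* V ⧸ K := (QuotientGroup.mk' K).comp C.subtype
  rw [← g.ker.card_mul_index, Subgroup.index_ker]
  congr 1
  · refine Nat.card_congr
      { toFun := fun x => ⟨x.1.1, x.1.2, (QuotientGroup.eq_one_iff _).1 x.2⟩
        invFun := fun x => ⟨⟨x.1, x.2.1⟩, (QuotientGroup.eq_one_iff x.1).2 x.2.2⟩
        left_inv := fun x => rfl
        right_inv := fun x => rfl }
  · refine Nat.card_congr (Equiv.subtypeEquivRight fun x => ?_)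
    constructor
    · rintro ⟨c, rfl⟩
      exact ⟨c.1, rfl, c.2⟩
    · rintro ⟨c, rfl, hc⟩
      exact ⟨⟨c, hc⟩, rfl⟩

/-- An invariant `q`-subgroup lies in an invariant Sylow subgroup. -/
theorem exists_invariant_sylow_over {A V : Type*} [Group A] [Finite A] [Group.IsSolvable A] [Group V] [Finite V]
    [MulDistribMulAction A V] {q : ℕ} [Fact q.Prime] (hcop : (Nat.card A).Coprime (Nat.card V))
    (T : Subgroup V) (hT : IsPGroup q T) (hTi : IsInvariant A T) :
    ∃ U : Sylow q V, T ≤ U ∧ IsInvariant A (U : Subgroup V) := by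
  obtain ⟨U, hTU, hmax⟩ := Finite.exists_le_maximal (p := fun U : Subgroup V => IsPGroup q U ∧ IsInvariant A U) ⟨hT, hTi⟩
  obtain ⟨hU, hUi⟩ := hmax.prop
  set M := Subgroup.normalizer (U : Set V) with hM
  letI : MulDistribMulAction A M :=
    { smul := fun b x => ⟨b • (x : V), by
        refine Subgroup.mem_normalizer_iff.2 fun y => ?_
        rw [show b • (x : V) * y * (b • (x : V))⁻¹ = b • ((x : V) * (b⁻¹ • y) * (x : V)⁻¹) by simp [smul_mul', smul_inv']]
        rw [smul_subgroup_mem_iff hUi, ← Subgroup.mem_normalizer_iff.1 x.2, smul_subgroup_mem_iff hUi]⟩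
      one_smul := fun x => Subtype.ext (one_smul A (x : V))
      mul_smul := fun a b x => Subtype.ext (mul_smul a b (x : V))
      smul_one := fun a => Subtype.ext (smul_one a)
      smul_mul := fun a x y => Subtype.ext (smul_mul' a (x : V) (y : V)) }
  obtain ⟨R, hR⟩ := exists_invariant_sylow (A := A) (G := M)
    (hcop.coprime_dvd_right (Subgroup.card_subgroup_dvd_card _)) q
  have hUR : U ≤ (R : Subgroup M).map M.subtype := by
    intro x hx
    haveI : (Subgroup.comap M.subtype U).Normal := Subgroup.normal_subgroupOf_of_le_normalizer (le_of_eq hM)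
    have h1 : U.subgroupOf M ≤ R :=
      le_sup_left.trans (le_of_eq (R.3 ((hU.comap_of_injective M.subtype M.subtype_injective).to_sup_of_normal_left R.2) le_sup_right))
    exact ⟨⟨x, Subgroup.le_normalizer hx⟩, h1 hx, rfl⟩
  have hRU : (R : Subgroup M).map M.subtype = U := le_antisymm (hmax.le_of_ge ⟨R.2.map _, fun a _ ⟨x, hx, e⟩ => ⟨a • x, hR a x hx, by rw [← e]; rfl⟩⟩ hUR) hUR
  obtain ⟨U', hUU'⟩ := hU.exists_le_sylow
  have heq : (U' : Subgroup V) = U := by
    by_contra hne
    have hlt : U.subgroupOf U' < ⊤ := lt_top_iff_ne_top.2 fun h => hne (le_antisymm (Subgroup.subgroupOf_eq_top.1 h) hUU')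
    haveI := U'.2.isNilpotent
    obtain ⟨x, hxN, hxU⟩ := SetLike.exists_of_lt (Group.normalizerCondition_of_isNilpotent _ hlt)
    have hxM : (x : V) ∈ M := by
      refine Subgroup.mem_normalizer_iff.2 fun y => ⟨fun hy => ?_, fun hy => ?_⟩
      · exact (Subgroup.mem_normalizer_iff.1 hxN ⟨y, hUU' hy⟩).1 hy
      · have hyU' : y ∈ (U' : Subgroup V) := by
          have := mul_mem (mul_mem (inv_mem x.2) (hUU' hy)) x.2
          simpa [mul_assoc] using this
        exact (Subgroup.mem_normalizer_iff.1 hxN ⟨y, hyU'⟩).2 hy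
    set W := M ⊓ (U' : Subgroup V)
    have hW : W.subgroupOf M = R := by
      refine R.3 ((U'.2.to_le inf_le_right).comap_of_injective M.subtype M.subtype_injective) fun r hr => ?_
      have : (r : V) ∈ U := hRU ▸ ⟨r, hr, rfl⟩
      exact ⟨r.2, hUU' this⟩
    refine hxU (show (x : V) ∈ U from hRU ▸ ⟨⟨x, hxM⟩, hW ▸ ⟨hxM, x.2⟩, rfl⟩)
  exact ⟨U', heq ▸ hTU, heq ▸ hUi⟩

section

variable {p q : ℕ} [hp : Fact p.Prime]

/-- The statement. -/
def Bound (p : ℕ) (A V : Type*) [Group A] [Fintype A] [Group V] [MulDistribMulAction A V] : Prop :=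
  (∏ a : A, Nat.card (fix V a)) ^ p ∣
    Nat.card V ^ Fintype.card A * Nat.card (FixedPoints.subgroup A V) ^ ((p - 1) * Fintype.card A)

theorem coset_dvd {A V : Type*} [Group A] [Finite A] [CommGroup V] [Finite V] [MulDistribMulAction A V]
    (hA : IsPGroup p A) (hcop : p.Coprime (Nat.card V)) {z : A} (hz : z ^ p = 1)
    (hzc : ∀ a, Commute z a) (hfix : fix V z = ⊥) (a : A) :
    ∏ j ∈ Finset.range p, Nat.card (fix V (z ^ j * a)) ∣ Nat.card V := by
  classical
  let W := ∀ j : Fin p, fix V (z ^ (j : ℕ) * a)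
  let φ : W →* V :=
    { toFun := fun w => ∏ j : Fin p, (w j : V)
      map_one' := Finset.prod_eq_one fun j _ => rfl
      map_mul' := fun w w' => by
        rw [← Finset.prod_mul_distrib]
        exact Finset.prod_congr rfl fun j _ => rfl }
  have hφ : Function.Injective φ := by
    rw [injective_iff_map_eq_one]
    intro w hw
    funext i
    obtain ⟨k, hk⟩ := hA (z ^ (i : ℕ) * a)
    set b := z ^ (i : ℕ) * a
    set s := p ^ (k + 1)
    have hbs : b ^ s = 1 := by rw [show s = p ^ k * p from pow_succ p k, pow_mul, hk, one_pow]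
    let N : V → V := fun v => ∏ t ∈ Finset.range s, b ^ t • v
    have hN : N (φ w) = ∏ j : Fin p, N (w j : V) := by
      simp only [N, φ, MonoidHom.coe_mk, OneHom.coe_mk, Finset.smul_prod']
      exact Finset.prod_comm
    have hother : ∀ j : Fin p, j ≠ i → N (w j : V) = 1 := by
      intro j hj
      set v := (w j : V)
      have hv : (z ^ (j : ℕ) * a) • v = v := (w j).2
      -- the element acts on `v` as a nontrivial power of `z`
      obtain ⟨d, hd, hdb⟩ : ∃ d : ℕ, ¬ p ∣ d ∧ b = z ^ d * (z ^ (j : ℕ) * a) := by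
        refine ⟨(i : ℕ) + (p - j), fun hdvd => hj ?_, ?_⟩
        · refine Fin.ext ?_
          have hi := i.2
          have hj' := j.2
          obtain ⟨c, hc⟩ := hdvd
          rcases c with _ | _ | c
          · omega
          · omega
          · have : p * 2 ≤ p * (c + 1 + 1) := Nat.mul_le_mul_left p (by omega)
            omega
        · rw [← mul_assoc, ← pow_add, show (i : ℕ) + (p - j) + j = i + p by have := j.2; omega, pow_add, hz, mul_one]
      have hstep : ∀ t : ℕ, b ^ t • v = z ^ (d * t) • v := by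
        intro t
        have hcom : Commute (z ^ d) (z ^ (j : ℕ) * a) := ((Commute.refl z).pow_pow d j).mul_right ((hzc a).pow_left d)
        have : (z ^ (j : ℕ) * a) ^ t • v = v := by
          induction t with
          | zero => simp
          | succ t ih => rw [pow_succ, mul_smul, hv, ih]
        rw [hdb, hcom.mul_pow, mul_smul, this, ← pow_mul]
      have h1 : N v ∈ fix V (z ^ d) := by
        show z ^ d • N v = N v
        simp only [N, hstep, Finset.smul_prod', ← mul_smul, ← pow_add]
        have e1 : ∏ t ∈ Finset.range (s + 1), z ^ (d * t) • v =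
            (∏ t ∈ Finset.range s, z ^ (d + d * t) • v) * v := by
          rw [Finset.prod_range_succ']
          simp [mul_add, add_comm]
        have e2 : ∏ t ∈ Finset.range (s + 1), z ^ (d * t) • v = (∏ t ∈ Finset.range s, z ^ (d * t) • v) * v := by
          rw [Finset.prod_range_succ, show d * s = p * (d * p ^ k) by simp only [s]; ring, pow_mul, hz, one_pow, one_smul]
        exact mul_right_cancel (e1.symm.trans e2)
      have h2 : fix V (z ^ d) ≤ fix V z := by
        intro u hu
        obtain ⟨m, -, hm⟩ := Nat.exists_mul_mod_eq_one_of_coprime (hp.out.coprime_iff_not_dvd.2 hd).symm hp.out.one_lt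
        refine (mem_fix_iff_zpowers.1 hu) z ?_
        refine ⟨m, ?_⟩
        show (z ^ d) ^ (m : ℤ) = z
        rw [zpow_natCast, ← pow_mul, ← Nat.div_add_mod (d * m) p, pow_add, pow_mul, hz, one_pow, hm, pow_one, one_mul]
      have := h2 h1
      rwa [hfix, Subgroup.mem_bot] at this
    have hi : N (w i : V) = (w i : V) ^ s := by
      have : ∀ t, b ^ t • (w i : V) = (w i : V) := fun t =>
        mem_fix_iff_zpowers.1 (w i).2 _ (pow_mem (Subgroup.mem_zpowers b) t)
      simp [N, this]
    have h3 : (w i : V) ^ s = 1 := by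
      rw [← hi, ← Finset.prod_eq_single (f := fun j => N (w j : V)) i (fun j _ hj => hother j hj) (fun hn => absurd (Finset.mem_univ i) hn), ← hN, hw]
      simp [N]
    exact Subtype.ext ((powCoprime (G := V) (hcop.symm.pow_right (k + 1))).injective (by show (w i : V) ^ p ^ (k + 1) = (1 : V) ^ p ^ (k + 1); rw [one_pow]; exact h3))
  have e : Nat.card W = ∏ j ∈ Finset.range p, Nat.card (fix V (z ^ j * a)) := by
    rw [Nat.card_pi, ← Fin.prod_univ_eq_prod_range (fun j => Nat.card (fix V (z ^ j * a)))]
  rw [← e]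
  exact Subgroup.card_dvd_of_injective φ hφ

theorem bound_faithful_fpf {A V : Type*} [Group A] [Fintype A] [CommGroup V] [Finite V] [MulDistribMulAction A V]
    (hA : IsPGroup p A) (hcop : p.Coprime (Nat.card V)) {z : A} (hz : z ^ p = 1)
    (hzc : ∀ a, Commute z a) (hfix : fix V z = ⊥) : Bound p A V := by
  classical
  have h1 : (∏ a : A, Nat.card (fix V a)) ^ p = ∏ a : A, ∏ j ∈ Finset.range p, Nat.card (fix V (z ^ j * a)) := by
    rw [Finset.prod_comm]
    have e : ∀ j ∈ Finset.range p, ∏ a : A, Nat.card (fix V (z ^ j * a)) = ∏ a : A, Nat.card (fix V a) :=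
      fun j _ => Equiv.prod_comp (Equiv.mulLeft (z ^ j)) fun a => Nat.card (fix V a)
    rw [Finset.prod_congr rfl e, Finset.prod_const, Finset.card_range]
  rw [Bound, h1]
  refine dvd_mul_of_dvd_left ?_ _
  rw [← Finset.card_univ, ← Finset.prod_const]
  exact Finset.prod_dvd_prod_of_dvd _ _ fun a _ => coset_dvd hA hcop hz hzc hfix a

theorem bound_qgroup [hq : Fact q.Prime] (hpq : p ≠ q) : ∀ (n : ℕ), ∀ {A : Type*} {V : Type*} [Group A] [Fintype A]
    [Group V] [Finite V] [MulDistribMulAction A V], Nat.card V = n → IsPGroup p A → IsPGroup q V → Bound p A V := by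
  intro n
  induction n using Nat.strong_induction_on with
  | _ n ih =>
  intro A V _ _ _ _ _ hn hA hV
  classical
  haveI := hA.isNilpotent
  obtain ⟨k, hk⟩ := IsPGroup.iff_card.1 hA
  obtain ⟨l, hl⟩ := IsPGroup.iff_card.1 hV
  have hpV : p.Coprime (Nat.card V) := hl ▸ Nat.Coprime.pow_right _ ((Nat.coprime_primes hp.out hq.out).2 hpq)
  have hcop : (Nat.card A).Coprime (Nat.card V) := hk ▸ hpV.pow_left k
  by_cases hsplit : ∃ K : Subgroup V, K.Normal ∧ IsInvariant A K ∧ K ≠ ⊥ ∧ K ≠ ⊤
  · obtain ⟨K, hKn, hKi, hK1, hK2⟩ := hsplit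
    haveI := hKn
    letI actK : MulDistribMulAction A K :=
      { smul := fun a x => ⟨a • (x : V), hKi a x x.2⟩
        one_smul := fun x => Subtype.ext (one_smul A (x : V))
        mul_smul := fun a b x => Subtype.ext (mul_smul a b (x : V))
        smul_one := fun a => Subtype.ext (smul_one a)
        smul_mul := fun a x y => Subtype.ext (smul_mul' a (x : V) (y : V)) }
    let mp : A → (V ⧸ K →* V ⧸ K) := fun a => QuotientGroup.map K K (MulDistribMulAction.toMonoidHom V a) (fun x hx => hKi a x hx)
    letI actQ : MulDistribMulAction A (V ⧸ K) :=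
      { smul := fun a x => mp a x
        one_smul := fun x => by
          induction x using QuotientGroup.induction_on with
          | _ v => exact congrArg (QuotientGroup.mk' K) (one_smul A v)
        mul_smul := fun a b x => by
          induction x using QuotientGroup.induction_on with
          | _ v => exact congrArg (QuotientGroup.mk' K) (mul_smul a b v)
        smul_one := fun a => map_one (mp a)
        smul_mul := fun a => map_mul (mp a) }
    have hcK : Nat.card K < n := by
      refine hn ▸ lt_of_le_of_ne K.card_le_card_group fun h => hK2 (Subgroup.eq_top_of_card_eq K h)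
    have hcQ : Nat.card (V ⧸ K) < n := by
      rw [← hn, K.card_eq_card_quotient_mul_card_subgroup]
      exact lt_mul_of_one_lt_right Nat.card_pos (Subgroup.one_lt_card_iff_ne_bot K |>.2 hK1)
    have b1 : Bound p A K := ih _ hcK rfl hA (hV.to_subgroup K)
    have b2 : Bound p A (V ⧸ K) := ih _ hcQ rfl hA (hV.to_quotient K)
    -- fixed points of any acting subgroup
    have key : ∀ B : Subgroup A, Nat.card (FixedPoints.subgroup B V) =
        Nat.card {x : K // ∀ b ∈ B, b • x = x} * Nat.card {x : V ⧸ K // ∀ b ∈ B, b • x = x} := by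
      intro B
      rw [card_fixed_split (A := B) (hcop.coprime_dvd_left (Subgroup.card_subgroup_dvd_card B)) K
        (fun b x hx => hKi b.1 x hx)]
      congr 1
      · exact Nat.card_congr
          { toFun := fun x => ⟨⟨x.1, x.2.2⟩, fun b hb => Subtype.ext (x.2.1 ⟨b, hb⟩)⟩
            invFun := fun x => ⟨x.1.1, fun b => congrArg Subtype.val (x.2 b.1 b.2), x.1.2⟩
            left_inv := fun x => rfl
            right_inv := fun x => rfl }
      · refine Nat.card_congr (Equiv.subtypeEquivRight fun x => ?_)
        constructor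
        · rintro ⟨c, rfl, hc⟩ b hb
          exact congrArg (QuotientGroup.mk' K) (hc ⟨b, hb⟩)
        · intro hx
          induction x using QuotientGroup.induction_on with
          | _ v =>
            obtain ⟨c, hc, hc'⟩ := exists_fixed_mk_eq (A := B) (hcop.coprime_dvd_left (Subgroup.card_subgroup_dvd_card B)) K
              (fun b y hy => hKi b.1 y hy) v (fun b => hx b.1 b.2)
            exact ⟨c, hc', hc⟩
    have e1 : ∀ a : A, Nat.card (fix V a) = Nat.card (fix K a) * Nat.card (fix (V ⧸ K) a) := by
      intro a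
      rw [← Nat.card_congr (Equiv.subtypeEquivRight fun v : V => (show v ∈ FixedPoints.subgroup (Subgroup.zpowers a) V ↔ v ∈ fix V a from
        ⟨fun h => h ⟨a, Subgroup.mem_zpowers a⟩, fun h b => mem_fix_iff_zpowers.1 h b.1 b.2⟩)), key]
      congr 1 <;> exact Nat.card_congr (Equiv.subtypeEquivRight fun x => mem_fix_iff_zpowers.symm)
    have e2 : Nat.card (FixedPoints.subgroup A V) =
        Nat.card (FixedPoints.subgroup A K) * Nat.card (FixedPoints.subgroup A (V ⧸ K)) := by
      rw [← Nat.card_congr (Equiv.subtypeEquivRight fun v : V => (show v ∈ FixedPoints.subgroup (⊤ : Subgroup A) V ↔ v ∈ FixedPoints.subgroup A V from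
        ⟨fun h a => h ⟨a, Subgroup.mem_top a⟩, fun h b => h b.1⟩)), key]
      congr 1 <;> exact Nat.card_congr (Equiv.subtypeEquivRight fun x =>
        ⟨fun h a => h a (Subgroup.mem_top a), fun h b _ => h b⟩)
    rw [Bound, Finset.prod_congr rfl fun a _ => e1 a, Finset.prod_mul_distrib, mul_pow, e2,
      K.card_eq_card_quotient_mul_card_subgroup, mul_pow, mul_pow, mul_comm (Nat.card (V ⧸ K) ^ _), mul_mul_mul_comm]
    exact mul_dvd_mul b1 b2
  push Not at hsplit
  rcases subsingleton_or_nontrivial V with hss | hnt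
  · have : ∀ a : A, Nat.card (fix V a) = 1 := fun a => Nat.card_unique
    rw [Bound, Finset.prod_congr rfl fun a _ => this a, Finset.prod_const_one, one_pow]
    exact one_dvd _
  have hcomm : ∀ x y : V, x * y = y * x := by
    haveI := hV.center_nontrivial
    have := hsplit (Subgroup.center V) inferInstance (IsInvariant.of_characteristic _)
      ((Subgroup.nontrivial_iff_ne_bot (Subgroup.center V)).1 inferInstance)
    intro x y
    exact Subgroup.mem_center_iff.1 (this ▸ Subgroup.mem_top y) x
  letI : CommGroup V := { (inferInstance : Group V) with mul_comm := hcomm }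
  set ρ := MulDistribMulAction.toMulAut A V
  haveI : Fintype ρ.range := Fintype.ofFinite _
  -- reduce to the image
  suffices hR : Bound p ρ.range V by
    have e1 : ∀ a : A, Nat.card (fix V a) = Nat.card (fix V (ρ.rangeRestrict a)) := fun a => rfl
    have e2 : FixedPoints.subgroup A V = FixedPoints.subgroup ρ.range V := by
      ext v
      exact ⟨fun h ⟨_, a, rfl⟩ => h a, fun h a => h (ρ.rangeRestrict a)⟩
    have e3 : ∀ r : ρ.range, (Finset.univ.filter fun a => ρ.rangeRestrict a = r).card = Nat.card ρ.rangeRestrict.ker := by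
      intro r
      obtain ⟨a, rfl⟩ := ρ.rangeRestrict_surjective r
      rw [← Fintype.card_subtype, ← Nat.card_eq_fintype_card]
      exact Nat.card_congr
        { toFun := fun b => ⟨a⁻¹ * b.1, by rw [MonoidHom.mem_ker, map_mul, map_inv, b.2, inv_mul_cancel]⟩
          invFun := fun b => ⟨a * b.1, by rw [map_mul, MonoidHom.mem_ker.1 b.2, mul_one]⟩
          left_inv := fun b => Subtype.ext (mul_inv_cancel_left _ _)
          right_inv := fun b => Subtype.ext (inv_mul_cancel_left _ _) }
    have e4 : Fintype.card A = Fintype.card ρ.range * Nat.card ρ.rangeRestrict.ker := by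
      rw [← Nat.card_eq_fintype_card, ← Nat.card_eq_fintype_card, ← ρ.rangeRestrict.ker.index_mul_card,
        Subgroup.index_ker, MonoidHom.range_eq_top.2 ρ.rangeRestrict_surjective, Subgroup.card_top]
    have e5 : ∏ a : A, Nat.card (fix V a) = (∏ r : ρ.range, Nat.card (fix V r)) ^ Nat.card ρ.rangeRestrict.ker := by
      rw [Finset.prod_congr rfl fun a _ => e1 a, ← Finset.prod_fiberwise' Finset.univ ρ.rangeRestrict (fun r => Nat.card (fix V r)),
        ← Finset.prod_pow]
      refine Finset.prod_congr rfl fun r _ => ?_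
      rw [Finset.prod_const, e3]
    rw [Bound, e5, e2, e4, ← pow_mul, mul_comm, pow_mul, ← mul_assoc, pow_mul, pow_mul, ← mul_pow]
    exact pow_dvd_pow_of_dvd hR _
  have hR : IsPGroup p ρ.range := hA.of_surjective _ ρ.rangeRestrict_surjective
  rcases subsingleton_or_nontrivial ρ.range with hss | hnt'
  · have e : ∀ r : ρ.range, fix V r = ⊤ := fun r => eq_top_iff.2 fun v _ => by
      show r • v = v
      rw [Subsingleton.elim r 1, one_smul]
    have e' : FixedPoints.subgroup ρ.range V = ⊤ := eq_top_iff.2 fun v _ r => (e r ▸ Subgroup.mem_top v : v ∈ fix V r)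
    rw [Bound, Finset.prod_congr rfl fun r _ => by rw [e r], Finset.prod_const, Finset.card_univ, e', Subgroup.card_top,
      ← pow_mul, ← pow_add]
    refine pow_dvd_pow _ (le_of_eq ?_)
    have := hp.out.one_lt
    obtain ⟨p', rfl⟩ : ∃ p', p = p' + 1 := ⟨p - 1, by omega⟩
    simp [mul_add, add_mul, mul_comm, add_comm]
  haveI := hR.center_nontrivial
  obtain ⟨z, hz⟩ := exists_prime_orderOf_dvd_card' (G := Subgroup.center ρ.range) p (by
    obtain ⟨m, hm, hc⟩ := (IsPGroup.nontrivial_iff_card (hR.to_subgroup (Subgroup.center ρ.range))).1 inferInstance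
    exact hc ▸ dvd_pow_self p (Nat.pos_iff_ne_zero.1 hm))
  have hzc : ∀ a : ρ.range, Commute z.1 a := fun a => (Subgroup.mem_center_iff.1 z.2 a).symm
  have hzp : z.1 ^ p = 1 := congrArg Subtype.val (hz ▸ pow_orderOf_eq_one z)
  refine bound_faithful_fpf hR hpV hzp hzc ?_
  by_contra hne
  have htop := hsplit (fix V z.1) inferInstance (fun a v hv => by
    show z.1 • (ρ.rangeRestrict a • v) = ρ.rangeRestrict a • v
    rw [← mul_smul, (hzc _).eq, mul_smul, show z.1 • v = v from hv]) hne
  have : z.1 = 1 := Subtype.ext (MulEquiv.ext fun v => (show z.1 • v = v from (htop ▸ Subgroup.mem_top v : v ∈ fix V z.1)))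
  rw [show z = 1 from Subtype.ext this, orderOf_one] at hz
  exact hp.out.one_lt.ne hz

/-- The general bound. -/
theorem bound {A : Type*} {V : Type*} [Group A] [Fintype A] [Group V] [Finite V] [MulDistribMulAction A V]
    (hA : IsPGroup p A) (hcop : p.Coprime (Nat.card V)) : Bound p A V := by
  classical
  haveI := hA.isNilpotent
  obtain ⟨k, hk⟩ := IsPGroup.iff_card.1 hA
  have hcop' : (Nat.card A).Coprime (Nat.card V) := hk ▸ hcop.pow_left k
  have hpos : ∀ a : A, Nat.card (fix V a) ≠ 0 := fun a => Nat.card_pos.ne'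
  have hne1 : (∏ a : A, Nat.card (fix V a)) ^ p ≠ 0 := pow_ne_zero _ (Finset.prod_ne_zero_iff.2 fun a _ => hpos a)
  refine (Nat.factorization_le_iff_dvd hne1 (mul_ne_zero (pow_ne_zero _ Nat.card_pos.ne') (pow_ne_zero _ Nat.card_pos.ne'))).1 ?_
  intro q
  by_cases hqp : q.Prime
  swap
  · rw [Nat.factorization_eq_zero_of_not_prime _ hqp]; exact Nat.zero_le _
  haveI := Fact.mk hqp
  obtain ⟨S, hS⟩ := exists_invariant_sylow hcop' q
  letI actS : MulDistribMulAction A (S : Subgroup V) :=
    { smul := fun a x => ⟨a • (x : V), hS a x x.2⟩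
      one_smul := fun x => Subtype.ext (one_smul A (x : V))
      mul_smul := fun a b x => Subtype.ext (mul_smul a b (x : V))
      smul_one := fun a => Subtype.ext (smul_one a)
      smul_mul := fun a x y => Subtype.ext (smul_mul' a (x : V) (y : V)) }
  have key : ∀ B : Subgroup A, (Nat.card (FixedPoints.subgroup B V)).factorization q =
      (Nat.card {x : (S : Subgroup V) // ∀ b ∈ B, b • x = x}).factorization q := by
    intro B
    set C := FixedPoints.subgroup B V
    have hcard : Nat.card {x : (S : Subgroup V) // ∀ b ∈ B, b • x = x} = Nat.card ↥(C ⊓ S) := Nat.card_congr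
      { toFun := fun x => ⟨x.1.1, fun b => congrArg Subtype.val (x.2 b.1 b.2), x.1.2⟩
        invFun := fun x => ⟨⟨x.1, x.2.2⟩, fun b hb => Subtype.ext (x.2.1 ⟨b, hb⟩)⟩
        left_inv := fun x => rfl
        right_inv := fun x => rfl }
    rw [hcard]
    refine le_antisymm ?_ ((Nat.factorization_le_iff_dvd Nat.card_pos.ne' Nat.card_pos.ne').2
      (Subgroup.card_dvd_of_le inf_le_left) q)
    obtain ⟨T⟩ : Nonempty (Sylow q C) := inferInstance
    set T' := (T : Subgroup C).map C.subtype
    have hT' : IsPGroup q T' := T.2.map _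
    have hTi : IsInvariant B T' := by
      rintro b _ ⟨x, hx, rfl⟩
      exact ⟨x, hx, (x.2 b).symm⟩
    obtain ⟨U, hTU, hU⟩ := exists_invariant_sylow_over (A := B) (hcop'.coprime_dvd_left (Subgroup.card_subgroup_dvd_card B)) T' hT' hTi
    obtain ⟨c, hc, hcU⟩ := exists_fixed_conj_sylow (A := B) (hcop'.coprime_dvd_left (Subgroup.card_subgroup_dvd_card B)) U S hU (fun b x hx => hS b.1 x hx)
    have hle : Nat.card T' ≤ Nat.card ↥(C ⊓ (S : Subgroup V)) := by
      refine Nat.card_le_card_of_injective (fun x : T' => (⟨c * x.1 * c⁻¹, Subgroup.mem_inf.2 ⟨?_, ?_⟩⟩ : ↥(C ⊓ (S : Subgroup V)))) ?_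
      · obtain ⟨y, -, e⟩ := x.2
        rw [← e]
        exact mul_mem (mul_mem (show c ∈ C from hc) y.2) (inv_mem (show c ∈ C from hc))
      · rw [← hcU, Sylow.coe_subgroup_smul, Subgroup.mem_pointwise_smul_iff_inv_smul_mem]
        simpa [MulAut.smul_def, mul_assoc] using hTU x.2
      · exact fun x y e => Subtype.ext (mul_left_cancel (mul_right_cancel (congrArg Subtype.val e)))
    obtain ⟨i, hi⟩ := IsPGroup.iff_card.1 (S.2.to_le (inf_le_right : C ⊓ (S : Subgroup V) ≤ S))
    rw [hi, Nat.Prime.factorization_pow hqp, Finsupp.single_eq_same]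
    rw [Subgroup.card_map_of_injective C.subtype_injective, T.card_eq_multiplicity, hi] at hle
    exact (Nat.pow_le_pow_iff_right hqp.one_lt).1 hle
  have e1 : ∀ a : A, (Nat.card (fix V a)).factorization q = (Nat.card (fix (S : Subgroup V) a)).factorization q := by
    intro a
    rw [← Nat.card_congr (Equiv.subtypeEquivRight fun v : V => (show v ∈ FixedPoints.subgroup (Subgroup.zpowers a) V ↔ v ∈ fix V a from
      ⟨fun h => h ⟨a, Subgroup.mem_zpowers a⟩, fun h b => mem_fix_iff_zpowers.1 h b.1 b.2⟩)), key]
    congr 2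
    exact Nat.card_congr (Equiv.subtypeEquivRight fun x => mem_fix_iff_zpowers.symm)
  have e2 : (Nat.card (FixedPoints.subgroup A V)).factorization q =
      (Nat.card (FixedPoints.subgroup A (S : Subgroup V))).factorization q := by
    rw [← Nat.card_congr (Equiv.subtypeEquivRight fun v : V => (show v ∈ FixedPoints.subgroup (⊤ : Subgroup A) V ↔ v ∈ FixedPoints.subgroup A V from
      ⟨fun h a => h ⟨a, Subgroup.mem_top a⟩, fun h b => h b.1⟩)), key]
    congr 2
    exact Nat.card_congr (Equiv.subtypeEquivRight fun x =>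
      ⟨fun h a => h a (Subgroup.mem_top a), fun h b _ => h b⟩)
  have e3 : (Nat.card (S : Subgroup V)).factorization q = (Nat.card V).factorization q := by
    rw [S.card_eq_multiplicity, Nat.Prime.factorization_pow hqp, Finsupp.single_eq_same]
  rcases eq_or_ne p q with rfl | hpq
  · have h0 : ∀ W : Subgroup V, (Nat.card W).factorization p = 0 := fun W => Nat.factorization_eq_zero_of_not_dvd
      (hp.out.coprime_iff_not_dvd.1 (hcop.coprime_dvd_right (Subgroup.card_subgroup_dvd_card W)))
    simp [Nat.factorization_pow, Nat.factorization_prod (fun a _ => hpos a), h0]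
  have hb : Bound p A (S : Subgroup V) := bound_qgroup hpq _ rfl hA S.2
  have hb' := (Nat.factorization_le_iff_dvd (pow_ne_zero _ (Finset.prod_ne_zero_iff.2 fun a _ => Nat.card_pos.ne'))
    (mul_ne_zero (pow_ne_zero _ Nat.card_pos.ne') (pow_ne_zero _ Nat.card_pos.ne'))).2 hb q
  rw [Nat.factorization_pow, Nat.factorization_prod (fun a _ => Nat.card_pos.ne'),
    Nat.factorization_mul (pow_ne_zero _ Nat.card_pos.ne') (pow_ne_zero _ Nat.card_pos.ne'),
    Nat.factorization_pow, Nat.factorization_pow] at hb' ⊢
  simp only [Finsupp.smul_apply, Finsupp.add_apply, Finsupp.finset_sum_apply, e1, e2, ← e3] at hb' ⊢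
  exact hb'

end

end CfsgLib.CoprimeFixedProd
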