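import Cfsg.Agent.Blocks.PSolvablePrincipal
import Cfsg.Agent.Char.PPrimeKernel
import Cfsg.Agent.GlaubermanCorr.Solvable
import Cfsg.Agent.GlaubermanCorr.InvariantOver
import Cfsg.Agent.Coprime.Sylow
import Cfsg.Agent.FGSA.ClassSizeGraph
import Cfsg.Agent.Comp.Basic
import Cfsg.Agent.Solvable.Basics
import Cfsg.Agent.Solvable.SchurZassenhaus
import Cfsg.Agent.Solvable.Glauberman
import Cfsg.Agent.Fusion.Tate

/-!
# Degrees prime to `p` and to `q` in `p`- and `q`-soluble groups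

If a `p`-group `P` acts coprimely on the `q`-soluble group `K` and all `P`-invariant characters
have degree prime to `q`, then `K` has only one `P`-invariant Sylow `q`-subgroup. In consequence,
if `O_{p'}(G) = 1` and all characters of degree prime to `p` have degree prime to `q`, then `q`
does not divide `|G|`.
-/

set_option autoImplicit false
set_option linter.unusedSectionVars false
set_option linter.style.haveILetI false

namespace CfsgLib.CrossDegree

open CfsgLib.Char CfsgLib.GlaubermanCorr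
open scoped Pointwise

universe u

variable {G : Type u} [Group G]

/-- A `P`-invariant Sylow `q`-subgroup of `K`. -/
def InvSylow (q : ℕ) (P K Q : Subgroup G) : Prop :=
  Q ≤ K ∧ IsPGroup q Q ∧ ¬ q ∣ Q.relIndex K ∧ P ≤ Subgroup.normalizer (Q : Set G)

/-- The conjugation action of a subgroup on a subgroup it normalizes. -/
@[reducible] def subAction {P K : Subgroup G} (h : P ≤ Subgroup.normalizer (K : Set G)) :
    MulDistribMulAction P K :=
  MulDistribMulAction.compHom K ((Subgroup.normalizerMonoidHom K).comp (Subgroup.inclusion h))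

variable [Finite G] {p q : ℕ} [hp : Fact p.Prime] [hq : Fact q.Prime]

theorem exists_invSylow {P K : Subgroup G} (hP : IsPGroup p P)
    (hPK : P ≤ Subgroup.normalizer (K : Set G)) (hpK : ¬ p ∣ Nat.card K) :
    ∃ Q, InvSylow q P K Q := by
  classical
  haveI := hP.isNilpotent
  let _ := subAction hPK
  obtain ⟨a, ha⟩ := IsPGroup.iff_card.1 hP
  obtain ⟨S, hS⟩ := CfsgLib.Coprime.exists_invariant_sylow (A := P) (G := K)
    (ha ▸ (hp.out.coprime_iff_not_dvd.2 hpK).pow_left a) q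
  refine ⟨(S : Subgroup K).map K.subtype, Subgroup.map_subtype_le _, S.2.map _, ?_, fun x hx => ?_⟩
  · rw [Subgroup.relIndex, ← Subgroup.comap_subtype,
      Subgroup.comap_map_eq_self_of_injective K.subtype_injective]
    exact S.not_dvd_index
  · refine Subgroup.mem_normalizer_fintype ?_
    rintro _ ⟨y, hy, rfl⟩
    exact ⟨_, hS ⟨x, hx⟩ y hy, rfl⟩

theorem exists_conj_invSylow {P K Q₁ Q₂ : Subgroup G} (hP : IsPGroup p P)
    (hPK : P ≤ Subgroup.normalizer (K : Set G)) (hpK : ¬ p ∣ Nat.card K)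
    (h₁ : InvSylow q P K Q₁) (h₂ : InvSylow q P K Q₂) :
    ∃ c ∈ K, (∀ x ∈ P, x * c = c * x) ∧ MulAut.conj c • Q₁ = Q₂ := by
  classical
  haveI := hP.isNilpotent
  let _ := subAction hPK
  obtain ⟨a, ha⟩ := IsPGroup.iff_card.1 hP
  have mk : ∀ Q, InvSylow q P K Q → ∃ S : Sylow q K, (S : Subgroup K) = Q.subgroupOf K ∧
      CfsgLib.Coprime.IsInvariant P (S : Subgroup K) := by
    intro Q hQ
    refine ⟨(hQ.2.1.comap_of_injective K.subtype K.subtype_injective).toSylow
      (show ¬ q ∣ (Q.comap K.subtype).index from hQ.2.2.1), rfl, fun x y hy => ?_⟩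
    exact (Subgroup.mem_normalizer_iff.1 (hQ.2.2.2 x.2) (y : G)).1 hy
  obtain ⟨S₁, e₁, i₁⟩ := mk Q₁ h₁
  obtain ⟨S₂, e₂, i₂⟩ := mk Q₂ h₂
  obtain ⟨c, hc, he⟩ := CfsgLib.Coprime.exists_fixed_conj_sylow (A := P) (G := K)
    (ha ▸ (hp.out.coprime_iff_not_dvd.2 hpK).pow_left a) S₁ S₂ i₁ i₂
  refine ⟨c, c.2, fun x hx => mul_inv_eq_iff_eq_mul.1 (congrArg Subtype.val (hc ⟨x, hx⟩)), ?_⟩
  have h := congrArg (fun S : Sylow q K => (S : Subgroup K).map K.subtype) he
  simp only [Sylow.coe_subgroup_smul, e₁, e₂, Subgroup.map_subgroupOf_eq_of_le h₂.1] at h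
  rw [← h]
  ext x
  constructor
  · rintro ⟨y, hy, rfl⟩
    refine ⟨c * ⟨y, h₁.1 hy⟩ * c⁻¹, ?_, rfl⟩
    exact ⟨⟨y, h₁.1 hy⟩, hy, rfl⟩
  · rintro ⟨_, ⟨y, hy, rfl⟩, rfl⟩
    exact ⟨y, hy, rfl⟩

/-- If all characters of `L` fixed by `P` are fixed by `Q` then so are the fixed points. -/
theorem commute_of_inv {L P Q : Subgroup G} [L.Normal] (hsP : Group.IsSolvable P)
    (hsA : Group.IsSolvable ↥(P ⊔ Q)) (hcop : (Nat.card L).Coprime (Nat.card ↥(P ⊔ Q)))
    (h : ∀ θ : Cfsg.IrrCharacter L, Inv L P (θ : L → ℂ) → Inv L (P ⊔ Q) (θ : L → ℂ))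
    {l : G} (hl : l ∈ L) (hlP : ∀ x ∈ P, x * l = l * x) : ∀ y ∈ Q, y * l = l * y := by
  classical
  haveI := Fintype.ofFinite G
  obtain ⟨C₁, hC₁⟩ : ∃ C₁, L ⊓ Subgroup.centralizer (P : Set G) = C₁ := ⟨_, rfl⟩
  obtain ⟨C₂, hC₂⟩ : ∃ C₂, L ⊓ Subgroup.centralizer ((P ⊔ Q : Subgroup G) : Set G) = C₂ := ⟨_, rfl⟩
  have m₁ : ∀ k, k ∈ C₁ ↔ k ∈ L ∧ ∀ y ∈ P, y * k = k * y := fun k => by
    rw [← hC₁, Subgroup.mem_inf, Subgroup.mem_centralizer_iff]; rfl
  have m₂ : ∀ k, k ∈ C₂ ↔ k ∈ L ∧ ∀ y ∈ P ⊔ Q, y * k = k * y := fun k => by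
    rw [← hC₂, Subgroup.mem_inf, Subgroup.mem_centralizer_iff]; rfl
  have hle : C₂ ≤ C₁ := fun k hk =>
    (m₁ k).2 ⟨((m₂ k).1 hk).1, fun y hy => ((m₂ k).1 hk).2 y (Subgroup.mem_sup_left hy)⟩
  have hcopP : (Nat.card L).Coprime (Nat.card P) :=
    hcop.coprime_dvd_right (Subgroup.card_dvd_of_le le_sup_left)
  have hn : ∀ (y : G), ∀ k ∈ L, y * k * y⁻¹ ∈ L := fun y k hk =>
    (inferInstance : L.Normal).conj_mem k hk y
  obtain ⟨f₁, hf₁, -⟩ := exists_equivariant hsP (fun y _ => hn y) hcopP m₁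
  obtain ⟨f₂, hf₂, -⟩ := exists_equivariant hsA (fun y _ => hn y) hcop m₂
  have hnum : Nat.card (ConjClasses C₁) = Nat.card (ConjClasses C₂) := by
    rw [← card_irr_eq_card_conjClasses, ← card_irr_eq_card_conjClasses,
      ← Nat.card_eq_of_bijective f₁ hf₁, ← Nat.card_eq_of_bijective f₂ hf₂]
    refine Nat.card_congr (Equiv.subtypeEquivRight fun θ => ?_)
    exact ⟨h θ, fun hθ y hy => hθ y (Subgroup.mem_sup_left hy)⟩
  obtain ⟨e₁, he₁, hmk₁⟩ := exists_class_equiv hsP (fun y _ => hn y) hcopP m₁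
  obtain ⟨e₂, he₂, hmk₂⟩ := exists_class_equiv hsA (fun y _ => hn y) hcop m₂
  let ψ : ConjClasses C₂ → ConjClasses C₁ := ConjClasses.map (Subgroup.inclusion hle)
  have hψ : Function.Injective ψ := by
    intro a b hab
    obtain ⟨x, rfl⟩ := ConjClasses.mk_surjective a
    obtain ⟨y, rfl⟩ := ConjClasses.mk_surjective b
    have h3 := congrArg (fun c => (e₁ c).1) hab
    refine he₂.1 (Subtype.ext ?_)
    rw [hmk₂, hmk₂]
    have h4 : (e₁ (ConjClasses.mk (Subgroup.inclusion hle x))).1 =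
        (e₁ (ConjClasses.mk (Subgroup.inclusion hle y))).1 := h3
    rw [hmk₁, hmk₁] at h4
    exact h4
  haveI := Fintype.ofFinite (ConjClasses C₁)
  haveI := Fintype.ofFinite (ConjClasses C₂)
  have hsurj : Function.Surjective ψ := ((Fintype.bijective_iff_injective_and_card ψ).2 ⟨hψ, by
    rw [← Nat.card_eq_fintype_card, ← Nat.card_eq_fintype_card, hnum]⟩).2
  have htop : C₂.subgroupOf C₁ = ⊤ := by
    refine CfsgLib.ClassSizeGraph.eq_top_of_forall_conj_mem _ fun x => ?_
    obtain ⟨c, hc⟩ := hsurj (ConjClasses.mk x)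
    obtain ⟨y, rfl⟩ := ConjClasses.mk_surjective c
    obtain ⟨g, hg⟩ := isConj_iff.1 (ConjClasses.mk_eq_mk_iff_isConj.1 hc).symm
    exact ⟨g, hg ▸ Subgroup.mem_subgroupOf.2 y.2⟩
  have h5 := Subgroup.subgroupOf_eq_top.1 htop ((m₁ l).2 ⟨hl, hlP⟩)
  exact fun y hy => ((m₂ l).1 h5).2 y (Subgroup.mem_sup_right hy)

/-- A `q`-subgroup between a Sylow `q`-subgroup of `K` and `K` equals it. -/
theorem InvSylow.eq_of_le {P K Q M : Subgroup G} (h : InvSylow q P K Q) (hQM : Q ≤ M)
    (hMK : M ≤ K) (hM : IsPGroup q M) : M = Q := by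
  refine le_antisymm (Subgroup.relIndex_eq_one.1 ?_) hQM
  obtain ⟨a, ha⟩ := IsPGroup.iff_card.1 hM
  have h1 : Q.relIndex M ∣ q ^ a := by
    rw [← ha]; exact Subgroup.index_dvd_card (Q.subgroupOf M)
  have h2 : Q.relIndex M ∣ Q.relIndex K :=
    (dvd_mul_right _ _).trans (dvd_of_eq (Subgroup.relIndex_mul_relIndex Q M K hQM hMK))
  exact Nat.eq_one_of_dvd_coprimes ((hq.out.coprime_iff_not_dvd.2 h.2.2.1).pow_left a) h1 h2

theorem InvSylow.map {P K Q : Subgroup G} (h : InvSylow q P K Q) (L : Subgroup G) [L.Normal]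
    (hLK : L ≤ K) : InvSylow q (P.map (QuotientGroup.mk' L)) (K.map (QuotientGroup.mk' L))
      (Q.map (QuotientGroup.mk' L)) := by
  refine ⟨Subgroup.map_mono h.1, h.2.1.map _, fun hd => h.2.2.1 (hd.trans ?_),
    (Subgroup.map_mono h.2.2.2).trans (Subgroup.le_normalizer_map _)⟩
  rw [Subgroup.relIndex_map_map, QuotientGroup.ker_mk', sup_eq_left.2 hLK]
  exact Subgroup.relIndex_dvd_of_le_left _ le_sup_left

/-- The step over a normal subgroup of order prime to `q`. -/
theorem invSylow_unique_step {P K L : Subgroup G} [K.Normal] [L.Normal] (hpq : p ≠ q)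
    (hP : IsPGroup p P) (hLK : L ≤ K) (hpK : ¬ p ∣ Nat.card K) (hqL : ¬ q ∣ Nat.card L)
    (hdeg : ∀ χ : Cfsg.IrrCharacter K, Inv K P (χ : K → ℂ) →
      ¬ q ∣ Cfsg.charDegree (χ : K → ℂ))
    (hquot : ∀ Q₁ Q₂ : Subgroup G, InvSylow q P K Q₁ → InvSylow q P K Q₂ →
      Q₁.map (QuotientGroup.mk' L) = Q₂.map (QuotientGroup.mk' L))
    (Q₁ Q₂ : Subgroup G) (h₁ : InvSylow q P K Q₁) (h₂ : InvSylow q P K Q₂) : Q₁ = Q₂ := by
  classical
  haveI := hP.isNilpotent
  obtain ⟨a, ha⟩ := IsPGroup.iff_card.1 hP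
  have hcpK : (Nat.card P).Coprime (Nat.card K) :=
    ha ▸ (hp.out.coprime_iff_not_dvd.2 hpK).pow_left a
  obtain ⟨M, hM⟩ : ∃ M, Q₂ ⊔ L = M := ⟨_, rfl⟩
  have hin : ∀ Q, InvSylow q P K Q → Q ≤ M := fun Q hQ x hx => by
    have h3 : QuotientGroup.mk' L x ∈ Q₂.map (QuotientGroup.mk' L) :=
      hquot Q Q₂ hQ h₂ ▸ Subgroup.mem_map_of_mem _ hx
    rw [← Subgroup.mem_comap, Subgroup.comap_map_eq, QuotientGroup.ker_mk', hM] at h3
    exact h3
  have hMK : M ≤ K := hM ▸ sup_le h₂.1 hLK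
  have hPL : P ≤ Subgroup.normalizer (L : Set G) := by
    rw [Subgroup.normalizer_eq_top_iff.2 inferInstance]; exact le_top
  have hPM : P ≤ Subgroup.normalizer (M : Set G) := fun x hx => hM ▸
    CfsgLib.SZ.conj_smul_eq_iff_mem_normalizer.1 (by
      rw [Subgroup.smul_sup, CfsgLib.SZ.conj_smul_eq_iff_mem_normalizer.2 (h₂.2.2.2 hx),
        CfsgLib.SZ.conj_smul_eq_iff_mem_normalizer.2 (hPL hx)])
  have hinvM : ∀ Q, InvSylow q P K Q → InvSylow q P M Q := fun Q hQ =>
    ⟨hin Q hQ, hQ.2.1, fun hd => hQ.2.2.1 (hd.trans ((dvd_mul_right _ _).trans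
      (dvd_of_eq (Subgroup.relIndex_mul_relIndex Q M K (hin Q hQ) hMK)))), hQ.2.2.2⟩
  have hpM : ¬ p ∣ Nat.card M := fun hd => hpK (hd.trans (Subgroup.card_dvd_of_le hMK))
  have hQL : L ⊓ Q₂ = ⊥ := by
    refine Subgroup.inf_eq_bot_of_coprime ?_
    obtain ⟨b, hb⟩ := IsPGroup.iff_card.1 h₂.2.1
    exact hb ▸ ((hq.out.coprime_iff_not_dvd.2 hqL).pow_left b).symm
  -- a fixed element of `M` moving `Q₂` can be taken in `L`
  have hdec : ∀ c ∈ M, (∀ x ∈ P, x * c = c * x) → ∃ l ∈ L, (∀ x ∈ P, x * l = l * x) ∧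
      MulAut.conj c • Q₂ = MulAut.conj l • Q₂ := by
    intro c hc hcP
    obtain ⟨l, hl, y, hy, rfl⟩ := Subgroup.mem_sup_of_normal_left.1
      (show c ∈ L ⊔ Q₂ by rwa [sup_comm, hM])
    have hyP : ∀ x ∈ P, x * y = y * x := by
      intro x hx
      have h1 : x * y * x⁻¹ ∈ Q₂ := (Subgroup.mem_normalizer_iff.1 (h₂.2.2.2 hx) y).1 hy
      have h2 : (x * y * x⁻¹) * y⁻¹ ∈ L := by
        have e : (x * y * x⁻¹) * y⁻¹ = (x * l * x⁻¹)⁻¹ * l := by
          have e1 : x * (l * y) * x⁻¹ = l * y := by rw [hcP x hx]; group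
          have e2 : x * y * x⁻¹ = (x * l * x⁻¹)⁻¹ * (l * y) := by
            conv_rhs => rw [← e1]
            group
          rw [e2]; group
        rw [e]
        exact mul_mem (inv_mem ((inferInstance : L.Normal).conj_mem l hl x)) hl
      have h3 : (x * y * x⁻¹) * y⁻¹ = 1 := by
        rw [← Subgroup.mem_bot, ← hQL]
        exact Subgroup.mem_inf.2 ⟨h2, Q₂.mul_mem h1 (Q₂.inv_mem hy)⟩
      rwa [mul_inv_eq_one, mul_inv_eq_iff_eq_mul] at h3
    refine ⟨l, hl, fun x hx => ?_, ?_⟩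
    · have h1 := hcP x hx
      rw [← mul_assoc, mul_assoc l y x, ← hyP x hx, ← mul_assoc] at h1
      exact mul_right_cancel h1
    · rw [map_mul, mul_smul, CfsgLib.SZ.conj_smul_self_of_mem hy]
  obtain ⟨A, hA⟩ : ∃ A, P ⊔ Q₂ = A := ⟨_, rfl⟩
  obtain ⟨c, hc, hcP, he⟩ :=
    exists_conj_invSylow (q := q) hP hPM hpM (hinvM Q₂ h₂) (hinvM Q₁ h₁)
  obtain ⟨l, hl, hlP, hel⟩ := hdec c hc hcP
  rw [← he, hel]
  -- the fixed points of `L` centralize `Q₂`
  haveI := h₂.2.1.isNilpotent
  haveI : Group.IsSolvable ↥(P ⊔ Q₂) := by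
    haveI : (Q₂.subgroupOf (P ⊔ Q₂)).Normal := (Subgroup.normal_subgroupOf_iff_le_normalizer
      le_sup_right).2 (sup_le h₂.2.2.2 Subgroup.le_normalizer)
    haveI : Group.IsSolvable (Q₂.subgroupOf (P ⊔ Q₂)) :=
      Group.isSolvable_of_isSolvable_injective
        (f := (Subgroup.subgroupOfEquivOfLe (le_sup_right : Q₂ ≤ P ⊔ Q₂)).toMonoidHom)
        (Subgroup.subgroupOfEquivOfLe (le_sup_right : Q₂ ≤ P ⊔ Q₂)).injective
    haveI : Group.IsSolvable (P.subgroupOf (P ⊔ Q₂)) :=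
      Group.isSolvable_of_isSolvable_injective
        (f := (Subgroup.subgroupOfEquivOfLe (le_sup_left : P ≤ P ⊔ Q₂)).toMonoidHom)
        (Subgroup.subgroupOfEquivOfLe (le_sup_left : P ≤ P ⊔ Q₂)).injective
    have h1 := CfsgLib.Comp.isSolvable_sup (A := Q₂.subgroupOf (P ⊔ Q₂))
      (B := P.subgroupOf (P ⊔ Q₂)) inferInstance inferInstance
    rw [← Subgroup.subgroupOf_sup le_sup_left le_sup_right, Subgroup.subgroupOf_self] at h1
    exact Group.isSolvable_of_surjective (f := (⊤ : Subgroup ↥(P ⊔ Q₂)).subtype)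
      (fun x => ⟨⟨x, trivial⟩, rfl⟩)
  have hcopA : (Nat.card L).Coprime (Nat.card ↥(P ⊔ Q₂)) := by
    obtain ⟨b, hb⟩ := IsPGroup.iff_card.1 h₂.2.1
    refine Nat.Coprime.coprime_dvd_right (CfsgLib.Solvable.card_sup_dvd h₂.2.2.2) ?_
    rw [hb]
    exact Nat.Coprime.mul_right (hcpK.symm.coprime_dvd_left (Subgroup.card_dvd_of_le hLK))
      ((hq.out.coprime_iff_not_dvd.2 hqL).pow_left b).symm
  have hkey : ∀ θ : Cfsg.IrrCharacter L, Inv L P (θ : L → ℂ) → Inv L (P ⊔ Q₂) (θ : L → ℂ) := by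
    intro θ hθ
    haveI := Fintype.ofFinite K
    haveI := Fintype.ofFinite L
    haveI := Fintype.ofFinite G
    obtain ⟨χ, hχc, hχinv⟩ := exists_invariant_over (S := P) hLK inferInstance
      (fun s _ g hg => (inferInstance : K.Normal).conj_mem g hg s)
      (fun g _ n hn => (inferInstance : L.Normal).conj_mem n hn g)
      (fun s _ n hn => (inferInstance : L.Normal).conj_mem n hn s) hcpK.symm θ hθ
    obtain ⟨T, hT⟩ : ∃ T, inertia (G := G) (θ : L → ℂ) = T := ⟨_, rfl⟩
    have hmemT : ∀ g, g ∈ T ↔ InvBy L g (θ : L → ℂ) := fun g => by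
      rw [← hT, mem_inertia_iff]
      exact ⟨fun h k k' e => (congrArg (θ : L → ℂ) (Subtype.ext e)).trans (h k),
        fun h k => h k _ rfl⟩
    -- the index of the inertia group divides the degree of `χ`
    have hTK : ¬ q ∣ T.relIndex K := by
      haveI := Fintype.ofFinite (L.subgroupOf K)
      have hθ' := isIrrCharacter_pullBack hLK θ.2
      have hne : Cfsg.classInner (fun n : L.subgroupOf K => (χ : K → ℂ) n)
          (pullBack (T := K) (θ : L → ℂ)) ≠ 0 := by
        rw [show (fun n : L.subgroupOf K => (χ : K → ℂ) n) = pullBack (T := K)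
          (fun n : L => (χ : K → ℂ) ⟨n, hLK n.2⟩) from rfl, classInner_pullBack hLK]
        exact hχc
      obtain ⟨T', hT'⟩ : ∃ T', inertia (G := ↥K) (pullBack (T := K) (θ : L → ℂ)) = T' := ⟨_, rfl⟩
      have hle : T' ≤ T.subgroupOf K := fun g hg => by
        rw [← hT', mem_inertia_iff] at hg
        rw [Subgroup.mem_subgroupOf, hmemT]
        intro k k' e
        have h1 := hg ⟨⟨k, hLK k.2⟩, k.2⟩
        refine Eq.trans ?_ h1
        exact congrArg (θ : L → ℂ) (Subtype.ext e)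
      have hdvd := degree_eq_mul χ.2 hθ' hne
      obtain ⟨e, he⟩ := IsCharacter.exists_classInner_eq_natCast
        (IsCharacter.restrict (IsIrrCharacter.isCharacter χ.2) (L.subgroupOf K)) hθ'
      obtain ⟨d, -, hd⟩ := IsIrrCharacter.exists_degree χ.2
      obtain ⟨d', -, hd'⟩ := IsIrrCharacter.exists_degree hθ'
      rw [he, hd, hd', hT', ← Nat.cast_mul, ← Nat.cast_mul, Nat.cast_inj] at hdvd
      intro hbad
      refine hdeg χ hχinv ?_
      rw [charDegree_eq_natCast hd, hdvd]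
      exact ((hbad.trans (Subgroup.index_dvd_of_le hle)).mul_left _).mul_right _
    have hPT : P ≤ T := fun x hx => (hmemT x).2 (hθ x hx)
    have hLT : L ≤ T := hT ▸ le_inertia (IsIrrCharacter.isClassFunction θ.2)
    obtain ⟨Q₃, hQ₃⟩ := exists_invSylow (q := q) (K := T ⊓ K) hP
      (fun x hx => Subgroup.inf_normalizer_le_normalizer_inf (H := T) (K := K)
        ⟨Subgroup.le_normalizer (hPT hx),
          (Subgroup.normalizer_eq_top_iff.2 (inferInstance : K.Normal)).ge trivial⟩)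
      (fun hd => hpK (hd.trans (Subgroup.card_dvd_of_le inf_le_right)))
    have hQ₃K : InvSylow q P K Q₃ := ⟨hQ₃.1.trans inf_le_right, hQ₃.2.1, fun hd => by
      rw [← Subgroup.relIndex_mul_relIndex Q₃ (T ⊓ K) K hQ₃.1 inf_le_right,
        Subgroup.inf_relIndex_right] at hd
      exact (hq.out.dvd_mul.1 hd).elim hQ₃.2.2.1 hTK, hQ₃.2.2.2⟩
    obtain ⟨d, hd, hdP, hed⟩ :=
      exists_conj_invSylow (q := q) hP hPM hpM (hinvM Q₂ h₂) (hinvM Q₃ hQ₃K)
    obtain ⟨l', hl', -, hel'⟩ := hdec d hd hdP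
    have hQT : P ⊔ Q₂ ≤ T := by
      refine sup_le hPT fun y hy => ?_
      have h1 : l' * y * l'⁻¹ ∈ T := (hQ₃.1 (by
        rw [← hed, hel']
        exact Subgroup.smul_mem_pointwise_smul y (MulAut.conj l') Q₂ hy)).1
      have h2 := T.mul_mem (T.mul_mem (T.inv_mem (hLT hl')) h1) (hLT hl')
      simpa [mul_assoc] using h2
    exact fun x hx => (hmemT x).1 (hQT hx)
  have hlQ := commute_of_inv inferInstance inferInstance hcopA hkey hl hlP
  ext x
  rw [Subgroup.mem_pointwise_smul_iff_inv_smul_mem]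
  simp only [MulAut.smul_def, ← map_inv, MulAut.conj_apply, inv_inv]
  constructor
  · intro hx
    have e := hlQ _ hx
    have : x = l⁻¹ * x * l := by
      calc x = l * (l⁻¹ * x * l) * l⁻¹ := by group
        _ = (l⁻¹ * x * l) * l * l⁻¹ := by rw [← e]
        _ = l⁻¹ * x * l := by group
    exact this ▸ hx
  · intro hx
    rw [mul_assoc, hlQ x hx, inv_mul_cancel_left]
    exact hx

/-- **Navarro–Wolf**: if every `P`-invariant character of the `q`-soluble `p'`-group `K` has
degree prime to `q`, then `K` has a unique `P`-invariant Sylow `q`-subgroup. -/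
theorem invSylow_unique_aux (hpq : p ≠ q) : ∀ (n : ℕ) (G : Type u) [Group G] [Finite G]
    (P K : Subgroup G) [K.Normal], Nat.card K ≤ n → IsPGroup p P → ¬ p ∣ Nat.card K →
    Cfsg.IsPSolvable q K →
    (∀ χ : Cfsg.IrrCharacter K, Inv K P (χ : K → ℂ) → ¬ q ∣ Cfsg.charDegree (χ : K → ℂ)) →
    ∀ Q₁ Q₂ : Subgroup G, InvSylow q P K Q₁ → InvSylow q P K Q₂ → Q₁ = Q₂ := by
  intro n
  induction n with
  | zero => intro G _ _ P K _ h; exact absurd h (by have := Nat.card_pos (α := K); omega)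
  | succ n ih =>
    intro G _ _ P K hKn hcard hP hpK hqs hdeg Q₁ Q₂ h₁ h₂
    classical
    rcases eq_or_ne K ⊥ with hK | hK
    · have a := h₁.1
      have b := h₂.1
      rw [hK, le_bot_iff] at a b
      rw [a, b]
    haveI := (Subgroup.nontrivial_iff_ne_bot K).2 hK
    -- reduction modulo a nontrivial normal subgroup
    have red : ∀ L : Subgroup G, ∀ [L.Normal], L ≤ K → L ≠ ⊥ →
        ∀ R₁ R₂ : Subgroup G, InvSylow q P K R₁ → InvSylow q P K R₂ →
          R₁.map (QuotientGroup.mk' L) = R₂.map (QuotientGroup.mk' L) := by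
      intro L _ hLK hL R₁ R₂ hR₁ hR₂
      haveI := (inferInstance : K.Normal).map (QuotientGroup.mk' L) (QuotientGroup.mk'_surjective L)
      let π : K →* K.map (QuotientGroup.mk' L) := (QuotientGroup.mk' L).subgroupMap K
      have hπ : Function.Surjective π := (QuotientGroup.mk' L).subgroupMap_surjective K
      refine ih (G ⧸ L) (P.map (QuotientGroup.mk' L)) (K.map (QuotientGroup.mk' L)) ?_
        (hP.map _) (fun hd => hpK (hd.trans (Subgroup.card_map_dvd _ _)))
        (CfsgLib.PConstrained.isPSolvable_map π hπ hqs) (fun χ hχ => ?_) _ _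
        (hR₁.map L hLK) (hR₂.map L hLK)
      · have hlt : Nat.card (K.map (QuotientGroup.mk' L)) < Nat.card K := by
          have h := L.relIndex_mul_relIndex K ⊤ hLK le_top
          have h1 : Nat.card (K.map (QuotientGroup.mk' L)) = L.relIndex K := by
            have h2 := Subgroup.relIndex_comap ⊥ (QuotientGroup.mk' L) K
            rw [Subgroup.relIndex_bot_left, MonoidHom.comap_bot, QuotientGroup.ker_mk'] at h2
            exact h2.symm
          rw [h1]
          have h3 := Subgroup.relIndex_mul_relIndex ⊥ L K bot_le hLK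
          rw [Subgroup.relIndex_bot_left, Subgroup.relIndex_bot_left] at h3
          rw [← h3]
          exact lt_mul_of_one_lt_left (Nat.pos_of_ne_zero Subgroup.index_ne_zero_of_finite)
            ((Subgroup.one_lt_card_iff_ne_bot L).2 hL)
        omega
      · have hirr : Cfsg.IsIrrCharacter K (fun k => (χ : _ → ℂ) (π k)) :=
          IsIrrCharacter.comp_surjective χ.2 π hπ
        have h1 := hdeg ⟨_, hirr⟩ (fun x hx k k' e => hχ _ (Subgroup.mem_map_of_mem _ hx) _ _
          (by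
            change QuotientGroup.mk' L (k' : G) = _ * QuotientGroup.mk' L (k : G) * _
            rw [e, map_mul, map_mul, map_inv]))
        have h2 : Cfsg.charDegree (fun k => (χ : _ → ℂ) (π k)) =
            Cfsg.charDegree (χ : K.map (QuotientGroup.mk' L) → ℂ) := by
          unfold Cfsg.charDegree; simp only [map_one]
        rwa [← h2]
    rcases CfsgLib.PConstrained.exists_core_ne_bot hqs with h | h
    · obtain ⟨L, hL⟩ : ∃ L, (Cfsg.pCore q K).map K.subtype = L := ⟨_, rfl⟩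
      haveI : L.Normal := hL ▸ CfsgLib.PConstrained.normal_map_pCore inferInstance
      have hLK : L ≤ K := hL ▸ Subgroup.map_subtype_le _
      have hLq : IsPGroup q L := hL ▸ (CfsgLib.Solvable.isPGroup_pCore q).map _
      have hLne : L ≠ ⊥ := hL ▸ fun e =>
        h ((Subgroup.map_eq_bot_iff_of_injective _ K.subtype_injective).1 e)
      have hsup : ∀ Q, InvSylow q P K Q → Q ⊔ L = Q := fun Q hQ =>
        hQ.eq_of_le le_sup_left (sup_le hQ.1 hLK) (hQ.2.1.to_sup_of_normal_right hLq)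
      have h3 := congrArg (Subgroup.comap (QuotientGroup.mk' L)) (red L hLK hLne Q₁ Q₂ h₁ h₂)
      rwa [Subgroup.comap_map_eq, Subgroup.comap_map_eq, QuotientGroup.ker_mk', hsup _ h₁,
        hsup _ h₂] at h3
    · obtain ⟨L, hL⟩ : ∃ L, (Cfsg.pPrimeCore q K).map K.subtype = L := ⟨_, rfl⟩
      haveI : L.Normal := hL ▸ CfsgLib.PConstrained.normal_map_pPrimeCore inferInstance
      have hLK : L ≤ K := hL ▸ Subgroup.map_subtype_le _
      have hqL : ¬ q ∣ Nat.card L := fun hd => hq.out.ne_one (Nat.eq_one_of_dvd_coprimes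
        (CfsgLib.Solvable.coprime_card_pPrimeCore q (G := K))
        (by rwa [← hL, Subgroup.card_map_of_injective K.subtype_injective] at hd) dvd_rfl)
      have hLne : L ≠ ⊥ := hL ▸ fun e =>
        h ((Subgroup.map_eq_bot_iff_of_injective _ K.subtype_injective).1 e)
      exact invSylow_unique_step hpq hP hLK hpK hqL hdeg (red L hLK hLne) Q₁ Q₂ h₁ h₂

/-- An invariant character of the `p'`-core has degree prime to `q`. -/
theorem invariant_degree {Y : Type u} [Group Y] [Finite Y] (P : Sylow p Y) {K : Subgroup Y}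
    [K.Normal] (hpK : ¬ p ∣ Nat.card K)
    (hdeg : ∀ χ : Cfsg.IrrCharacter Y, ¬ p ∣ Cfsg.charDegree (χ : Y → ℂ) →
      ¬ q ∣ Cfsg.charDegree (χ : Y → ℂ))
    (θ : Cfsg.IrrCharacter K) (hθ : Inv K (P : Subgroup Y) (θ : K → ℂ)) :
    ¬ q ∣ Cfsg.charDegree (θ : K → ℂ) := by
  classical
  haveI := Fintype.ofFinite Y
  haveI := Fintype.ofFinite K
  obtain ⟨U, hU⟩ : ∃ U, K ⊔ (P : Subgroup Y) = U := ⟨_, rfl⟩
  have hKU : K ≤ U := hU ▸ le_sup_left
  have hPU : (P : Subgroup Y) ≤ U := hU ▸ le_sup_right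
  haveI := Fintype.ofFinite U
  haveI := Fintype.ofFinite (K.subgroupOf U)
  have hθ' := isIrrCharacter_pullBack hKU θ.2
  have hUT : U ≤ inertia (θ : K → ℂ) := hU ▸ sup_le
    (le_inertia (IsIrrCharacter.isClassFunction θ.2))
    (fun y hy => (mem_inertia_iff _ _).2 fun n => hθ y hy _ _ rfl)
  have hinv : ∀ (g : U) (n : K.subgroupOf U), pullBack (T := U) (θ : K → ℂ)
      ⟨g * n * g⁻¹, Subgroup.Normal.conj_mem inferInstance (n : U) n.2 g⟩ =
        pullBack (T := U) (θ : K → ℂ) n := fun g n =>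
    (mem_inertia_iff _ _).1 (hUT g.2) ⟨((n : U) : Y), Subgroup.mem_subgroupOf.1 n.2⟩
  have hcop : Nat.Coprime (Nat.card (K.subgroupOf U)) (K.subgroupOf U).index := by
    rw [Nat.card_congr (Subgroup.subgroupOfEquivOfLe hKU).toEquiv]
    obtain ⟨a, ha⟩ := IsPGroup.iff_card.1 P.2
    refine Nat.Coprime.coprime_dvd_right ?_
      ((hp.out.coprime_iff_not_dvd.2 hpK).symm.pow_right a)
    show K.relIndex U ∣ p ^ a
    rw [← ha, ← hU, sup_comm, Subgroup.relIndex_sup_right]
    exact Subgroup.index_dvd_card (K.subgroupOf (P : Subgroup Y))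
  obtain ⟨η, hη, hηθ⟩ := exists_extension_of_coprime hθ' hinv hcop
  obtain ⟨d₀, -, hd₀⟩ := IsIrrCharacter.exists_degree θ.2
  have hη1 : η 1 = (d₀ : ℂ) := by
    have h1 := hηθ 1
    rw [OneMemClass.coe_one] at h1
    exact h1.trans hd₀
  have hpd₀ : ¬ p ∣ d₀ := fun h => hpK (h.trans (IsIrrCharacter.degree_dvd_card θ.2 hd₀))
  have hpU : ¬ p ∣ U.index := fun h => P.not_dvd_index (h.trans (Subgroup.index_dvd_of_le hPU))
  obtain ⟨f, d, hf, hd, hpd, hfc⟩ := PPrimeKernel.exists_constituent_not_dvd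
    (IsCharacter.indFun (IsIrrCharacter.isCharacter hη)) (m := U.index * d₀)
    (by rw [indFun_one, hη1]; simp) (fun h => (hp.out.dvd_mul.1 h).elim hpU hpd₀)
  rw [classInner_indFun _ (IsIrrCharacter.isClassFunction hf), ← classInner_conj] at hfc
  have hne : Cfsg.classInner (fun y : U => f y) η ≠ 0 := fun h => hfc (by rw [h, map_zero])
  have h2 := PPrimeKernel.classInner_restrict_trans (K.subgroupOf U)
    (IsCharacter.restrict (IsIrrCharacter.isCharacter hf) U) hη
    (IsIrrCharacter.isCharacter hθ') hne (by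
      rw [funext hηθ, IsIrrCharacter.classInner_self hθ']
      exact one_ne_zero)
  rw [show (fun b : K.subgroupOf U => f ((b : U) : Y)) = pullBack (T := U) (fun n : K => f n) from
    rfl, classInner_pullBack hKU] at h2
  obtain ⟨k, -, hk⟩ := exists_degree_ratio hf θ.2 h2
  rw [hd, hd₀, ← Nat.cast_mul, Nat.cast_inj] at hk
  have hq' := hdeg ⟨f, hf⟩ (by rwa [charDegree_eq_natCast hd])
  rw [charDegree_eq_natCast hd] at hq'
  rw [charDegree_eq_natCast hd₀]
  exact fun h => hq' (hk ▸ h.mul_left k)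

/-- If `O_{p'}(G) = 1` and every character of degree prime to `p` has degree prime to `q`,
then `q` does not divide `|G|`. -/
theorem not_dvd_card_aux (hpq : p ≠ q) : ∀ (n : ℕ) (G : Type u) [Group G] [Finite G],
    Nat.card G ≤ n → Cfsg.IsPSolvable p G → Cfsg.IsPSolvable q G → Cfsg.pPrimeCore p G = ⊥ →
    (∀ χ : Cfsg.IrrCharacter G, ¬ p ∣ Cfsg.charDegree (χ : G → ℂ) →
      ¬ q ∣ Cfsg.charDegree (χ : G → ℂ)) →
    ¬ q ∣ Nat.card G := by
  intro n
  induction n with
  | zero => intro G _ _ h; exact absurd h (by have := Nat.card_pos (α := G); omega)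
  | succ n ih =>
    intro G _ _ hcard hps hqs h0 hdeg hqG
    classical
    haveI := Fintype.ofFinite G
    haveI : Nontrivial G := Finite.one_lt_card_iff_nontrivial.1
      (lt_of_lt_of_le hq.out.one_lt (Nat.le_of_dvd Nat.card_pos hqG))
    have hne := (CfsgLib.PConstrained.exists_core_ne_bot hps).resolve_right (· h0)
    haveI := CfsgLib.Solvable.pCore_normal (G := G) p
    obtain ⟨W, hWn, hW1, hWle, hmin⟩ := CfsgLib.Solvable.exists_minimal_normal_le hne
    haveI := hWn
    have hWp : IsPGroup p W := (CfsgLib.Solvable.isPGroup_pCore p).to_le hWle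
    haveI := hWp.isNilpotent
    obtain ⟨hWab, -⟩ := CfsgLib.Solvable.minimal_normal_elementary hW1 hmin inferInstance
    have hπ : Function.Surjective (QuotientGroup.mk' W) := QuotientGroup.mk'_surjective W
    obtain ⟨K, hK⟩ : ∃ K, Cfsg.pPrimeCore p (G ⧸ W) = K := ⟨_, rfl⟩
    haveI : K.Normal := hK ▸ CfsgLib.Solvable.pPrimeCore_normal p
    have hpK : ¬ p ∣ Nat.card K := fun hd => hp.out.ne_one (Nat.eq_one_of_dvd_coprimes
      (hK ▸ CfsgLib.Solvable.coprime_card_pPrimeCore p) hd dvd_rfl)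
    have hpsY : Cfsg.IsPSolvable p (G ⧸ W) := CfsgLib.PConstrained.isPSolvable_map _ hπ hps
    have hqsY : Cfsg.IsPSolvable q (G ⧸ W) := CfsgLib.PConstrained.isPSolvable_map _ hπ hqs
    have hdegY : ∀ χ : Cfsg.IrrCharacter (G ⧸ W), ¬ p ∣ Cfsg.charDegree (χ : G ⧸ W → ℂ) →
        ¬ q ∣ Cfsg.charDegree (χ : G ⧸ W → ℂ) := fun χ hχ =>
      hdeg ⟨_, IsIrrCharacter.comp_surjective χ.2 _ hπ⟩ hχ
    -- by induction `q` does not divide the index of the `p'`-core of the quotient
    have hqK : ¬ q ∣ K.index := by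
      subst hK
      haveI := CfsgLib.Solvable.pPrimeCore_normal (G := G ⧸ W) p
      have hsur := QuotientGroup.mk'_surjective (Cfsg.pPrimeCore p (G ⧸ W))
      refine ih ((G ⧸ W) ⧸ Cfsg.pPrimeCore p (G ⧸ W)) ?_
        (CfsgLib.PConstrained.isPSolvable_map _ hsur hpsY)
        (CfsgLib.PConstrained.isPSolvable_map _ hsur hqsY)
        (CfsgLib.Fitting.pPrimeCore_quotient_eq_bot p) fun χ hχ =>
          hdegY ⟨_, IsIrrCharacter.comp_surjective χ.2 _ hsur⟩ hχ
      have h1 := CfsgLib.Solvable.card_quotient_lt hW1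
      have h2 := Nat.le_of_dvd Nat.card_pos
        (Subgroup.card_quotient_dvd_card (Cfsg.pPrimeCore p (G ⧸ W)))
      omega
    obtain ⟨P⟩ : Nonempty (Sylow p G) := inferInstance
    obtain ⟨Pb, hPb⟩ : ∃ Pb : Sylow p (G ⧸ W),
        (Pb : Subgroup (G ⧸ W)) = (P : Subgroup G).map (QuotientGroup.mk' W) :=
      ⟨P.mapSurjective hπ, Sylow.coe_mapSurjective _ _⟩
    have hWP : W ≤ (P : Subgroup G) :=
      hWle.trans (CfsgLib.Fitting.pCore_le_sylow P)
    have hPK : (Pb : Subgroup (G ⧸ W)) ≤ Subgroup.normalizer (K : Set (G ⧸ W)) := by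
      rw [Subgroup.normalizer_eq_top_iff.2 inferInstance]; exact le_top
    obtain ⟨Qb, hQb⟩ := exists_invSylow (q := q) Pb.2 hPK hpK
    obtain ⟨M, hM⟩ : ∃ M, Qb.comap (QuotientGroup.mk' W) = M := ⟨_, rfl⟩
    have hWM : W ≤ M := fun x hx => by
      rw [← hM, Subgroup.mem_comap, QuotientGroup.mk'_apply, (QuotientGroup.eq_one_iff x).2 hx]
      exact Qb.one_mem
    obtain ⟨Q, hQ⟩ : ∃ Q, ((default : Sylow q M) : Subgroup M).map M.subtype = Q := ⟨_, rfl⟩
    have hQq : IsPGroup q Q := hQ ▸ (default : Sylow q M).2.map _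
    have hQM : Q ≤ M := hQ ▸ Subgroup.map_subtype_le _
    have hQrel : ¬ q ∣ Q.relIndex M := by
      rw [← hQ, Subgroup.relIndex, ← Subgroup.comap_subtype,
        Subgroup.comap_map_eq_self_of_injective M.subtype_injective]
      exact (default : Sylow q M).not_dvd_index
    have hMsup : M ≤ Q ⊔ W := by
      rw [← Subgroup.relIndex_eq_one]
      obtain ⟨b, hb⟩ := IsPGroup.iff_card.1 hQb.2.1
      have hW' : W.relIndex M = q ^ b := by
        have h := Subgroup.relIndex_comap ⊥ (QuotientGroup.mk' W) M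
        rw [← hM, Subgroup.map_comap_eq_self_of_surjective hπ, Subgroup.relIndex_bot_left,
          MonoidHom.comap_bot, QuotientGroup.ker_mk', hb] at h
        exact hM ▸ h
      exact Nat.eq_one_of_dvd_coprimes ((hq.out.coprime_iff_not_dvd.2 hQrel).pow_left b)
        (hW' ▸ Subgroup.relIndex_dvd_of_le_left _ le_sup_right)
        (Subgroup.relIndex_dvd_of_le_left _ le_sup_left)
    obtain ⟨a, ha⟩ := IsPGroup.iff_card.1 hWp
    obtain ⟨b, hb⟩ := IsPGroup.iff_card.1 hQq
    have hcQW : (Nat.card Q).Coprime (Nat.card W) :=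
      ha ▸ hb ▸ Nat.Coprime.pow b a ((Nat.coprime_primes hq.out hp.out).2 (Ne.symm hpq))
    have hQW : Q ≤ Subgroup.normalizer (W : Set G) := by
      rw [Subgroup.normalizer_eq_top_iff.2 inferInstance]; exact le_top
    have hdec : ∀ x ∈ (P : Subgroup G), ∃ w ∈ W, w⁻¹ * x ∈ Subgroup.normalizer (Q : Set G) := by
      intro x hx
      obtain ⟨k, hk, he⟩ := CfsgLib.SZ.conj_rel (A := Q) (B := MulAut.conj x • Q) (K := W) hQW
        hcQW (Or.inr inferInstance) (fun y hy => by
          obtain ⟨z, hz, rfl⟩ := hy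
          refine hMsup ?_
          rw [← hM, Subgroup.mem_comap]
          have h1 : QuotientGroup.mk' W x ∈ (Pb : Subgroup (G ⧸ W)) :=
            hPb ▸ Subgroup.mem_map_of_mem _ hx
          have h2 := hQM hz
          rw [← hM, Subgroup.mem_comap] at h2
          have h3 := (Subgroup.mem_normalizer_iff.1 (hQb.2.2.2 h1) _).1 h2
          rw [← map_inv, ← map_mul, ← map_mul] at h3
          exact h3) (CfsgLib.SZ.card_conj_smul x Q)
      refine ⟨k, hk, CfsgLib.SZ.conj_smul_eq_iff_mem_normalizer.1 ?_⟩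
      rw [map_mul, mul_smul, ← he]
      exact CfsgLib.SZ.conj_smul_inv_smul k Q
    -- the fixed points of `Q` on `W` form a normal subgroup of `P`
    have hJ : ((W ⊓ Subgroup.centralizer (Q : Set G)).subgroupOf (P : Subgroup G)).Normal := by
      refine ⟨fun j hj x => ?_⟩
      rw [Subgroup.mem_subgroupOf, Subgroup.mem_inf, Subgroup.mem_centralizer_iff] at hj ⊢
      obtain ⟨w, hw, hwx⟩ := hdec x x.2
      obtain ⟨y, hy⟩ : ∃ y, w⁻¹ * (x : G) = y := ⟨_, rfl⟩
      rw [hy] at hwx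
      have hyjW : y * (j : G) * y⁻¹ ∈ W := hWn.conj_mem _ hj.1 y
      have hxe : ((x * j * x⁻¹ : (P : Subgroup G)) : G) = y * (j : G) * y⁻¹ := by
        simp only [Subgroup.coe_mul, Subgroup.coe_inv]
        rw [show (x : G) = w * y by rw [← hy, mul_inv_cancel_left]]
        calc w * y * (j : G) * (w * y)⁻¹ = w * (y * (j : G) * y⁻¹) * w⁻¹ := by group
          _ = y * (j : G) * y⁻¹ * w * w⁻¹ := by
            rw [show w * (y * (j : G) * y⁻¹) = y * (j : G) * y⁻¹ * w from
              congrArg Subtype.val (hWab.is_comm.comm ⟨w, hw⟩ ⟨_, hyjW⟩)]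
          _ = y * (j : G) * y⁻¹ := by group
      rw [hxe]
      refine ⟨hyjW, fun h hh => ?_⟩
      have h4 : y⁻¹ * h * y ∈ Q := (Subgroup.mem_normalizer_iff''.1 hwx h).1 hh
      have h5 := hj.2 _ h4
      calc h * (y * (j : G) * y⁻¹) = y * ((y⁻¹ * h * y) * (j : G)) * y⁻¹ := by group
        _ = y * ((j : G) * (y⁻¹ * h * y)) * y⁻¹ := by rw [h5]
        _ = y * (j : G) * y⁻¹ * h := by group
    obtain ⟨J, hJdef⟩ : ∃ J, (W ⊓ Subgroup.centralizer (Q : Set G)).subgroupOf (P : Subgroup G) = J :=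
      ⟨_, rfl⟩
    haveI : J.Normal := hJdef ▸ hJ
    have hJmem : ∀ x : (P : Subgroup G),
        x ∈ J ↔ (x : G) ∈ W ∧ ∀ y ∈ Q, y * (x : G) = x * y := fun x => by
      rw [← hJdef, Subgroup.mem_subgroupOf, Subgroup.mem_inf, Subgroup.mem_centralizer_iff]; rfl
    obtain ⟨Wb, hWb⟩ : ∃ Wb, (W.subgroupOf (P : Subgroup G)).map (QuotientGroup.mk' J) = Wb :=
      ⟨_, rfl⟩
    haveI : Wb.Normal :=
      hWb ▸ Subgroup.Normal.map inferInstance _ (QuotientGroup.mk'_surjective J)
    have hWb1 : Wb ≠ ⊥ := by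
      intro he
      have hcen : ∀ w ∈ W, ∀ y ∈ Q, y * w = w * y := by
        intro w hw y hy
        have h1 : QuotientGroup.mk' J ⟨w, hWP hw⟩ ∈ Wb :=
          hWb ▸ Subgroup.mem_map_of_mem _ (Subgroup.mem_subgroupOf.2 hw)
        rw [he, Subgroup.mem_bot] at h1
        exact ((hJmem _).1 ((QuotientGroup.eq_one_iff _).1 h1)).2 y hy
      refine hqK ?_
      have hQ0 : Qb = ⊥ := by
        obtain ⟨C, hC⟩ : ∃ C, K.comap (QuotientGroup.mk' W) ⊓ Subgroup.centralizer (W : Set G) = C :=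
          ⟨_, rfl⟩
        haveI : C.Normal := hC ▸ inferInstance
        have hWC : W ≤ C := fun x hx => hC ▸ Subgroup.mem_inf.2 ⟨Subgroup.mem_comap.2 (by
          rw [QuotientGroup.mk'_apply, (QuotientGroup.eq_one_iff x).2 hx]; exact K.one_mem),
            Subgroup.mem_centralizer_iff.2 fun y hy =>
              congrArg Subtype.val (hWab.is_comm.comm ⟨y, hy⟩ ⟨x, hx⟩)⟩
        have hQC : Q ≤ C := fun y hy => hC ▸ Subgroup.mem_inf.2 ⟨Subgroup.mem_comap.2 (hQb.1 (by
          have h2 := hQM hy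
          rwa [← hM, Subgroup.mem_comap] at h2)),
            Subgroup.mem_centralizer_iff.2 fun w hw => (hcen w hw y hy).symm⟩
        have hrelK : W.relIndex C ∣ Nat.card K := by
          have h1 := Subgroup.relIndex_comap ⊥ (QuotientGroup.mk' W) C
          rw [Subgroup.relIndex_bot_left, MonoidHom.comap_bot, QuotientGroup.ker_mk'] at h1
          rw [h1]
          refine Subgroup.card_dvd_of_le (Subgroup.map_le_iff_le_comap.2 ?_)
          exact hC ▸ inf_le_left
        have hcopWC : (Nat.card W).Coprime (W.relIndex C) := ha ▸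
          ((hp.out.coprime_iff_not_dvd.2 fun h => hpK (h.trans hrelK)).pow_left a)
        obtain ⟨H', hH'⟩ := Subgroup.exists_right_complement'_of_coprime (N := W.subgroupOf C)
          (by rw [Nat.card_congr (Subgroup.subgroupOfEquivOfLe hWC).toEquiv]; exact hcopWC)
        obtain ⟨H, hH⟩ : ∃ H, H'.map C.subtype = H := ⟨_, rfl⟩
        have hHc : Nat.card H = W.relIndex C := by
          rw [← hH, Subgroup.card_map_of_injective C.subtype_injective]
          exact hH'.symm.index_eq_card.symm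
        have hHC : H ≤ C := hH ▸ Subgroup.map_subtype_le H'
        have hsupC : C ≤ H ⊔ W := by
          have := congrArg (Subgroup.map C.subtype) hH'.sup_eq_top
          rw [Subgroup.map_sup, hH, Subgroup.map_subgroupOf_eq_of_le hWC, ← MonoidHom.range_eq_map,
            Subgroup.range_subtype, sup_comm] at this
          exact this.ge
        have hHn : H.Normal := by
          refine Subgroup.normalizer_eq_top_iff.1 (eq_top_iff.2 fun g _ => ?_)
          obtain ⟨k, hk, hke⟩ := CfsgLib.SZ.conj_rel (A := H) (B := MulAut.conj g • H) (K := W)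
            Subgroup.le_normalizer_of_normal (by rw [hHc]; exact hcopWC.symm) (Or.inr inferInstance)
            (fun y hy => by
              obtain ⟨z, hz, rfl⟩ := hy
              exact hsupC ((inferInstance : C.Normal).conj_mem z (hHC hz) g))
            (CfsgLib.SZ.card_conj_smul g H)
          refine CfsgLib.SZ.conj_smul_eq_iff_mem_normalizer.1 (hke.symm.trans ?_)
          refine CfsgLib.SZ.conj_smul_eq_iff_mem_normalizer.2
            (Subgroup.mem_normalizer_fintype fun z hz => ?_)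
          have h5 : z ∈ Subgroup.centralizer (W : Set G) := by
            have := hHC hz
            rw [← hC] at this
            exact this.2
          rw [Subgroup.mem_centralizer_iff.1 h5 k hk, mul_inv_cancel_right]
          exact hz
        have hHbot : H = ⊥ := le_bot_iff.1 (h0 ▸ CfsgLib.Solvable.le_pPrimeCore p hHn (by
          rw [hHc]
          exact (hp.out.coprime_iff_not_dvd.2 fun h => hpK (h.trans hrelK)).symm))
        have hMW : M ≤ W := by
          refine hMsup.trans (sup_le (hQC.trans (hsupC.trans ?_)) le_rfl)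
          rw [hHbot, bot_sup_eq]
        rw [← Subgroup.map_comap_eq_self_of_surjective hπ Qb, hM, eq_bot_iff]
        rintro _ ⟨y, hy, rfl⟩
        exact (QuotientGroup.eq_one_iff y).2 (hMW hy)
      rw [hQ0] at hQb
      have h2 := hQb.2.2.1
      rw [Subgroup.relIndex_bot_left] at h2
      have h3 : ¬ q ∣ Nat.card W := fun hd => hpq ((Nat.prime_dvd_prime_iff_eq hq.out hp.out).1
        (hq.out.dvd_of_dvd_pow (ha ▸ hd))).symm
      have h4 : Nat.card G = Nat.card W * (Nat.card K * K.index) := by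
        rw [K.card_mul_index, ← Subgroup.index_eq_card, W.card_mul_index]
      rw [h4] at hqG
      exact ((hq.out.dvd_mul.1 hqG).resolve_left h3 |> hq.out.dvd_mul.1).resolve_left h2
    obtain ⟨M₁, hM₁W, hM₁c, hM₁card⟩ :=
      CfsgLib.Fusion.exists_central_index (P.2.to_quotient J) hWb1
    obtain ⟨P₁, hP₁⟩ : ∃ P₁, ((Subgroup.normalizer (Q : Set G)).subgroupOf (P : Subgroup G)).map
        (QuotientGroup.mk' J) = P₁ := ⟨_, rfl⟩
    obtain ⟨S, hS⟩ : ∃ S, M₁ ⊔ P₁ = S := ⟨_, rfl⟩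
    have hgen : ∀ z : (P : Subgroup G) ⧸ J, ∃ u ∈ Wb, ∃ v ∈ P₁, u * v = z := by
      intro z
      obtain ⟨x, rfl⟩ := QuotientGroup.mk'_surjective J z
      obtain ⟨w, hw, hwx⟩ := hdec x x.2
      refine ⟨QuotientGroup.mk' J ⟨w, hWP hw⟩, hWb ▸ Subgroup.mem_map_of_mem _
        (Subgroup.mem_subgroupOf.2 hw), QuotientGroup.mk' J (⟨w, hWP hw⟩⁻¹ * x), hP₁ ▸
          Subgroup.mem_map_of_mem _ (Subgroup.mem_subgroupOf.2 (by simpa using hwx)), ?_⟩
      rw [← map_mul, mul_inv_cancel_left]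
    have hcom : ∀ u ∈ Wb, ∀ z, u * z * u⁻¹ * z⁻¹ ∈ M₁ := fun u hu z =>
      hM₁c (Subgroup.commutator_mem_commutator hu (Subgroup.mem_top z))
    haveI hSn : S.Normal := by
      refine Subgroup.normalizer_eq_top_iff.1 (eq_top_iff.2 fun z _ => ?_)
      obtain ⟨u, hu, v, hv, rfl⟩ := hgen z
      refine mul_mem ?_ (Subgroup.le_normalizer (hS ▸ Subgroup.mem_sup_right hv))
      refine Subgroup.mem_normalizer_fintype fun s hs => ?_
      have h1 : u * s * u⁻¹ * s⁻¹ ∈ S := hS ▸ Subgroup.mem_sup_left (hcom u hu s)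
      simpa using S.mul_mem h1 hs
    have hcomS : commutator ((P : Subgroup G) ⧸ J) ≤ S := by
      rw [commutator_eq_closure, Subgroup.closure_le]
      rintro c ⟨x, y, rfl⟩
      obtain ⟨u, hu, v, hv, rfl⟩ := hgen x
      obtain ⟨u', hu', v', hv', rfl⟩ := hgen y
      have hvS : ∀ {g}, g ∈ P₁ → (g : ((P : Subgroup G) ⧸ J) ⧸ S) = 1 := fun h =>
        (QuotientGroup.eq_one_iff _).2 (hS ▸ Subgroup.mem_sup_right h)
      rw [SetLike.mem_coe, ← QuotientGroup.eq_one_iff, commutatorElement_def]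
      have h1 : ((u * u' * u⁻¹ * u'⁻¹ : (P : Subgroup G) ⧸ J) :
          ((P : Subgroup G) ⧸ J) ⧸ S) = 1 :=
        (QuotientGroup.eq_one_iff _).2 (hS ▸ Subgroup.mem_sup_left (hcom u hu u'))
      simpa [hvS hv, hvS hv'] using h1
    obtain ⟨u, hu, huM⟩ := SetLike.exists_of_lt (lt_of_le_of_ne hM₁W fun he => by
      rw [he] at hM₁card
      have := Nat.card_pos (α := Wb)
      have := hp.out.two_le
      nlinarith)
    obtain ⟨lam', hlam⟩ := exists_hom_ne_one (g := u) fun huc => huM (by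
      haveI : M₁.Normal := ⟨fun m hm g => by
        obtain ⟨c, hc, hcm⟩ : ∃ c ∈ M₁, g * m * g⁻¹ = c * m := by
          refine ⟨g * m * g⁻¹ * m⁻¹, ?_, by group⟩
          have := M₁.inv_mem (hcom m (hM₁W hm) g)
          simpa [mul_assoc] using this
        rw [hcm]; exact M₁.mul_mem hc hm⟩
      obtain ⟨m, hm, r, hr, he⟩ := Subgroup.mem_sup_of_normal_left.1 (hS.symm ▸ hcomS huc)
      have hrW : r ∈ Wb := by
        rw [show r = m⁻¹ * u by rw [← he, inv_mul_cancel_left]]
        exact Wb.mul_mem (Wb.inv_mem (hM₁W hm)) hu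
      suffices r = 1 by rwa [← he, this, mul_one]
      rw [← hP₁] at hr
      rw [← hWb] at hrW
      obtain ⟨x, hxN, rfl⟩ := hr
      obtain ⟨w, hw, hwx⟩ := hrW
      rw [← hwx]
      refine (QuotientGroup.eq_one_iff w).2 ((hJmem w).2 ⟨hw, fun y hy => ?_⟩)
      have hxw : x⁻¹ * w ∈ J := QuotientGroup.eq.1 hwx.symm
      have hxN' : (x : G) ∈ Subgroup.normalizer (Q : Set G) := hxN
      have hwN : (w : G) ∈ Subgroup.normalizer (Q : Set G) := by
        have h6 : ((x⁻¹ * w : (P : Subgroup G)) : G) ∈ Subgroup.normalizer (Q : Set G) :=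
          Subgroup.mem_normalizer_fintype fun z hz => by
            rw [← ((hJmem _).1 hxw).2 z hz, mul_inv_cancel_right]; exact hz
        have h7 := Subgroup.mul_mem _ hxN' h6
        simpa using h7
      have h8 : (w : G) * y * (w : G)⁻¹ * y⁻¹ ∈ Q ⊓ W :=
        Subgroup.mem_inf.2 ⟨Q.mul_mem ((Subgroup.mem_normalizer_iff.1 hwN y).1 hy) (Q.inv_mem hy),
          by
            have e : (w : G) * y * (w : G)⁻¹ * y⁻¹ = (w : G) * (y * (w : G)⁻¹ * y⁻¹) := by group
            rw [e]; exact W.mul_mem hw (hWn.conj_mem _ (W.inv_mem hw) y)⟩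
      rw [Subgroup.inf_eq_bot_of_coprime hcQW, Subgroup.mem_bot, mul_inv_eq_one,
        mul_inv_eq_iff_eq_mul] at h8
      exact h8.symm)
    obtain ⟨lam, hlamdef⟩ : ∃ lam, lam'.comp (QuotientGroup.mk' J) = lam := ⟨_, rfl⟩
    rw [← hWb] at hu
    obtain ⟨w, hw, rfl⟩ := hu
    have hlamJ : ∀ x ∈ J, lam x = 1 := fun x hx => by
      rw [← hlamdef, MonoidHom.comp_apply, QuotientGroup.mk'_apply,
        (QuotientGroup.eq_one_iff x).2 hx, map_one]
    -- a character of degree prime to `p` over `lam`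
    haveI := Fintype.ofFinite (P : Subgroup G)
    haveI := Fintype.ofFinite (W.subgroupOf (P : Subgroup G))
    haveI := Fintype.ofFinite W
    have hirr := isIrrCharacter_ofHom lam
    obtain ⟨f, d, hf, hd, hpd, hfc⟩ := PPrimeKernel.exists_constituent_not_dvd
      (IsCharacter.indFun (IsIrrCharacter.isCharacter hirr)) (m := (P : Subgroup G).index)
      (by rw [indFun_one]; simp) P.not_dvd_index
    rw [classInner_indFun _ (IsIrrCharacter.isClassFunction hf), ← classInner_conj] at hfc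
    have hne' : Cfsg.classInner (fun y : (P : Subgroup G) => f y) (fun y => (lam y : ℂ)) ≠ 0 :=
      fun h => hfc (by rw [h, map_zero])
    let μ : W →* ℂˣ := lam.comp (Subgroup.inclusion hWP)
    have hμ := isIrrCharacter_ofHom μ
    have hμ' := isIrrCharacter_pullBack hWP hμ
    have h2 := PPrimeKernel.classInner_restrict_trans (W.subgroupOf (P : Subgroup G))
      (IsCharacter.restrict (IsIrrCharacter.isCharacter hf) (P : Subgroup G)) hirr
      (IsIrrCharacter.isCharacter hμ') hne' (by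
        rw [show (fun b : W.subgroupOf (P : Subgroup G) => ((lam (b : (P : Subgroup G))) : ℂ)) =
          pullBack (T := (P : Subgroup G)) (fun y : W => (μ y : ℂ)) from rfl,
          IsIrrCharacter.classInner_self hμ']
        exact one_ne_zero)
    rw [show (fun b : W.subgroupOf (P : Subgroup G) => f ((b : (P : Subgroup G)) : G)) =
      pullBack (T := (P : Subgroup G)) (fun n : W => f n) from rfl, classInner_pullBack hWP] at h2
    obtain ⟨T, hT⟩ : ∃ T, inertia (G := G) (fun y : W => (μ y : ℂ)) = T := ⟨_, rfl⟩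
    have hqT : ¬ q ∣ T.index := by
      have hdvd := degree_eq_mul hf hμ h2
      obtain ⟨e, he⟩ := IsCharacter.exists_classInner_eq_natCast
        (IsCharacter.restrict (IsIrrCharacter.isCharacter hf) W) hμ
      rw [he, hd, hT, map_one, Units.val_one, mul_one, ← Nat.cast_mul, Nat.cast_inj] at hdvd
      have hq' := hdeg ⟨f, hf⟩ (by rwa [charDegree_eq_natCast hd])
      rw [charDegree_eq_natCast hd, hdvd] at hq'
      exact fun h => hq' (h.mul_left e)
    have hPT : (P : Subgroup G) ≤ T := fun x hx => by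
      rw [← hT, mem_inertia_iff]
      intro k
      have h1 : Subgroup.inclusion hWP
          ⟨x * k * x⁻¹, hWn.conj_mem _ k.2 x⟩ = ⟨x, hx⟩ * Subgroup.inclusion hWP k * ⟨x, hx⟩⁻¹ :=
        Subtype.ext rfl
      show (lam (Subgroup.inclusion hWP _) : ℂ) = lam (Subgroup.inclusion hWP k)
      rw [h1, map_mul, map_mul, map_inv, mul_comm (lam _) (lam _), mul_inv_cancel_right]
    have hWT : W ≤ T := hWP.trans hPT
    obtain ⟨Tb, hTb⟩ : ∃ Tb, T.map (QuotientGroup.mk' W) = Tb := ⟨_, rfl⟩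
    have hPTb : (Pb : Subgroup (G ⧸ W)) ≤ Tb := hTb ▸ hPb ▸ Subgroup.map_mono hPT
    obtain ⟨R, hR⟩ := exists_invSylow (q := q) (K := Tb ⊓ K) Pb.2
      (fun x hx => Subgroup.inf_normalizer_le_normalizer_inf (H := Tb) (K := K)
        ⟨Subgroup.le_normalizer (hPTb hx), hPK hx⟩)
      (fun hd => hpK (hd.trans (Subgroup.card_dvd_of_le inf_le_right)))
    have hqTK : ¬ q ∣ (Tb ⊓ K).relIndex K := by
      intro hd
      have h1 := Subgroup.relIndex_mul_index (inf_le_right : Tb ⊓ K ≤ K)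
      have h3 := Subgroup.relIndex_mul_index (inf_le_left : Tb ⊓ K ≤ Tb)
      have h4 : q ∣ (Tb ⊓ K).index := h1 ▸ hd.mul_right _
      rw [← h3, Subgroup.inf_relIndex_left] at h4
      refine (hq.out.dvd_mul.1 h4).elim (fun h => hqK (h.trans
        (Subgroup.relIndex_dvd_index_of_normal K Tb))) fun h => hqT ?_
      rwa [← hTb, Subgroup.index_map_eq _ hπ (by rwa [QuotientGroup.ker_mk'])] at h
    have hRK : InvSylow q (Pb : Subgroup (G ⧸ W)) K R := ⟨hR.1.trans inf_le_right, hR.2.1,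
      fun hd => by
        rw [← Subgroup.relIndex_mul_relIndex R (Tb ⊓ K) K hR.1 inf_le_right] at hd
        exact (hq.out.dvd_mul.1 hd).elim hR.2.2.1 hqTK, hR.2.2.2⟩
    have huniq : Qb = R := invSylow_unique_aux hpq (Nat.card K) (G ⧸ W) _ K le_rfl Pb.2 hpK
      (CfsgLib.PConstrained.isPSolvable_comap K.subtype K.subtype_injective hqsY)
      (fun χ hχ => invariant_degree Pb hpK hdegY χ hχ) _ _ hQb hRK
    have hQT : Q ≤ T := by
      refine hQM.trans ?_
      rw [← hM, huniq]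
      refine (Subgroup.comap_mono (hR.1.trans inf_le_left)).trans ?_
      rw [← hTb, Subgroup.comap_map_eq, QuotientGroup.ker_mk', sup_eq_left.2 hWT]
    -- the average over `Q` lies in the fixed points
    apply hlam
    haveI := Fintype.ofFinite Q
    letI : CommGroup W := { (inferInstance : Group W) with mul_comm := hWab.is_comm.comm }
    let act : Q → W → W := fun y k => ⟨y * k * (y : G)⁻¹, hWn.conj_mem _ k.2 y⟩
    obtain ⟨v, hv⟩ : ∃ v : W, ∏ y : Q, act y ⟨w, hw⟩ = v := ⟨_, rfl⟩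
    have hvfix : ∀ z : Q, act z v = v := by
      intro z
      let c : W →* W := MonoidHom.mk' (act z) fun k k' => Subtype.ext (by simp [act, mul_assoc])
      calc act z v = c v := rfl
        _ = ∏ y : Q, c (act y ⟨w, hw⟩) := by rw [← hv, map_prod]
        _ = ∏ y : Q, act (z * y) ⟨w, hw⟩ := Finset.prod_congr rfl fun y _ =>
              Subtype.ext (by simp [c, act, mul_assoc])
        _ = v := (Fintype.prod_equiv (Equiv.mulLeft z) _ _ fun _ => rfl).trans hv
    have hv1 : μ v = 1 := hlamJ _ ((hJmem _).2 ⟨v.2, fun y hy =>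
      mul_inv_eq_iff_eq_mul.1 (congrArg Subtype.val (hvfix ⟨y, hy⟩))⟩)
    have hμinv : ∀ y : Q, μ (act y ⟨w, hw⟩) = μ ⟨w, hw⟩ := fun y => Units.ext
      ((mem_inertia_iff (fun k : W => (μ k : ℂ)) (y : G)).1 (by rw [hT]; exact hQT y.2) ⟨w, hw⟩)
    rw [← hv, map_prod, Finset.prod_congr rfl fun y _ => hμinv y, Finset.prod_const,
      Finset.card_univ, ← Nat.card_eq_fintype_card, hb] at hv1
    have hwa : μ ⟨w, hw⟩ ^ p ^ a = 1 := by
      rw [← map_pow, ← ha, pow_card_eq_one', map_one]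
    have h9 : μ ⟨w, hw⟩ = 1 := orderOf_eq_one_iff.1 (Nat.eq_one_of_dvd_coprimes
      ((((Nat.coprime_primes hp.out hq.out).2 hpq).pow_left a).pow_right b)
      (orderOf_dvd_of_pow_eq_one hwa) (orderOf_dvd_of_pow_eq_one hv1))
    have h10 : lam w = 1 := h9
    rw [← hlamdef] at h10
    exact h10

/-- If `O_{p'}(G) = 1` and every character of degree prime to `p` has degree prime to `q`,
then `q` does not divide `|G|`. -/
theorem not_dvd_card (hpq : p ≠ q) (hps : Cfsg.IsPSolvable p G) (hqs : Cfsg.IsPSolvable q G)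
    (h0 : Cfsg.pPrimeCore p G = ⊥)
    (hdeg : ∀ χ : Cfsg.IrrCharacter G, ¬ p ∣ Cfsg.charDegree (χ : G → ℂ) →
      ¬ q ∣ Cfsg.charDegree (χ : G → ℂ)) : ¬ q ∣ Nat.card G :=
  not_dvd_card_aux hpq _ G le_rfl hps hqs h0 hdeg


end CfsgLib.CrossDegree
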