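import Cfsg.Prelude.Def_Local
import Cfsg.Agent.Solvable.Factor
import Mathlib.RepresentationTheory.Invariants
import Mathlib.GroupTheory.Index
import Mathlib.Algebra.Group.Pointwise.Set.Basic

/-!
Representations of `p`-soluble groups generated by a vector fixed by a Sylow `p`-subgroup: fixed vectors and
vectors with orbit size coprime to that of the generator.
-/

set_option autoImplicit false
set_option linter.unusedSectionVars false
set_option linter.style.haveILetI false

namespace CfsgLib.CyclicOrbit

open Subgroup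
open scoped Pointwise

variable {k V H : Type*} [Field k] [AddCommGroup V] [Module k V] [Group H] [Finite H]

/-- The stabiliser of a vector. -/
def stab (ρ : Representation k H V) (v : V) : Subgroup H where
  carrier := {h | ρ h v = v}
  one_mem' := by show ρ 1 v = v; rw [map_one, Module.End.one_apply]
  mul_mem' {x y} hx hy := by
    show ρ (x * y) v = v
    rw [map_mul, Module.End.mul_apply, show ρ y v = v from hy, show ρ x v = v from hx]
  inv_mem' {x} hx := by
    show ρ x⁻¹ v = v
    conv_lhs => rw [← show ρ x v = v from hx]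
    rw [← Module.End.mul_apply, ← map_mul, inv_mul_cancel, map_one, Module.End.one_apply]

theorem apply_eq_iff (ρ : Representation k H V) (v : V) (x y : H) :
    ρ x v = ρ y v ↔ x⁻¹ * y ∈ stab ρ v := by
  show _ ↔ ρ (x⁻¹ * y) v = v
  rw [map_mul, Module.End.mul_apply]
  constructor
  · intro e
    rw [← e, ← Module.End.mul_apply, ← map_mul, inv_mul_cancel, map_one, Module.End.one_apply]
  · intro e
    conv_lhs => rw [← e]
    rw [← Module.End.mul_apply, ← map_mul, mul_inv_cancel, map_one, Module.End.one_apply]

/-- Orbit size as an index. -/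
theorem card_orbit (ρ : Representation k H V) (v : V) :
    Nat.card {u : V | ∃ h : H, ρ h v = u} = (stab ρ v).index := by
  let f : H ⧸ stab ρ v → {u : V | ∃ h : H, ρ h v = u} :=
    Quotient.lift (fun h => ⟨ρ h v, h, rfl⟩) fun x y e =>
      Subtype.ext ((apply_eq_iff ρ v x y).2 (QuotientGroup.leftRel_apply.1 e))
  refine (Nat.card_congr (Equiv.ofBijective f ⟨?_, ?_⟩)).symm
  · rintro ⟨x⟩ ⟨y⟩ e
    exact QuotientGroup.eq.2 ((apply_eq_iff ρ v x y).1 (congrArg Subtype.val e))
  · rintro ⟨_, h, rfl⟩
    exact ⟨QuotientGroup.mk h, rfl⟩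

/-- The index in a normal subgroup divides the index. -/
theorem relIndex_dvd_index_of_normal_right (X M : Subgroup H) [M.Normal] : X.relIndex M ∣ X.index := by
  obtain ⟨c, hc⟩ := relIndex_dvd_index_of_normal M X
  have h1 : (X ⊓ M).relIndex M * M.index = (X ⊓ M).relIndex X * X.index := by
    rw [relIndex_mul_index inf_le_right, relIndex_mul_index inf_le_left]
  rw [inf_relIndex_right, inf_relIndex_left, hc, ← mul_assoc, mul_comm (X.relIndex M), mul_assoc] at h1
  exact ⟨c, (Nat.eq_of_mul_eq_mul_left (Nat.pos_of_ne_zero index_ne_zero_of_finite) h1).symm⟩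

/-- Two subgroups of coprime relative index factorise. -/
theorem factor_of_coprime (M A B : Subgroup H) (h : (A.relIndex M).Coprime (B.relIndex M)) {m : H} (hm : m ∈ M) :
    ∃ x ∈ A ⊓ M, ∃ y ∈ B ⊓ M, m = x * y := by
  set A' := A ⊓ M
  set B' := B ⊓ M
  rw [← inf_relIndex_right A M, ← inf_relIndex_right B M] at h
  have hA := relIndex_mul_relIndex (A' ⊓ B') A' M inf_le_left inf_le_right
  have hB := relIndex_mul_relIndex (A' ⊓ B') B' M inf_le_right inf_le_right
  have h1 : A'.relIndex M ∣ (A' ⊓ B').relIndex B' * B'.relIndex M := by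
    rw [hB, ← hA]; exact dvd_mul_left _ _
  have h2 : A'.relIndex M ≤ (A' ⊓ B').relIndex B' :=
    Nat.le_of_dvd (Nat.pos_of_ne_zero index_ne_zero_of_finite) (h.dvd_of_dvd_mul_right h1)
  have hcA : Nat.card A' * A'.relIndex M = Nat.card M := by
    rw [← Nat.card_congr (subgroupOfEquivOfLe (inf_le_right : A' ≤ M)).toEquiv]
    exact card_mul_index _
  have hcB : Nat.card (A' ⊓ B' : Subgroup H) * (A' ⊓ B').relIndex B' = Nat.card B' := by
    rw [← Nat.card_congr (subgroupOfEquivOfLe (inf_le_right : A' ⊓ B' ≤ B')).toEquiv]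
    exact card_mul_index _
  have hle : Nat.card M * Nat.card (A' ⊓ B' : Subgroup H) ≤ Nat.card A' * Nat.card B' := by
    rw [← hcA, ← hcB]
    calc Nat.card A' * A'.relIndex M * Nat.card (A' ⊓ B' : Subgroup H)
        ≤ Nat.card A' * (A' ⊓ B').relIndex B' * Nat.card (A' ⊓ B' : Subgroup H) :=
          Nat.mul_le_mul_right _ (Nat.mul_le_mul_left _ h2)
      _ = _ := by ring
  have he := CfsgLib.Factor.coe_eq_mul (inf_le_right : A' ≤ M) (inf_le_right : B' ≤ M) hle
  obtain ⟨x, hx, y, hy, rfl⟩ : m ∈ (A' : Set H) * (B' : Set H) := by rw [← he]; exact hm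
  exact ⟨x, hx, y, hy, rfl⟩

section Average

variable (ρ : Representation k H V) (N : Subgroup H) (M : Subgroup H)

/-- The sum over representatives of `M` modulo `N`. -/
noncomputable def sumRep : V →ₗ[k] V :=
  letI := Fintype.ofFinite (M ⧸ N.subgroupOf M)
  ∑ q : M ⧸ N.subgroupOf M, ρ ((q.out : M) : H)

variable {ρ N M}

theorem rho_coset (hN : ∀ x ∈ N, ∀ v, ρ x v = v) {x y : M} (e : (x : M ⧸ N.subgroupOf M) = y) (v : V) :
    ρ (x : H) v = ρ (y : H) v := by
  have h1 := hN _ (mem_subgroupOf.1 (QuotientGroup.eq.1 e)) v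
  rw [Subgroup.coe_mul, Subgroup.coe_inv, map_mul, Module.End.mul_apply] at h1
  conv_lhs => rw [← h1]
  rw [← Module.End.mul_apply, ← map_mul, mul_inv_cancel, map_one, Module.End.one_apply]

theorem sumRep_mul (hN : ∀ x ∈ N, ∀ v, ρ x v = v) [(N.subgroupOf M).Normal] {m : H} (hm : m ∈ M) (v : V) :
    sumRep ρ N M (ρ m v) = sumRep ρ N M v ∧ ρ m (sumRep ρ N M v) = sumRep ρ N M v := by
  letI := Fintype.ofFinite (M ⧸ N.subgroupOf M)
  simp only [sumRep, LinearMap.sum_apply, map_sum]
  constructor
  · rw [← Equiv.sum_comp (Equiv.mulRight ((⟨m, hm⟩ : M) : M ⧸ N.subgroupOf M))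
      (fun q : M ⧸ N.subgroupOf M => ρ ((q.out : M) : H) v)]
    refine Finset.sum_congr rfl fun q _ => ?_
    rw [Equiv.coe_mulRight, ← Module.End.mul_apply, ← map_mul]
    refine rho_coset hN (x := q.out * ⟨m, hm⟩) ?_ v
    rw [QuotientGroup.mk_mul, QuotientGroup.out_eq', QuotientGroup.out_eq']
  · rw [← Equiv.sum_comp (Equiv.mulLeft ((⟨m, hm⟩ : M) : M ⧸ N.subgroupOf M))
      (fun q : M ⧸ N.subgroupOf M => ρ ((q.out : M) : H) v)]
    refine Finset.sum_congr rfl fun q _ => ?_
    rw [Equiv.coe_mulLeft, ← Module.End.mul_apply, ← map_mul]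
    refine rho_coset hN (x := ⟨m, hm⟩ * q.out) ?_ v
    rw [QuotientGroup.mk_mul, QuotientGroup.out_eq', QuotientGroup.out_eq']

theorem sumRep_fix {v : V} (hv : ∀ x ∈ M, ρ x v = v) :
    sumRep ρ N M v = (N.relIndex M : k) • v := by
  letI := Fintype.ofFinite (M ⧸ N.subgroupOf M)
  simp only [sumRep, LinearMap.sum_apply]
  rw [Finset.sum_congr rfl fun q _ => hv _ (q.out : M).2, Finset.sum_const, Finset.card_univ,
    ← Nat.card_eq_fintype_card, ← Nat.cast_smul_eq_nsmul k]
  rfl

theorem sumRep_comm [hMn : M.Normal] [hNn : N.Normal] (hN : ∀ x ∈ N, ∀ v, ρ x v = v) (h : H) (v : V) :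
    ρ h (sumRep ρ N M v) = sumRep ρ N M (ρ h v) := by
  letI := Fintype.ofFinite (M ⧸ N.subgroupOf M)
  let c : M ≃* M := MulAut.conjNormal h
  have hc : (N.subgroupOf M).map c.toMonoidHom = N.subgroupOf M := by
    ext x
    rw [Subgroup.mem_map_equiv, mem_subgroupOf, mem_subgroupOf]
    show ((MulAut.conjNormal h).symm x : H) ∈ N ↔ _
    rw [MulAut.conjNormal_symm_apply]
    constructor
    · intro hx
      have := hNn.conj_mem _ hx h
      simpa [mul_assoc] using this
    · intro hx
      simpa [mul_assoc] using hNn.conj_mem _ hx h⁻¹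
  simp only [sumRep, LinearMap.sum_apply, map_sum]
  rw [← Equiv.sum_comp (QuotientGroup.congr (N.subgroupOf M) (N.subgroupOf M) c hc).toEquiv
    (fun q : M ⧸ N.subgroupOf M => ρ ((q.out : M) : H) (ρ h v))]
  refine Finset.sum_congr rfl fun q _ => ?_
  rw [rho_coset hN (y := c q.out) ((QuotientGroup.out_eq' _).trans ?_) (ρ h v)]
  · rw [show ((c q.out : M) : H) = h * (q.out : M) * h⁻¹ from MulAut.conjNormal_apply _ _,
      ← Module.End.mul_apply, ← Module.End.mul_apply, ← map_mul, ← map_mul]
    congr 1
    group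
  · show QuotientGroup.congr (N.subgroupOf M) (N.subgroupOf M) c hc q = _
    conv_lhs => rw [← QuotientGroup.out_eq' q]
    rfl

end Average

universe u

/-- The induction along a chain. -/
theorem main_aux {k H : Type*} [Field k] (p : ℕ) [Fact p.Prime] [CharP k p] [Group H] [Finite H]
    (n : ℕ) (C : Fin (n + 1) → Subgroup H) (htop : C (Fin.last n) = ⊤) (hmono : Monotone C)
    (hnorm : ∀ i, (C i).Normal)
    (hfac : ∀ i : Fin n, (∃ m : ℕ, (C i.castSucc).relIndex (C i.succ) = p ^ m) ∨
      ((C i.castSucc).relIndex (C i.succ)).Coprime p) (i : Fin (n + 1)) :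
    ∀ (V : Type u) [AddCommGroup V] [Module k V] (ρ : Representation k H V) (a : V),
      (∀ x ∈ C i, ∀ v, ρ x v = v) → (∃ P : Sylow p H, ∀ x : H, x ∈ (P : Subgroup H) → ρ x a = a) →
      Submodule.span k {u : V | ∃ h : H, ρ h a = u} = ⊤ →
      Module.finrank k ρ.invariants ≤ 1 ∧
        ∀ b : V, (stab ρ a).index.Coprime (stab ρ b).index → ∀ h : H, ρ h b = b := by
  induction i using Fin.reverseInduction with
  | last =>
    intro V _ _ ρ a htriv _ hspan
    have htriv' : ∀ x v, ρ x v = v := fun x => htriv x (htop ▸ mem_top x)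
    refine ⟨?_, fun b _ h => htriv' h b⟩
    have hset : {u : V | ∃ h : H, ρ h a = u} = {a} := by
      ext u
      exact ⟨fun ⟨h, hh⟩ => (htriv' h a ▸ hh).symm, fun hu => ⟨1, by rw [htriv']; exact hu.symm⟩⟩
    rw [hset] at hspan
    have htopV : ρ.invariants = ⊤ := eq_top_iff.2 fun v _ => (Representation.mem_invariants ρ v).2 fun h => htriv' h v
    rw [htopV, finrank_top]
    exact finrank_le_one a fun w => Submodule.mem_span_singleton.1 (hspan ▸ Submodule.mem_top)
  | cast i ih =>
    intro V _ _ ρ a htriv hfix hspan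
    obtain ⟨P, hP⟩ := hfix
    set M := C i.succ with hM
    set N := C i.castSucc with hN
    haveI := hnorm i.succ
    haveI := hnorm i.castSucc
    have hNM : N ≤ M := hmono (Fin.castSucc_le_succ i)
    rcases hfac i with ⟨m, hm⟩ | hco
    · -- a `p`-factor acts trivially
      refine ih V ρ a (fun x hx v => ?_) ⟨P, hP⟩ hspan
      have hMa : M ≤ stab ρ a := by
        have h1 : (N ⊔ (P : Subgroup H) ⊓ M).relIndex M = 1 := by
          have h2 : (N ⊔ (P : Subgroup H) ⊓ M).relIndex M ∣ p ^ m := hm ▸ relIndex_dvd_of_le_left M le_sup_left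
          have h3 : (N ⊔ (P : Subgroup H) ⊓ M).relIndex M ∣ (P : Subgroup H).index := by
            refine (relIndex_dvd_of_le_left M (le_sup_right : _ ≤ N ⊔ (P : Subgroup H) ⊓ M)).trans ?_
            rw [inf_relIndex_right]
            exact relIndex_dvd_index_of_normal_right _ _
          obtain ⟨j, -, hj⟩ := (Nat.dvd_prime_pow Fact.out).1 h2
          rcases j with _ | j
          · rw [hj, pow_zero]
          · exact absurd ((dvd_pow_self p j.succ_ne_zero).trans (hj ▸ h3)) P.not_dvd_index
        refine (relIndex_eq_one.1 h1).trans (sup_le (fun x hx => htriv x hx a) fun x hx => hP x hx.1)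
      have hfixU : ∀ v ∈ {u : V | ∃ h : H, ρ h a = u}, ρ x v = v := by
        rintro v ⟨h, rfl⟩
        have h1 : ρ (h⁻¹ * x * h) a = a := hMa (by
          have := (hnorm i.succ).conj_mem x hx h⁻¹
          rwa [inv_inv] at this)
        rw [map_mul, map_mul, Module.End.mul_apply, Module.End.mul_apply] at h1
        conv_rhs => rw [← h1]
        rw [← Module.End.mul_apply (ρ h), ← map_mul, mul_inv_cancel, map_one, Module.End.one_apply]
      have : ρ x = LinearMap.id := LinearMap.ext_on hspan (fun v hv => hfixU v hv)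
      rw [this, LinearMap.id_apply]
    · -- a `p'`-factor: average
      have hne : (N.relIndex M : k) ≠ 0 := fun e => by
        rw [CharP.cast_eq_zero_iff k p] at e
        exact (Fact.out : p.Prime).coprime_iff_not_dvd.1 hco.symm e
      haveI : (N.subgroupOf M).Normal := inferInstance
      let e : V →ₗ[k] V := (N.relIndex M : k)⁻¹ • sumRep ρ N M
      have hefix : ∀ v, ∀ x ∈ M, ρ x (e v) = e v := fun v x hx => by
        simp only [e, LinearMap.smul_apply, map_smul, (sumRep_mul htriv hx v).2]
      have heid : ∀ v, (∀ x ∈ M, ρ x v = v) → e v = v := fun v hv => by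
        simp only [e, LinearMap.smul_apply]
        rw [sumRep_fix hv, smul_smul, inv_mul_cancel₀ hne, one_smul]
      have hecomm : ∀ h v, ρ h (e v) = e (ρ h v) := fun h v => by
        simp only [e, LinearMap.smul_apply, map_smul, sumRep_comm htriv h v]
      let W : Submodule k V := LinearMap.range e
      have hWinv : ∀ h : H, ∀ w ∈ W, ρ h w ∈ W := by
        rintro h _ ⟨v, rfl⟩
        exact ⟨ρ h v, (hecomm h v).symm⟩
      let σ : Representation k H W :=
        { toFun := fun h => (ρ h).restrict (hWinv h)
          map_one' := LinearMap.ext fun w => Subtype.ext (by simp [LinearMap.restrict_apply])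
          map_mul' := fun x y => LinearMap.ext fun w => Subtype.ext (by simp [LinearMap.restrict_apply]) }
      have hσ : ∀ h (w : W), ((σ h w : W) : V) = ρ h w := fun _ _ => rfl
      have hspanW : Submodule.span k {u : W | ∃ h : H, σ h ⟨e a, a, rfl⟩ = u} = ⊤ := by
        refine Submodule.map_injective_of_injective W.injective_subtype ?_
        rw [Submodule.map_span, Submodule.map_top, Submodule.range_subtype]
        show _ = LinearMap.range e
        rw [← Submodule.map_top, ← hspan, Submodule.map_span]
        congr 1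
        ext v
        constructor
        · rintro ⟨_, ⟨h, rfl⟩, rfl⟩
          exact ⟨ρ h a, ⟨h, rfl⟩, (hecomm h a).symm⟩
        · rintro ⟨_, ⟨h, rfl⟩, rfl⟩
          exact ⟨σ h ⟨e a, a, rfl⟩, ⟨h, rfl⟩, hecomm h a⟩
      obtain ⟨hdim, horb⟩ := ih W σ ⟨e a, a, rfl⟩
        (fun x hx w => by obtain ⟨_, v, rfl⟩ := w; exact Subtype.ext (hefix v x hx))
        ⟨P, fun x hx => Subtype.ext ((hecomm x a).trans (by rw [hP x hx]))⟩ hspanW
      refine ⟨?_, fun b hb => ?_⟩
      · have hle : ρ.invariants = σ.invariants.map W.subtype := by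
          ext v
          constructor
          · intro hv
            have hv' : ∀ h : H, ρ h v = v := (Representation.mem_invariants ρ v).1 hv
            refine ⟨⟨v, v, heid v fun x _ => hv' x⟩, (Representation.mem_invariants σ _).2 fun h => ?_, rfl⟩
            exact Subtype.ext (hv' h)
          · rintro ⟨w, hw, rfl⟩
            exact (Representation.mem_invariants ρ _).2 fun h =>
              congrArg Subtype.val ((Representation.mem_invariants σ w).1 hw h)
        rw [hle, ← (Submodule.equivMapOfInjective W.subtype W.injective_subtype σ.invariants).finrank_eq]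
        exact hdim
      · have hsub : ∀ v : V, stab ρ v ≤ stab σ ⟨e v, v, rfl⟩ := fun v h hh =>
          Subtype.ext ((hecomm h v).trans (by rw [show ρ h v = v from hh]))
        have heb : ∀ h : H, ρ h (e b) = e b := fun h => congrArg Subtype.val
          (horb ⟨e b, b, rfl⟩ ((hb.coprime_dvd_left (index_dvd_of_le (hsub a))).coprime_dvd_right
            (index_dvd_of_le (hsub b))) h)
        set D := stab ρ b with hD
        set M₁ := D ⊓ M with hM₁
        have hNM₁ : N ≤ M₁ := le_inf (fun x hx => htriv x hx b) hNM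
        haveI : (N.subgroupOf M₁).Normal := inferInstance
        set S := sumRep ρ N M₁ with hS
        have hSorb : ∀ (h : H) (x : H), x ∈ M → S (ρ x (ρ h a)) = S (ρ h a) := by
          intro h x hx
          have hcop : (D.relIndex M).Coprime ((stab ρ (ρ h a)).relIndex M) := by
            refine (hb.symm.coprime_dvd_left (relIndex_dvd_index_of_normal_right _ _)).coprime_dvd_right
              ((relIndex_dvd_index_of_normal_right _ _).trans ?_)
            rw [← card_orbit, ← card_orbit]
            refine dvd_of_eq (congrArg (fun s : Set V => Nat.card s) ?_)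
            ext u
            constructor
            · rintro ⟨g, rfl⟩; exact ⟨g * h, by rw [map_mul, Module.End.mul_apply]⟩
            · rintro ⟨g, rfl⟩
              exact ⟨g * h⁻¹, by rw [← Module.End.mul_apply, ← map_mul, inv_mul_cancel_right]⟩
          obtain ⟨y, hy, z, hz, rfl⟩ := factor_of_coprime M D (stab ρ (ρ h a)) hcop hx
          rw [map_mul, Module.End.mul_apply, show ρ z (ρ h a) = ρ h a from hz.1,
            (sumRep_mul htriv hy _).1]
        have hSe : ∀ v, S (e v) = S v := by
          have : S.comp e = S := by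
            refine LinearMap.ext_on hspan ?_
            rintro _ ⟨h, rfl⟩
            letI := Fintype.ofFinite (M ⧸ N.subgroupOf M)
            simp only [LinearMap.comp_apply, e, LinearMap.smul_apply, map_smul, sumRep, LinearMap.sum_apply,
              map_sum]
            rw [Finset.sum_congr rfl fun q _ => hSorb h _ (q.out : M).2, Finset.sum_const, Finset.card_univ,
              ← Nat.card_eq_fintype_card, ← Nat.cast_smul_eq_nsmul k, smul_smul]
            exact (congrArg (fun c : k => c • S (ρ h a)) (inv_mul_cancel₀ hne)).trans (one_smul _ _)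
          exact fun v => LinearMap.congr_fun this v
        have hne₁ : (N.relIndex M₁ : k) ≠ 0 := fun e0 => by
          rw [CharP.cast_eq_zero_iff k p] at e0
          refine (Fact.out : p.Prime).coprime_iff_not_dvd.1 hco.symm (e0.trans ?_)
          exact ⟨M₁.relIndex M, (relIndex_mul_relIndex N M₁ M hNM₁ inf_le_right).symm⟩
        have hbfix : e b = b := by
          have h1 : S (b - e b) = 0 := by rw [map_sub, hSe, sub_self]
          have h2 : S (b - e b) = (N.relIndex M₁ : k) • (b - e b) := sumRep_fix fun x hx => by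
            rw [map_sub, show ρ x b = b from hx.1, heb]
          rw [h2] at h1
          exact (sub_eq_zero.1 ((smul_eq_zero.1 h1).resolve_left hne₁)).symm
        intro h
        rw [← hbfix]
        exact heb h

end CfsgLib.CyclicOrbit
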