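import Mathlib.GroupTheory.Sylow
import Mathlib.GroupTheory.SchurZassenhaus
import Cfsg.Agent.Solvable.Glauberman
import Cfsg.Agent.Solvable.Basics

/-!
Solvable groups with almost all Sylow subgroups cyclic: conjugacy of subgroups of equal order.
-/

set_option autoImplicit false
set_option linter.style.haveILetI false

universe u

namespace CfsgLib.DGroups

open Subgroup

variable {G : Type u} [Group G] [Finite G]

/-- All `p`-subgroups are cyclic for the primes `p ≠ r`. -/
def Cyc (r : ℕ) (G : Type u) [Group G] : Prop :=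
  ∀ p : ℕ, p.Prime → p ≠ r → ∀ P : Subgroup G, IsPGroup p P → IsCyclic P

/-- `p`-subgroups of a quotient lift to `p`-subgroups. -/
theorem exists_lift {H : Type*} [Group H] (f : G →* H) (hf : Function.Surjective f) {p : ℕ}
    [Fact p.Prime] {U : Subgroup H} (hU : IsPGroup p U) :
    ∃ V : Subgroup G, IsPGroup p V ∧ V.map f = U := by
  obtain ⟨P⟩ : Nonempty (Sylow p (U.comap f)) := inferInstance
  have hs := f.subgroupComap_surjective_of_surjective U hf
  haveI : Finite H := Finite.of_surjective f hf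
  have htop : ((P.mapSurjective hs : Sylow p U) : Subgroup U) = ⊤ :=
    ((P.mapSurjective hs).3 (hU.of_equiv Subgroup.topEquiv.symm) le_top).symm
  refine ⟨(P : Subgroup (U.comap f)).map (U.comap f).subtype, P.2.map _, ?_⟩
  refine le_antisymm ?_ fun y hy => ?_
  · rintro _ ⟨_, ⟨x, -, rfl⟩, rfl⟩
    exact x.2
  · obtain ⟨x, hx, e⟩ : (⟨y, hy⟩ : U) ∈ ((P.mapSurjective hs : Sylow p U) : Subgroup U) :=
      htop ▸ mem_top _
    exact ⟨x, ⟨x, hx, rfl⟩, congrArg Subtype.val e⟩

theorem Cyc.subgroup {r : ℕ} (h : Cyc r G) (X : Subgroup G) : Cyc r X := by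
  intro p hp hpr P hP
  haveI := h p hp hpr (P.map X.subtype) (hP.map _)
  refine isCyclic_of_injective (X.subtype.subgroupMap P) fun a b e => ?_
  have e' : X.subtype (a : X) = X.subtype (b : X) := (congrArg Subtype.val e :)
  exact Subtype.ext (X.subtype_injective e')

theorem Cyc.quotient {r : ℕ} (h : Cyc r G) (N : Subgroup G) [N.Normal] : Cyc r (G ⧸ N) := by
  intro p hp hpr U hU
  haveI := Fact.mk hp
  obtain ⟨V, hV, e⟩ := exists_lift (QuotientGroup.mk' N) (QuotientGroup.mk'_surjective N) hU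
  haveI := h p hp hpr V hV
  subst e
  exact isCyclic_of_surjective ((QuotientGroup.mk' N).subgroupMap V)
    ((QuotientGroup.mk' N).subgroupMap_surjective V)

/-- A `q`-subgroup of a group with cyclic `q`-subgroups contains the normal subgroup of order `q`,
unless it is trivial. -/
theorem le_of_cyclic {q : ℕ} [Fact q.Prime] (hcy : ∀ P : Subgroup G, IsPGroup q P → IsCyclic P)
    {N : Subgroup G} [N.Normal] (hNq : IsPGroup q N) (hexp : ∀ x ∈ N, x ^ q = 1) {H : Subgroup G}
    (hd : q ∣ Nat.card H) : N ≤ H := by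
  obtain ⟨y, hy⟩ := exists_prime_orderOf_dvd_card' q hd
  have hY : IsPGroup q (zpowers (y : G)) := IsPGroup.of_card (n := 1) (by
    rw [Nat.card_zpowers, Subgroup.orderOf_coe, hy, pow_one])
  haveI := hcy _ (hY.to_sup_of_normal_right hNq)
  classical
  haveI : Fintype (zpowers (y : G) ⊔ N : Subgroup G) := Fintype.ofFinite _
  intro x hx
  rcases eq_or_ne x 1 with rfl | hx1
  · exact one_mem H
  have hxo : orderOf x = q := orderOf_eq_prime (hexp x hx) hx1
  let x' : (zpowers (y : G) ⊔ N : Subgroup G) := ⟨x, mem_sup_right hx⟩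
  let y' : (zpowers (y : G) ⊔ N : Subgroup G) := ⟨y, mem_sup_left (mem_zpowers _)⟩
  have hy' : orderOf y' = q := by rw [Subgroup.orderOf_mk, Subgroup.orderOf_coe, hy]
  have hx' : x' ^ q = 1 := Subtype.ext (hexp x hx)
  have hsub : Finset.univ.filter (· ∈ zpowers y') ⊆ Finset.univ.filter (fun z => z ^ q = 1) := by
    intro z hz
    simp only [Finset.mem_filter, Finset.mem_univ, true_and] at hz ⊢
    rw [← orderOf_dvd_iff_pow_eq_one, ← hy']
    exact (Subgroup.orderOf_dvd_natCard _ hz).trans (Nat.card_zpowers y').dvd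
  have hcard : (Finset.univ.filter (· ∈ zpowers y')).card = q := by
    rw [← Fintype.card_subtype, ← Nat.card_eq_fintype_card]
    exact (Nat.card_zpowers y').trans hy'
  have heq := Finset.eq_of_subset_of_card_le hsub
    (hcard.symm ▸ IsCyclic.card_pow_eq_one_le (Fact.out : q.Prime).pos)
  have hxm : x' ∈ zpowers y' := by
    have : x' ∈ Finset.univ.filter (fun z => z ^ q = 1) := by simp [hx']
    rw [← heq] at this
    simpa using this
  obtain ⟨k, hk⟩ := mem_zpowers_iff.1 hxm
  have hk' : (y : G) ^ k = x := congrArg Subtype.val hk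
  exact hk' ▸ zpow_mem y.2 k

/-- Images of subgroups meeting the kernel trivially. -/
theorem card_map_of_inf {N : Subgroup G} [N.Normal] (H : Subgroup G) :
    Nat.card (H.map (QuotientGroup.mk' N)) * Nat.card (H ⊓ N : Subgroup G) = Nat.card H := by
  have h1 := relIndex_mul_relIndex (⊥ : Subgroup G) (H ⊓ N) H bot_le inf_le_left
  rw [relIndex_bot_left, relIndex_bot_left, inf_relIndex_left] at h1
  rw [← relIndex_ker, QuotientGroup.ker_mk', Nat.mul_comm, h1]

/-- Complements to a solvable normal subgroup of coprime order are conjugate. -/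
theorem conj_of_sup_eq {N A B : Subgroup G} [N.Normal] [Group.IsSolvable N]
    (hA : (Nat.card A).Coprime (Nat.card N)) (hcard : Nat.card B = Nat.card A)
    (heq : B ≤ A ⊔ N) : ∃ g : G, B = A.map (MulAut.conj g).toMonoidHom := by
  obtain ⟨k, -, hk⟩ := CfsgLib.SZ.conj_rel (normalizer_eq_top N ▸ le_top : A ≤ normalizer (N : Set G))
    hA (Or.inr inferInstance) heq hcard
  exact ⟨k, hk.symm⟩

theorem map_conj_conj (H : Subgroup G) (a b : G) :
    (H.map (MulAut.conj a).toMonoidHom).map (MulAut.conj b).toMonoidHom =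
      H.map (MulAut.conj (b * a)).toMonoidHom := by
  rw [map_map]
  congr 1
  ext x
  simp [mul_assoc]

/-- Lifting conjugacy of images. -/
theorem exists_conj_sup {N H K : Subgroup G} [N.Normal]
    (h : ∃ g : G ⧸ N, K.map (QuotientGroup.mk' N) =
      (H.map (QuotientGroup.mk' N)).map (MulAut.conj g).toMonoidHom) :
    ∃ x : G, H.map (MulAut.conj x).toMonoidHom ⊔ N = K ⊔ N := by
  obtain ⟨g, hg⟩ := h
  obtain ⟨x, rfl⟩ := QuotientGroup.mk_surjective g
  refine ⟨x, ?_⟩
  have h2 : (H.map (MulAut.conj x).toMonoidHom).map (QuotientGroup.mk' N) =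
      K.map (QuotientGroup.mk' N) := by
    rw [hg, map_map, map_map]
    congr 1
  have := congrArg (comap (QuotientGroup.mk' N)) h2
  rwa [comap_map_eq, comap_map_eq, QuotientGroup.ker_mk'] at this

/-- In a solvable group, two subgroups of equal order prime to `r` are conjugate when the
`p`-subgroups are cyclic for all `p ≠ r`. -/
theorem conj_of_coprime : ∀ (n : ℕ) (G : Type u) [Group G] [Finite G], Nat.card G = n →
    Group.IsSolvable G → ∀ r : ℕ, r.Prime → Cyc r G → ∀ H K : Subgroup G, Nat.card H = Nat.card K →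
      (Nat.card H).Coprime r → ∃ g : G, K = H.map (MulAut.conj g).toMonoidHom := by
  intro n
  induction n using Nat.strong_induction_on with
  | _ n ih =>
  intro G _ _ hn hs r hr hcyc H K hcard hcop
  subst hn
  by_cases htriv : (⊤ : Subgroup G) = ⊥
  · refine ⟨1, ?_⟩
    have hall : ∀ A : Subgroup G, A = ⊥ := fun A => le_bot_iff.1 (htriv ▸ le_top)
    rw [hall K, hall (H.map (MulAut.conj (1 : G)).toMonoidHom)]
  obtain ⟨N, hNn, hN, -, -, -, q, hq, hexp, hNq⟩ :=
    CfsgLib.Solvable.exists_normal_elementary_le (N := (⊤ : Subgroup G)) htriv inferInstance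
  haveI := Fact.mk hq
  haveI : Group.IsNilpotent N := hNq.isNilpotent
  obtain ⟨e, hNe⟩ := hNq.exists_card_eq
  -- N is contained in H exactly when its prime divides the order
  have hdich : ∀ A : Subgroup G, (Nat.card A).Coprime r →
      (q ∣ Nat.card A → N ≤ A) := by
    intro A hA hd
    have hqr : q ≠ r := fun e => hq.ne_one (Nat.eq_one_of_dvd_coprimes hA hd (e ▸ dvd_rfl))
    exact le_of_cyclic (hcyc q hq hqr) hNq hexp hd
  have hmeet : ∀ A : Subgroup G, (Nat.card A).Coprime r →
      Nat.card (A ⊓ N : Subgroup G) = if q ∣ Nat.card A then Nat.card N else 1 := by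
    intro A hA
    split_ifs with hd
    · rw [inf_eq_right.2 (hdich A hA hd)]
    · rw [Subgroup.card_eq_one, eq_bot_iff_forall]
      intro x hx
      by_contra hx1
      exact hd (orderOf_eq_prime (hexp x hx.2) hx1 ▸ Subgroup.orderOf_dvd_natCard A hx.1)
  have hcard' : Nat.card (H.map (QuotientGroup.mk' N)) = Nat.card (K.map (QuotientGroup.mk' N)) := by
    have h1 := card_map_of_inf (N := N) H
    have h2 := card_map_of_inf (N := N) K
    rw [hmeet H hcop] at h1
    rw [hmeet K (hcard ▸ hcop), ← hcard] at h2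
    exact Nat.eq_of_mul_eq_mul_right (by split_ifs <;> simp [Nat.card_pos]) (h1.trans h2.symm)
  haveI := hs
  obtain ⟨x, hx⟩ := exists_conj_sup (ih _ (CfsgLib.Solvable.card_quotient_lt hN) (G ⧸ N) rfl
    inferInstance r hr (hcyc.quotient N) _ _ hcard'
    (hcop.coprime_dvd_left (H.card_map_dvd _)))
  set H' := H.map (MulAut.conj x).toMonoidHom
  have hH'c : Nat.card H' = Nat.card H :=
    (Nat.card_congr (H.equivMapOfInjective _ (MulAut.conj x).injective).toEquiv).symm
  by_cases hd : q ∣ Nat.card H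
  · refine ⟨x, ?_⟩
    rw [sup_eq_left.2 (hdich H' (hH'c.symm ▸ hcop) (hH'c.symm ▸ hd)),
      sup_eq_left.2 (hdich K (hcard ▸ hcop) (hcard ▸ hd))] at hx
    exact hx.symm
  · have hc : (Nat.card H').Coprime (Nat.card N) := by
      rw [hH'c, hNe]
      exact ((Nat.Prime.coprime_iff_not_dvd hq).2 hd).symm.pow_right e
    obtain ⟨g, hg⟩ := conj_of_sup_eq hc (hcard.symm.trans hH'c.symm) (hx ▸ le_sup_left)
    exact ⟨g * x, by rw [hg, map_conj_conj]⟩

/-- Conjugacy of all subgroups of equal order. -/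
theorem conj_of_card_eq : ∀ (n : ℕ) (G : Type u) [Group G] [Finite G], Nat.card G = n →
    Group.IsSolvable G →
    (∀ p : ℕ, p.Prime → ∀ H K : Subgroup G, IsPGroup p H → IsPGroup p K → Nat.card H = Nat.card K →
      ∃ g : G, K = H.map (MulAut.conj g).toMonoidHom) →
    ∀ r : ℕ, Cyc r G → ∀ H K : Subgroup G, Nat.card H = Nat.card K →
      ∃ g : G, K = H.map (MulAut.conj g).toMonoidHom := by
  intro n
  induction n using Nat.strong_induction_on with
  | _ n ih =>
  intro G _ _ hn hs hD r hcyc H K hcard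
  subst hn
  by_cases htriv : (⊤ : Subgroup G) = ⊥
  · refine ⟨1, ?_⟩
    have hall : ∀ A : Subgroup G, A = ⊥ := fun A => le_bot_iff.1 (htriv ▸ le_top)
    rw [hall K, hall (H.map (MulAut.conj (1 : G)).toMonoidHom)]
  obtain ⟨N, hNn, hN, -, -, -, q, hq, hexp, hNq⟩ :=
    CfsgLib.Solvable.exists_normal_elementary_le (N := (⊤ : Subgroup G)) htriv inferInstance
  haveI := Fact.mk hq
  haveI := hs
  haveI : Group.IsNilpotent N := hNq.isNilpotent
  obtain ⟨e, hNe⟩ := hNq.exists_card_eq
  -- a conjugate of the intersection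
  have hsyl : ∀ A : Subgroup G, ∃ S : Subgroup G, S ≤ A ∧ IsPGroup q S ∧
      Nat.card S = q ^ (Nat.card A).factorization q ∧ A ⊓ N ≤ S := by
    intro A
    obtain ⟨P⟩ : Nonempty (Sylow q A) := inferInstance
    refine ⟨(P : Subgroup A).map A.subtype, map_subtype_le _, P.2.map _, ?_, ?_⟩
    · rw [← P.card_eq_multiplicity]
      exact Nat.card_congr ((P : Subgroup A).equivMapOfInjective _ A.subtype_injective).symm.toEquiv
    · intro y hy
      have hn' : (N.subgroupOf A).Normal := inferInstance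
      have := P.3 ((show IsPGroup q (N.subgroupOf A) from
        hNq.comap_of_injective A.subtype A.subtype_injective).to_sup_of_normal_left P.2) le_sup_right
      exact ⟨⟨y, hy.1⟩, this ▸ mem_sup_left (show (⟨y, hy.1⟩ : A) ∈ N.subgroupOf A from hy.2), rfl⟩
  obtain ⟨SH, hSH, hSHp, hSHc, hSHN⟩ := hsyl H
  obtain ⟨SK, hSK, hSKp, hSKc, hSKN⟩ := hsyl K
  obtain ⟨g₀, hg₀⟩ := hD q hq SH SK hSHp hSKp (by rw [hSHc, hSKc, hcard])
  have hint : (H ⊓ N).map (MulAut.conj g₀).toMonoidHom = K ⊓ N := by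
    refine le_antisymm ?_ ?_
    · rintro _ ⟨y, hy, rfl⟩
      exact ⟨hSK (hg₀ ▸ mem_map_of_mem _ (hSHN hy)), Normal.conj_mem inferInstance y hy.2 g₀⟩
    · intro z hz
      obtain ⟨y, hy, rfl⟩ := hg₀ ▸ hSKN hz
      exact ⟨y, ⟨hSH hy, by
        simpa [mul_assoc] using (inferInstance : N.Normal).conj_mem' _ hz.2 g₀⟩, rfl⟩
  have hcard' : Nat.card (H.map (QuotientGroup.mk' N)) = Nat.card (K.map (QuotientGroup.mk' N)) := by
    have h1 := card_map_of_inf (N := N) H
    have h2 := card_map_of_inf (N := N) K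
    rw [← hint, ← Nat.card_congr ((H ⊓ N).equivMapOfInjective (MulAut.conj g₀).toMonoidHom
      (MulAut.conj g₀).injective).toEquiv, ← hcard] at h2
    exact Nat.eq_of_mul_eq_mul_right Nat.card_pos (h1.trans h2.symm)
  have hD' : ∀ p : ℕ, p.Prime → ∀ U V : Subgroup (G ⧸ N), IsPGroup p U → IsPGroup p V →
      Nat.card U = Nat.card V → ∃ g : G ⧸ N, V = U.map (MulAut.conj g).toMonoidHom := by
    intro p hp U V hU hV hUV
    haveI := Fact.mk hp
    have hpre : ∀ W : Subgroup (G ⧸ N), IsPGroup p W → ∃ A : Subgroup G, IsPGroup p A ∧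
        A.map (QuotientGroup.mk' N) = W ∧
        Nat.card A = Nat.card W * p ^ (Nat.card N).factorization p := by
      intro W hW
      obtain ⟨k, hk⟩ := hW.exists_card_eq
      rcases eq_or_ne p q with rfl | hpq
      · refine ⟨W.comap (QuotientGroup.mk' N),
          IsPGroup.comap_of_ker_isPGroup hW _ (by rwa [QuotientGroup.ker_mk']),
          map_comap_eq_self_of_surjective (QuotientGroup.mk'_surjective N) W, ?_⟩
        have h1 := card_map_of_inf (N := N) (W.comap (QuotientGroup.mk' N))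
        rw [map_comap_eq_self_of_surjective (QuotientGroup.mk'_surjective N),
          inf_eq_right.2 (by intro y hy; rw [mem_comap, QuotientGroup.mk'_apply,
            (QuotientGroup.eq_one_iff y).2 hy]; exact one_mem W)] at h1
        rw [← h1, hNe, Nat.Prime.factorization_pow hq, Finsupp.single_eq_same]
      · obtain ⟨A, hA, e'⟩ := exists_lift (QuotientGroup.mk' N) (QuotientGroup.mk'_surjective N) hW
        refine ⟨A, hA, e', ?_⟩
        have h0 : (Nat.card N).factorization p = 0 := by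
          rw [hNe, Nat.Prime.factorization_pow hq, Finsupp.single_eq_of_ne hpq]
        rw [h0, pow_zero, mul_one]
        have h1 := card_map_of_inf (N := N) A
        rw [e', (Subgroup.card_eq_one (H := A ⊓ N)).2 ?_, mul_one] at h1
        · exact h1.symm
        · rw [eq_bot_iff_forall]
          intro y hy
          by_contra hy1
          obtain ⟨j, hj⟩ := IsPGroup.iff_orderOf.1 hA ⟨y, hy.1⟩
          rw [Subgroup.orderOf_mk, orderOf_eq_prime (hexp y hy.2) hy1] at hj
          exact hpq ((Nat.prime_dvd_prime_iff_eq hq hp).1 (hq.dvd_of_dvd_pow hj.dvd)).symm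
    obtain ⟨A, hA, rfl, hAc⟩ := hpre U hU
    obtain ⟨B, hB, rfl, hBc⟩ := hpre V hV
    obtain ⟨g, rfl⟩ := hD p hp A B hA hB (by rw [hAc, hBc, hUV])
    refine ⟨QuotientGroup.mk g, ?_⟩
    rw [map_map, map_map]
    congr 1
  obtain ⟨x, hx⟩ := exists_conj_sup (ih _ (CfsgLib.Solvable.card_quotient_lt hN) (G ⧸ N) rfl
    inferInstance hD' r (hcyc.quotient N) _ _ hcard')
  set H' := H.map (MulAut.conj x).toMonoidHom with hH'
  have hH'c : Nat.card H' = Nat.card H :=
    (Nat.card_congr (H.equivMapOfInjective _ (MulAut.conj x).injective).toEquiv).symm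
  suffices ∃ g : G, K = H'.map (MulAut.conj g).toMonoidHom by
    obtain ⟨g, hg⟩ := this
    exact ⟨g * x, by rw [hg, map_conj_conj]⟩
  by_cases hcop : (Nat.card H).Coprime q
  · refine conj_of_sup_eq (N := N) (A := H') ?_ (hcard.symm.trans hH'c.symm) (hx ▸ le_sup_left)
    rw [hH'c, hNe]
    exact hcop.pow_right e
  have hqd : q ∣ Nat.card H := (Nat.Prime.dvd_iff_not_coprime hq).2 fun h => hcop h.symm
  obtain ⟨SH', hSH', hSH'p, hSH'c, hSH'N⟩ := hsyl H'
  -- subgroups of q-power order and the normal subgroup N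
  have hbig : ∀ A S : Subgroup G, S ≤ A → IsPGroup q S → Nat.card N ≤ Nat.card S → N ≤ A := by
    intro A S hSA hS hle
    obtain ⟨k, hk⟩ := hS.exists_card_eq
    obtain ⟨T, hT⟩ := Sylow.exists_subgroup_card_pow_prime (G := S) q
      (n := e) (by rw [hk]; exact pow_dvd_pow q ((Nat.pow_le_pow_iff_right hq.one_lt).1 (hNe ▸ hk ▸ hle)))
    have hTc : Nat.card (T.map S.subtype) = Nat.card N := by
      rw [← Nat.card_congr (T.equivMapOfInjective _ S.subtype_injective).toEquiv, hT, hNe]
    obtain ⟨g, hg⟩ := hD q hq N (T.map S.subtype) hNq ((hS.to_subgroup T).map _) hTc.symm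
    have : N ≤ T.map S.subtype := fun y hy => hg ▸
      ⟨g⁻¹ * y * g, (inferInstance : N.Normal).conj_mem' y hy g, by simp [mul_assoc]⟩
    exact this.trans ((map_subtype_le T).trans hSA)
  have hcardS : Nat.card SH' = Nat.card SK := by rw [hSH'c, hSKc, hH'c, hcard]
  rcases le_or_gt (Nat.card N) (Nat.card SK) with hle | hlt
  · refine ⟨1, ?_⟩
    rw [sup_eq_left.2 (hbig H' SH' hSH' hSH'p (hcardS ▸ hle)), sup_eq_left.2 (hbig K SK hSK hSKp hle)] at hx
    rw [← hx, map_one]
    exact (map_id H').symm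
  have hsmall : ∀ S : Subgroup G, IsPGroup q S → Nat.card S < Nat.card N → S ≤ N := by
    intro S hS hlt
    obtain ⟨k, hk⟩ := hS.exists_card_eq
    obtain ⟨T, hT⟩ := Sylow.exists_subgroup_card_pow_prime (G := N) q
      (n := k) (by
        rw [hNe]
        exact pow_dvd_pow q (((Nat.pow_lt_pow_iff_right hq.one_lt).1 (hNe ▸ hk ▸ hlt)).le))
    have hTc : Nat.card (T.map N.subtype) = Nat.card S := by
      rw [← Nat.card_congr (T.equivMapOfInjective _ N.subtype_injective).toEquiv, hT, hk]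
    obtain ⟨g, hg⟩ := hD q hq (T.map N.subtype) S ((hNq.to_subgroup T).map _) hS hTc
    rw [hg]
    rintro _ ⟨y, hy, rfl⟩
    exact Normal.conj_mem inferInstance y (map_subtype_le T hy) g
  have hqr : q = r := by
    by_contra hqr
    have hle := le_of_cyclic (hcyc q hq hqr) hNq hexp (hcard ▸ hqd : q ∣ Nat.card K)
    have : N ≤ SK := le_trans (le_inf hle le_rfl) hSKN
    exact absurd (card_le_of_le this) (not_le.2 hlt)
  subst hqr
  -- both intersections are the Sylow subgroups
  have hSKeq : SK = K ⊓ N := le_antisymm (le_inf hSK (hsmall SK hSKp hlt)) hSKN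
  have hSH'eq : SH' = H' ⊓ N :=
    le_antisymm (le_inf hSH' (hsmall SH' hSH'p (hcardS ▸ hlt))) hSH'N
  obtain ⟨g, hg⟩ := hD q hq SH' SK hSH'p hSKp hcardS
  set H₂ := H'.map (MulAut.conj g).toMonoidHom with hH₂
  suffices ∃ h : G, K = H₂.map (MulAut.conj h).toMonoidHom by
    obtain ⟨h, hh⟩ := this
    exact ⟨h * g, by rw [hh, map_conj_conj]⟩
  have hSK₂ : SK ≤ H₂ := hg ▸ map_mono hSH'
  set E := SK
  set X := normalizer (E : Set G)
  have hnormal : ∀ A : Subgroup G, A ⊓ N = E → A ≤ X := by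
    intro A hA a ha
    refine mem_normalizer_iff.2 fun y => ?_
    rw [← hA]
    constructor
    · exact fun hy => mem_inf.2 ⟨mul_mem (mul_mem ha (mem_inf.1 hy).1) (inv_mem ha),
        Normal.conj_mem inferInstance y (mem_inf.1 hy).2 a⟩
    · intro hy
      replace hy := mem_inf.1 hy
      have h1 := mul_mem (mul_mem (inv_mem ha) hy.1) ha
      have h2 := (inferInstance : N.Normal).conj_mem' _ hy.2 a
      exact mem_inf.2 ⟨by simpa [mul_assoc] using h1, by simpa [mul_assoc] using h2⟩
  have hH₂N : H₂ ⊓ N = E := by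
    rw [hg, hSH'eq, hH₂, map_inf _ _ _ (MulAut.conj g).injective]
    congr 1
    refine le_antisymm (fun y hy => ⟨g⁻¹ * y * g, (inferInstance : N.Normal).conj_mem' y hy g,
      by simp [mul_assoc]⟩) ?_
    rintro _ ⟨y, hy, rfl⟩
    exact Normal.conj_mem inferInstance y hy g
  have hcompl : ∀ A : Subgroup G, A ⊓ N = E → Nat.card A = Nat.card K →
      ∃ C : Subgroup G, C ≤ A ∧ C ⊔ E = A ∧ Nat.card C * Nat.card E = Nat.card A ∧
        (Nat.card C).Coprime q := by
    intro A hA hAc
    have hEA : E ≤ A := hA ▸ inf_le_left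
    haveI : (E.subgroupOf A).Normal :=
      (normal_subgroupOf_iff_le_normalizer hEA).2 (hnormal A hA)
    have hEc : Nat.card (E.subgroupOf A) = Nat.card E :=
      Nat.card_congr (subgroupOfEquivOfLe hEA).toEquiv
    have hidx : ¬ q ∣ (E.subgroupOf A).index := by
      intro hd
      have h1 := (E.subgroupOf A).card_mul_index
      rw [hEc, hSKc, hAc] at h1
      have h2 : q ^ ((Nat.card K).factorization q + 1) ∣ Nat.card K := by
        rw [pow_succ]
        exact (mul_dvd_mul_left _ hd).trans h1.dvd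
      exact Nat.pow_succ_factorization_not_dvd Nat.card_pos.ne' hq h2
    obtain ⟨C, hC⟩ := exists_right_complement'_of_coprime (N := E.subgroupOf A) (by
      rw [hEc, hSKc]
      exact ((Nat.Prime.coprime_iff_not_dvd hq).2 hidx).pow_left _)
    have hCc : Nat.card (C.map A.subtype) = Nat.card C :=
      (Nat.card_congr (C.equivMapOfInjective _ A.subtype_injective).toEquiv).symm
    refine ⟨C.map A.subtype, map_subtype_le _, ?_, ?_, ?_⟩
    · rw [sup_comm]
      conv_rhs => rw [← A.range_subtype, MonoidHom.range_eq_map, ← hC.sup_eq_top, Subgroup.map_sup,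
        subgroupOf_map_subtype, inf_eq_left.2 hEA]
    · rw [hCc, ← hEc, Nat.mul_comm]
      exact hC.card_mul
    · rw [hCc, ← hC.symm.index_eq_card]
      exact ((Nat.Prime.coprime_iff_not_dvd hq).2 hidx).symm
  have hH₂c : Nat.card H₂ = Nat.card K := by
    rw [hH₂, ← Nat.card_congr (H'.equivMapOfInjective (MulAut.conj g).toMonoidHom (MulAut.conj g).injective).toEquiv,
      hH'c, hcard]
  obtain ⟨C₁, hC₁, hC₁E, hC₁c, hC₁q⟩ := hcompl H₂ hH₂N hH₂c
  obtain ⟨C₂, hC₂, hC₂E, hC₂c, hC₂q⟩ := hcompl K hSKeq.symm rfl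
  have hCc : Nat.card C₁ = Nat.card C₂ :=
    Nat.eq_of_mul_eq_mul_right Nat.card_pos (hC₁c.trans (hH₂c.trans hC₂c.symm))
  have hC₁X : C₁ ≤ X := hC₁.trans (hnormal H₂ hH₂N)
  have hC₂X : C₂ ≤ X := hC₂.trans (hnormal K hSKeq.symm)
  have e1 : Nat.card (C₁.subgroupOf X) = Nat.card C₁ := Nat.card_congr (subgroupOfEquivOfLe hC₁X).toEquiv
  have e2 : Nat.card (C₂.subgroupOf X) = Nat.card C₂ := Nat.card_congr (subgroupOfEquivOfLe hC₂X).toEquiv
  obtain ⟨⟨h, hh⟩, hconj⟩ := conj_of_coprime _ X rfl inferInstance q hq (hcyc.subgroup X)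
    (C₁.subgroupOf X) (C₂.subgroupOf X) (by rw [e1, e2, hCc]) (by rw [e1]; exact hC₁q)
  refine ⟨h, ?_⟩
  have hC2' : C₂ = C₁.map (MulAut.conj h).toMonoidHom := by
    have h1 := congrArg (Subgroup.map X.subtype) hconj
    rw [subgroupOf_map_subtype, inf_eq_left.2 hC₂X, map_map] at h1
    rw [h1]
    conv_rhs => rw [← inf_eq_left.2 hC₁X, ← subgroupOf_map_subtype, map_map]
    congr 1
  have hE : E.map (MulAut.conj h).toMonoidHom = E := by
    refine le_antisymm ?_ fun y hy => ⟨h⁻¹ * y * h, (mem_normalizer_iff''.1 hh y).1 hy, by simp [mul_assoc]⟩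
    rintro _ ⟨y, hy, rfl⟩
    exact (mem_normalizer_iff.1 hh y).1 hy
  rw [← hC₁E, Subgroup.map_sup, hE, ← hC2', hC₂E]

end CfsgLib.DGroups
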