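import Cfsg.Prelude.Def_HallClasses
import Cfsg.Agent.S0132
import Cfsg.Agent.Solvable.NilpotentHall
import Cfsg.Agent.Transfer.PResidual
import Mathlib.GroupTheory.SchurZassenhaus
import Mathlib.GroupTheory.NoncommCoprod

/-!
A group with a Hall `π`-subgroup having a nilpotent direct `σ`-factor, where the remaining set of
primes satisfies the full Sylow analogue, satisfies it for `π`.
-/

set_option autoImplicit false
set_option linter.style.haveILetI false
set_option linter.unusedSectionVars false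

namespace CfsgLib.DPiFactor

open Subgroup
open scoped Pointwise

universe u

variable {G : Type u} [Group G] [Finite G]

theorem card_coprime_index {π : Set ℕ} {H : Subgroup G} (hH : Cfsg.IsPiHall π H) :
    (Nat.card H).Coprime H.index :=
  Nat.coprime_of_dvd fun p hp h1 h2 => hH.2 p hp (hH.1 p hp h1) h2

theorem index_smul (x : G) (H : Subgroup G) : (MulAut.conj x • H).index = H.index :=
  Subgroup.index_map_of_bijective (MulAut.conj x).bijective H

theorem isPiHall_smul {π : Set ℕ} {H : Subgroup G} (hH : Cfsg.IsPiHall π H) (x : G) :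
    Cfsg.IsPiHall π (MulAut.conj x • H) := by
  refine ⟨fun p hp hd => hH.1 p hp ?_, fun p hp hpπ => ?_⟩
  · rwa [← Nat.card_congr (Subgroup.equivSMul (MulAut.conj x) H).toEquiv] at hd
  · rw [index_smul]; exact hH.2 p hp hpπ

theorem smul_commute {A B : Subgroup G} (h : ∀ a ∈ A, ∀ b ∈ B, a * b = b * a) (x : G) :
    ∀ a ∈ MulAut.conj x • A, ∀ b ∈ MulAut.conj x • B, a * b = b * a := by
  rintro _ ⟨a, ha, rfl⟩ _ ⟨b, hb, rfl⟩
  simp only [MulDistribMulAction.toMonoidEnd_apply, MulDistribMulAction.toMonoidHom_apply, MulAut.smul_def,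
    ← map_mul, h a ha b hb]

/-- A subgroup of order coprime to the index of a subgroup centralizing `N` centralizes `N`
as soon as it normalizes `N`. -/
theorem le_centralizer_of_coprime {N M W : Subgroup G} (hW : W ≤ centralizer (N : Set G))
    (hM : M ≤ normalizer (N : Set G)) (hcop : (Nat.card M).Coprime W.index) :
    M ≤ centralizer (N : Set G) := by
  haveI : ((centralizer (N : Set G)).subgroupOf (normalizer (N : Set G))).Normal := by
    constructor
    rintro ⟨c, hc'⟩ hc ⟨g, hg⟩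
    rw [mem_subgroupOf] at hc ⊢
    simp only [Subgroup.coe_mul, InvMemClass.coe_inv]
    rw [mem_centralizer_iff] at hc ⊢
    intro n hn
    have h1 : g⁻¹ * n * g ∈ N := by
      have := (mem_normalizer_iff.1 (inv_mem hg) n).1 hn
      rwa [inv_inv] at this
    have h2 : g⁻¹ * n * g * c = c * (g⁻¹ * n * g) := hc _ h1
    calc n * (g * c * g⁻¹) = g * (g⁻¹ * n * g * c) * g⁻¹ := by group
      _ = g * (c * (g⁻¹ * n * g)) * g⁻¹ := by rw [h2]
      _ = g * c * g⁻¹ * n := by group
  have h1 : (centralizer (N : Set G)).relIndex M ∣ (centralizer (N : Set G)).relIndex (normalizer (N : Set G)) := by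
    rw [← relIndex_subgroupOf hM]
    exact relIndex_dvd_index_of_normal _ _
  have h2 : (centralizer (N : Set G)).relIndex (normalizer (N : Set G)) ∣ W.index :=
    (relIndex_dvd_index_of_le (centralizer_le_normalizer _)).trans (index_dvd_of_le hW)
  exact relIndex_eq_one.1 (Nat.eq_one_of_dvd_coprimes hcop (relIndex_dvd_card _ _) (h1.trans h2))

variable {σ τ π : Set ℕ} {H Hs Ht : Subgroup G}

structure Setup (σ τ π : Set ℕ) (H Hs Ht : Subgroup G) : Prop where
  hπ : π = σ ∪ τ
  hd : Disjoint σ τ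
  hH : Cfsg.IsPiHall π H
  hs : Cfsg.IsPiSubgroup σ Hs
  ht : Cfsg.IsPiSubgroup τ Ht
  hsn : Group.IsNilpotent Hs
  hjoin : Hs ⊔ Ht = H
  hcomm : ∀ a ∈ Hs, ∀ b ∈ Ht, a * b = b * a
  hD : Cfsg.IsDPiGroup τ G

namespace Setup

variable (S : Setup σ τ π H Hs Ht)
include S

/-- The direct product decomposition of `H`. -/
theorem exists_equiv : Nonempty ((Hs × Ht) ≃* H) := by
  have hc : ∀ (m : Hs) (n : Ht), Commute (Hs.subtype m) (Ht.subtype n) := fun m n => S.hcomm _ m.2 _ n.2
  let f := MonoidHom.noncommCoprod Hs.subtype Ht.subtype hc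
  have hinj : Function.Injective f := by
    rw [← MonoidHom.ker_eq_bot_iff, eq_bot_iff]
    rintro ⟨a, b⟩ hab
    have hab' : (a : G) * (b : G) = 1 := hab
    have hcop : (Nat.card Hs).Coprime (Nat.card Ht) :=
      Nat.coprime_of_dvd fun p hp h1 h2 => Set.disjoint_left.1 S.hd (S.hs p hp h1) (S.ht p hp h2)
    have hbot := (disjoint_iff.1 (Subgroup.disjoint_of_coprime_natCard hcop))
    have ha : (a : G) ∈ Hs ⊓ Ht := ⟨a.2, by rw [eq_inv_of_mul_eq_one_left hab']; exact Ht.inv_mem b.2⟩
    rw [hbot, mem_bot] at ha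
    have hb : (b : G) = 1 := by rwa [ha, one_mul] at hab'
    rw [mem_bot]
    exact Prod.ext (OneMemClass.coe_eq_one.1 ha) (OneMemClass.coe_eq_one.1 hb)
  have hr : f.range = H := by
    rw [MonoidHom.noncommCoprod_range, range_subtype, range_subtype, S.hjoin]
  exact ⟨(MonoidHom.ofInjective hinj).trans (MulEquiv.subgroupCongr hr)⟩

theorem card_eq : Nat.card H = Nat.card Hs * Nat.card Ht := by
  obtain ⟨e⟩ := S.exists_equiv
  rw [← Nat.card_congr e.toEquiv, Nat.card_prod]

theorem hall_s : Cfsg.IsPiHall σ Hs := by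
  refine ⟨S.hs, fun p hp hpσ hd => ?_⟩
  have h1 : Hs.relIndex H = Nat.card Ht := by
    have h := relIndex_mul_relIndex ⊥ Hs H bot_le (S.hjoin ▸ le_sup_left)
    rw [relIndex_bot_left, relIndex_bot_left, S.card_eq] at h
    exact Nat.eq_of_mul_eq_mul_left Nat.card_pos h
  rw [← relIndex_mul_index (S.hjoin ▸ le_sup_left : Hs ≤ H), h1] at hd
  rcases hp.dvd_mul.1 hd with h | h
  · exact Set.disjoint_left.1 S.hd hpσ (S.ht p hp h)
  · exact S.hH.2 p hp (S.hπ ▸ Or.inl hpσ) h

theorem hall_t : Cfsg.IsPiHall τ Ht := by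
  refine ⟨S.ht, fun p hp hpσ hd => ?_⟩
  have h1 : Ht.relIndex H = Nat.card Hs := by
    have h := relIndex_mul_relIndex ⊥ Ht H bot_le (S.hjoin ▸ le_sup_right)
    rw [relIndex_bot_left, relIndex_bot_left, S.card_eq, mul_comm (Nat.card Hs)] at h
    exact Nat.eq_of_mul_eq_mul_left Nat.card_pos h
  rw [← relIndex_mul_index (S.hjoin ▸ le_sup_right : Ht ≤ H), h1] at hd
  rcases hp.dvd_mul.1 hd with h | h
  · exact Set.disjoint_left.1 S.hd (S.hs p hp h) hpσ
  · exact S.hH.2 p hp (S.hπ ▸ Or.inr hpσ) h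

theorem dominated_s {K : Subgroup G} (hK : Cfsg.IsPiSubgroup σ K) : ∃ x : G, K ≤ MulAut.conj x • Hs := by
  refine CfsgLib.NilpotentHall.contains_conj Hs K S.hsn (card_coprime_index S.hall_s) fun p hp hd => ?_
  have h := hd.trans K.card_subgroup_dvd_card
  rw [← Hs.card_mul_index] at h
  exact (hp.dvd_mul.1 h).resolve_right (S.hall_s.2 p hp (hK p hp hd))

theorem maximal_t : Maximal (Cfsg.IsPiSubgroup τ) Ht := by
  refine ⟨S.ht, fun L hL hle => relIndex_eq_one.1 ?_⟩
  exact Nat.eq_one_of_dvd_coprimes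
    (Nat.coprime_of_dvd fun p hp h1 h2 => S.hall_t.2 p hp (hL p hp h1) h2)
    (relIndex_dvd_card _ _) (relIndex_dvd_index_of_le hle)

theorem dominated_t {K : Subgroup G} (hK : Cfsg.IsPiSubgroup τ K) : ∃ x : G, K ≤ MulAut.conj x • Ht := by
  obtain ⟨L, hKL, hL⟩ := Finite.exists_le_maximal hK
  obtain ⟨g, hg⟩ := S.hD Ht L S.maximal_t hL
  exact ⟨g, hKL.trans (le_of_eq hg)⟩

/-- Commuting `σ`- and `τ`-subgroups lie in one conjugate of `H`. -/
theorem conj_of_commute {A B : Subgroup G} (hA : Cfsg.IsPiSubgroup σ A) (hB : Cfsg.IsPiSubgroup τ B)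
    (hAB : A ≤ centralizer (B : Set G)) : ∃ x : G, A ⊔ B ≤ MulAut.conj x • H := by
  obtain ⟨y, hy⟩ := S.dominated_t hB
  set C := centralizer (B : Set G) with hC
  have hle : MulAut.conj y • Hs ≤ C := fun a ha => mem_centralizer_iff.2 fun b hb =>
    (smul_commute S.hcomm y a ha b (hy hb)).symm
  have hsy := isPiHall_smul S.hall_s y
  have hcard : Nat.card ((MulAut.conj y • Hs).subgroupOf C) = Nat.card (MulAut.conj y • Hs : Subgroup G) :=
    Nat.card_congr (subgroupOfEquivOfLe hle).toEquiv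
  have hidx : ((MulAut.conj y • Hs).subgroupOf C).index ∣ (MulAut.conj y • Hs).index :=
    relIndex_dvd_index_of_le hle
  have hnil : Group.IsNilpotent ((MulAut.conj y • Hs).subgroupOf C) := by
    haveI := S.hsn
    exact Group.nilpotent_of_mulEquiv
      ((Subgroup.equivSMul (MulAut.conj y) Hs).trans (subgroupOfEquivOfLe hle).symm)
  obtain ⟨⟨c, hc⟩, hcA⟩ := CfsgLib.NilpotentHall.contains_conj ((MulAut.conj y • Hs).subgroupOf C)
    (A.subgroupOf C) hnil (hcard ▸ (card_coprime_index hsy).coprime_dvd_right hidx) fun p hp hd => by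
      rw [Nat.card_congr (subgroupOfEquivOfLe hAB).toEquiv] at hd
      have h := hd.trans A.card_subgroup_dvd_card
      rw [← (MulAut.conj y • Hs).card_mul_index] at h
      rw [hcard]
      exact (hp.dvd_mul.1 h).resolve_right (hsy.2 p hp (hA p hp hd))
  refine ⟨c * y, sup_le ?_ ?_⟩
  · intro a ha
    obtain ⟨z, hz, hza⟩ := hcA (show (⟨a, hAB ha⟩ : C) ∈ A.subgroupOf C from ha)
    have hza' : c * (z : G) * c⁻¹ = a := congrArg Subtype.val hza
    rw [map_mul, mul_smul, ← hza']
    exact ⟨z, Subgroup.pointwise_smul_le_pointwise_smul_iff.2 (S.hjoin ▸ le_sup_left) hz, rfl⟩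
  · intro b hb
    rw [map_mul, mul_smul]
    refine ⟨b, Subgroup.pointwise_smul_le_pointwise_smul_iff.2 (S.hjoin ▸ le_sup_right) (hy hb), ?_⟩
    show c * b * c⁻¹ = b
    rw [← mem_centralizer_iff.1 hc b hb, mul_inv_cancel_right]

/-- A `π`-subgroup with a normal Hall `σ`- or `τ`-subgroup lies in a conjugate of `H`. -/
theorem conj_of_normal {K : Subgroup G} (hK : Cfsg.IsPiSubgroup π K) {N : Subgroup K} [N.Normal]
    (hN : Cfsg.IsPiHall σ N ∨ Cfsg.IsPiHall τ N) : ∃ x : G, K ≤ MulAut.conj x • H := by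
  have hcop : (Nat.card N).Coprime N.index := hN.elim card_coprime_index card_coprime_index
  obtain ⟨M, hM⟩ := exists_right_complement'_of_coprime hcop
  have hMcard : Nat.card M = N.index := hM.symm.index_eq_card.symm
  have hcN := card_map_of_injective (K := N) K.subtype_injective
  have hcM := card_map_of_injective (K := M) K.subtype_injective
  set N' := N.map K.subtype
  set M' := M.map K.subtype
  have hsup : N' ⊔ M' = K := by
    rw [← Subgroup.map_sup, hM.sup_eq_top, ← MonoidHom.range_eq_map, range_subtype]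
  have hnorm : M' ≤ normalizer (N' : Set G) := by
    rintro _ ⟨m, hm, rfl⟩
    rw [mem_normalizer_iff]
    intro n
    constructor
    · rintro ⟨k, hk, rfl⟩
      exact ⟨m * k * m⁻¹, Normal.conj_mem inferInstance k hk m, by simp⟩
    · rintro ⟨k, hk, hkn⟩
      refine ⟨m⁻¹ * k * m, Normal.conj_mem' inferInstance k hk m, ?_⟩
      simp only [map_mul, map_inv, coe_subtype] at hkn ⊢
      rw [hkn]; group
  have hpi : ∀ p : ℕ, p.Prime → p ∣ N.index → p ∈ σ ∪ τ := fun p hp h =>
    S.hπ ▸ hK p hp (h.trans N.index_dvd_card)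
  rcases hN with h | h
  · have hN' : Cfsg.IsPiSubgroup σ N' := fun p hp hd => h.1 p hp (hcN ▸ hd)
    have hM' : Cfsg.IsPiSubgroup τ M' := fun p hp hd => by
      rw [hcM, hMcard] at hd
      exact (hpi p hp hd).resolve_left fun hpσ => h.2 p hp hpσ hd
    obtain ⟨y, hy⟩ := S.dominated_s hN'
    have hcen := le_centralizer_of_coprime (W := MulAut.conj y • Ht)
      (fun b hb => mem_centralizer_iff.2 fun a ha => smul_commute S.hcomm y a (hy ha) b hb) hnorm
      (Nat.coprime_of_dvd fun p hp h1 h2 => (isPiHall_smul S.hall_t y).2 p hp (hM' p hp h1) h2)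
    rw [← hsup]
    exact S.conj_of_commute hN' hM' (le_centralizer_iff.1 hcen)
  · have hN' : Cfsg.IsPiSubgroup τ N' := fun p hp hd => h.1 p hp (hcN ▸ hd)
    have hM' : Cfsg.IsPiSubgroup σ M' := fun p hp hd => by
      rw [hcM, hMcard] at hd
      exact (hpi p hp hd).resolve_right fun hpσ => h.2 p hp hpσ hd
    obtain ⟨y, hy⟩ := S.dominated_t hN'
    have hcen := le_centralizer_of_coprime (W := MulAut.conj y • Hs)
      (fun a ha => mem_centralizer_iff.2 fun b hb => (smul_commute S.hcomm y a ha b (hy hb)).symm) hnorm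
      (Nat.coprime_of_dvd fun p hp h1 h2 => (isPiHall_smul S.hall_s y).2 p hp (hM' p hp h1) h2)
    rw [← hsup, sup_comm]
    exact S.conj_of_commute hM' hN' hcen

theorem npc_of_le {q : ℕ} [hq : Fact q.Prime] (hqσ : q ∈ σ) {x : G} {L : Subgroup G}
    (hL : L ≤ MulAut.conj x • H) : Cfsg.HasNormalPComplement q L := by
  obtain ⟨e⟩ := S.exists_equiv
  haveI := S.hsn
  obtain ⟨P, N, hNn, hNP⟩ := CfsgLib.Carter.hasNormalPComplement_of_isNilpotent (G := Hs) q
  haveI := hNn
  obtain ⟨hc, k, hk⟩ := CfsgLib.PResidual.card_coprime_of_isComplement' P hNP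
  have hprod : Cfsg.HasNormalPComplement q (Hs × Ht) := by
    refine CfsgLib.PResidual.hasNormalPComplement_of_normal (N := N.prod ⊤) (k := k) ?_ ?_
    · rw [Nat.card_congr (Subgroup.prodEquiv N ⊤).toEquiv, Nat.card_prod, card_top]
      refine Nat.Coprime.mul_left hc ((hq.out.coprime_iff_not_dvd.2 fun hd => ?_).symm)
      exact Set.disjoint_left.1 S.hd hqσ (S.ht q hq.out hd)
    · rw [index_prod, index_top, mul_one, hk]
  exact CfsgLib.PResidual.hasNormalPComplement_of_injective
    (((e.trans (Subgroup.equivSMul (MulAut.conj x) H)).symm.toMonoidHom).comp (Subgroup.inclusion hL))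
    (fun _ _ h => Subgroup.inclusion_injective hL ((e.trans (Subgroup.equivSMul (MulAut.conj x) H)).symm.injective h)) hprod

theorem dominated : ∀ (n : ℕ) (K : Subgroup G), Nat.card K = n → Cfsg.IsPiSubgroup π K →
    ∃ x : G, K ≤ MulAut.conj x • H := by
  intro n
  induction n using Nat.strong_induction_on with
  | _ n ih =>
  rintro K rfl hK
  by_cases hall : ∀ q : ℕ, q.Prime → q ∈ σ → Cfsg.HasNormalPComplement q K
  · classical
    let N : Subgroup K := ⨅ q : {q : ℕ // q.Prime ∧ q ∈ σ}, Cfsg.pResidual q.1 K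
    haveI : N.Normal := normal_iInf_normal fun q => inferInstance
    refine S.conj_of_normal hK (N := N) (Or.inr ⟨fun p hp hd => ?_, fun p hp hpτ hd => ?_⟩)
    · have hpπ := hK p hp (hd.trans N.card_subgroup_dvd_card)
      rw [S.hπ] at hpπ
      refine hpπ.resolve_left fun hpσ => ?_
      haveI := Fact.mk hp
      have hle : N ≤ Cfsg.pResidual p K := iInf_le _ (⟨p, hp, hpσ⟩ : {q : ℕ // q.Prime ∧ q ∈ σ})
      exact (Nat.Prime.coprime_iff_not_dvd hp).1 (CfsgLib.PResidual.hasNormalPComplement_iff.1 (hall p hp hpσ)).symm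
        (hd.trans (card_dvd_of_le hle))
    · haveI := Fact.mk hp
      let P : Sylow p K := default
      have hPN : (P : Subgroup K) ≤ N := le_iInf fun q => fun x hx => by
        refine CfsgLib.PResidual.mem_pResidual q.1 ?_
        obtain ⟨i, hi⟩ := P.2.exists_card_eq
        refine Nat.Coprime.coprime_dvd_left (hi ▸ Subgroup.orderOf_dvd_natCard _ hx) ?_
        exact Nat.Coprime.pow_left i ((Nat.coprime_primes hp q.2.1).2 fun h =>
          Set.disjoint_left.1 S.hd (h ▸ q.2.2) hpτ)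
      exact P.not_dvd_index (hd.trans (index_dvd_of_le hPN))
  · push Not at hall
    obtain ⟨q, hq, hqσ, hnq⟩ := hall
    haveI := Fact.mk hq
    obtain ⟨hnil, hnn, hsyl⟩ := Cfsg.Agent.S0132.result hnq fun L hL => by
      have hlt : Nat.card (L.map K.subtype) < Nat.card K := by
        rw [card_map_of_injective K.subtype_injective]
        exact lt_of_le_of_ne (card_le_card_group L) fun h => hL (eq_top_of_card_eq L h)
      obtain ⟨x, hx⟩ := ih _ hlt _ rfl fun p hp hd => hK p hp (hd.trans (card_dvd_of_le (map_subtype_le L)))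
      exact CfsgLib.PResidual.hasNormalPComplement_of_injective
        (L.equivMapOfInjective K.subtype K.subtype_injective).toMonoidHom (MulEquiv.injective _) (S.npc_of_le hqσ hx)
    obtain ⟨r, q', hr, hq', hrq, P, Q, -, hQn, hPQ, hPn⟩ :=
      CfsgLib.Schmidt.structure_thm (G := K) ⟨hnn, hnil⟩
    haveI := Fact.mk hr
    haveI := Fact.mk hq'
    haveI := hQn
    have hQidx : (Q : Subgroup K).index ∣ Nat.card P := by
      have h1 : (P : Subgroup K).map (QuotientGroup.mk' (Q : Subgroup K)) = ⊤ := by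
        have h0 : (Q : Subgroup K).map (QuotientGroup.mk' (Q : Subgroup K)) = ⊥ :=
          (Subgroup.map_eq_bot_iff _).2 (le_of_eq (QuotientGroup.ker_mk' _).symm)
        rw [← Subgroup.map_top_of_surjective _ (QuotientGroup.mk'_surjective (Q : Subgroup K)), ← hPQ,
          Subgroup.map_sup, h0, sup_bot_eq]
      rw [index_eq_card, ← card_top (G := K ⧸ (Q : Subgroup K)), ← h1]
      exact card_map_dvd _ _
    obtain ⟨i, hi⟩ := P.2.exists_card_eq
    obtain ⟨j, hj⟩ := Q.2.exists_card_eq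
    have hprimes : ∀ p : ℕ, p.Prime → p ∣ Nat.card K → p = r ∨ p = q' := by
      intro p hp hd
      rw [← (Q : Subgroup K).card_mul_index] at hd
      rcases hp.dvd_mul.1 hd with h | h
      · exact Or.inr ((Nat.prime_dvd_prime_iff_eq hp hq').1 (hp.dvd_of_dvd_pow (hj ▸ h)))
      · exact Or.inl ((Nat.prime_dvd_prime_iff_eq hp hr).1 (hp.dvd_of_dvd_pow (hi ▸ h.trans hQidx)))
    have hqK : q ∣ Nat.card K := by
      by_contra hnd
      exact hnq (CfsgLib.PResidual.hasNormalPComplement_of_normal (N := (⊤ : Subgroup K)) (k := 0)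
        (by rw [card_top]; exact ((hq.coprime_iff_not_dvd).2 hnd).symm) (by rw [index_top, pow_zero]))
    have hqq : q = q' := (hprimes q hq hqK).resolve_left fun h => by subst h; exact hPn (hsyl P)
    subst hqq
    by_cases hrσ : r ∈ σ
    · refine S.conj_of_normal hK (N := (⊤ : Subgroup K)) (Or.inl ⟨fun p hp hd => ?_, fun p hp _ hd => ?_⟩)
      · rw [card_top] at hd
        rcases hprimes p hp hd with rfl | rfl <;> assumption
      · rw [index_top] at hd; exact hp.ne_one (Nat.dvd_one.1 hd)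
    · refine S.conj_of_normal hK (N := (Q : Subgroup K)) (Or.inl ⟨fun p hp hd => ?_, fun p hp hpσ hd => ?_⟩)
      · rw [(Nat.prime_dvd_prime_iff_eq hp hq').1 (hp.dvd_of_dvd_pow (hj ▸ hd))]; exact hqσ
      · exact hrσ (((Nat.prime_dvd_prime_iff_eq hp hr).1 (hp.dvd_of_dvd_pow (hi ▸ hd.trans hQidx))) ▸ hpσ)

theorem isDPi : Cfsg.IsDPiGroup π G := by
  have key : ∀ K : Subgroup G, Maximal (Cfsg.IsPiSubgroup π) K → ∃ x : G, K = MulAut.conj x • H := by
    intro K hK
    obtain ⟨x, hx⟩ := S.dominated _ K rfl hK.prop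
    exact ⟨x, le_antisymm hx (hK.le_of_ge (isPiHall_smul S.hH x).1 hx)⟩
  intro A B hA hB
  obtain ⟨x, rfl⟩ := key A hA
  obtain ⟨y, rfl⟩ := key B hB
  refine ⟨y * x⁻¹, ?_⟩
  show _ = MulAut.conj (y * x⁻¹) • MulAut.conj x • H
  rw [← mul_smul, ← map_mul, inv_mul_cancel_right]

end Setup

end CfsgLib.DPiFactor
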