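import Mathlib.GroupTheory.Sylow
import Mathlib.GroupTheory.SchurZassenhaus
import Mathlib.Data.Nat.Squarefree
import Mathlib.Data.Nat.Factorization.Basic
import Cfsg.Agent.TwoClassSizes.ExponentP

/-!
Finite groups with exactly two conjugacy class sizes: all noncentral elements of prime power
order belong to one prime (Ito).
-/

set_option autoImplicit false
set_option linter.style.haveILetI false

namespace CfsgLib.TwoSizes

open Subgroup

variable {G : Type*} [Group G] [Finite G]

theorem mem_centralizer_one {x y : G} : y ∈ centralizer ({x} : Set G) ↔ Commute y x := by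
  rw [mem_centralizer_singleton_iff]
  rfl

theorem self_mem (x : G) : x ∈ centralizer ({x} : Set G) :=
  mem_centralizer_one.2 (Commute.refl x)

theorem center_le (x : G) : center G ≤ centralizer ({x} : Set G) := fun _ hz =>
  mem_centralizer_one.2 (mem_center_iff.1 hz x).symm

/-- An element lies in a subgroup as soon as its parts of prime power order do. -/
theorem mem_of_parts (H : Subgroup G) (x : G)
    (h : ∀ p : ℕ, p.Prime → x ^ (orderOf x / p ^ (orderOf x).factorization p) ∈ H) : x ∈ H := by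
  let H' : Subgroup (zpowers x) := H.subgroupOf (zpowers x)
  haveI : H'.Normal := ⟨fun a ha b => by
    have : b * a * b⁻¹ = a := by
      rw [mul_inv_eq_iff_eq_mul]
      obtain ⟨i, hi⟩ := mem_zpowers_iff.1 a.2
      obtain ⟨j, hj⟩ := mem_zpowers_iff.1 b.2
      exact Subtype.ext (by simp only [Subgroup.coe_mul, ← hi, ← hj, ← zpow_add, add_comm])
    rwa [this]⟩
  let x' : zpowers x := ⟨x, mem_zpowers x⟩
  suffices orderOf (x' : zpowers x ⧸ H') = 1 by
    rw [orderOf_eq_one_iff, QuotientGroup.eq_one_iff] at this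
    exact this
  by_contra hne
  obtain ⟨p, hp, hpd⟩ := Nat.exists_prime_and_dvd hne
  have h1 : orderOf (x' : zpowers x ⧸ H') ∣ orderOf x / p ^ (orderOf x).factorization p := by
    refine orderOf_dvd_of_pow_eq_one ?_
    rw [← QuotientGroup.mk_pow, QuotientGroup.eq_one_iff]
    show ((x' ^ _ : zpowers x) : G) ∈ H
    rw [SubmonoidClass.coe_pow]
    exact h p hp
  exact Nat.not_dvd_ordCompl hp (orderOf_pos x).ne' (hpd.trans h1)

theorem part_order (x : G) {p : ℕ} (hp : p.Prime) :
    ∃ j : ℕ, orderOf (x ^ (orderOf x / p ^ (orderOf x).factorization p)) = p ^ j := by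
  refine ⟨(orderOf x).factorization p, ?_⟩
  have hd := Nat.ordProj_dvd (orderOf x) p
  have hpos : 0 < orderOf x / p ^ (orderOf x).factorization p :=
    Nat.div_pos (Nat.le_of_dvd (orderOf_pos x) hd) (pow_pos hp.pos _)
  rw [orderOf_pow_of_dvd hpos.ne' (Nat.div_dvd_of_dvd hd), Nat.div_div_self hd (orderOf_pos x).ne']

/-- The hypothesis: every element is central or has class size `n`. -/
def TwoSized (G : Type*) [Group G] (n : ℕ) : Prop :=
  ∀ x : G, x ∉ center G → (centralizer ({x} : Set G)).index = n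

variable {n : ℕ}

theorem centralizer_eq (hG : TwoSized G n) (hn : 0 < n) {x y : G} (hx : x ∉ center G)
    (hy : y ∉ center G) (hle : centralizer ({x} : Set G) ≤ centralizer ({y} : Set G)) :
    centralizer ({x} : Set G) = centralizer ({y} : Set G) := by
  refine eq_of_le_of_card_ge hle (le_of_eq ?_)
  have h1 := (centralizer ({x} : Set G)).card_mul_index
  have h2 := (centralizer ({y} : Set G)).card_mul_index
  rw [hG x hx] at h1
  rw [hG y hy, ← h1] at h2
  exact Nat.eq_of_mul_eq_mul_right hn h2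

/-- Elements of order prime to that of a noncentral element are central in its centralizer. -/
theorem le_centralizer_of_coprime (hG : TwoSized G n) (hn : 0 < n) {x y : G} (hx : x ∉ center G)
    (hy : y ∈ centralizer ({x} : Set G)) (hcop : (orderOf x).Coprime (orderOf y)) :
    centralizer ({x} : Set G) ≤ centralizer ({y} : Set G) := by
  have hc : Commute y x := mem_centralizer_one.1 hy
  have hle : centralizer ({x * y} : Set G) ≤ centralizer ({x} : Set G) := by
    intro c hc'
    have h : Commute c (x * y) := mem_centralizer_one.1 hc'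
    refine mem_centralizer_one.2 ?_
    obtain ⟨k, hk⟩ := exists_pow_eq_self_of_coprime (x := x) hcop.symm
    have : ((x * y) ^ orderOf y) ^ k = x := by
      rw [hc.symm.mul_pow, pow_orderOf_eq_one, mul_one, hk]
    exact this ▸ ((h.pow_right _).pow_right _)
  have hxy : x * y ∉ center G := fun h => hx (mem_center_iff.2 fun g => by
    exact (mem_centralizer_one.1 (hle (mem_centralizer_one.2 (mem_center_iff.1 h g)))))
  rw [← centralizer_eq hG hn hxy hx hle]
  intro c hc'
  have h : Commute c (x * y) := mem_centralizer_one.1 hc'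
  have h2 : Commute c x := mem_centralizer_one.1 (hle hc')
  refine mem_centralizer_one.2 ?_
  have := h2.inv_right.mul_right h
  rwa [inv_mul_cancel_left] at this

/-- Noncentral elements of prime power order exist for a prime other than `p`. -/
def HasOther (G : Type*) [Group G] (p : ℕ) : Prop :=
  ∃ (q : ℕ) (y : G), q.Prime ∧ q ≠ p ∧ y ∉ center G ∧ ∃ j, orderOf y = q ^ j

theorem exists_second (hG : TwoSized G n) (hn : 0 < n) (hB : ∀ p : ℕ, HasOther G p) {x : G}
    (hx : x ∉ center G) (p : ℕ) (hp : p.Prime) (hxp : ∃ j, orderOf x = p ^ j) :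
    ∃ (q : ℕ) (w : G), q.Prime ∧ q ≠ p ∧ w ∉ center G ∧ w ∈ centralizer ({x} : Set G) ∧
      ∃ j, orderOf w = q ^ j := by
  obtain ⟨q, y, hq, hqp, hy, hyq⟩ := hB p
  by_contra hcon
  haveI := Fact.mk hq
  obtain ⟨T⟩ : Nonempty (Sylow q (centralizer ({x} : Set G))) := inferInstance
  set T' := (T : Subgroup (centralizer ({x} : Set G))).map (centralizer ({x} : Set G)).subtype
  have hT' : T' ≤ center G := by
    rintro w hw
    by_contra hwc
    obtain ⟨j, hj⟩ := IsPGroup.iff_orderOf.1 (T.2.map (centralizer ({x} : Set G)).subtype) ⟨w, hw⟩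
    rw [Subgroup.orderOf_mk] at hj
    exact hcon ⟨q, w, hq, hqp, hwc, map_subtype_le _ hw, j, hj⟩
  obtain ⟨j, hj⟩ := hyq
  have hyT : IsPGroup q (zpowers y) := IsPGroup.of_card (n := j) (by rw [Nat.card_zpowers, hj])
  have hJ : IsPGroup q (zpowers y ⊔ T' : Subgroup G) := by
    refine hyT.to_sup_of_normal_right' (T.2.map _) ?_
    exact zpowers_le.2 (centralizer_le_normalizer _ (mem_centralizer_iff.2 fun t ht =>
      (mem_center_iff.1 (hT' ht) y).symm))
  have hJC : (zpowers y ⊔ T' : Subgroup G) ≤ centralizer ({y} : Set G) :=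
    sup_le (zpowers_le.2 (self_mem y)) (hT'.trans (center_le y))
  have hlt : T' < zpowers y ⊔ T' := lt_of_le_of_ne le_sup_right fun e =>
    hy (hT' (e ▸ le_sup_left (α := Subgroup G) (mem_zpowers y)))
  obtain ⟨a, ha⟩ := hJ.exists_card_eq
  have h1 := card_dvd_of_le hJC
  have hTc : Nat.card T' = q ^ (Nat.card (centralizer ({x} : Set G))).factorization q := by
    rw [← T.card_eq_multiplicity]
    exact Nat.card_congr ((T : Subgroup (centralizer ({x} : Set G))).equivMapOfInjective _
      (subtype_injective _)).symm.toEquiv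
  have hc : Nat.card (centralizer ({x} : Set G)) = Nat.card (centralizer ({y} : Set G)) := by
    have e1 := (centralizer ({x} : Set G)).card_mul_index
    have e2 := (centralizer ({y} : Set G)).card_mul_index
    rw [hG x hx] at e1
    rw [hG y hy, ← e1] at e2
    exact (Nat.eq_of_mul_eq_mul_right hn e2).symm
  rw [ha, ← hc, hq.pow_dvd_iff_le_factorization Nat.card_pos.ne'] at h1
  have h2 : Nat.card T' < Nat.card (zpowers y ⊔ T' : Subgroup G) :=
    lt_of_le_of_ne (card_le_of_le hlt.le) fun e => hlt.ne (eq_of_le_of_card_ge hlt.le e.ge)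
  rw [hTc, ha] at h2
  exact absurd h2 (not_lt.2 (Nat.pow_le_pow_right hq.pos h1))

theorem abelian_centralizer (hG : TwoSized G n) (hn : 0 < n) (hB : ∀ p : ℕ, HasOther G p) {x : G}
    (hx : x ∉ center G) :
    (∀ a ∈ centralizer ({x} : Set G), ∀ b ∈ centralizer ({x} : Set G), Commute a b) ∧
    ∃ (p q : ℕ) (u w : G), p.Prime ∧ q.Prime ∧ p ≠ q ∧ u ∉ center G ∧ w ∉ center G ∧
      u ∈ centralizer ({x} : Set G) ∧ w ∈ centralizer ({x} : Set G) ∧
      (∃ j, orderOf u = p ^ j) ∧ (∃ j, orderOf w = q ^ j) := by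
  obtain ⟨p, hp, hu⟩ : ∃ p : ℕ, p.Prime ∧
      x ^ (orderOf x / p ^ (orderOf x).factorization p) ∉ center G := by
    by_contra hcon
    push Not at hcon
    exact hx (mem_of_parts _ x hcon)
  set u := x ^ (orderOf x / p ^ (orderOf x).factorization p) with hu_def
  have hup := part_order x hp
  have hux : centralizer ({x} : Set G) = centralizer ({u} : Set G) :=
    centralizer_eq hG hn hx hu fun c hc =>
      mem_centralizer_one.2 ((mem_centralizer_one.1 hc).pow_right _)
  obtain ⟨q, w, hq, hqp, hw, hwu, hwq⟩ := exists_second hG hn hB hu p hp hup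
  have hcop : ∀ {a b : G} {r s : ℕ}, r.Prime → s.Prime → r ≠ s → (∃ j, orderOf a = r ^ j) →
      (∃ j, orderOf b = s ^ j) → (orderOf a).Coprime (orderOf b) := by
    rintro a b r s hr hs hrs ⟨i, hi⟩ ⟨j, hj⟩
    rw [hi, hj]
    exact Nat.Coprime.pow _ _ ((Nat.coprime_primes hr hs).2 hrs)
  have huw : centralizer ({u} : Set G) = centralizer ({w} : Set G) :=
    centralizer_eq hG hn hu hw (le_centralizer_of_coprime hG hn hu hwu (hcop hp hq hqp.symm hup hwq))
  refine ⟨?_, p, q, u, w, hp, hq, hqp.symm, hu, hw, hux ▸ self_mem u, hux ▸ hwu, hup, hwq⟩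
  rw [hux]
  intro a ha b hb
  have key : ∀ d ∈ centralizer ({u} : Set G), d ∈ centralizer ((centralizer ({u} : Set G) : Subgroup G) : Set G) := by
    intro d hd
    refine mem_of_parts _ d fun r hr => mem_centralizer_iff.2 fun c hc => ?_
    have hdr := part_order d hr
    have hdm := pow_mem hd (orderOf d / r ^ (orderOf d).factorization r)
    rcases eq_or_ne r p with rfl | hrp
    · have := le_centralizer_of_coprime hG hn hw (huw ▸ hdm) (hcop hq hp hqp hwq hdr) (huw ▸ hc)
      exact (mem_centralizer_one.1 this).eq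
    · have := le_centralizer_of_coprime hG hn hu hdm (hcop hp hr hrp.symm hup hdr) hc
      exact (mem_centralizer_one.1 this).eq
  exact (mem_centralizer_iff.1 (key a ha) b hb).symm

/-- Centralizers of noncentral elements. -/
abbrev Cent (G : Type*) [Group G] : Type _ :=
  {H : Subgroup G // ∃ x : G, x ∉ center G ∧ H = centralizer ({x} : Set G)}

theorem cent_eq (hG : TwoSized G n) (hn : 0 < n) (hB : ∀ p : ℕ, HasOther G p) (C : Cent G) {v : G}
    (hvC : v ∈ C.1) (hv : v ∉ center G) : centralizer ({v} : Set G) = C.1 := by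
  obtain ⟨H, x, hx, rfl⟩ := C
  exact (centralizer_eq hG hn hx hv fun c hc => mem_centralizer_one.2
    ((abelian_centralizer hG hn hB hx).1 c hc v hvC)).symm

theorem cent_abelian (hG : TwoSized G n) (hn : 0 < n) (hB : ∀ p : ℕ, HasOther G p) (C : Cent G)
    {a b : G} (ha : a ∈ C.1) (hb : b ∈ C.1) : Commute a b := by
  obtain ⟨H, x, hx, rfl⟩ := C
  exact (abelian_centralizer hG hn hB hx).1 a ha b hb

theorem Cent.center_le (C : Cent G) : center G ≤ C.1 := by
  obtain ⟨H, x, hx, rfl⟩ := C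
  exact CfsgLib.TwoSizes.center_le x

/-- The common order of the centralizers modulo the center, times `n`. -/
theorem cent_quot_card (hG : TwoSized G n) (C : Cent G) :
    Nat.card (C.1.map (QuotientGroup.mk' (center G))) * n = Nat.card (G ⧸ center G) := by
  obtain ⟨H, x, hx, rfl⟩ := C
  have h := ((centralizer ({x} : Set G)).map (QuotientGroup.mk' (center G))).card_mul_index
  rwa [index_map_eq _ (QuotientGroup.mk'_surjective _)
    (by rw [QuotientGroup.ker_mk']; exact center_le x), hG x hx] at h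

theorem mk_mem_map {C : Cent G} {g : G} :
    (g : G ⧸ center G) ∈ C.1.map (QuotientGroup.mk' (center G)) ↔ g ∈ C.1 := by
  refine ⟨fun h => ?_, fun h => mem_map_of_mem (QuotientGroup.mk' (center G)) h⟩
  obtain ⟨c, hc, e⟩ := h
  exact (C.1.mul_mem_cancel_left (inv_mem hc)).1 (C.center_le (QuotientGroup.eq.1 e))

/-- The centralizers partition the noncentral elements. -/
theorem count (hG : TwoSized G n) (hn : 0 < n) (hB : ∀ p : ℕ, HasOther G p) (C₀ : Cent G) :
    Nat.card (Cent G) * (Nat.card (C₀.1.map (QuotientGroup.mk' (center G))) - 1) =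
      Nat.card (G ⧸ center G) - 1 := by
  classical
  haveI : Fintype (Cent G) := Fintype.ofFinite _
  have hsize : ∀ C : Cent G,
      Nat.card {y : C.1.map (QuotientGroup.mk' (center G)) // y ≠ 1} =
        Nat.card (C₀.1.map (QuotientGroup.mk' (center G))) - 1 := by
    intro C
    have e : Nat.card (C.1.map (QuotientGroup.mk' (center G))) =
        Nat.card (C₀.1.map (QuotientGroup.mk' (center G))) :=
      Nat.eq_of_mul_eq_mul_right hn ((cent_quot_card hG C).trans (cent_quot_card hG C₀).symm)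
    rw [← e]
    haveI := Fintype.ofFinite (C.1.map (QuotientGroup.mk' (center G)))
    rw [Nat.card_eq_fintype_card, Nat.card_eq_fintype_card, Fintype.card_subtype_compl,
      Fintype.card_subtype_eq]
  let F : (Σ C : Cent G, {y : C.1.map (QuotientGroup.mk' (center G)) // y ≠ 1}) →
      {y : G ⧸ center G // y ≠ 1} := fun a =>
    ⟨a.2.1.1, fun e => a.2.2 (Subtype.ext e)⟩
  have hF : Function.Bijective F := by
    constructor
    · rintro ⟨C, ⟨y, hy⟩, hy1⟩ ⟨D, ⟨z, hz⟩, hz1⟩ e
      obtain rfl : y = z := congrArg Subtype.val e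
      obtain ⟨g, rfl⟩ := QuotientGroup.mk_surjective y
      have hg : g ∉ center G := fun h => hy1 (Subtype.ext ((QuotientGroup.eq_one_iff g).2 h))
      obtain rfl : C = D := Subtype.ext
        ((cent_eq hG hn hB C (mk_mem_map.1 hy) hg).symm.trans (cent_eq hG hn hB D (mk_mem_map.1 hz) hg))
      rfl
    · rintro ⟨y, hy⟩
      obtain ⟨g, rfl⟩ := QuotientGroup.mk_surjective y
      have hg : g ∉ center G := fun h => hy ((QuotientGroup.eq_one_iff g).2 h)
      exact ⟨⟨⟨_, g, hg, rfl⟩, ⟨(g : G ⧸ center G), mk_mem_map.2 (self_mem g)⟩,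
        fun e => hy (congrArg Subtype.val e)⟩, rfl⟩
  have h1 := Nat.card_congr (Equiv.ofBijective F hF)
  rw [Nat.card_sigma, Finset.sum_congr rfl fun C _ => hsize C, Finset.sum_const, smul_eq_mul,
    Finset.card_univ, ← Nat.card_eq_fintype_card] at h1
  rw [h1]
  haveI := Fintype.ofFinite (G ⧸ center G)
  rw [Nat.card_eq_fintype_card, Nat.card_eq_fintype_card, Fintype.card_subtype_compl,
    Fintype.card_subtype_eq]

/-- Conjugation on the centralizers. -/
instance : MulAction G (Cent G) where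
  smul g C := ⟨C.1.map (MulAut.conj g).toMonoidHom, by
    obtain ⟨x, hx, e⟩ := C.2
    refine ⟨g * x * g⁻¹, fun h => hx ?_, ?_⟩
    · simpa [mul_assoc] using (Normal.conj_mem inferInstance _ h g⁻¹ : _ ∈ center G)
    · ext y
      rw [mem_map_equiv, MulAut.conj_symm_apply, e, mem_centralizer_one, mem_centralizer_one,
        ← Commute.conj_iff g]
      group⟩
  one_smul C := Subtype.ext (by
    show C.1.map (MulAut.conj (1 : G)).toMonoidHom = C.1
    ext y
    simp)
  mul_smul g h C := Subtype.ext (by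
    show C.1.map (MulAut.conj (g * h)).toMonoidHom =
      (C.1.map (MulAut.conj h).toMonoidHom).map (MulAut.conj g).toMonoidHom
    rw [map_map]
    congr 1
    ext y
    simp [mul_assoc])

theorem conj_mem_of_fixed {g : G} {C : Cent G} (h : g • C = C) {x : G} (hx : x ∈ C.1) :
    g * x * g⁻¹ ∈ C.1 := by
  have e : C.1.map (MulAut.conj g).toMonoidHom = C.1 := congrArg Subtype.val h
  rw [← e]
  exact mem_map_of_mem (MulAut.conj g).toMonoidHom hx

/-- The commutator of `g` with `x`. -/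
theorem comm_pow_right {g x : G} (h : g * x * g⁻¹ * x⁻¹ ∈ center G) (j : ℕ) :
    g * x ^ j * g⁻¹ * (x ^ j)⁻¹ = (g * x * g⁻¹ * x⁻¹) ^ j := by
  have h1 : g * x * g⁻¹ = (g * x * g⁻¹ * x⁻¹) * x := by group
  generalize g * x * g⁻¹ * x⁻¹ = z at h h1 ⊢
  rw [← conj_pow, h1, (show Commute z x from (mem_center_iff.1 h x).symm).mul_pow, mul_inv_cancel_right]

theorem comm_pow_left {g x : G} (h : g * x * g⁻¹ * x⁻¹ ∈ center G) (j : ℕ) :
    g ^ j * x * (g ^ j)⁻¹ * x⁻¹ = (g * x * g⁻¹ * x⁻¹) ^ j := by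
  have h1 : g * x * g⁻¹ = (g * x * g⁻¹ * x⁻¹) * x := by group
  generalize g * x * g⁻¹ * x⁻¹ = z at h h1 ⊢
  have hit : ∀ i : ℕ, g ^ i * x * (g ^ i)⁻¹ = z ^ i * x := by
    intro i
    induction i with
    | zero => simp
    | succ i ih =>
      calc g ^ (i + 1) * x * (g ^ (i + 1))⁻¹ = g * (g ^ i * x * (g ^ i)⁻¹) * g⁻¹ := by
            rw [pow_succ']; group
        _ = g * z ^ i * (x * g⁻¹) := by rw [ih]; group
        _ = z ^ i * (g * x * g⁻¹) := by rw [mem_center_iff.1 (pow_mem h i) g]; group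
        _ = z ^ (i + 1) * x := by rw [h1, pow_succ, mul_assoc]
  rw [hit j, mul_inv_cancel_right]

/-- What a Sylow subgroup for a divisor of `n` does. -/
theorem sylow_data (hG : TwoSized G n) (hn : 0 < n) (hB : ∀ p : ℕ, HasOther G p) {s : ℕ}
    [hs : Fact s.Prime] (hsn : s ∣ n) (P : Sylow s G) :
    ∃ C : Cent G, (∀ g ∈ (P : Subgroup G), g • C = C) ∧
      s ∣ Nat.card (C.1.map (QuotientGroup.mk' (center G))) ∧
      (∀ g ∈ (P : Subgroup G), g ^ s ∈ C.1) ∧ ¬ s ^ 2 ∣ n ∧ ∃ g ∈ (P : Subgroup G), g ∉ C.1 := by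
  classical
  obtain ⟨-, y, -, -, hy, -⟩ := hB 0
  have C₀ : Cent G := ⟨_, y, hy, rfl⟩
  set cb := Nat.card (C₀.1.map (QuotientGroup.mk' (center G))) with hcb
  have hQ := cent_quot_card hG C₀
  have hk := count hG hn hB C₀
  rw [← hQ, ← hcb] at hk
  have hcb1 : 1 ≤ cb := Nat.card_pos
  have hsk : ¬ s ∣ Nat.card (Cent G) := by
    intro hd
    have h1 : s ∣ cb * n := dvd_mul_of_dvd_right hsn _
    have h2 : s ∣ cb * n - 1 := hk ▸ dvd_mul_of_dvd_left hd _
    have hpos : 1 ≤ cb * n := Nat.mul_pos hcb1 hn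
    have := Nat.dvd_sub h1 h2
    rw [Nat.sub_sub_self hpos] at this
    exact hs.out.ne_one (Nat.dvd_one.1 this)
  obtain ⟨C, hC⟩ := P.2.nonempty_fixed_point_of_prime_not_dvd_card (Cent G) hsk
  have hfix : ∀ g ∈ (P : Subgroup G), g • C = C := fun g hg => hC ⟨g, hg⟩
  have hCcb : Nat.card (C.1.map (QuotientGroup.mk' (center G))) = cb :=
    Nat.eq_of_mul_eq_mul_right hn ((cent_quot_card hG C).trans hQ.symm)
  obtain ⟨g₀, hg₀P, hg₀⟩ : ∃ g ∈ (P : Subgroup G), g ∉ C.1 := by
    by_contra hcon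
    push Not at hcon
    obtain ⟨x, hx, e⟩ := C.2
    have h1 : C.1.index ∣ (P : Subgroup G).index := index_dvd_of_le hcon
    rw [e, hG x hx] at h1
    exact P.not_dvd_index (hsn.trans h1)
  -- action on C modulo the center
  letI : MulAction (P : Subgroup G) (C.1.map (QuotientGroup.mk' (center G))) :=
    { smul := fun g y => ⟨((g : G) : G ⧸ center G) * y * ((g : G) : G ⧸ center G)⁻¹, by
        obtain ⟨x, hx, e⟩ := y.2
        rw [← e]
        exact ⟨(g : G) * x * (g : G)⁻¹, conj_mem_of_fixed (hfix g g.2) hx, rfl⟩⟩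
      one_smul := fun y => Subtype.ext (by
        show ((1 : G) : G ⧸ center G) * y * ((1 : G) : G ⧸ center G)⁻¹ = y
        simp)
      mul_smul := fun g h y => Subtype.ext (by
        show (((g : G) * h : G) : G ⧸ center G) * y * (((g : G) * h : G) : G ⧸ center G)⁻¹ =
          ((g : G) : G ⧸ center G) * (((h : G) : G ⧸ center G) * y * ((h : G) : G ⧸ center G)⁻¹) *
            ((g : G) : G ⧸ center G)⁻¹
        simp [mul_assoc]) }
  have hfp : ∀ (g : (P : Subgroup G)) (x : G) (hx : x ∈ C.1),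
      g • (⟨(x : G ⧸ center G), mk_mem_map.2 hx⟩ : C.1.map (QuotientGroup.mk' (center G))) =
        ⟨(x : G ⧸ center G), mk_mem_map.2 hx⟩ →
      (g : G) * x * (g : G)⁻¹ * x⁻¹ ∈ center G := by
    intro g x hx e
    have e' : ((g : G) : G ⧸ center G) * x * ((g : G) : G ⧸ center G)⁻¹ = x := congrArg Subtype.val e
    rw [← QuotientGroup.eq_one_iff, QuotientGroup.mk_mul, QuotientGroup.mk_mul, QuotientGroup.mk_mul,
      QuotientGroup.mk_inv, QuotientGroup.mk_inv, e', mul_inv_cancel]
  have hscb : s ∣ cb := by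
    by_contra hnd
    have h1 : Nat.card (MulAction.fixedPoints (P : Subgroup G) (C.1.map (QuotientGroup.mk' (center G)))) = 1 := by
      rw [Nat.card_eq_one_iff_unique]
      refine ⟨⟨fun a b => ?_⟩, ⟨⟨1, fun g => Subtype.ext (by
        show ((g : G) : G ⧸ center G) * 1 * ((g : G) : G ⧸ center G)⁻¹ = 1
        simp)⟩⟩⟩
      suffices ∀ a : MulAction.fixedPoints (P : Subgroup G) (C.1.map (QuotientGroup.mk' (center G))),
          a.1.1 = 1 from Subtype.ext (Subtype.ext ((this a).trans (this b).symm))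
      rintro ⟨⟨y, hyC⟩, hfy⟩
      show y = 1
      obtain ⟨x, rfl⟩ := QuotientGroup.mk_surjective y
      have hxC := mk_mem_map.1 hyC
      by_contra hx1
      have hxn : x ∉ center G := fun h => hx1 ((QuotientGroup.eq_one_iff x).2 h)
      have hz := hfp ⟨g₀, hg₀P⟩ x hxC (hfy _)
      obtain ⟨e, he⟩ := IsPGroup.iff_orderOf.1 P.2 ⟨g₀, hg₀P⟩
      rw [Subgroup.orderOf_mk] at he
      have p1 : (g₀ * x * g₀⁻¹ * x⁻¹) ^ (s ^ e) = 1 := by
        rw [← comm_pow_left hz, ← he, pow_orderOf_eq_one]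
        group
      have p2 : (g₀ * x * g₀⁻¹ * x⁻¹) ^ cb = 1 := by
        have hxc : x ^ cb ∈ center G := by
          rw [← QuotientGroup.eq_one_iff, QuotientGroup.mk_pow, ← hCcb]
          exact congrArg Subtype.val (pow_card_eq_one'
            (x := (⟨(x : G ⧸ center G), hyC⟩ : C.1.map (QuotientGroup.mk' (center G)))))
        rw [← comm_pow_right hz, mem_center_iff.1 hxc g₀, mul_inv_cancel_right, mul_inv_cancel]
      have hc := pow_gcd_eq_one.2 ⟨p1, p2⟩
      rw [((Nat.Prime.coprime_iff_not_dvd hs.out).2 hnd).pow_left e, pow_one, mul_inv_eq_one] at hc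
      exact hg₀ (cent_eq hG hn hB C hxC hxn ▸ mem_centralizer_one.2 (mul_inv_eq_iff_eq_mul.1 hc))
    have h2 := P.2.card_modEq_card_fixedPoints (C.1.map (QuotientGroup.mk' (center G)))
    rw [h1, hCcb] at h2
    have h3 : s ∣ cb - 1 := (Nat.modEq_iff_dvd' hcb1).1 h2.symm
    have h4 : s ∣ cb * n - 1 := hk ▸ dvd_mul_of_dvd_right h3 _
    have := Nat.dvd_sub (dvd_mul_of_dvd_right hsn cb) h4
    rw [Nat.sub_sub_self (Nat.mul_pos hcb1 hn)] at this
    exact hs.out.ne_one (Nat.dvd_one.1 this)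
  -- an element of order s modulo the center, fixed by P
  obtain ⟨u, huC, hun, hus, huP⟩ : ∃ u ∈ C.1, u ∉ center G ∧ u ^ s ∈ center G ∧
      ∀ g ∈ (P : Subgroup G), g * u * g⁻¹ * u⁻¹ ∈ center G := by
    let X : Subgroup (C.1.map (QuotientGroup.mk' (center G))) :=
      { carrier := {y | y ^ s = 1}
        mul_mem' := fun {a b} ha hb => by
          obtain ⟨x, hx, ex⟩ := a.2
          obtain ⟨x', hx', ex'⟩ := b.2
          have hab : Commute a b := Subtype.ext (by
            show (a : G ⧸ center G) * b = b * a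
            rw [← ex, ← ex', ← map_mul, ← map_mul, (cent_abelian hG hn hB C hx hx').eq])
          show (a * b) ^ s = 1
          rw [hab.mul_pow, ha, hb, one_mul]
        one_mem' := one_pow s
        inv_mem' := fun {a} ha => by
          show a⁻¹ ^ s = 1
          rw [inv_pow, ha, inv_one] }
    obtain ⟨y, hy⟩ := exists_prime_orderOf_dvd_card' s (hCcb.symm ▸ hscb :
      s ∣ Nat.card (C.1.map (QuotientGroup.mk' (center G))))
    have hXne : s ∣ Nat.card X := by
      have : y ∈ X := by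
        show y ^ s = 1
        rw [← hy]
        exact pow_orderOf_eq_one y
      exact hy ▸ Subgroup.orderOf_dvd_natCard (s := X) this
    letI : MulAction (P : Subgroup G) X :=
      { smul := fun g y => ⟨g • (y : C.1.map (QuotientGroup.mk' (center G))), by
          show (g • (y : C.1.map (QuotientGroup.mk' (center G)))) ^ s = 1
          refine Subtype.ext ?_
          show (((g : G) : G ⧸ center G) * y.1.1 * ((g : G) : G ⧸ center G)⁻¹) ^ s = 1
          rw [conj_pow, show y.1.1 ^ s = 1 from congrArg Subtype.val y.2, mul_one, mul_inv_cancel]⟩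
        one_smul := fun y => Subtype.ext (one_smul _ y.1)
        mul_smul := fun g h y => Subtype.ext (mul_smul g h y.1) }
    obtain ⟨b, hb, hb1⟩ := P.2.exists_fixed_point_of_prime_dvd_card_of_fixed_point X hXne
      (a := 1) (fun g => Subtype.ext (Subtype.ext (by
        show ((g : G) : G ⧸ center G) * 1 * ((g : G) : G ⧸ center G)⁻¹ = 1
        simp)))
    obtain ⟨⟨c, hcC⟩, hcs⟩ := b
    obtain ⟨u, rfl⟩ := QuotientGroup.mk_surjective c
    have huC := mk_mem_map.1 hcC
    refine ⟨u, huC, fun h => hb1 (Subtype.ext (Subtype.ext ((QuotientGroup.eq_one_iff u).2 h).symm)),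
      ?_, fun g hg => hfp ⟨g, hg⟩ u huC (congrArg Subtype.val (hb ⟨g, hg⟩))⟩
    rw [← QuotientGroup.eq_one_iff, QuotientGroup.mk_pow]
    exact congrArg Subtype.val hcs
  have hCu : centralizer ({u} : Set G) = C.1 := cent_eq hG hn hB C huC hun
  have hexp : ∀ g ∈ (P : Subgroup G), g ^ s ∈ C.1 := by
    intro g hg
    rw [← hCu, mem_centralizer_one]
    have hz := huP g hg
    have h1 := comm_pow_left hz s
    rw [← comm_pow_right hz, mem_center_iff.1 hus g, mul_inv_cancel_right, mul_inv_cancel,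
      mul_inv_eq_one] at h1
    exact mul_inv_eq_iff_eq_mul.1 h1
  have hkey : ∀ a ∈ (P : Subgroup G), ∀ b ∈ (P : Subgroup G), Commute ((b * a)⁻¹ * (a * b)) u := by
    intro a ha b hb
    obtain ⟨z₁, c1, k1⟩ : ∃ z ∈ center G, a * u * a⁻¹ = z * u := ⟨_, huP a ha, by group⟩
    obtain ⟨z₂, c2, k2⟩ : ∃ z ∈ center G, b * u * b⁻¹ = z * u := ⟨_, huP b hb, by group⟩
    have k12 : (a * b) * u * (a * b)⁻¹ = (z₂ * z₁) * u := by
      calc (a * b) * u * (a * b)⁻¹ = (a * z₂) * (u * a⁻¹) := by
            rw [show (a * b) * u * (a * b)⁻¹ = a * (b * u * b⁻¹) * a⁻¹ by group, k2]; group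
        _ = z₂ * (a * u * a⁻¹) := by rw [mem_center_iff.1 c2 a]; group
        _ = _ := by rw [k1, mul_assoc]
    have k21 : (b * a) * u * (b * a)⁻¹ = (z₁ * z₂) * u := by
      calc (b * a) * u * (b * a)⁻¹ = (b * z₁) * (u * b⁻¹) := by
            rw [show (b * a) * u * (b * a)⁻¹ = b * (a * u * a⁻¹) * b⁻¹ by group, k1]; group
        _ = z₁ * (b * u * b⁻¹) := by rw [mem_center_iff.1 c1 b]; group
        _ = _ := by rw [k2, mul_assoc]
    rw [(show z₂ * z₁ = z₁ * z₂ from (mem_center_iff.1 c2 z₁).symm), ← k21] at k12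
    generalize a * b = ab, b * a = ba at k12 ⊢
    show ba⁻¹ * ab * u = u * (ba⁻¹ * ab)
    rw [← mul_inv_eq_iff_eq_mul]
    calc ba⁻¹ * ab * u * (ba⁻¹ * ab)⁻¹ = ba⁻¹ * (ab * u * ab⁻¹) * ba := by group
      _ = u := by rw [k12]; group
  have hcomm : ∀ a ∈ (P : Subgroup G), ∀ b ∈ (P : Subgroup G), a * b * a⁻¹ * b⁻¹ ∈ C.1 := by
    intro a ha b hb
    rw [← hCu, mem_centralizer_one]
    have := hkey a⁻¹ (inv_mem ha) b⁻¹ (inv_mem hb)
    have e : (b⁻¹ * a⁻¹)⁻¹ * (a⁻¹ * b⁻¹) = a * b * a⁻¹ * b⁻¹ := by group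
    rwa [e] at this
  refine ⟨C, hfix, hCcb.symm ▸ hscb, hexp, ?_, g₀, hg₀P, hg₀⟩
  -- no elementary section of order s ^ 2
  obtain ⟨H, x₀, hx₀, hH⟩ : ∃ H : Subgroup G, ∃ x₀, x₀ ∉ center G ∧
      (C.1 = centralizer ({x₀} : Set G) ∧ H = C.1) := by
    obtain ⟨x, hx, e⟩ := C.2
    exact ⟨C.1, x, hx, e, rfl⟩
  obtain ⟨-, r₁, r₂, w₁, w₂, hr₁, hr₂, hr, hw₁, hw₂, hw₁C, hw₂C, hw₁o, hw₂o⟩ :=
    abelian_centralizer hG hn hB hx₀
  rw [← hH.1] at hw₁C hw₂C
  obtain ⟨r, w, hr', hrs, hw, hwC, hwo⟩ : ∃ (r : ℕ) (w : G), r.Prime ∧ r ≠ s ∧ w ∉ center G ∧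
      w ∈ C.1 ∧ ∃ j, orderOf w = r ^ j := by
    rcases ne_or_eq r₁ s with h | h
    · exact ⟨r₁, w₁, hr₁, h, hw₁, hw₁C, hw₁o⟩
    · exact ⟨r₂, w₂, hr₂, fun e => hr (h.trans e.symm), hw₂, hw₂C, hw₂o⟩
  letI : CommGroup C.1 :=
    { (inferInstance : Group C.1) with
      mul_comm := fun a b => Subtype.ext (cent_abelian hG hn hB C a.2 b.2).eq }
  let φ : (P : Subgroup G) →* MulAut C.1 :=
    { toFun := fun g =>
        { toFun := fun x => ⟨(g : G) * x * (g : G)⁻¹, conj_mem_of_fixed (hfix g g.2) x.2⟩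
          invFun := fun x => ⟨((g⁻¹ : (P : Subgroup G)) : G) * x * ((g⁻¹ : (P : Subgroup G)) : G)⁻¹,
            conj_mem_of_fixed (hfix _ (g⁻¹).2) x.2⟩
          left_inv := fun x => Subtype.ext (by simp [mul_assoc])
          right_inv := fun x => Subtype.ext (by simp [mul_assoc])
          map_mul' := fun x y => Subtype.ext (by
            show (g : G) * (x * y) * (g : G)⁻¹ = ((g : G) * x * (g : G)⁻¹) * ((g : G) * y * (g : G)⁻¹)
            group) }
      map_one' := by
        ext x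
        show ((1 : G)) * x * (1 : G)⁻¹ = x
        simp
      map_mul' := fun g h => by
        ext x
        show ((g : G) * h) * x * ((g : G) * h)⁻¹ = (g : G) * ((h : G) * x * (h : G)⁻¹) * (g : G)⁻¹
        group }
  -- norms of outer elements are central
  have hnorm : ∀ g : (P : Subgroup G), (g : G) ∉ C.1 → ∀ a : C.1,
      ∏ i ∈ Finset.range s, (φ g ^ i) a ∈ (center G).subgroupOf C.1 := by
    intro g hg a
    by_contra hcon
    set b := ∏ i ∈ Finset.range s, (φ g ^ i) a with hb
    have hlast : (φ g ^ s) a = a := by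
      rw [← map_pow]
      exact Subtype.ext (mul_inv_eq_iff_eq_mul.2
        ((cent_abelian hG hn hB C (hexp g g.2) a.2).eq))
    have hfixb : φ g b = b := by
      rw [hb, map_prod]
      have h1 : ∀ i, φ g ((φ g ^ i) a) = (φ g ^ (i + 1)) a := fun i => by
        rw [pow_succ']; rfl
      simp only [h1]
      have h2 := Finset.prod_range_succ' (fun i => (φ g ^ i) a) s
      rw [Finset.prod_range_succ] at h2
      simp only [hlast, pow_zero, MulAut.one_apply] at h2
      exact (mul_right_cancel h2).symm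
    have hb' : Commute (g : G) b := mul_inv_eq_iff_eq_mul.1 (congrArg Subtype.val hfixb)
    exact hg (cent_eq hG hn hB C b.2 hcon ▸ mem_centralizer_one.2 hb')
  have hw' : ¬ (w ^ s ∈ center G) := fun h => hw (by
    obtain ⟨j, hj⟩ := hwo
    obtain ⟨k, hk⟩ := exists_pow_eq_self_of_coprime (x := w) (n := s)
      (by rw [hj]; exact ((Nat.coprime_primes hs.out hr').2 hrs.symm).pow_right j)
    exact hk ▸ pow_mem h k)
  set g₁ : (P : Subgroup G) := ⟨g₀, hg₀P⟩
  have hone : ∀ g₂ : (P : Subgroup G), ∃ i < s, ((g₁ ^ i)⁻¹ * g₂ : (P : Subgroup G)).1 ∈ C.1 := by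
    intro g₂
    by_contra hcon
    push Not at hcon
    have hab : Commute (φ g₁) (φ g₂) := by
      show φ g₁ * φ g₂ = φ g₂ * φ g₁
      ext a
      show (g₁ : G) * ((g₂ : G) * a * (g₂ : G)⁻¹) * (g₁ : G)⁻¹ =
        (g₂ : G) * ((g₁ : G) * a * (g₁ : G)⁻¹) * (g₂ : G)⁻¹
      have hm : (g₂ : G) * ((g₁ : G) * a * (g₁ : G)⁻¹) * (g₂ : G)⁻¹ ∈ C.1 :=
        conj_mem_of_fixed (hfix _ g₂.2) (conj_mem_of_fixed (hfix _ g₁.2) a.2)
      have := cent_abelian hG hn hB C (hcomm _ g₁.2 _ g₂.2) hm
      rw [← mul_inv_eq_iff_eq_mul.2 this.eq]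
      group
    refine hw' (CfsgLib.TwoClassSizes.pow_mem_of_norms ((center G).subgroupOf C.1) hs.out (φ g₁) (φ g₂)
      hab (fun i a => ?_) (fun j hj a => ?_) ⟨w, hwC⟩)
    · rw [← map_pow, ← map_mul]
      refine hnorm _ (fun hmem => ?_) a
      refine hcon ((i * (s - 1)) % s) (Nat.mod_lt _ hs.out.pos) ?_
      set t := i * (s - 1) % s
      have hsum : i + t = s * ((i + t) / s) := by
        refine (Nat.mul_div_cancel' ?_).symm
        have h1 : (i + i * (s - 1)) % s = 0 := by
          have : i + i * (s - 1) = i * s := by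
            obtain ⟨s', hs'⟩ : ∃ s', s = s' + 1 := ⟨s - 1, by have := hs.out.pos; omega⟩
            rw [hs', Nat.add_sub_cancel]; ring
          rw [this, Nat.mul_mod_left]
        exact Nat.dvd_of_mod_eq_zero (by rw [Nat.add_mod, Nat.mod_mod, ← Nat.add_mod, h1])
      have hp : ((g₁ : G) ^ (i + t)) ∈ C.1 := by
        rw [hsum, pow_mul]; exact pow_mem (hexp _ g₁.2) _
      have hval : ((g₁ ^ i * g₂ : (P : Subgroup G)) : G) = (g₁ : G) ^ i * (g₂ : G) := rfl
      rw [hval] at hmem
      show ((g₁ : G) ^ t)⁻¹ * (g₂ : G) ∈ C.1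
      have : ((g₁ : G) ^ t)⁻¹ * (g₂ : G) = ((g₁ : G) ^ (i + t))⁻¹ * ((g₁ : G) ^ i * (g₂ : G)) := by
        rw [pow_add]
        have := ((Commute.refl (g₁ : G)).pow_pow i t).eq
        rw [this]; group
      rw [this]
      exact mul_mem (inv_mem hp) hmem
    · rw [← map_pow]
      refine hnorm _ (fun hmem => hg₀ ?_) a
      obtain ⟨k, hk⟩ := Nat.exists_mul_mod_eq_one_of_coprime
        ((Nat.Prime.coprime_iff_not_dvd hs.out).2 hj).symm hs.out.one_lt
      have h1 : ((g₁ : G) ^ j) ^ k ∈ C.1 := pow_mem (by simpa using hmem) k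
      rw [← pow_mul, ← Nat.mod_add_div (j * k) s, hk.2, pow_add, pow_one, pow_mul] at h1
      exact (C.1.mul_mem_cancel_right (pow_mem (hexp _ g₁.2) _)).1 h1
  intro hsq
  set D := C.1.subgroupOf (P : Subgroup G)
  have hidx : D.index ≤ s := by
    rw [index_eq_card]
    refine le_of_le_of_eq (Nat.card_le_card_of_surjective
      (fun i : Fin s => ((g₁ ^ (i : ℕ) : (P : Subgroup G)) : (P : Subgroup G) ⧸ D)) ?_) (Nat.card_fin s)
    intro q
    obtain ⟨g₂, rfl⟩ := QuotientGroup.mk_surjective q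
    obtain ⟨i, hi, hmem⟩ := hone g₂
    exact ⟨⟨i, hi⟩, QuotientGroup.eq.2 hmem⟩
  have hd1 : Nat.card D ∣ Nat.card C.1 := by
    rw [Nat.card_congr (D.equivMapOfInjective _ (P : Subgroup G).subtype_injective).toEquiv,
      subgroupOf_map_subtype]
    exact card_dvd_of_le inf_le_left
  obtain ⟨k, hk'⟩ := P.2.index D
  obtain ⟨m, hm⟩ := (P.2.to_subgroup D).exists_card_eq
  have hPc := D.card_mul_index
  rw [hm, hk', ← pow_add, P.card_eq_multiplicity] at hPc
  have hmk := Nat.pow_right_injective hs.out.two_le hPc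
  have hC1 := C.1.card_mul_index
  obtain ⟨x, hx, e⟩ := C.2
  rw [show C.1.index = n by rw [e]; exact hG x hx] at hC1
  have h2 : s ^ (m + 2) ∣ Nat.card G := by
    rw [← hC1, pow_add]
    exact mul_dvd_mul (hm ▸ hd1) hsq
  rw [hs.out.pow_dvd_iff_le_factorization Nat.card_pos.ne'] at h2
  have hk1 : k ≤ 1 := by
    rw [← Nat.pow_le_pow_iff_right hs.out.one_lt, pow_one, ← hk']
    exact hidx
  omega

/-- Two primes cannot both carry noncentral elements. -/
theorem not_hasOther (hG : TwoSized G n) (hn : 1 < n) (hB : ∀ p : ℕ, HasOther G p) : False := by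
  classical
  have hn0 : 0 < n := by omega
  obtain ⟨-, y, -, -, hy, -⟩ := hB 0
  have C₀ : Cent G := ⟨_, y, hy, rfl⟩
  set cb := Nat.card (C₀.1.map (QuotientGroup.mk' (center G))) with hcb
  have hQ := cent_quot_card hG C₀
  have hk := count hG hn0 hB C₀
  rw [← hQ, ← hcb] at hk
  have hcbC : ∀ C : Cent G, Nat.card (C.1.map (QuotientGroup.mk' (center G))) = cb := fun C =>
    Nat.eq_of_mul_eq_mul_right hn0 ((cent_quot_card hG C).trans hQ.symm)
  have hsqf : Squarefree n := by
    rw [Nat.squarefree_iff_prime_squarefree]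
    intro s hs hd
    haveI := Fact.mk hs
    obtain ⟨P⟩ : Nonempty (Sylow s G) := inferInstance
    obtain ⟨-, -, -, -, h, -⟩ := sylow_data hG hn0 hB (dvd_of_mul_left_dvd hd) P
    exact h (by rwa [pow_two])
  have hprimes : ∀ s : ℕ, s.Prime → s ∣ n → s ∣ cb := by
    intro s hs hd
    haveI := Fact.mk hs
    obtain ⟨P⟩ : Nonempty (Sylow s G) := inferInstance
    obtain ⟨C, -, h, -⟩ := sylow_data hG hn0 hB hd P
    exact hcbC C ▸ h
  have hcb0 : 0 < cb := Nat.card_pos
  have hle : n ≤ cb := Nat.le_of_dvd hcb0 (by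
    rw [← Nat.prod_primeFactors_of_squarefree hsqf]
    exact Finset.prod_primes_dvd cb (fun p hp => (Nat.prime_of_mem_primeFactors hp).prime)
      fun p hp => hprimes p (Nat.prime_of_mem_primeFactors hp) (Nat.dvd_of_mem_primeFactors hp))
  have hcb2 : 2 ≤ cb := le_trans hn hle
  have hdvd : cb - 1 ∣ n - 1 := by
    obtain ⟨d, hd⟩ : ∃ d, cb = d + 1 := ⟨cb - 1, by omega⟩
    obtain ⟨e, he⟩ : ∃ e, n = e + 1 := ⟨n - 1, by omega⟩
    have h1 : d ∣ cb * n - 1 := hk ▸ dvd_mul_of_dvd_right (by rw [hd]; simp) _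
    rw [hd, he, show (d + 1) * (e + 1) - 1 = d * (e + 1) + e by
      rw [Nat.add_mul, one_mul]; omega] at h1
    rw [hd, he, Nat.add_sub_cancel, Nat.add_sub_cancel]
    exact (Nat.dvd_add_right (dvd_mul_right d (e + 1))).1 h1
  have heq : n = cb := by
    have := Nat.le_of_dvd (by omega) hdvd
    omega
  -- the least and another prime
  have key : ∀ s t : ℕ, s.Prime → t.Prime → s ∣ n → t ∣ n → s ≠ t → t < s := by
    intro s t hs ht hsn htn hst
    haveI := Fact.mk hs
    haveI := Fact.mk ht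
    obtain ⟨P⟩ : Nonempty (Sylow t G) := inferInstance
    obtain ⟨C, hfix, -, hexp, -, g, hgP, hg⟩ := sylow_data hG hn0 hB htn P
    letI : CommGroup C.1 :=
      { (inferInstance : Group C.1) with
        mul_comm := fun a b => Subtype.ext (cent_abelian hG hn0 hB C a.2 b.2).eq }
    set Cb := C.1.map (QuotientGroup.mk' (center G))
    have hcom : ∀ a b : Cb, Commute a b := by
      rintro ⟨_, a, ha, rfl⟩ ⟨_, b, hb, rfl⟩
      exact Subtype.ext (congrArg (QuotientGroup.mk' (center G)) (cent_abelian hG hn0 hB C ha hb).eq)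
    obtain ⟨⟨b, hbC⟩, hb⟩ := exists_prime_orderOf_dvd_card' s (show s ∣ Nat.card Cb from
      (hcbC C).symm ▸ heq ▸ hsn)
    obtain ⟨u, rfl⟩ := QuotientGroup.mk_surjective b
    rw [Subgroup.orderOf_mk] at hb
    have huC := mk_mem_map.1 hbC
    have hun : u ∉ center G := fun h => by
      rw [(QuotientGroup.eq_one_iff u).2 h, orderOf_one] at hb
      exact hs.ne_one hb.symm
    have hconjm : ∀ i : ℕ, g ^ i * u * (g ^ i)⁻¹ ∈ C.1 := fun i =>
      conj_mem_of_fixed (hfix _ (pow_mem hgP i)) huC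
    have hinj : ∀ i j : ℕ, i < j → j < t →
        ((g ^ i * u * (g ^ i)⁻¹ : G) : G ⧸ center G) ≠ (g ^ j * u * (g ^ j)⁻¹ : G) := by
      intro i j hij hjt e
      set h := g ^ (j - i) with hh
      have hjh : g ^ j = g ^ i * h := by rw [hh, ← pow_add]; congr 1; omega
      have hz : h * u * h⁻¹ * u⁻¹ ∈ center G := by
        rw [← QuotientGroup.eq_one_iff]
        have e2 : ((h * u * h⁻¹ : G) : G ⧸ center G) = (u : G ⧸ center G) := by
          have e' := congrArg (fun y : G ⧸ center G => ((g ^ i : G) : G ⧸ center G)⁻¹ * y * ((g ^ i : G) : G ⧸ center G)) e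
          rw [hjh] at e'
          simp only [QuotientGroup.mk_mul, QuotientGroup.mk_inv, mul_inv_rev, mul_assoc,
            inv_mul_cancel_left, inv_mul_cancel, mul_one] at e' ⊢
          exact e'.symm
        rw [QuotientGroup.mk_mul, e2, QuotientGroup.mk_inv, mul_inv_cancel]
      have p1 : (h * u * h⁻¹ * u⁻¹) ^ t = 1 := by
        rw [← comm_pow_left hz, mul_inv_eq_one, mul_inv_eq_iff_eq_mul, hh, ← pow_mul,
          Nat.mul_comm, pow_mul]
        exact (cent_abelian hG hn0 hB C (pow_mem (hexp g hgP) _) huC).eq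
      have p2 : (h * u * h⁻¹ * u⁻¹) ^ s = 1 := by
        have hus : u ^ s ∈ center G := by
          rw [← QuotientGroup.eq_one_iff, QuotientGroup.mk_pow, ← hb, pow_orderOf_eq_one]
        rw [← comm_pow_right hz, mem_center_iff.1 hus h, mul_inv_cancel_right, mul_inv_cancel]
      have hc := pow_gcd_eq_one.2 ⟨p1, p2⟩
      rw [(Nat.coprime_primes ht hs).2 hst.symm, pow_one, mul_inv_eq_one] at hc
      have hhC : h ∈ C.1 := cent_eq hG hn0 hB C huC hun ▸
        mem_centralizer_one.2 (mul_inv_eq_iff_eq_mul.1 hc)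
      have hd : ¬ t ∣ j - i := fun hd => absurd (Nat.le_of_dvd (by omega) hd) (by omega)
      obtain ⟨k, -, hk'⟩ := Nat.exists_mul_mod_eq_one_of_coprime
        ((Nat.Prime.coprime_iff_not_dvd ht).2 hd).symm ht.one_lt
      have h1 := pow_mem hhC k
      rw [hh, ← pow_mul, ← Nat.mod_add_div ((j - i) * k) t, hk', pow_add, pow_one, pow_mul] at h1
      exact hg ((C.1.mul_mem_cancel_right (pow_mem (hexp g hgP) _)).1 h1)
    let X : Subgroup Cb :=
      { carrier := {y | y ^ s = 1}
        mul_mem' := fun {a b} ha hb => by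
          show (a * b) ^ s = 1
          rw [(hcom a b).mul_pow, ha, hb, one_mul]
        one_mem' := one_pow s
        inv_mem' := fun {a} ha => by
          show a⁻¹ ^ s = 1
          rw [inv_pow, ha, inv_one] }
    have hXs : Nat.card X ≤ s := by
      have hXp : IsPGroup s X := fun y => ⟨1, by rw [pow_one]; exact Subtype.ext y.2⟩
      obtain ⟨a, ha⟩ := hXp.exists_card_eq
      have h1 : s ^ a ∣ n := by
        rw [heq, ← hcbC C, ← ha]
        exact card_subgroup_dvd_card X
      rw [ha]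
      rcases a with _ | _ | a
      · simpa using hs.pos.nat_succ_le
      · simp
      · exfalso
        have h2 : s * s ∣ n := dvd_trans ⟨s ^ a, by ring⟩ h1
        exact (Nat.squarefree_iff_prime_squarefree.1 hsqf) s hs h2
    have hmemX : ∀ i : Fin t, (⟨_, mk_mem_map.2 (hconjm i)⟩ : Cb) ∈ X := fun i => by
      refine Subtype.ext ?_
      show ((g ^ (i : ℕ) * u * (g ^ (i : ℕ))⁻¹ : G) : G ⧸ center G) ^ s = 1
      rw [← QuotientGroup.mk_pow, conj_pow, QuotientGroup.mk_mul, QuotientGroup.mk_mul,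
        QuotientGroup.mk_pow _ u, show (u : G ⧸ center G) ^ s = 1 from hb ▸ pow_orderOf_eq_one _,
        mul_one, ← QuotientGroup.mk_mul, mul_inv_cancel, QuotientGroup.mk_one]
    let f : Option (Fin t) → X := fun o => o.elim 1 fun i => ⟨_, hmemX i⟩
    have hf : Function.Injective f := by
      have hne : ∀ i : Fin t, (f (some i)).1.1 ≠ 1 := fun i e => by
        have e' : ((g ^ (i : ℕ) * u * (g ^ (i : ℕ))⁻¹ : G) : G ⧸ center G) = 1 := e
        have h := Normal.conj_mem inferInstance _ ((QuotientGroup.eq_one_iff _).1 e') (g ^ (i : ℕ))⁻¹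
        exact hun (by simpa [mul_assoc] using h)
      rintro (_ | a) (_ | b) e
      · rfl
      · exact absurd (congrArg (fun y : X => y.1.1) e).symm (hne b)
      · exact absurd (congrArg (fun y : X => y.1.1) e) (hne a)
      · have e' := congrArg (fun y : X => y.1.1) e
        rcases lt_trichotomy (a : ℕ) b with h | h | h
        · exact absurd e' (hinj a b h b.2)
        · rw [Fin.ext h]
        · exact absurd e'.symm (hinj b a h a.2)
    have := Nat.card_le_card_of_injective f hf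
    rw [Finite.card_option, Nat.card_fin] at this
    omega
  obtain ⟨-, p, q, u, w, hp, hq, hpq, hu, hw, huC, hwC, ⟨i, hi⟩, ⟨j, hj⟩⟩ :=
    abelian_centralizer hG hn0 hB hy
  have hdiv : ∀ {r : ℕ} {v : G}, r.Prime → v ∉ center G → (∃ j, orderOf v = r ^ j) → r ∣ n := by
    rintro r v hr hv ⟨j, hj⟩
    rw [heq, ← hcbC ⟨_, v, hv, rfl⟩]
    have h1 : orderOf (v : G ⧸ center G) ∣ r ^ j :=
      hj ▸ orderOf_map_dvd (QuotientGroup.mk' (center G)) v
    obtain ⟨k, -, hk'⟩ := (Nat.dvd_prime_pow hr).1 h1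
    have h2 : orderOf (v : G ⧸ center G) ∣
        Nat.card ((centralizer ({v} : Set G)).map (QuotientGroup.mk' (center G))) :=
      Subgroup.orderOf_dvd_natCard _ (mem_map_of_mem (QuotientGroup.mk' (center G)) (self_mem v))
    rcases k with _ | k
    · rw [pow_zero, orderOf_eq_one_iff, QuotientGroup.eq_one_iff] at hk'
      exact absurd hk' hv
    · exact (dvd_pow_self r k.succ_ne_zero).trans (hk' ▸ h2)
  have h1 := key p q hp hq (hdiv hp hu ⟨i, hi⟩) (hdiv hq hw ⟨j, hj⟩) hpq
  have h2 := key q p hq hp (hdiv hq hw ⟨j, hj⟩) (hdiv hp hu ⟨i, hi⟩) hpq.symm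
  omega

end CfsgLib.TwoSizes
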