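import Cfsg.Agent.Solvable.Basics
import Cfsg.Agent.Solvable.CoprimeAct
import Cfsg.Agent.Solvable.PGroupBasic
import Cfsg.Agent.TwoClassSizes.ExponentP
import Cfsg.Agent.InvChar.UniqueInvolution
import Cfsg.Agent.FGSB.TwoSizes

/-!
Normal subgroups outside which every coset consists of elements of one order.
-/

set_option autoImplicit false
set_option linter.style.haveILetI false

namespace CfsgLib.EqualOrder

open Subgroup

variable {G : Type*} [Group G] [Finite G]

theorem eq_one {N : Subgroup G} (heq : ∀ x : G, x ∉ N → ∀ n ∈ N, orderOf (x * n) = orderOf x)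
    {x c : G} (hx : x ∉ N) (hc : c ∈ N) (hcomm : Commute x c)
    (hcop : (orderOf x).Coprime (orderOf c)) : c = 1 := by
  have h := heq x hx c hc
  rw [hcomm.orderOf_mul_eq_mul_orderOf_of_coprime hcop] at h
  have h2 : orderOf x * orderOf c = orderOf x * 1 := by rw [h, mul_one]
  exact orderOf_eq_one_iff.1 (Nat.eq_of_mul_eq_mul_left (orderOf_pos x) h2)

theorem isPGroup_of_not_le {N : Subgroup G} [N.Normal]
    (heq : ∀ x : G, x ∉ N → ∀ n ∈ N, orderOf (x * n) = orderOf x) {r : ℕ} [Fact r.Prime]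
    (h : ¬ Cfsg.pCore r G ≤ N) : IsPGroup r N := by
  have hr := (Fact.out : r.Prime)
  obtain ⟨x, hxO, hxN⟩ := SetLike.not_le_iff_exists.1 h
  refine IsPGroup.of_card (n := (Nat.card N).primeFactorsList.length)
    (Nat.eq_prime_pow_of_unique_prime_dvd Nat.card_pos.ne' fun {s} hs hsd => ?_)
  by_contra hne
  haveI := Fact.mk hs
  obtain ⟨y, hy⟩ := exists_prime_orderOf_dvd_card' s hsd
  obtain ⟨hOn, hOp⟩ := CfsgLib.Solvable.pCore_spec (G := G) (p := r)
  haveI := hOn
  have hy' : orderOf (y : G) = s := by rw [Subgroup.orderOf_coe, hy]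
  have hcop : (Nat.card (zpowers (y : G))).Coprime (Nat.card (Cfsg.pCore r G)) := by
    obtain ⟨k, hk⟩ := hOp.exists_card_eq
    rw [Nat.card_zpowers, hy', hk]
    exact ((Nat.coprime_primes hs hr).2 hne).pow_right k
  obtain ⟨c, ⟨hcO, hcC⟩, hcx⟩ := CfsgLib.CoprimeAct.exists_centralizing_mem_coset
    (A := zpowers (y : G)) (K := Cfsg.pCore r G) (N := Cfsg.pCore r G ⊓ N)
    (normalizer_eq_top (Cfsg.pCore r G) ▸ le_top) hcop inf_le_left
    (normalizer_eq_top (Cfsg.pCore r G ⊓ N) ▸ le_top)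
    (Or.inl (Group.isSolvable_of_comm fun a b => (IsCyclic.commGroup (α := zpowers (y : G))).mul_comm a b))
    hxO fun a ha => by
      refine mem_inf.2 ⟨mul_mem (inv_mem hxO) (hOn.conj_mem x hxO a), ?_⟩
      have hb : a⁻¹ ∈ N := inv_mem ((zpowers_le.2 y.2 : zpowers (y : G) ≤ N) ha)
      have := mul_mem ((inferInstance : N.Normal).conj_mem' a (inv_inv a ▸ inv_mem hb) x) hb
      simpa [mul_assoc] using this
  have hcN : c ∉ N := fun hc => hxN (by
    have := mul_mem hc (inv_mem (mem_inf.1 hcx).2)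
    simpa using this)
  have h1 : (y : G) = 1 := eq_one heq hcN y.2
    (mem_centralizer_iff.1 hcC y (mem_zpowers _)).symm (by
      obtain ⟨k, hk⟩ := IsPGroup.iff_orderOf.1 hOp ⟨c, hcO⟩
      rw [Subgroup.orderOf_mk] at hk
      rw [hy', hk]
      exact ((Nat.coprime_primes hr hs).2 (Ne.symm hne)).pow_left k)
  rw [h1, orderOf_one] at hy'
  exact hs.ne_one hy'.symm

theorem fitting_dichotomy {N : Subgroup G} [N.Normal] (hN1 : N ≠ ⊥)
    (heq : ∀ x : G, x ∉ N → ∀ n ∈ N, orderOf (x * n) = orderOf x) :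
    (N ≤ Cfsg.fittingSubgroup G ∨ Cfsg.fittingSubgroup G ≤ N) ∧
    (N < Cfsg.fittingSubgroup G → IsPrimePow (Nat.card (Cfsg.fittingSubgroup G))) := by
  have hex : ¬ Cfsg.fittingSubgroup G ≤ N →
      ∃ r : Nat.Primes, ¬ Cfsg.pCore (r : ℕ) G ≤ N ∧ IsPGroup (r : ℕ) N := by
    intro h
    rw [CfsgLib.Solvable.fittingSubgroup_eq_iSup_pCore, iSup_le_iff, not_forall] at h
    obtain ⟨r, hr⟩ := h
    haveI := Fact.mk r.2
    exact ⟨r, hr, isPGroup_of_not_le heq hr⟩
  refine ⟨?_, fun hlt => ?_⟩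
  · by_cases h : Cfsg.fittingSubgroup G ≤ N
    · exact Or.inr h
    · obtain ⟨r, -, hr⟩ := hex h
      haveI := Fact.mk r.2
      exact Or.inl (CfsgLib.Solvable.le_fittingSubgroup inferInstance hr.isNilpotent)
  · obtain ⟨r, hrO, hr⟩ := hex (not_le_of_gt hlt)
    haveI := Fact.mk r.2
    have hF : Cfsg.fittingSubgroup G ≤ Cfsg.pCore (r : ℕ) G := by
      rw [CfsgLib.Solvable.fittingSubgroup_eq_iSup_pCore]
      refine iSup_le fun s => ?_
      haveI := Fact.mk s.2
      rcases eq_or_ne s r with rfl | hne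
      · exact le_rfl
      have hne' : (s : ℕ) ≠ r := fun e => hne (Subtype.ext e)
      by_cases hs : Cfsg.pCore (s : ℕ) G ≤ N
      · intro z hz
        have h1 := hr ⟨z, hs hz⟩
        have h2 := (CfsgLib.Solvable.isPGroup_pCore (G := G) (p := (s : ℕ))) ⟨z, hz⟩
        obtain ⟨i, hi⟩ := h1
        obtain ⟨j, hj⟩ := h2
        have e1 : orderOf z ∣ (r : ℕ) ^ i := orderOf_dvd_of_pow_eq_one (congrArg Subtype.val hi)
        have e2 : orderOf z ∣ (s : ℕ) ^ j := orderOf_dvd_of_pow_eq_one (congrArg Subtype.val hj)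
        rw [orderOf_eq_one_iff.1 (Nat.eq_one_of_dvd_coprimes
          (Nat.Coprime.pow i j ((Nat.coprime_primes r.2 s.2).2 hne'.symm)) e1 e2)]
        exact one_mem _
      · exfalso
        obtain ⟨i, hi⟩ := hr.exists_card_eq
        obtain ⟨j, hj⟩ := (isPGroup_of_not_le heq hs).exists_card_eq
        exact hN1 (Subgroup.card_eq_one.1 (Nat.eq_one_of_dvd_coprimes
          (Nat.Coprime.pow i j ((Nat.coprime_primes r.2 s.2).2 hne'.symm)) hi.dvd hj.dvd))
    obtain ⟨k, hk⟩ := ((CfsgLib.Solvable.isPGroup_pCore (G := G) (p := (r : ℕ))).to_le hF).exists_card_eq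
    refine ⟨r, k, r.2.prime, Nat.pos_of_ne_zero fun e => ?_, hk.symm⟩
    rw [e, pow_zero, Subgroup.card_eq_one] at hk
    exact hN1 (le_bot_iff.1 (hk ▸ hlt.le))

open scoped IsMulCommutative in
/-- For nilpotent `N` of composite prime support, quotient Sylow subgroups have one subgroup of
each prime order. -/
theorem mem_zpowers_of_commute {N : Subgroup G} [N.Normal]
    (heq : ∀ x : G, x ∉ N → ∀ n ∈ N, orderOf (x * n) = orderOf x)
    (hnil : Group.IsNilpotent N) (hnpp : ¬ IsPrimePow (Nat.card N)) (hN1 : N ≠ ⊥) {q : ℕ} [Fact q.Prime]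
    {y z : G ⧸ N} (hy : orderOf y = q) (hz : orderOf z = q) (hc : Commute z y) : y ∈ zpowers z := by
  classical
  have hq := (Fact.out : q.Prime)
  by_contra hyz
  obtain ⟨s, hs, hsN, hsq⟩ : ∃ s : ℕ, s.Prime ∧ s ∣ Nat.card N ∧ s ≠ q := by
    by_contra hcon
    push Not at hcon
    refine hnpp ?_
    have h1 : Nat.card N = q ^ _ := Nat.eq_prime_pow_of_unique_prime_dvd Nat.card_pos.ne'
      fun {d} hd hdN => hcon d hd hdN
    refine ⟨q, _, hq.prime, Nat.pos_of_ne_zero fun e => ?_, h1.symm⟩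
    rw [e, pow_zero, Subgroup.card_eq_one] at h1
    exact hN1 h1
  haveI := Fact.mk hs
  haveI := hnil
  obtain ⟨S⟩ : Nonempty (Sylow s N) := inferInstance
  haveI : (S : Subgroup N).Normal := inferInstance
  haveI := S.characteristic_of_normal inferInstance
  have hSne : (S : Subgroup N) ≠ ⊥ := fun e => by
    have := S.dvd_card_of_dvd_card hsN
    rw [e, Subgroup.card_bot] at this
    exact hs.not_dvd_one this
  have hne := CfsgLib.PGroupBasic.inf_center_ne_bot (S : Subgroup N) hSne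
  set M₀ := ((S : Subgroup N) ⊓ center N).map N.subtype
  haveI : ((S : Subgroup N) ⊓ center N).Characteristic := inferInstance
  haveI : M₀.Normal := inferInstance
  have hM₀N : M₀ ≤ N := map_subtype_le _
  have hMc : ∀ a ∈ M₀, ∀ n ∈ N, n * a = a * n := by
    rintro _ ⟨a, ha, rfl⟩ n hn
    exact congrArg Subtype.val (mem_center_iff.1 (mem_inf.1 ha).2 ⟨n, hn⟩)
  haveI : IsMulCommutative M₀ :=
    ⟨⟨fun a b => Subtype.ext (hMc b b.2 a (hM₀N a.2))⟩⟩
  have hMs : IsPGroup s M₀ := (S.2.to_le inf_le_left).map _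
  obtain ⟨Y, rfl⟩ := QuotientGroup.mk_surjective y
  obtain ⟨Z, rfl⟩ := QuotientGroup.mk_surjective z
  have hact : ∀ n ∈ N, ∀ a : M₀, MulAut.conjNormal n a = a := fun n hn a => Subtype.ext (by
    rw [MulAut.conjNormal_apply, hMc a a.2 n hn, mul_inv_cancel_right])
  have hnorm : ∀ g : G, g ∉ N → g ^ q ∈ N → ∀ a : M₀,
      ∏ i ∈ Finset.range q, ((MulAut.conjNormal g : MulAut M₀) ^ i) a ∈ (⊥ : Subgroup M₀) := by
    intro g hg hgq a
    set w := ∏ i ∈ Finset.range q, ((MulAut.conjNormal g : MulAut M₀) ^ i) a with hw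
    have hfix : (MulAut.conjNormal g : MulAut M₀) w = w := by
      rw [hw, map_prod]
      have h1 : ∀ i, (MulAut.conjNormal g : MulAut M₀) (((MulAut.conjNormal g : MulAut M₀) ^ i) a) =
          ((MulAut.conjNormal g : MulAut M₀) ^ (i + 1)) a := fun i => by rw [pow_succ']; rfl
      simp only [h1]
      have h2 := Finset.prod_range_succ' (fun i => ((MulAut.conjNormal g : MulAut M₀) ^ i) a) q
      rw [Finset.prod_range_succ] at h2
      have hlast : ((MulAut.conjNormal g : MulAut M₀) ^ q) a = a := by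
        rw [← map_pow]; exact hact _ hgq a
      simp only [hlast, pow_zero, MulAut.one_apply] at h2
      exact (mul_right_cancel h2).symm
    have hcomm : Commute g (w : G) := by
      have := congrArg Subtype.val hfix
      rw [MulAut.conjNormal_apply, mul_inv_eq_iff_eq_mul] at this
      exact this
    have hmN : g ^ (orderOf g / q ^ (orderOf g).factorization q) ∉ N := by
      intro hmem
      rw [← QuotientGroup.eq_one_iff, QuotientGroup.mk_pow] at hmem
      have h1 := orderOf_dvd_of_pow_eq_one hmem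
      rw [← QuotientGroup.eq_one_iff, ← orderOf_eq_one_iff] at hg
      rw [← QuotientGroup.eq_one_iff, QuotientGroup.mk_pow] at hgq
      have h2 := orderOf_dvd_of_pow_eq_one hgq
      rw [(Nat.dvd_prime hq).1 h2 |>.resolve_left hg] at h1
      exact Nat.not_dvd_ordCompl hq (orderOf_pos g).ne' h1
    rw [mem_bot]
    refine Subtype.ext (eq_one heq hmN (hM₀N w.2) (hcomm.pow_left _) ?_)
    obtain ⟨i, hi⟩ := CfsgLib.TwoSizes.part_order g hq
    obtain ⟨j, hj⟩ := IsPGroup.iff_orderOf.1 hMs w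
    rw [hi, Subgroup.orderOf_coe, hj]
    exact Nat.Coprime.pow i j ((Nat.coprime_primes hq hs).2 hsq.symm)
  have hone : ∀ a : M₀, a = 1 := by
    intro a
    have h := CfsgLib.TwoClassSizes.pow_mem_of_norms (⊥ : Subgroup M₀) hq
      (MulAut.conjNormal Z : MulAut M₀) (MulAut.conjNormal Y) ?_ (fun i b => ?_) (fun j hj b => ?_) a
    · rw [mem_bot, ← orderOf_dvd_iff_pow_eq_one] at h
      obtain ⟨j, hj⟩ := IsPGroup.iff_orderOf.1 hMs a
      exact orderOf_eq_one_iff.1 (Nat.eq_one_of_dvd_coprimes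
        (((Nat.coprime_primes hq hs).2 hsq.symm).pow_right j) h hj.dvd)
    · have hcm : (Y * Z)⁻¹ * (Z * Y) ∈ N := by
        rw [← QuotientGroup.eq, QuotientGroup.mk_mul, QuotientGroup.mk_mul]
        exact hc.eq.symm
      show MulAut.conjNormal Z * MulAut.conjNormal Y = MulAut.conjNormal Y * MulAut.conjNormal Z
      rw [← map_mul, ← map_mul]
      have e : Z * Y = (Y * Z) * ((Y * Z)⁻¹ * (Z * Y)) := by group
      refine MulEquiv.ext fun b => ?_
      rw [e, map_mul, MulAut.mul_apply, hact _ hcm b]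
    · rw [← map_pow, ← map_mul]
      refine hnorm _ (fun hmem => hyz ?_) ?_ b
      · rw [← QuotientGroup.eq_one_iff, QuotientGroup.mk_mul, QuotientGroup.mk_pow] at hmem
        rw [eq_inv_of_mul_eq_one_right hmem]
        exact inv_mem (pow_mem (mem_zpowers _) i)
      · rw [← QuotientGroup.eq_one_iff, QuotientGroup.mk_pow, QuotientGroup.mk_mul,
          QuotientGroup.mk_pow, (hc.pow_left i).mul_pow, ← pow_mul, Nat.mul_comm, pow_mul]
        rw [← hy, pow_orderOf_eq_one, mul_one]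
        rw [hy, ← hz, pow_orderOf_eq_one, one_pow]
    · rw [← map_pow]
      refine hnorm _ (fun hmem => hj ?_) ?_ b
      · rw [← QuotientGroup.eq_one_iff, QuotientGroup.mk_pow, ← orderOf_dvd_iff_pow_eq_one, hz] at hmem
        exact hmem
      · rw [← QuotientGroup.eq_one_iff, QuotientGroup.mk_pow, QuotientGroup.mk_pow, ← pow_mul,
          Nat.mul_comm, pow_mul, ← hz, pow_orderOf_eq_one, one_pow]
  refine hne ((map_eq_bot_iff_of_injective _ N.subtype_injective).1 ((eq_bot_iff_forall _).2 ?_))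
  exact fun a ha => congrArg Subtype.val (hone ⟨a, ha⟩)

end CfsgLib.EqualOrder
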