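import Cfsg.Agent.FGSB.FrobeniusRoots
import Cfsg.Agent.Solvable.Basics
import Mathlib.GroupTheory.SchurZassenhaus

/-!
Frobenius' conjecture for solvable groups: if `x ^ n = 1` has exactly `n` solutions, `n` dividing
the order, then the solutions form a normal subgroup.
-/

set_option autoImplicit false
set_option linter.style.haveILetI false

namespace CfsgLib.FrobConjecture

open Subgroup

universe u

theorem subgroup_of_count_aux (N₀ : ℕ) : ∀ (G : Type u) [Group G] [Finite G] [Group.IsSolvable G],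
    Nat.card G = N₀ → ∀ n : ℕ, n ∣ Nat.card G → {x : G | x ^ n = 1}.ncard = n →
      ∃ H : Subgroup G, (H : Set G) = {x : G | x ^ n = 1} := by
  induction N₀ using Nat.strong_induction_on with
  | _ N₀ ih =>
  intro G _ _ _ hG n hn hcount
  rcases subsingleton_or_nontrivial G with hsub | hnt
  · exact ⟨⊥, Set.ext fun x => by simp [Subsingleton.elim x (1 : G)]⟩
  obtain ⟨N, hNn, hN1, -, -, -, p, hp, hexp, hNp⟩ := CfsgLib.Solvable.exists_normal_elementary_le
    (N := (⊤ : Subgroup G)) top_ne_bot (Group.isSolvable_of_isSolvable_injective (f := (Subgroup.topEquiv (G := G)).toMonoidHom) Subgroup.topEquiv.injective)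
  haveI := hNn
  haveI : Fact p.Prime := ⟨hp⟩
  haveI : Group.IsSolvable (G ⧸ N) :=
    Group.isSolvable_of_surjective (f := QuotientGroup.mk' N) (QuotientGroup.mk'_surjective N)
  have hn0 : n ≠ 0 := fun h => Nat.card_pos.ne' (zero_dvd_iff.1 (h ▸ hn))
  obtain ⟨i, hi⟩ := IsPGroup.iff_card.1 hNp
  have hi1 : i ≠ 0 := fun e => hN1 (eq_bot_of_card_eq N (by rw [hi, e, pow_zero]))
  have hGc : Nat.card G = Nat.card (G ⧸ N) * p ^ i := hi ▸ card_eq_card_quotient_mul_card_subgroup N
  have hlt : Nat.card (G ⧸ N) < N₀ := by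
    rw [← hG, hGc]
    exact lt_mul_of_one_lt_right Nat.card_pos (Nat.one_lt_pow hi1 hp.one_lt)
  by_cases hpn : p ∣ n
  · obtain ⟨n', rfl⟩ := hpn
    set d := Nat.gcd n' (Nat.card (G ⧸ N)) with hd
    set S : Set (G ⧸ N) := {v | v ^ n' = 1} with hS
    have hSd : d ∣ S.ncard := by
      rw [← Nat.card_coe_set_eq]
      exact CfsgLib.FrobRoots.gcd_dvd_card_pow_eq_one (G ⧸ N) n'
    have hSne : S.ncard ≠ 0 := by
      rw [← pos_iff_ne_zero, Set.ncard_pos (Set.toFinite _)]
      exact ⟨1, one_pow n'⟩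
    have hsub : QuotientGroup.mk ⁻¹' S ⊆ {x : G | x ^ (p * n') = 1} := by
      intro x hx
      have hxN : x ^ n' ∈ N := (QuotientGroup.eq_one_iff _).1 (by rw [QuotientGroup.mk_pow]; exact hx)
      show x ^ (p * n') = 1
      rw [mul_comm, pow_mul]
      exact hexp _ hxN
    have hpre : (QuotientGroup.mk ⁻¹' S : Set G).ncard = p ^ i * S.ncard := by
      rw [← Nat.card_coe_set_eq, Nat.card_congr (QuotientGroup.preimageMkEquivSubgroupProdSet N S),
        Nat.card_prod, hi, Nat.card_coe_set_eq]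
    have hle : p ^ i * S.ncard ≤ p * n' := by
      rw [← hpre, ← hcount]; exact Set.ncard_le_ncard hsub (Set.toFinite _)
    have hnd : p * n' ∣ p ^ i * d := by
      rw [hd, ← Nat.gcd_mul_left]
      exact Nat.dvd_gcd (Nat.mul_dvd_mul_right (dvd_pow_self p hi1) _)
        (hn.trans (dvd_of_eq (by rw [hGc, mul_comm])))
    have hd0 : 0 < d := Nat.gcd_pos_of_pos_right _ Nat.card_pos
    have hSle : d ≤ S.ncard := Nat.le_of_dvd (Nat.pos_of_ne_zero hSne) hSd
    have hge : p * n' ≤ p ^ i * d := Nat.le_of_dvd (Nat.mul_pos (pow_pos hp.pos i) hd0) hnd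
    have hSeq : S.ncard = d := by
      refine le_antisymm ?_ hSle
      exact Nat.le_of_mul_le_mul_left (hle.trans hge) (pow_pos hp.pos i)
    have hsold : {v : G ⧸ N | v ^ d = 1} = S := by
      ext v
      refine ⟨fun (hv : v ^ d = 1) => ?_, fun hv => pow_gcd_eq_one.2 ⟨hv, pow_card_eq_one'⟩⟩
      obtain ⟨t, ht⟩ := Nat.gcd_dvd_left n' (Nat.card (G ⧸ N))
      show v ^ n' = 1
      rw [ht, pow_mul, hv, one_pow]
    obtain ⟨Hb, hHb⟩ := ih _ hlt (G ⧸ N) rfl d (Nat.gcd_dvd_right _ _) (by rw [hsold, hSeq])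
    refine ⟨Hb.comap (QuotientGroup.mk' N), ?_⟩
    rw [coe_comap, hHb, hsold, QuotientGroup.coe_mk']
    refine Set.eq_of_subset_of_ncard_le hsub ?_ (Set.toFinite _)
    rw [hcount, hpre, hSeq]
    exact hge
  · have hnp : Nat.Coprime n (p ^ i) :=
      Nat.Coprime.pow_right _ (hp.coprime_iff_not_dvd.2 hpn).symm
    have hnq : n ∣ Nat.card (G ⧸ N) := hnp.dvd_of_dvd_mul_right (hGc ▸ hn)
    set S : Set (G ⧸ N) := {v | v ^ n = 1} with hS
    have hSd : n ∣ S.ncard := by
      rw [← Nat.card_coe_set_eq]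
      exact CfsgLib.FrobCount.frobenius hnq
    have hSne : S.ncard ≠ 0 := by
      rw [← pos_iff_ne_zero, Set.ncard_pos (Set.toFinite _)]
      exact ⟨1, one_pow n⟩
    obtain ⟨e, he1, he0⟩ := Nat.chineseRemainder (hp.coprime_iff_not_dvd.2 hpn).symm 1 0
    have hcover : S ⊆ QuotientGroup.mk '' {x : G | x ^ n = 1} := by
      intro v hv
      obtain ⟨x, rfl⟩ := QuotientGroup.mk_surjective v
      refine ⟨x ^ e, ?_, ?_⟩
      · obtain ⟨t, rfl⟩ := Nat.modEq_zero_iff_dvd.1 he0
        show (x ^ (p * t)) ^ n = 1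
        rw [← pow_mul, show p * t * n = n * p * t by ring, pow_mul, pow_mul,
          hexp _ ((QuotientGroup.eq_one_iff _).1 (by rw [QuotientGroup.mk_pow]; exact hv)), one_pow]
      · rw [QuotientGroup.mk_pow]
        exact CfsgLib.FrobRoots.pow_of_modEq hv he1
    have hSeq : S.ncard = n := by
      refine le_antisymm ?_ (Nat.le_of_dvd (Nat.pos_of_ne_zero hSne) hSd)
      exact (Set.ncard_le_ncard hcover (Set.toFinite _)).trans
        ((Set.ncard_image_le (Set.toFinite _)).trans hcount.le)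
    obtain ⟨Hb, hHb⟩ := ih _ hlt (G ⧸ N) rfl n hnq hSeq
    set H := Hb.comap (QuotientGroup.mk' N) with hH
    have hNH : N ≤ H := fun x hx => by
      rw [hH, mem_comap, QuotientGroup.mk'_apply, (QuotientGroup.eq_one_iff x).2 hx]
      exact one_mem _
    have hHc : Nat.card H = p ^ i * n := by
      rw [hH]
      calc Nat.card (Hb.comap (QuotientGroup.mk' N)) = Nat.card (QuotientGroup.mk ⁻¹' (Hb : Set (G ⧸ N)) : Set G) := rfl
        _ = p ^ i * n := by
          rw [Nat.card_congr (QuotientGroup.preimageMkEquivSubgroupProdSet N _), Nat.card_prod, hi,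
            Nat.card_coe_set_eq, hHb, hSeq]
    have hsub : (N.subgroupOf H).index = n := by
      have h := (N.subgroupOf H).card_mul_index
      rw [Nat.card_congr (subgroupOfEquivOfLe hNH).toEquiv, hi, hHc] at h
      exact Nat.eq_of_mul_eq_mul_left (pow_pos hp.pos i) h
    obtain ⟨K, hK⟩ := exists_right_complement'_of_coprime (N := N.subgroupOf H) (by
      rw [hsub, Nat.card_congr (subgroupOfEquivOfLe hNH).toEquiv, hi]; exact hnp.symm)
    refine ⟨K.map H.subtype, Set.eq_of_subset_of_ncard_le ?_ ?_ (Set.toFinite _)⟩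
    · rintro _ ⟨k, hk, rfl⟩
      have h := pow_card_eq_one' (G := K) (x := ⟨k, hk⟩)
      rw [show Nat.card K = n by rw [← hK.symm.index_eq_card, hsub]] at h
      simpa using congrArg (fun z : K => ((z : H) : G)) h
    · rw [hcount, ← Nat.card_coe_set_eq, SetLike.coe_sort_coe, card_map_of_injective H.subtype_injective,
        ← hK.symm.index_eq_card, hsub]

/-- Frobenius' conjecture for solvable groups. -/
theorem exists_normal_subgroup {G : Type u} [Group G] [Finite G] [Group.IsSolvable G] (n : ℕ)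
    (hn : n ∣ Nat.card G) (hcount : Nat.card {x : G // x ^ n = 1} = n) :
    ∃ H : Subgroup G, H.Normal ∧ (H : Set G) = {x : G | x ^ n = 1} := by
  obtain ⟨H, hH⟩ := subgroup_of_count_aux _ G rfl n hn (by
    rw [← Nat.card_coe_set_eq]; exact hcount)
  refine ⟨H, ⟨fun x hx g => ?_⟩, hH⟩
  rw [← SetLike.mem_coe, hH] at hx ⊢
  show (g * x * g⁻¹) ^ n = 1
  rw [conj_pow, show x ^ n = 1 from hx, mul_one, mul_inv_cancel]

end CfsgLib.FrobConjecture
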