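import Mathlib.GroupTheory.GroupAction.Quotient
import Mathlib.GroupTheory.OrderOfElement
import Mathlib.GroupTheory.Subgroup.Centralizer
import Mathlib.Data.Nat.Totient
import Mathlib.Data.Nat.Factorization.Basic
import Mathlib.GroupTheory.Coset.Card
import Mathlib.Algebra.Group.Conj
import Mathlib.GroupTheory.Sylow
import Mathlib.Tactic.Linarith
import Mathlib.Tactic.Ring
import Mathlib.Tactic.Group

/-!
Frobenius' theorem on the number of solutions of `x ^ n = 1`, by the elementary argument of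
Isaacs and Robinson, and the count of elements whose order is a multiple of `n`.
-/

set_option autoImplicit false
set_option linter.unusedSectionVars false
set_option linter.style.haveILetI false

namespace CfsgLib.FrobCount

open scoped Classical

universe u

/-- The solutions of `x ^ n = 1`. -/
noncomputable def sol (G : Type u) [Group G] [Fintype G] (n : ℕ) : Finset G :=
  Finset.univ.filter fun x => x ^ n = 1

theorem mem_sol {G : Type u} [Group G] [Fintype G] {n : ℕ} {x : G} : x ∈ sol G n ↔ x ^ n = 1 := by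
  simp [sol]

theorem sol_card_eq {G : Type u} [Group G] [Fintype G] (n : ℕ) :
    Nat.card {x : G // x ^ n = 1} = (sol G n).card := by
  rw [Nat.card_eq_fintype_card, Fintype.card_subtype]; rfl

/-- Generators of cyclic subgroups: the number of elements with order in a given set is divisible by a
common divisor of the totients. -/
theorem dvd_card_of_orderOf {G : Type u} [Group G] [Fintype G] (T : ℕ → Prop) (d : ℕ)
    (hd : ∀ o, T o → d ∣ o.totient) :
    d ∣ (Finset.univ.filter fun x : G => T (orderOf x)).card := by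
  rw [Finset.card_eq_sum_card_image (fun x : G => Subgroup.zpowers x)]
  refine Finset.dvd_sum fun C hC => ?_
  simp only [Finset.mem_image, Finset.mem_filter, Finset.mem_univ, true_and] at hC
  obtain ⟨x, hx, rfl⟩ := hC
  refine (hd _ hx).trans (dvd_of_eq ?_)
  have hset : (Finset.univ.filter fun y : G => T (orderOf y)).filter
      (fun y => Subgroup.zpowers y = Subgroup.zpowers x) =
      ((Finset.range (orderOf x)).filter fun i => (orderOf x).Coprime i).image fun i => x ^ i := by
    ext y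
    simp only [Finset.mem_filter, Finset.mem_univ, true_and, Finset.mem_image, Finset.mem_range]
    constructor
    · rintro ⟨-, h⟩
      have hy : y ∈ Subgroup.zpowers x := h ▸ Subgroup.mem_zpowers y
      rw [← mem_powers_iff_mem_zpowers, mem_powers_iff_mem_range_orderOf] at hy
      simp only [Finset.mem_image, Finset.mem_range] at hy
      obtain ⟨i, hi, rfl⟩ := hy
      refine ⟨i, ⟨hi, ?_⟩, rfl⟩
      have ho : orderOf (x ^ i) = orderOf x := by
        rw [← Nat.card_zpowers, h, Nat.card_zpowers]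
      rw [orderOf_pow] at ho
      exact (Nat.div_eq_self.1 ho).resolve_left (orderOf_pos x).ne'
    · rintro ⟨i, ⟨hi, hcop⟩, rfl⟩
      have ho : orderOf (x ^ i) = orderOf x := Nat.Coprime.orderOf_pow hcop
      refine ⟨by rw [ho]; exact hx, ?_⟩
      refine Subgroup.eq_of_le_of_card_ge (Subgroup.zpowers_le.2 (Subgroup.npow_mem_zpowers x i)) ?_
      rw [Nat.card_zpowers, Nat.card_zpowers, ho]
  rw [hset, Finset.card_image_of_injOn, Nat.totient_eq_card_coprime]
  intro i hi j hj hij
  simp only [Finset.mem_coe, Finset.mem_filter, Finset.mem_range] at hi hj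
  exact pow_injOn_Iio_orderOf hi.1 hj.1 hij

theorem card_conj_fibre {G : Type u} [Group G] [Fintype G] (y : G) :
    (Finset.univ.filter fun z : G => ConjClasses.mk z = ConjClasses.mk y).card =
      (Subgroup.centralizer ({y} : Set G)).index := by
  have h := MulAction.card_orbit_mul_card_stabilizer_eq_card_group (ConjAct G) y
  have hs : MulAction.stabilizer (ConjAct G) y =
      (Subgroup.centralizer ({y} : Set G)).comap ConjAct.ofConjAct.toMonoidHom := by
    ext g
    rw [MulAction.mem_stabilizer_iff, ConjAct.smul_def, mul_inv_eq_iff_eq_mul]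
    exact (Subgroup.mem_centralizer_singleton_iff).symm
  have hc : Nat.card (MulAction.stabilizer (ConjAct G) y) =
      Nat.card (Subgroup.centralizer ({y} : Set G)) := by
    rw [hs]
    exact Nat.card_congr
      { toFun := fun g => ⟨ConjAct.ofConjAct g.1, g.2⟩
        invFun := fun g => ⟨ConjAct.toConjAct g.1, show ConjAct.ofConjAct (ConjAct.toConjAct g.1) ∈ _ from g.2⟩
        left_inv := fun g => rfl
        right_inv := fun g => rfl }
  have ho : (Finset.univ.filter fun z : G => ConjClasses.mk z = ConjClasses.mk y).card =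
      Fintype.card (MulAction.orbit (ConjAct G) y) := by
    rw [← Fintype.card_subtype]
    refine Fintype.card_congr (Equiv.subtypeEquivRight fun z => ?_)
    rw [ConjAct.mem_orbit_conjAct, ConjClasses.mk_eq_mk_iff_isConj]
  rw [← Nat.card_eq_fintype_card (α := MulAction.stabilizer (ConjAct G) y), hc, ← ho] at h
  refine Nat.eq_of_mul_eq_mul_right (Nat.card_pos (α := Subgroup.centralizer ({y} : Set G))) ?_
  rw [h, Subgroup.index_mul_card, Nat.card_eq_fintype_card]
  exact ConjAct.card

theorem frobenius_aux : ∀ (N : ℕ) (G : Type u) [Group G] [Fintype G], Nat.card G = N →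
    ∀ n, n ∣ Nat.card G → n ∣ (sol G n).card := by
  intro N
  induction N using Nat.strong_induction_on with
  | _ N ih =>
  intro G _ _ hN n hn
  haveI : Fintype (ConjClasses G) := Fintype.ofSurjective ConjClasses.mk ConjClasses.mk_surjective
  obtain ⟨k, hk⟩ := hn
  induction k using Nat.strong_induction_on generalizing n with
  | _ k ihk =>
  have hG := (Nat.card_pos (α := G))
  by_cases hk1 : k = 1
  · rw [hk1, mul_one] at hk
    rw [show sol G n = Finset.univ from Finset.eq_univ_iff_forall.2 fun x =>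
        mem_sol.2 (hk ▸ pow_card_eq_one'), Finset.card_univ, ← Nat.card_eq_fintype_card, hk]
  have hk0 : k ≠ 0 := fun h => by rw [h, mul_zero] at hk; omega
  obtain ⟨p, hp, k', hk'⟩ := Nat.exists_prime_and_dvd hk1
  have hn0 : n ≠ 0 := fun h => by rw [h, zero_mul] at hk; omega
  have h1 : n * p ∣ (sol G (n * p)).card := by
    refine ihk k' ?_ (n * p) (by rw [hk, hk']; ring)
    rw [hk']
    have : k' ≠ 0 := fun h => hk0 (by rw [hk', h, mul_zero])
    exact lt_mul_of_one_lt_left (Nat.pos_of_ne_zero this) hp.one_lt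
  have hsub : sol G n ⊆ sol G (n * p) := fun x hx => by
    rw [mem_sol] at hx ⊢; rw [pow_mul, hx, one_pow]
  suffices hkey : n ∣ (sol G (n * p) \ sol G n).card by
    have h2 := Finset.card_sdiff_add_card_eq_card hsub
    rw [← h2] at h1
    exact (Nat.dvd_add_right hkey).1 ((Dvd.intro p rfl).trans h1)
  obtain ⟨e, m, hpm, hnem⟩ := Nat.exists_eq_pow_mul_and_not_dvd hn0 p hp.ne_one
  have hcop : (p ^ (e + 1)).Coprime m := Nat.Coprime.pow_left _ (hp.coprime_iff_not_dvd.2 hpm)
  have hnp : n * p = p ^ (e + 1) * m := by rw [hnem, pow_succ]; ring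
  have hmem : ∀ x : G, x ∈ sol G (n * p) \ sol G n ↔
      orderOf x ∣ n * p ∧ p ^ (e + 1) ∣ orderOf x := by
    intro x
    rw [Finset.mem_sdiff, mem_sol, mem_sol, ← orderOf_dvd_iff_pow_eq_one, ← orderOf_dvd_iff_pow_eq_one]
    refine and_congr_right fun h => ?_
    constructor
    · intro h'
      by_contra hcon
      obtain ⟨a, b, hpb, hab⟩ := Nat.exists_eq_pow_mul_and_not_dvd (orderOf_pos x).ne' p hp.ne_one
      have hb : b ∣ m := by
        have hbn : b ∣ p ^ (e + 1) * m := hnp ▸ (Dvd.intro_left _ hab.symm).trans h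
        exact (Nat.Coprime.dvd_mul_left
          (Nat.Coprime.pow_right _ ((hp.coprime_iff_not_dvd.2 hpb).symm))).1 hbn
      have ha : a ≤ e := by
        by_contra hlt
        exact hcon (hab ▸ (Nat.pow_dvd_pow p (by omega)).trans (dvd_mul_right _ _))
      exact h' (hab ▸ hnem ▸ Nat.mul_dvd_mul (Nat.pow_dvd_pow p ha) hb)
    · intro h' h''
      have h3 : p ^ (e + 1) ∣ p ^ e * m := hnem ▸ h'.trans h''
      rw [pow_succ] at h3
      exact hpm (Nat.dvd_of_mul_dvd_mul_left (pow_pos hp.pos e) h3)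
  refine (dvd_of_eq hnem).trans ?_
  refine Nat.Coprime.mul_dvd_of_dvd_of_dvd (Nat.Coprime.pow_left _ (hp.coprime_iff_not_dvd.2 hpm))
    ?_ ?_
  · have hset : sol G (n * p) \ sol G n =
        Finset.univ.filter fun x : G => orderOf x ∣ n * p ∧ p ^ (e + 1) ∣ orderOf x := by
      ext x; rw [hmem]; simp
    rw [hset]
    have h3 := dvd_card_of_orderOf (G := G) (fun o => o ∣ n * p ∧ p ^ (e + 1) ∣ o) (p ^ e) fun o ho =>
      dvd_trans (by rw [Nat.totient_prime_pow_succ hp]; exact dvd_mul_right _ _)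
        (Nat.totient_dvd_of_dvd ho.2)
    convert h3 using 4
  obtain ⟨i, hi1, hi0⟩ := Nat.chineseRemainder hcop 1 0
  have hproj : ∀ x y z : G, x = y * z → Commute y z → y ^ p ^ (e + 1) = 1 → z ^ m = 1 → x ^ i = y := by
    intro x y z hx hc hy hz
    rw [hx, hc.mul_pow]
    have hy' : y ^ i = y := by
      rw [pow_eq_pow_mod i hy, hi1, ← pow_eq_pow_mod 1 hy, pow_one]
    have hz' : z ^ i = 1 := by
      rw [pow_eq_pow_mod i hz, hi0, Nat.zero_mod, pow_zero]
    rw [hy', hz', mul_one]
  rw [Finset.card_eq_sum_card_image (fun x : G => x ^ i)]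
  set Y := Finset.univ.filter fun y : G => orderOf y = p ^ (e + 1) with hY
  have hpart : ∀ x ∈ sol G (n * p) \ sol G n, x ^ i ∈ Y := by
    intro x hx
    rw [hmem] at hx
    simp only [hY, Finset.mem_filter, Finset.mem_univ, true_and]
    obtain ⟨b, hb⟩ := hx.2
    have hbm : b ∣ m := by
      have := hx.1
      rw [hb, hnp] at this
      exact Nat.dvd_of_mul_dvd_mul_left (pow_pos hp.pos _) this
    rw [orderOf_pow, hb]
    have hgcd : Nat.gcd (p ^ (e + 1) * b) i = b := by
      rw [Nat.gcd_comm, Nat.Coprime.gcd_mul _ (hcop.coprime_dvd_right hbm)]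
      have hb1 : Nat.gcd i b = b :=
        Nat.gcd_eq_right (hbm.trans ((Nat.modEq_zero_iff_dvd).1 hi0))
      have hb2 : Nat.gcd i (p ^ (e + 1)) = 1 := by
        rw [hi1.gcd_eq]
        exact Nat.gcd_one_left _
      rw [hb1, hb2, one_mul]
    rw [hgcd, Nat.mul_div_cancel _ (Nat.pos_of_ne_zero fun h => by
      rw [h, mul_zero] at hb; exact (orderOf_pos x).ne' hb)]
  set f : G → ℕ := fun y =>
    (Finset.univ.filter fun z : G => Commute y z ∧ z ^ m = 1).card with hf
  have hfib : ∀ y ∈ Y, ((sol G (n * p) \ sol G n).filter fun x => x ^ i = y).card = f y := by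
    intro y hy
    simp only [hY, Finset.mem_filter, Finset.mem_univ, true_and] at hy
    refine Finset.card_nbij' (fun x => y⁻¹ * x) (fun z => y * z) ?_ ?_ ?_ ?_
    · intro x hx
      simp only [Finset.mem_coe, Finset.mem_filter, hmem] at hx
      obtain ⟨⟨hx1, hx2⟩, rfl⟩ := hx
      simp only [Finset.mem_coe, Finset.mem_filter, Finset.mem_univ, true_and]
      have hc : Commute (x ^ i) ((x ^ i)⁻¹ * x) :=
        ((Commute.refl (x ^ i)).inv_right).mul_right ((Commute.refl x).pow_left i)
      refine ⟨hc, ?_⟩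
      rw [((Commute.refl x).pow_left i).inv_left.mul_pow]
      rw [inv_pow, inv_mul_eq_one, ← pow_mul]
      refine pow_eq_pow_iff_modEq.2 (Nat.ModEq.of_dvd hx1 ?_)
      rw [hnp]
      refine (Nat.modEq_and_modEq_iff_modEq_mul hcop).1 ⟨?_, ?_⟩
      · simpa using hi1.mul_right m
      · exact (Nat.modEq_zero_iff_dvd.2 (dvd_mul_left m i)).trans
          (Nat.modEq_zero_iff_dvd.2 dvd_rfl).symm
    · intro z hz
      simp only [Finset.mem_coe, Finset.mem_filter, Finset.mem_univ, true_and] at hz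
      obtain ⟨hc, hz⟩ := hz
      simp only [Finset.mem_coe, Finset.mem_filter, hmem]
      have hyp : y ^ p ^ (e + 1) = 1 := hy ▸ pow_orderOf_eq_one y
      have hxi := hproj (y * z) y z rfl hc hyp hz
      refine ⟨⟨?_, ?_⟩, hxi⟩
      · rw [orderOf_dvd_iff_pow_eq_one, hc.mul_pow, hnp, pow_mul, hyp, one_pow, mul_comm, pow_mul, hz,
          one_pow, mul_one]
      · rw [← hy]
        exact (dvd_of_eq (congrArg orderOf hxi.symm)).trans (orderOf_pow_dvd i)
    · intro x _; simp
    · intro z _; simp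
  have himg : (sol G (n * p) \ sol G n).image (fun x => x ^ i) ⊆ Y :=
    Finset.image_subset_iff.2 hpart
  rw [Finset.sum_subset himg (fun y _ hy => by
      rw [Finset.card_eq_zero, Finset.filter_eq_empty_iff]
      exact fun x hx h => hy (Finset.mem_image.2 ⟨x, hx, h⟩)),
    Finset.sum_congr rfl hfib, ← Finset.sum_fiberwise_of_maps_to
      (fun y _ => Finset.mem_univ (ConjClasses.mk y))]
  refine Finset.dvd_sum fun c _ => ?_
  by_cases hne : (Y.filter fun y => ConjClasses.mk y = c) = ∅
  · rw [hne, Finset.sum_empty]; exact dvd_zero _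
  obtain ⟨y, hy⟩ := Finset.nonempty_iff_ne_empty.2 hne
  simp only [Finset.mem_filter] at hy
  obtain ⟨hyY, rfl⟩ := hy
  simp only [hY, Finset.mem_filter, Finset.mem_univ, true_and] at hyY
  have hconst : ∀ z : G, ConjClasses.mk z = ConjClasses.mk y → orderOf z = orderOf y ∧ f z = f y := by
    intro z hz
    obtain ⟨g, hg⟩ := isConj_iff.1 (ConjClasses.mk_eq_mk_iff_isConj.1 hz.symm)
    subst hg
    refine ⟨(SemiconjBy.orderOf_eq g (by simp [SemiconjBy, mul_assoc])).symm, ?_⟩
    simp only [hf]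
    refine (Finset.card_nbij' (fun w => g * w * g⁻¹) (fun w => g⁻¹ * w * g) ?_ ?_ ?_ ?_).symm
    · intro w hw
      simp only [Finset.mem_coe, Finset.mem_filter, Finset.mem_univ, true_and] at hw ⊢
      refine ⟨?_, by rw [conj_pow, hw.2, mul_one, mul_inv_cancel]⟩
      show g * y * g⁻¹ * (g * w * g⁻¹) = g * w * g⁻¹ * (g * y * g⁻¹)
      calc g * y * g⁻¹ * (g * w * g⁻¹) = g * (y * w) * g⁻¹ := by group
        _ = g * (w * y) * g⁻¹ := by rw [hw.1.eq]
        _ = _ := by group
    · intro w hw
      simp only [Finset.mem_coe, Finset.mem_filter, Finset.mem_univ, true_and] at hw ⊢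
      refine ⟨?_, by rw [show g⁻¹ * w * g = g⁻¹ * w * g⁻¹⁻¹ by rw [inv_inv], conj_pow, hw.2, mul_one,
        inv_inv, inv_mul_cancel]⟩
      show y * (g⁻¹ * w * g) = g⁻¹ * w * g * y
      calc y * (g⁻¹ * w * g) = g⁻¹ * ((g * y * g⁻¹) * w) * g := by group
        _ = g⁻¹ * (w * (g * y * g⁻¹)) * g := by rw [hw.1.eq]
        _ = _ := by group
    · intro w _; group
    · intro w _; group
  have hfil : (Y.filter fun z => ConjClasses.mk z = ConjClasses.mk y) =
      Finset.univ.filter fun z : G => ConjClasses.mk z = ConjClasses.mk y := by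
    ext z
    simp only [hY, Finset.mem_filter, Finset.mem_univ, true_and, and_iff_right_iff_imp]
    exact fun hz => (hconst z hz).1.trans hyY
  rw [hfil, Finset.sum_congr rfl (fun z hz => (hconst z (Finset.mem_filter.1 hz).2).2),
    Finset.sum_const, card_conj_fibre, smul_eq_mul]
  -- the quotient of the centralizer
  set C := Subgroup.centralizer ({y} : Set G) with hC
  let K : Subgroup C := (Subgroup.zpowers y).subgroupOf C
  have hycen : ∀ g : C, (g : G) * y = y * (g : G) := fun g =>
    Subgroup.mem_centralizer_singleton_iff.1 g.2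
  haveI hKn : K.Normal := ⟨fun w hw g => by
    rw [Subgroup.mem_subgroupOf] at hw ⊢
    obtain ⟨j, hj⟩ := hw
    have hj' : y ^ j = (w : G) := hj
    refine ⟨j, ?_⟩
    show y ^ j = (g : G) * (w : G) * (g : G)⁻¹
    rw [← hj', ((show Commute (g : G) y from hycen g).zpow_right j).eq, mul_inv_cancel_right]⟩
  have hKle : Subgroup.zpowers y ≤ C := Subgroup.zpowers_le.2
    (Subgroup.mem_centralizer_singleton_iff.2 rfl)
  have hKc : Nat.card K = p ^ (e + 1) := by
    rw [Nat.card_congr (Subgroup.subgroupOfEquivOfLe hKle).toEquiv, Nat.card_zpowers, hyY]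
  have hcardeq : Nat.card G = C.index * (p ^ (e + 1) * Nat.card (C ⧸ K)) := by
    rw [← hKc, mul_comm (Nat.card K), ← Subgroup.card_eq_card_quotient_mul_card_subgroup,
      Subgroup.index_mul_card]
  have hlt : Nat.card (C ⧸ K) < N := by
    rw [← hN, hcardeq]
    have h2 : 2 ≤ p ^ (e + 1) := le_trans hp.two_le (Nat.le_self_pow (by omega) p)
    have hpos : 0 < Nat.card (C ⧸ K) := Nat.card_pos
    have hi' : 1 ≤ C.index := Nat.pos_of_ne_zero Subgroup.index_ne_zero_of_finite
    exact lt_of_lt_of_le (lt_mul_of_one_lt_left hpos h2) (Nat.le_mul_of_pos_left _ hi')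
  haveI : Fintype (C ⧸ K) := Fintype.ofFinite _
  have hih := ih _ hlt (C ⧸ K) rfl (Nat.gcd m (Nat.card (C ⧸ K))) (Nat.gcd_dvd_right _ _)
  have hsolq : sol (C ⧸ K) (Nat.gcd m (Nat.card (C ⧸ K))) = sol (C ⧸ K) m := by
    ext w
    rw [mem_sol, mem_sol]
    exact ⟨fun h => by
      obtain ⟨t, ht⟩ := Nat.gcd_dvd_left m (Nat.card (C ⧸ K))
      rw [ht, pow_mul, h, one_pow], fun h => pow_gcd_eq_one.2 ⟨h, pow_card_eq_one'⟩⟩
  rw [hsolq] at hih
  have hfy : f y = (sol (C ⧸ K) m).card := by
    simp only [hf]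
    refine Finset.card_bij (fun z hz => (QuotientGroup.mk (⟨z, Subgroup.mem_centralizer_singleton_iff.2
        (Finset.mem_filter.1 hz).2.1.eq.symm⟩ : C) : C ⧸ K)) ?_ ?_ ?_
    · intro z hz
      rw [mem_sol, ← QuotientGroup.mk_pow]
      refine (QuotientGroup.eq_one_iff _).2 ?_
      rw [Subgroup.mem_subgroupOf]
      simp [(Finset.mem_filter.1 hz).2.2]
    · intro a ha b hb hab
      rw [QuotientGroup.eq, Subgroup.mem_subgroupOf] at hab
      simp only [Subgroup.coe_mul, Subgroup.coe_inv] at hab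
      obtain ⟨-, hca, hza⟩ := Finset.mem_filter.1 ha
      obtain ⟨-, hcb, hzb⟩ := Finset.mem_filter.1 hb
      have hpd : (a⁻¹ * b) ^ p ^ (e + 1) = 1 := by
        obtain ⟨j, hj⟩ := hab
        have hj' : y ^ j = a⁻¹ * b := hj
        rw [← hj', ← zpow_natCast, zpow_comm, zpow_natCast, ← hyY, pow_orderOf_eq_one, one_zpow]
      have hcy : Commute a (a⁻¹ * b) := by
        obtain ⟨j, hj⟩ := hab
        have hj' : y ^ j = a⁻¹ * b := hj
        rw [← hj']
        exact hca.symm.zpow_right j
      have hm' : (a⁻¹ * b) ^ m = 1 := by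
        have h3 : (a * (a⁻¹ * b)) ^ m = 1 := by rw [mul_inv_cancel_left]; exact hzb
        rwa [hcy.mul_pow, hza, one_mul] at h3
      have h4 := pow_gcd_eq_one.2 ⟨hpd, hm'⟩
      rw [hcop.gcd_eq_one, pow_one, inv_mul_eq_one] at h4
      exact h4
    · intro w hw
      rw [mem_sol] at hw
      obtain ⟨g, rfl⟩ := QuotientGroup.mk_surjective w
      obtain ⟨i', hi1', hi0'⟩ := Nat.chineseRemainder hcop.symm 1 0
      have hgp : (g ^ m) ^ p ^ (e + 1) = 1 := by
        rw [← QuotientGroup.mk_pow, QuotientGroup.eq_one_iff] at hw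
        have := orderOf_dvd_natCard (⟨g ^ m, hw⟩ : K)
        rw [hKc] at this
        have h5 := orderOf_dvd_iff_pow_eq_one.1 this
        simpa using congrArg Subtype.val h5
      refine ⟨((g ^ i' : C) : G), ?_, ?_⟩
      · simp only [Finset.mem_filter, Finset.mem_univ, true_and]
        refine ⟨(hycen _).symm, ?_⟩
        rw [← Subgroup.coe_pow, ← pow_mul, mul_comm]
        obtain ⟨t, ht⟩ := (Nat.modEq_zero_iff_dvd).1 hi0'
        rw [ht, ← mul_assoc, pow_mul, pow_mul, hgp, one_pow, Subgroup.coe_one]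
      · rw [Subtype.coe_eta, QuotientGroup.mk_pow, pow_eq_pow_mod i' hw, hi1',
          ← pow_eq_pow_mod 1 hw, pow_one]
  rw [hfy]
  refine dvd_trans ?_ (Nat.mul_dvd_mul_left C.index hih)
  rw [← Nat.gcd_mul_left]
  refine Nat.dvd_gcd (dvd_mul_left _ _) ?_
  have hmG : m ∣ p ^ (e + 1) * (C.index * Nat.card (C ⧸ K)) := by
    rw [← mul_assoc, mul_comm (p ^ (e + 1)), mul_assoc, ← hcardeq, hk, hnem]
    exact Dvd.intro_left _ rfl |>.trans (dvd_mul_right _ _)
  exact (Nat.Coprime.dvd_mul_left hcop.symm).1 hmG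

/-- Frobenius' theorem. -/
theorem frobenius {G : Type u} [Group G] [Finite G] {n : ℕ} (hn : n ∣ Nat.card G) :
    n ∣ Nat.card {x : G // x ^ n = 1} := by
  haveI := Fintype.ofFinite G
  rw [sol_card_eq]
  exact frobenius_aux _ G rfl n hn

theorem dvd_card_multiple_aux {G : Type u} [Group G] [Fintype G] {b : ℕ} (n : ℕ) :
    n ≠ 0 → b.Coprime n → ∀ N, N ∣ Nat.card G → b ∣ N →
      b ∣ ((sol G N).filter fun x => n ∣ orderOf x).card := by
  induction n using Nat.strong_induction_on with
  | _ n ih =>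
  intro hn0 hbn N hN hbN
  by_cases hn1 : n = 1
  · subst hn1
    have he : (sol G N).filter (fun x => 1 ∣ orderOf x) = sol G N :=
      Finset.filter_true_of_mem fun x _ => one_dvd _
    rw [he, ← sol_card_eq]
    exact hbN.trans (frobenius hN)
  obtain ⟨r, hr, hrn⟩ := Nat.exists_prime_and_dvd hn1
  obtain ⟨a, c, hrc, hac⟩ := Nat.exists_eq_pow_mul_and_not_dvd hn0 r hr.ne_one
  have ha : a ≠ 0 := by
    rintro rfl
    rw [pow_zero, one_mul] at hac
    exact hrc (hac ▸ hrn)
  have hc0 : c ≠ 0 := fun h => hrc (h ▸ dvd_zero r)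
  have hcop : (r ^ a).Coprime c := Nat.Coprime.pow_left _ (hr.coprime_iff_not_dvd.2 hrc)
  have hclt : c < n := by
    rw [hac]
    exact lt_mul_of_one_lt_left (Nat.pos_of_ne_zero hc0) (Nat.one_lt_pow ha hr.one_lt)
  have hbc : b.Coprime c := hbn.coprime_dvd_right (hac ▸ dvd_mul_left _ _)
  have hN0 : N ≠ 0 := fun h => Nat.card_pos.ne' (zero_dvd_iff.1 (h ▸ hN))
  obtain ⟨v, M, hrM, hvM⟩ := Nat.exists_eq_pow_mul_and_not_dvd hN0 r hr.ne_one
  set N' := r ^ min v (a - 1) * M with hN'
  have hN'N : N' ∣ N := by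
    rw [hN', hvM]; exact Nat.mul_dvd_mul (Nat.pow_dvd_pow r (min_le_left _ _)) dvd_rfl
  have hbr : b.Coprime r := hbn.coprime_dvd_right hrn
  have hbN' : b ∣ N' := by
    have : b ∣ M := (Nat.Coprime.dvd_mul_left (Nat.Coprime.pow_right v hbr)).1 (hvM ▸ hbN)
    exact this.trans (dvd_mul_left _ _)
  have hsplit : ((sol G N).filter fun x => c ∣ orderOf x).card =
      ((sol G N).filter fun x => n ∣ orderOf x).card + ((sol G N').filter fun x => c ∣ orderOf x).card := by
    rw [← Finset.card_filter_add_card_filter_not (s := (sol G N).filter fun x => c ∣ orderOf x)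
      (fun x => r ^ a ∣ orderOf x), Finset.filter_filter, Finset.filter_filter]
    congr 1
    · congr 1
      refine Finset.filter_congr fun x _ => ?_
      rw [hac]
      exact ⟨fun h => hcop.mul_dvd_of_dvd_of_dvd h.2 h.1,
        fun h => ⟨(dvd_mul_left _ _).trans h, (dvd_mul_right _ _).trans h⟩⟩
    · congr 1
      ext x
      simp only [Finset.mem_filter, mem_sol, ← orderOf_dvd_iff_pow_eq_one]
      constructor
      · rintro ⟨hxN, hcx, hnr⟩
        refine ⟨?_, hcx⟩
        obtain ⟨w, o, hro, hwo⟩ := Nat.exists_eq_pow_mul_and_not_dvd (orderOf_pos x).ne' r hr.ne_one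
        rw [hwo, hvM] at hxN
        have hwv : w ≤ v := by
          have h : r ^ w ∣ r ^ v * M := (dvd_mul_right _ _).trans hxN
          exact (Nat.pow_dvd_pow_iff_le_right hr.one_lt).1
            ((Nat.Coprime.dvd_mul_right (Nat.Coprime.pow_left _ (hr.coprime_iff_not_dvd.2 hrM))).1 h)
        have hwa : w ≤ a - 1 := by
          by_contra hlt
          exact hnr (hwo ▸ (Nat.pow_dvd_pow r (by omega)).trans (dvd_mul_right _ _))
        have hoM : o ∣ M := (Nat.Coprime.dvd_mul_left
          (Nat.Coprime.pow_right _ (hr.coprime_iff_not_dvd.2 hro).symm)).1 ((dvd_mul_left _ _).trans hxN)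
        rw [hwo]
        exact Nat.mul_dvd_mul (Nat.pow_dvd_pow r (le_min hwv hwa)) hoM
      · rintro ⟨hxN', hcx⟩
        refine ⟨hxN'.trans hN'N, hcx, fun hra => ?_⟩
        have h : r ^ a ∣ r ^ min v (a - 1) * M := hra.trans hxN'
        have h' := (Nat.pow_dvd_pow_iff_le_right hr.one_lt).1
          ((Nat.Coprime.dvd_mul_right (Nat.Coprime.pow_left _ (hr.coprime_iff_not_dvd.2 hrM))).1 h)
        omega
  have h1 := ih c hclt hc0 hbc N hN hbN
  rw [hsplit] at h1
  exact (Nat.dvd_add_left (ih c hclt hc0 hbc N' (hN'N.trans hN) hbN')).1 h1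

/-- The number of elements with order a multiple of `n` is divisible by every divisor of `|G|` prime
to `n`. -/
theorem dvd_card_multiple {G : Type u} [Group G] [Finite G] {n b : ℕ} (hn : n ≠ 0)
    (hbG : b ∣ Nat.card G) (hb : b.Coprime n) : b ∣ Nat.card {x : G // n ∣ orderOf x} := by
  haveI := Fintype.ofFinite G
  have h := dvd_card_multiple_aux (G := G) (b := b) n hn hb (Nat.card G) dvd_rfl hbG
  have he : sol G (Nat.card G) = Finset.univ :=
    Finset.eq_univ_iff_forall.2 fun x => mem_sol.2 pow_card_eq_one'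
  rw [he] at h
  rwa [Nat.card_eq_fintype_card, Fintype.card_subtype]

theorem coprime_div_gcd_pow {c n : ℕ} (hc : c ≠ 0) (hn : n ≠ 0) :
    (c / Nat.gcd c (n ^ c)).Coprime n := by
  refine Nat.coprime_of_dvd fun r hr hrd hrn => ?_
  have hrc : r ∣ c := hrd.trans (Nat.div_dvd_of_dvd (Nat.gcd_dvd_left _ _))
  obtain ⟨a, o, hro, hao⟩ := Nat.exists_eq_pow_mul_and_not_dvd hc r hr.ne_one
  have hac : a ≤ c := le_trans (Nat.lt_pow_self hr.one_lt).le
    (Nat.le_of_dvd (Nat.pos_of_ne_zero hc) (hao ▸ dvd_mul_right _ _))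
  have hd : r ^ a ∣ Nat.gcd c (n ^ c) := Nat.dvd_gcd (hao ▸ dvd_mul_right _ _)
    ((Nat.pow_dvd_pow r hac).trans (pow_dvd_pow_of_dvd hrn c))
  obtain ⟨t, ht⟩ := hd
  have hg0 : Nat.gcd c (n ^ c) ≠ 0 := Nat.gcd_ne_zero_left hc
  have h2 : r ^ a * r ∣ r ^ a * o := by
    rw [← hao]
    refine (Nat.mul_dvd_mul (ht ▸ dvd_mul_right (r ^ a) t) hrd).trans ?_
    rw [Nat.mul_div_cancel' (Nat.gcd_dvd_left _ _)]
  exact hro (Nat.dvd_of_mul_dvd_mul_left (pow_pos hr.pos a) h2)

end CfsgLib.FrobCount
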