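import Cfsg.Agent.Solvable.FrobeniusConj
import Cfsg.Agent.Frobenius.Semidirect
import Cfsg.Agent.FGSA.ThompsonNil

/-!
Facts about a Frobenius group with a given normal subgroup as kernel.
-/

set_option autoImplicit false
set_option linter.unusedSectionVars false

namespace CfsgLib.FrobKernel

open Subgroup
open scoped Pointwise

variable {G : Type*} [Group G] [Finite G] {N C : Subgroup G} [N.Normal]

theorem mem_iff (hC : Cfsg.IsFrobeniusComplement C) (hk : Cfsg.frobeniusKernel C = (N : Set G)) (x : G) :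
    x ∈ N ↔ (orderOf x).Coprime (Nat.card C) := by
  rw [← CfsgLib.Frobenius.mem_frobeniusKernel_iff hC, hk, SetLike.mem_coe]

theorem isComplement' (hC : Cfsg.IsFrobeniusComplement C) (hk : Cfsg.frobeniusKernel C = (N : Set G)) :
    IsComplement' N C := by
  have h1 : Nat.card N = C.index := by
    rw [← CfsgLib.Frobenius.card_frobeniusKernel hC, hk]
    rfl
  refine Subgroup.isComplement'_of_coprime (by rw [h1, C.index_mul_card]) ?_
  rw [h1]
  exact (CfsgLib.Frobenius.coprime_card_index hC).symm

theorem exists_conj (hC : Cfsg.IsFrobeniusComplement C) (hk : Cfsg.frobeniusKernel C = (N : Set G))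
    {x : G} (hx : x ∉ N) : ∃ g : G, g⁻¹ * x * g ∈ C :=
  CfsgLib.Frobenius.exists_conj_mem hC fun h => hx ((mem_iff hC hk x).2 h)

/-- Centralisers of nontrivial kernel elements lie in the kernel. -/
theorem mem_of_commute (hC : Cfsg.IsFrobeniusComplement C) (hk : Cfsg.frobeniusKernel C = (N : Set G))
    {x y : G} (hy : y ∈ N) (hy1 : y ≠ 1) (h : Commute x y) : x ∈ N := by
  by_contra hx
  obtain ⟨g, hg⟩ := exists_conj hC hk hx
  have hx1 : g⁻¹ * x * g ≠ 1 := fun e => hx (by
    have : x = 1 := by
      calc x = g * (g⁻¹ * x * g) * g⁻¹ := by group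
        _ = 1 := by rw [e]; group
    rw [this]; exact one_mem N)
  have hy' : g⁻¹ * y * g ∈ N := by simpa using (inferInstance : N.Normal).conj_mem y hy g⁻¹
  have := CfsgLib.Frobenius.eq_one_of_commute hC (isComplement' hC hk).disjoint.eq_bot hg hx1 hy' (by
    calc g⁻¹ * x * g * (g⁻¹ * y * g) = g⁻¹ * (x * y) * g := by group
      _ = g⁻¹ * (y * x) * g := by rw [h.eq]
      _ = _ := by group)
  exact hy1 (by calc y = g * (g⁻¹ * y * g) * g⁻¹ := by group
                  _ = 1 := by rw [this]; group)

theorem isNilpotent (hC : Cfsg.IsFrobeniusComplement C) (hk : Cfsg.frobeniusKernel C = (N : Set G)) :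
    Group.IsNilpotent N := by
  obtain ⟨φ, hφ, -⟩ := CfsgLib.Frobenius.exists_fpf_of_normal_complement hC (isComplement' hC hk).disjoint.eq_bot
  have hC1 : Nat.card C ≠ 1 := fun h => hC.1 (Subgroup.card_eq_one.1 h)
  have := Fact.mk (Nat.minFac_prime hC1)
  obtain ⟨c, hc⟩ := exists_prime_orderOf_dvd_card' (Nat.card C).minFac (Nat.minFac_dvd _)
  exact CfsgLib.ThompsonNil.isNilpotent (Fact.out : (Nat.card C).minFac.Prime) (φ c)
    (by rw [← map_pow, ← hc, pow_orderOf_eq_one, map_one])
    (fun n hn => hφ c (fun h => (Fact.out : (Nat.card C).minFac.Prime).ne_one (by rw [← hc, h, orderOf_one])) n hn)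

theorem coprime (hC : Cfsg.IsFrobeniusComplement C) (hk : Cfsg.frobeniusKernel C = (N : Set G)) :
    (Nat.card C).Coprime (Nat.card N) := by
  have := CfsgLib.Frobenius.coprime_card_index hC
  rwa [(isComplement' hC hk).index_eq_card] at this

theorem kernel_ne_bot (hC : Cfsg.IsFrobeniusComplement C) (hk : Cfsg.frobeniusKernel C = (N : Set G)) :
    N ≠ ⊥ := by
  intro h
  apply hC.2.1
  have := (isComplement' hC hk).sup_eq_top
  rwa [h, bot_sup_eq] at this

end CfsgLib.FrobKernel
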