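import Cfsg.Agent.FGSB.KulakoffCount
import Mathlib.GroupTheory.Sylow
import Mathlib.GroupTheory.IndexNormal
import Mathlib.GroupTheory.GroupAction.ConjAct

/-!
P. Hall's reduction of the count of subgroups of a non-maximal prime power order to the count
inside a Sylow subgroup, modulo `p ^ 2`.
-/

set_option autoImplicit false
set_option linter.unusedSectionVars false
set_option linter.style.haveILetI false

namespace CfsgLib.HallReduction

open Subgroup
open scoped Pointwise

variable {G : Type*} [Group G] [Finite G] {p : ℕ} [hp : Fact p.Prime]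

theorem card_conj (g : G) (H : Subgroup G) :
    Nat.card ↥(H.map (MulAut.conj g).toMonoidHom) = Nat.card H :=
  card_map_of_injective (MulAut.conj g).injective

theorem conj_conj (g h : G) (H : Subgroup G) :
    (H.map (MulAut.conj h).toMonoidHom).map (MulAut.conj g).toMonoidHom =
      H.map (MulAut.conj (g * h)).toMonoidHom := by
  rw [Subgroup.map_map]
  congr 1
  ext x
  simp [mul_assoc]

theorem conj_mem {g : G} {H : Subgroup G} (h : g ∈ normalizer (H : Set G)) :
    H.map (MulAut.conj g).toMonoidHom = H := by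
  refine le_antisymm ?_ fun x hx => ?_
  · rintro _ ⟨x, hx, rfl⟩
    exact (mem_normalizer_iff.1 h x).1 hx
  · exact ⟨g⁻¹ * x * g, (mem_normalizer_iff'.1 h (g⁻¹ * x)).2 (by simpa [mul_assoc] using hx),
      by simp [mul_assoc]⟩

theorem conj_one (H : Subgroup G) : H.map (MulAut.conj (1 : G)).toMonoidHom = H :=
  conj_mem (one_mem _)

theorem mem_normalizer_of_conj {g : G} {H : Subgroup G} (h : H.map (MulAut.conj g).toMonoidHom = H) :
    g ∈ normalizer (H : Set G) := by
  rw [mem_normalizer_iff]
  intro x
  constructor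
  · intro hx
    exact h.le ⟨x, hx, rfl⟩
  · intro hx
    obtain ⟨y, hy, hyx⟩ := h.ge hx
    have : y = x := (MulAut.conj g).injective (hyx.trans rfl)
    exact this ▸ hy

/-- Subgroups of order `p ^ a` normal in `Q` and outside `R`. -/
def outer (p a : ℕ) (Q R : Subgroup G) : Set (Subgroup G) :=
  {H | Nat.card H = p ^ a ∧ H ≤ Q ∧ Q ≤ normalizer (H : Set G) ∧ ¬ H ≤ R}

theorem dvd_outer {a n : ℕ} {Q R : Subgroup G} (hQ : Nat.card Q = p ^ n) (hR : R ≤ Q)
    (hRn : Q ≤ normalizer (R : Set G)) (ha : p ^ a ∣ Nat.card R) :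
    p ∣ Nat.card (outer p a Q R) := by
  haveI : Fintype (Subgroup G) := Fintype.ofFinite _
  have han : a ≤ n := (Nat.pow_dvd_pow_iff_le_right hp.out.one_lt).1
    (ha.trans (hQ ▸ card_dvd_of_le hR))
  -- all normal subgroups of `Q`
  have h1 := CfsgLib.Kulakoff.card_normal_modEq_one (G := Q) hp.out hQ han
  have e1 : Nat.card {K : Subgroup Q // K.Normal ∧ Nat.card K = p ^ a} =
      Nat.card {H : Subgroup G // Nat.card H = p ^ a ∧ H ≤ Q ∧ Q ≤ normalizer (H : Set G)} := by
    refine Nat.card_congr
      { toFun := fun K => ⟨K.1.map Q.subtype, by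
          rw [card_map_of_injective Q.subtype_injective, K.2.2], map_subtype_le _, fun g hg => by
            haveI := K.2.1
            refine mem_normalizer_of_conj ?_
            refine le_antisymm ?_ ?_
            · rintro _ ⟨_, ⟨k, hk, rfl⟩, rfl⟩
              exact ⟨⟨g, hg⟩ * k * ⟨g, hg⟩⁻¹, K.2.1.conj_mem k hk _, by simp⟩
            · rintro _ ⟨k, hk, rfl⟩
              exact ⟨((⟨g, hg⟩⁻¹ * k * ⟨g, hg⟩⁻¹⁻¹ : Q) : G),
                ⟨_, K.2.1.conj_mem k hk _, rfl⟩, by simp [mul_assoc]⟩⟩
        invFun := fun H => ⟨H.1.subgroupOf Q, normal_subgroupOf_of_le_normalizer H.2.2.2, by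
          rw [Nat.card_congr (subgroupOfEquivOfLe H.2.2.1).toEquiv, H.2.1]⟩
        left_inv := fun K => Subtype.ext (comap_map_eq_self_of_injective Q.subtype_injective _)
        right_inv := fun H => Subtype.ext (map_subgroupOf_eq_of_le H.2.2.1) }
  -- those inside `R`
  have h2 : Nat.card {H : Subgroup G // Nat.card H = p ^ a ∧ H ≤ R ∧ Q ≤ normalizer (H : Set G)} ≡
      1 [MOD p] := by
    let α := {H : Subgroup G // Nat.card H = p ^ a ∧ H ≤ R}
    letI : MulAction Q α :=
      { smul := fun g H => ⟨H.1.map (MulAut.conj (g : G)).toMonoidHom, by rw [card_conj, H.2.1],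
          (map_mono H.2.2).trans (conj_mem (hRn g.2)).le⟩
        one_smul := fun H => Subtype.ext (conj_one _)
        mul_smul := fun g h H => Subtype.ext (conj_conj (g : G) (h : G) H.1).symm }
    have hfix := (IsPGroup.of_card hQ).card_modEq_card_fixedPoints α
    have hall : Nat.card α ≡ 1 [MOD p] := by
      have h := CfsgLib.Kulakoff.card_modEq_one (G := R) hp.out ha
      have e : Nat.card {K : Subgroup R // Nat.card K = p ^ a} = Nat.card α := Nat.card_congr
        { toFun := fun K => ⟨K.1.map R.subtype, by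
            rw [card_map_of_injective R.subtype_injective, K.2], map_subtype_le _⟩
          invFun := fun H => ⟨H.1.subgroupOf R, by
            rw [Nat.card_congr (subgroupOfEquivOfLe H.2.2).toEquiv, H.2.1]⟩
          left_inv := fun K => Subtype.ext (comap_map_eq_self_of_injective R.subtype_injective _)
          right_inv := fun H => Subtype.ext (map_subgroupOf_eq_of_le H.2.2) }
      rwa [e] at h
    have e : Nat.card (MulAction.fixedPoints Q α) =
        Nat.card {H : Subgroup G // Nat.card H = p ^ a ∧ H ≤ R ∧ Q ≤ normalizer (H : Set G)} :=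
      Nat.card_congr
        { toFun := fun H => ⟨H.1.1, H.1.2.1, H.1.2.2, fun g hg =>
            mem_normalizer_of_conj (congrArg Subtype.val (H.2 ⟨g, hg⟩))⟩
          invFun := fun H => ⟨⟨H.1, H.2.1, H.2.2.1⟩, fun g => Subtype.ext (conj_mem (H.2.2.2 g.2))⟩
          left_inv := fun _ => rfl
          right_inv := fun _ => rfl }
    rw [e] at hfix
    exact hfix.symm.trans hall
  -- the difference
  have hsum : Nat.card {H : Subgroup G // Nat.card H = p ^ a ∧ H ≤ Q ∧ Q ≤ normalizer (H : Set G)} =
      Nat.card {H : Subgroup G // Nat.card H = p ^ a ∧ H ≤ R ∧ Q ≤ normalizer (H : Set G)} +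
        Nat.card (outer p a Q R) := by
    classical
    simp only [Nat.card_eq_fintype_card, Fintype.card_subtype, outer, Set.coe_setOf]
    rw [← Finset.card_filter_add_card_filter_not (s := Finset.univ.filter fun H : Subgroup G =>
      Nat.card H = p ^ a ∧ H ≤ Q ∧ Q ≤ normalizer (H : Set G)) (fun H => H ≤ R)]
    simp only [Finset.filter_filter, Nat.card_eq_fintype_card]
    congr 2 <;> ext H <;> simp only [Finset.mem_filter, Finset.mem_univ, true_and]
    · exact ⟨fun h => ⟨h.1.1, h.2, h.1.2.2⟩, fun h => ⟨⟨h.1, h.2.1.trans hR, h.2.2⟩, h.2.1⟩⟩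
    · tauto
  rw [← e1] at hsum
  have h3 : 1 + Nat.card (outer p a Q R) ≡ 1 + 0 [MOD p] := by
    rw [add_zero]
    exact ((h2.add_right _).symm.trans (by rw [← hsum])).trans h1
  exact (Nat.modEq_zero_iff_dvd).1 h3.add_left_cancel'

theorem count_modEq {a : ℕ} (hdvd : p ^ (a + 1) ∣ Nat.card G) (P : Sylow p G) :
    Nat.card {H : Subgroup G // Nat.card H = p ^ a} ≡
      Nat.card {K : Subgroup (P : Subgroup G) // Nat.card K = p ^ a} [MOD p ^ 2] := by
  classical
  haveI : Fintype (Subgroup G) := Fintype.ofFinite _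
  obtain ⟨n, hn⟩ := IsPGroup.iff_card.1 P.2
  have hcardQ : ∀ Q : Sylow p G, Nat.card Q = p ^ n := fun Q =>
    (Sylow.card_eq_multiplicity Q).trans ((Sylow.card_eq_multiplicity P).symm.trans hn)
  have han : a + 1 ≤ n := by
    refine (Nat.pow_dvd_pow_iff_le_right hp.out.one_lt).1 ?_
    rw [← hn, show Nat.card (P : Subgroup G) = p ^ (Nat.card G).factorization p from
      Sylow.card_eq_multiplicity P]
    exact pow_dvd_pow p ((hp.out.pow_dvd_iff_le_factorization Nat.card_pos.ne').1 hdvd)
  set Pu := (P : Subgroup G) with hPu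
  set X := Finset.univ.filter fun H : Subgroup G => Nat.card H = p ^ a with hX
  have hin : (X.filter fun H => H ≤ Pu).card =
      Nat.card {K : Subgroup Pu // Nat.card K = p ^ a} := by
    rw [hX, Finset.filter_filter, ← Fintype.card_subtype, ← Nat.card_eq_fintype_card]
    exact (Nat.card_congr
      { toFun := fun K => ⟨K.1.map Pu.subtype, by
          rw [card_map_of_injective Pu.subtype_injective, K.2], map_subtype_le _⟩
        invFun := fun H => ⟨H.1.subgroupOf Pu, by
          rw [Nat.card_congr (subgroupOfEquivOfLe H.2.2).toEquiv, H.2.1]⟩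
        left_inv := fun K => Subtype.ext (comap_map_eq_self_of_injective Pu.subtype_injective _)
        right_inv := fun H => Subtype.ext (map_subgroupOf_eq_of_le H.2.2) }).symm
  suffices hout : p ^ 2 ∣ (X.filter fun H => ¬ H ≤ Pu).card by
    rw [Nat.card_eq_fintype_card, Fintype.card_subtype, ← hX,
      ← Finset.card_filter_add_card_filter_not (s := X) (fun H => H ≤ Pu), hin]
    simpa using (Nat.modEq_zero_iff_dvd.2 hout).add_left
      (Nat.card {K : Subgroup Pu // Nat.card K = p ^ a})
  set stab := fun H : Subgroup G => Pu ⊓ normalizer (H : Set G) with hstab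
  rw [← Finset.card_filter_add_card_filter_not (s := X.filter fun H => ¬ H ≤ Pu)
    (fun H => (stab H).relIndex Pu = p)]
  refine Nat.dvd_add ?_ ?_
  · -- orbits of length `p`
    rw [Finset.card_eq_sum_card_image stab]
    refine Finset.dvd_sum fun R hR => ?_
    simp only [Finset.mem_image, Finset.mem_filter, hX, Finset.mem_univ, true_and] at hR
    obtain ⟨H₀, ⟨⟨-, -⟩, hidx⟩, rfl⟩ := hR
    set R := stab H₀ with hR
    have hRP : R ≤ Pu := inf_le_left
    have hRcard : Nat.card R * p = p ^ n := by
      rw [← hn, ← hidx, Subgroup.relIndex, ← Nat.card_congr (subgroupOfEquivOfLe hRP).toEquiv]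
      exact Subgroup.card_mul_index _
    have haR : p ^ a ∣ Nat.card R := by
      obtain ⟨k, rfl⟩ : ∃ k, n = k + 1 := ⟨n - 1, by omega⟩
      rw [Nat.eq_of_mul_eq_mul_right hp.out.pos (hRcard.trans (pow_succ p k))]
      exact pow_dvd_pow p (by omega)
    -- Sylow subgroups over `R`
    have hRnorm : ∀ Q : Sylow p G, R ≤ Q → (Q : Subgroup G) ≤ normalizer (R : Set G) := by
      intro Q hRQ
      have hi : (R.subgroupOf Q).index = p := by
        have h := Subgroup.card_mul_index (R.subgroupOf Q)
        rw [Nat.card_congr (subgroupOfEquivOfLe hRQ).toEquiv, hcardQ Q, ← hRcard] at h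
        exact Nat.eq_of_mul_eq_mul_left Nat.card_pos h
      have hnor : (R.subgroupOf (Q : Subgroup G)).Normal := by
        refine Subgroup.normal_of_index_eq_minFac_card ?_
        rw [hi, hcardQ Q, Nat.Prime.pow_minFac hp.out (by omega)]
      exact (normal_subgroupOf_iff_le_normalizer hRQ).1 hnor
    let T := {Q : Sylow p G // R ≤ (Q : Subgroup G)}
    haveI : Fintype T := Fintype.ofFinite _
    have hTne : ∀ Q : T, Q.1 ≠ P → Pu ⊓ (Q.1 : Subgroup G) = R := by
      intro Q hQP
      refine (eq_of_le_of_card_ge (le_inf hRP Q.2) ?_).symm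
      by_contra hlt
      rw [not_le] at hlt
      obtain ⟨k, hk⟩ := IsPGroup.iff_card.1 (P.2.to_le (inf_le_left : Pu ⊓ (Q.1 : Subgroup G) ≤ Pu))
      rw [hk] at hlt
      have hle : p ^ n ≤ p ^ k := by
        obtain ⟨m, rfl⟩ : ∃ m, n = m + 1 := ⟨n - 1, by omega⟩
        rw [Nat.eq_of_mul_eq_mul_right hp.out.pos (hRcard.trans (pow_succ p m))] at hlt
        exact Nat.pow_le_pow_right hp.out.pos ((Nat.pow_lt_pow_iff_right hp.out.one_lt).1 hlt)
      have e1 : Pu ⊓ (Q.1 : Subgroup G) = Pu :=
        eq_of_le_of_card_ge inf_le_left (by rw [hk, hn]; exact hle)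
      have e2 : Pu = (Q.1 : Subgroup G) := eq_of_le_of_card_ge (e1 ▸ inf_le_right)
        (by rw [hn, hcardQ Q.1])
      exact hQP (Sylow.ext e2.symm)
    -- the fibre over `R`
    have hfib : ((((X.filter fun H => ¬ H ≤ Pu).filter fun H => (stab H).relIndex Pu = p).filter
        fun H => stab H = R)) = (Finset.univ.filter fun Q : T => Q.1 ≠ P).biUnion
          (fun Q => Finset.univ.filter fun H => H ∈ outer p a (Q.1 : Subgroup G) R) := by
      ext H
      simp only [Finset.mem_filter, hX, Finset.mem_univ, true_and, Finset.mem_biUnion, outer,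
        Set.mem_setOf_eq]
      constructor
      · rintro ⟨⟨⟨hH, hHP⟩, -⟩, hHR⟩
        have hRH : R ≤ normalizer (H : Set G) := hHR ▸ inf_le_right
        have hsup : IsPGroup p ↥(H ⊔ R) :=
          IsPGroup.to_sup_of_normal_left' (IsPGroup.of_card hH) (P.2.to_le hRP) hRH
        obtain ⟨Q, hQ⟩ := hsup.exists_le_sylow
        have hQR : R ≤ (Q : Subgroup G) := le_sup_right.trans hQ
        have heq : H ⊔ R = (Q : Subgroup G) := by
          refine eq_of_le_of_card_ge hQ ?_
          obtain ⟨k, hk⟩ := IsPGroup.iff_card.1 hsup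
          have hlt : Nat.card R < Nat.card ↥(H ⊔ R) := lt_of_le_of_ne (card_le_of_le le_sup_right)
            fun e => hHP ((le_sup_left.trans (eq_of_le_of_card_ge le_sup_right e.ge).ge).trans hRP)
          obtain ⟨m, rfl⟩ : ∃ m, n = m + 1 := ⟨n - 1, by omega⟩
          rw [Nat.eq_of_mul_eq_mul_right hp.out.pos (hRcard.trans (pow_succ p m)), hk] at hlt
          rw [hk, hcardQ Q]
          exact Nat.pow_le_pow_right hp.out.pos ((Nat.pow_lt_pow_iff_right hp.out.one_lt).1 hlt)
        refine ⟨⟨Q, hQR⟩, ?_, hH, le_sup_left.trans hQ, ?_, fun h => hHP (h.trans hRP)⟩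
        · intro e
          exact hHP ((le_sup_left.trans hQ).trans (le_of_eq (congrArg _ e)))
        · show (Q : Subgroup G) ≤ _
          rw [← heq]
          exact sup_le le_normalizer hRH
      · rintro ⟨Q, hQP, hH, hHQ, hQH, hHR⟩
        have hHP : ¬ H ≤ Pu := fun h => hHR ((le_inf h hHQ).trans (hTne Q hQP).le)
        have hst : stab H = R := by
          refine (eq_of_le_of_card_ge (le_inf hRP (Q.2.trans hQH)) ?_).symm
          by_contra hlt
          rw [not_le] at hlt
          obtain ⟨k, hk⟩ := IsPGroup.iff_card.1 (P.2.to_le (inf_le_left : stab H ≤ Pu))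
          obtain ⟨m, rfl⟩ : ∃ m, n = m + 1 := ⟨n - 1, by omega⟩
          rw [Nat.eq_of_mul_eq_mul_right hp.out.pos (hRcard.trans (pow_succ p m)), hk] at hlt
          have e : stab H = Pu := eq_of_le_of_card_ge inf_le_left (by
            rw [hk, hn]
            exact Nat.pow_le_pow_right hp.out.pos ((Nat.pow_lt_pow_iff_right hp.out.one_lt).1 hlt))
          have hPn : Pu ≤ normalizer (H : Set G) := e ▸ inf_le_right
          have hsup : IsPGroup p ↥(H ⊔ Pu) :=
            IsPGroup.to_sup_of_normal_left' (IsPGroup.of_card hH) P.2 hPn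
          exact hHP (le_sup_left.trans (P.3 hsup le_sup_right).le)
        exact ⟨⟨⟨hH, hHP⟩, by rw [hst]; exact hidx⟩, hst⟩
    rw [hfib, Finset.card_biUnion]
    swap
    · intro Q hQ Q' hQ' hne
      simp only [Finset.coe_filter, Finset.mem_univ, true_and, Set.mem_setOf_eq] at hQ hQ'
      rw [Function.onFun, Finset.disjoint_left]
      intro H h1 h2
      simp only [Finset.mem_filter, Finset.mem_univ, true_and, outer, Set.mem_setOf_eq] at h1 h2
      refine hne (Subtype.ext (Sylow.ext ?_))
      have key : ∀ Q : T, Q.1 ≠ P → H ≤ (Q.1 : Subgroup G) → ¬ H ≤ R →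
          (Q.1 : Subgroup G) = H ⊔ R := by
        intro Q hQ hHQ hHR
        refine (eq_of_le_of_card_ge (sup_le hHQ Q.2) ?_).symm
        obtain ⟨k, hk⟩ := IsPGroup.iff_card.1 (Q.1.2.to_le (sup_le hHQ Q.2))
        have hlt : Nat.card R < Nat.card ↥(H ⊔ R) := lt_of_le_of_ne (card_le_of_le le_sup_right)
          fun e => hHR (le_sup_left.trans (eq_of_le_of_card_ge le_sup_right e.ge).ge)
        obtain ⟨m, rfl⟩ : ∃ m, n = m + 1 := ⟨n - 1, by omega⟩
        rw [Nat.eq_of_mul_eq_mul_right hp.out.pos (hRcard.trans (pow_succ p m)), hk] at hlt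
        rw [hk, hcardQ Q.1]
        exact Nat.pow_le_pow_right hp.out.pos ((Nat.pow_lt_pow_iff_right hp.out.one_lt).1 hlt)
      rw [key Q hQ h1.2.1 h1.2.2.2, key Q' hQ' h2.2.1 h2.2.2.2]
    -- all summands agree
    have hconst : ∀ Q : T, Nat.card (outer p a (Q.1 : Subgroup G) R) =
        Nat.card (outer p a Pu R) := by
      intro Q
      obtain ⟨g, hg⟩ := MulAction.exists_smul_eq (normalizer (R : Set G))
        (P.subtype (hRnorm P hRP)) (Q.1.subtype (hRnorm Q.1 Q.2))
      rw [Sylow.smul_subtype] at hg
      have hQ : (Q.1 : Subgroup G) = Pu.map (MulAut.conj (g : G)).toMonoidHom := by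
        rw [← Sylow.subtype_injective hg]
        rfl
      have hR' : R.map (MulAut.conj (g : G)).toMonoidHom = R := conj_mem g.2
      have hmem : ∀ (x : G) (A : Subgroup G), R.map (MulAut.conj x).toMonoidHom = R →
          ∀ H, H ∈ outer p a A R →
            H.map (MulAut.conj x).toMonoidHom ∈ outer p a (A.map (MulAut.conj x).toMonoidHom) R := by
        rintro x A hxR H ⟨hH, hHA, hAH, hHR⟩
        refine ⟨by rw [card_conj, hH], map_mono hHA, ?_, fun h => hHR ?_⟩
        · exact (map_mono hAH).trans (le_normalizer_map _)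
        · rw [← hxR] at h
          exact (map_le_map_iff_of_injective (MulAut.conj x).injective).1 h
      have hinv : ∀ A : Subgroup G, (A.map (MulAut.conj (g : G)).toMonoidHom).map
          (MulAut.conj (g : G)⁻¹).toMonoidHom = A := fun A => by
        rw [conj_conj, inv_mul_cancel, conj_one]
      have hinv' : ∀ A : Subgroup G, (A.map (MulAut.conj (g : G)⁻¹).toMonoidHom).map
          (MulAut.conj (g : G)).toMonoidHom = A := fun A => by
        rw [conj_conj, mul_inv_cancel, conj_one]
      rw [hQ]
      refine Nat.card_congr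
        { toFun := fun H => ⟨H.1.map (MulAut.conj (g : G)⁻¹).toMonoidHom, ?_⟩
          invFun := fun H => ⟨H.1.map (MulAut.conj (g : G)).toMonoidHom, hmem _ _ hR' _ H.2⟩
          left_inv := fun H => Subtype.ext (hinv' _)
          right_inv := fun H => Subtype.ext (hinv _) }
      have := hmem (g : G)⁻¹ _ (conj_mem (inv_mem g.2)) _ H.2
      rwa [hinv] at this
    have hTcard : p ∣ (Finset.univ.filter fun Q : T => Q.1 ≠ P).card := by
      letI : MulAction Pu T :=
        { smul := fun g Q => ⟨(g : G) • Q.1, by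
            show R ≤ (Q.1 : Subgroup G).map (MulAut.conj (g : G)).toMonoidHom
            exact (conj_mem (hRnorm P hRP g.2)).ge.trans (map_mono Q.2)⟩
          one_smul := fun Q => Subtype.ext (one_smul G Q.1)
          mul_smul := fun g h Q => Subtype.ext (mul_smul (g : G) (h : G) Q.1) }
      have hfix := P.2.card_modEq_card_fixedPoints T
      have e : Nat.card (MulAction.fixedPoints Pu T) = 1 := by
        refine Nat.card_eq_one_iff_unique.2 ⟨⟨?_⟩, ⟨⟨⟨P, hRP⟩, fun g => Subtype.ext ?_⟩⟩⟩
        · have huniq : ∀ Q : MulAction.fixedPoints Pu T, Q.1.1 = P := by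
            intro Q
            have hPn : Pu ≤ normalizer ((Q.1.1 : Subgroup G) : Set G) := fun g hg =>
              mem_normalizer_of_conj (congrArg (fun S : T => (S.1 : Subgroup G)) (Q.2 ⟨g, hg⟩))
            have hsup : IsPGroup p ↥((Q.1.1 : Subgroup G) ⊔ Pu) :=
              IsPGroup.to_sup_of_normal_left' Q.1.1.2 P.2 hPn
            exact Sylow.ext ((Q.1.1.3 hsup le_sup_left).symm.trans (P.3 hsup le_sup_right))
          exact fun Q Q' => Subtype.ext (Subtype.ext ((huniq Q).trans (huniq Q').symm))
        · exact Sylow.ext (conj_mem (le_normalizer g.2))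
      rw [e] at hfix
      have hsplit : (Finset.univ.filter fun Q : T => Q.1 ≠ P).card + 1 = Nat.card T := by
        rw [Nat.card_eq_fintype_card, ← Finset.card_univ,
          ← Finset.card_filter_add_card_filter_not (s := Finset.univ) (fun Q : T => Q.1 ≠ P)]
        congr 1
        symm
        rw [Finset.card_eq_one]
        exact ⟨⟨P, hRP⟩, by
          ext Q
          simp only [Finset.mem_filter, Finset.mem_univ, true_and, not_not, Finset.mem_singleton]
          exact ⟨fun h => Subtype.ext h, fun h => congrArg Subtype.val h⟩⟩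
      rw [← hsplit] at hfix
      exact Nat.modEq_zero_iff_dvd.1 (Nat.ModEq.add_right_cancel' 1 (by simpa using hfix))
    have e : ∀ Q : T, (Finset.univ.filter fun H => H ∈ outer p a (Q.1 : Subgroup G) R).card =
        Nat.card (outer p a Pu R) := fun Q => by
      rw [← hconst Q, ← Fintype.card_subtype, ← Nat.card_eq_fintype_card]
    rw [Finset.sum_congr rfl (fun Q _ => e Q), Finset.sum_const, smul_eq_mul, sq]
    exact mul_dvd_mul hTcard (dvd_outer hn hRP (hRnorm P hRP) haR)
  · -- longer orbits
    letI : MulAction Pu (Subgroup G) :=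
      { smul := fun g H => H.map (MulAut.conj (g : G)).toMonoidHom
        one_smul := fun H => conj_one H
        mul_smul := fun g h H => (conj_conj (g : G) (h : G) H).symm }
    set Z := ((X.filter fun H => ¬ H ≤ Pu).filter fun H => ¬ (stab H).relIndex Pu = p) with hZ
    rw [Finset.card_eq_sum_card_image (fun H => MulAction.orbit Pu H)]
    refine Finset.dvd_sum fun O hO => ?_
    simp only [Finset.mem_image] at hO
    obtain ⟨H, hH, rfl⟩ := hO
    simp only [hZ, hX, Finset.mem_filter, Finset.mem_univ, true_and] at hH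
    obtain ⟨⟨hHa, hHP⟩, hHi⟩ := hH
    have hst : MulAction.stabilizer Pu H = (stab H).subgroupOf Pu := by
      ext g
      rw [MulAction.mem_stabilizer_iff, mem_subgroupOf]
      exact ⟨fun h => ⟨g.2, mem_normalizer_of_conj h⟩, fun h => conj_mem h.2⟩
    have horb : Nat.card (MulAction.orbit Pu H) = (stab H).relIndex Pu := by
      rw [Nat.card_coe_set_eq, ← MulAction.index_stabilizer, hst]
      rfl
    have hset : Z.filter (fun u => MulAction.orbit Pu u = MulAction.orbit Pu H) =
        Finset.univ.filter fun u => u ∈ MulAction.orbit Pu H := by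
      ext u
      simp only [hZ, hX, Finset.mem_filter, Finset.mem_univ, true_and, MulAction.orbit_eq_iff,
        and_iff_right_iff_imp]
      intro hu
      obtain ⟨g, rfl⟩ := hu
      have hgP : Pu.map (MulAut.conj (g : G)).toMonoidHom = Pu := conj_mem (le_normalizer g.2)
      refine ⟨⟨(card_conj _ _).trans hHa, fun h => hHP ?_⟩, ?_⟩
      · exact (map_le_map_iff_of_injective (MulAut.conj (g : G)).injective).1 (le_trans h hgP.ge)
      · have horb' : Nat.card (MulAction.orbit Pu (g • H)) = (stab (g • H)).relIndex Pu := by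
          have hst' : MulAction.stabilizer Pu (g • H) = (stab (g • H)).subgroupOf Pu := by
            ext x
            rw [MulAction.mem_stabilizer_iff, mem_subgroupOf]
            exact ⟨fun h => ⟨x.2, mem_normalizer_of_conj h⟩, fun h => conj_mem h.2⟩
          rw [Nat.card_coe_set_eq, ← MulAction.index_stabilizer, hst']
          rfl
        rw [MulAction.orbit_smul, horb] at horb'
        rwa [← horb']
    rw [hset, ← Fintype.card_subtype, ← Nat.card_eq_fintype_card]
    show p ^ 2 ∣ Nat.card (MulAction.orbit Pu H)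
    obtain ⟨i, hi⟩ := IsPGroup.card_orbit P.2 H
    rw [hi]
    refine pow_dvd_pow p ?_
    by_contra hlt
    rcases Nat.lt_or_ge i 1 with h0 | h1
    · obtain rfl : i = 0 := by omega
      rw [horb, pow_zero, relIndex_eq_one] at hi
      have hPn : Pu ≤ normalizer (H : Set G) := hi.trans inf_le_right
      have hsup : IsPGroup p ↥(H ⊔ Pu) :=
        IsPGroup.to_sup_of_normal_left' (IsPGroup.of_card hHa) P.2 hPn
      exact hHP (le_sup_left.trans (P.3 hsup le_sup_right).le)
    · obtain rfl : i = 1 := by omega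
      rw [horb, pow_one] at hi
      exact hHi hi

end CfsgLib.HallReduction
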