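import Cfsg.Prelude.Def_BaumannBlocks
import Cfsg.Agent.Transfer.WielandtYoshidaApps
import Cfsg.Agent.Transfer.Tate
import Cfsg.Agent.Solvable.NormalizerComplement

/-!
The theorem of Hall and Wielandt on control of the `p`-factor group.
-/

set_option autoImplicit false
set_option linter.style.haveILetI false
set_option linter.unusedSectionVars false

namespace CfsgLib.HallWielandt

open Subgroup
open scoped commutatorElement

variable {G : Type*} [Group G] [Finite G] {p : ℕ} [hp : Fact p.Prime]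

theorem pResidualOf_normalizer_eq (S : Sylow p G) (W : Subgroup G)
    (hW : Cfsg.IsWeaklyClosed W (S : Subgroup G))
    (h : ∀ u ∈ (S : Subgroup G), ∀ z ∈ W, (fun y : G => y⁻¹ * z⁻¹ * y * z)^[p - 1] u = 1) :
    Cfsg.pResidualOf p (normalizer (W : Set G)) = Cfsg.pResidual p G ⊓ normalizer (W : Set G) := by
  set N := normalizer (W : Set G) with hN
  have hSN : (S : Subgroup G) ≤ N := by
    intro s hs
    refine CfsgLib.WY.mem_normalizer_of_map_eq (hW.2 s ?_)
    rintro _ ⟨y, hy, rfl⟩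
    exact mul_mem (mul_mem hs (hW.1 hy)) (inv_mem hs)
  have hfoc : (S : Subgroup G) ⊓ commutator G = (S : Subgroup G) ⊓ ⁅N, N⁆ := by
    by_contra hne
    obtain ⟨x, hx, z, hz, W₀, -, -, hnot⟩ := CfsgLib.WY.exists_commutator S W hW hne
    apply hnot
    rw [h x hx z hz]
    exact one_mem _
  have htate : (S : Subgroup G) ⊓ Cfsg.pResidual p G ≤ (Cfsg.pResidual p N).map N.subtype := by
    refine CfsgLib.Tate.inf_pResidual_le S N hSN ?_
    exact (le_inf inf_le_left (CfsgLib.NormalizerComplement.inf_pResidual_le_commutator S)).trans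
      (hfoc.le.trans inf_le_right)
  refine le_antisymm (le_inf (CfsgLib.PResidual.map_pResidual_le N.subtype) (map_subtype_le _)) ?_
  rintro x ⟨hxK, hxN⟩
  obtain ⟨s, hs⟩ := (CfsgLib.Tate.map_sylow_eq_top (S.subtype hSN)).ge
    (mem_top (QuotientGroup.mk' (Cfsg.pResidual p N) ⟨x, hxN⟩))
  obtain ⟨⟨s, hsN⟩, hsS⟩ := s
  have hr : (⟨s, hsN⟩ : N)⁻¹ * ⟨x, hxN⟩ ∈ Cfsg.pResidual p N := QuotientGroup.eq.1 hs
  have hsS' : s ∈ (S : Subgroup G) := hsS
  have h1 : s⁻¹ * x ∈ (Cfsg.pResidual p N).map N.subtype := ⟨_, hr, rfl⟩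
  have h2 : s ∈ Cfsg.pResidual p G := by
    have h3 := CfsgLib.PResidual.map_pResidual_le N.subtype h1
    have := Subgroup.mul_mem _ hxK (Subgroup.inv_mem _ h3)
    simpa using this
  have := Subgroup.mul_mem _ (htate ⟨hsS', h2⟩) h1
  simpa [Cfsg.pResidualOf] using this

theorem iterate_eq_one_of_class (S : Subgroup G) {n : ℕ} (hcl : S.lowerCentralSeries n = ⊥)
    {u z : G} (hu : u ∈ S) (hz : z ∈ S) : (fun y : G => y⁻¹ * z⁻¹ * y * z)^[n] u = 1 := by
  have key : ∀ k, (fun y : G => y⁻¹ * z⁻¹ * y * z)^[k] u ∈ S.lowerCentralSeries k := by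
    intro k
    induction k with
    | zero => exact hu
    | succ k ih =>
      rw [Function.iterate_succ_apply']
      generalize (fun y : G => y⁻¹ * z⁻¹ * y * z)^[k] u = y at ih ⊢
      rw [Subgroup.lowerCentralSeries_succ]
      have : y⁻¹ * z⁻¹ * y * z = ⁅y⁻¹, z⁻¹⁆ := by simp [commutatorElement_def]
      show y⁻¹ * z⁻¹ * y * z ∈ _
      rw [this]
      exact commutator_mem_commutator (inv_mem ih) (inv_mem hz)
  have := key n
  rw [hcl] at this
  exact mem_bot.1 this

end CfsgLib.HallWielandt
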