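import Cfsg.Prelude.Def_Transfer
import Cfsg.Agent.FGSA.Nilpotent
import Mathlib.GroupTheory.SpecificGroups.Quaternion
import Mathlib.Data.Nat.Choose.Basic
import Mathlib.Tactic.Group

/-!
The structure of finite Hamiltonian groups.
-/

set_option autoImplicit false
set_option linter.style.haveILetI false
set_option linter.unusedSectionVars false

namespace CfsgLib.Hamiltonian

open Subgroup

variable {G : Type*} [Group G] [Finite G]

theorem mul_pow_of_twist {y v d : G} (hyd : Commute y d) (hvd : Commute v d) (hvy : v * y = d * (y * v))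
    (n : ℕ) : (y * v) ^ n = y ^ n * v ^ n * d ^ n.choose 2 := by
  have hpow : ∀ m : ℕ, v ^ m * y = d ^ m * (y * v ^ m) := by
    intro m
    induction m with
    | zero => simp
    | succ m ih =>
      rw [pow_succ', mul_assoc, ih, ← mul_assoc, (hvd.pow_right m).eq, mul_assoc, ← mul_assoc v, hvy,
        pow_succ d m]
      simp only [mul_assoc]
  induction n with
  | zero => simp
  | succ n ih =>
    have hc : Commute (y * v) (d ^ n.choose 2) := (hyd.mul_left hvd).pow_right _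
    have hD : Commute y (d ^ n) := hyd.pow_right _
    have hV : Commute (v ^ n * v) (d ^ n) := ((hvd.pow_left n).mul_left hvd).pow_right _
    rw [pow_succ (y * v), ih, mul_assoc, ← hc.eq, ← mul_assoc, mul_assoc (y ^ n), ← mul_assoc (v ^ n), hpow,
      show n + 1 = n.succ from rfl, Nat.choose_succ_succ, Nat.choose_one_right, pow_add]
    calc y ^ n * (d ^ n * (y * v ^ n) * v) * d ^ n.choose 2
        = y ^ n * (d ^ n * y) * (v ^ n * v) * d ^ n.choose 2 := by simp only [mul_assoc]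
      _ = y ^ n * (y * d ^ n) * (v ^ n * v) * d ^ n.choose 2 := by rw [hD.eq]
      _ = y ^ n * y * (d ^ n * (v ^ n * v)) * d ^ n.choose 2 := by simp only [mul_assoc]
      _ = y ^ n * y * ((v ^ n * v) * d ^ n) * d ^ n.choose 2 := by rw [hV.eq]
      _ = _ := by rw [← pow_succ, ← pow_succ]; simp only [mul_assoc]

variable (hall : ∀ H : Subgroup G, H.Normal)
include hall

theorem commutator_mem (x y : G) :
    y * x * y⁻¹ * x⁻¹ ∈ zpowers x ∧ y * x * y⁻¹ * x⁻¹ ∈ zpowers y := by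
  refine ⟨mul_mem ((hall _).conj_mem x (mem_zpowers x) y) (inv_mem (mem_zpowers x)), ?_⟩
  have : y * x * y⁻¹ * x⁻¹ = y * (x * y⁻¹ * x⁻¹) := by group
  rw [this]
  exact mul_mem (mem_zpowers y) ((hall _).conj_mem _ (inv_mem (mem_zpowers y)) x)

theorem commute_of_coprime {x y : G} (h : (orderOf x).Coprime (orderOf y)) : Commute x y := by
  obtain ⟨h1, h2⟩ := commutator_mem hall y x
  have hbot : Nat.card (zpowers (x * y * x⁻¹ * y⁻¹)) = 1 := by
    refine Nat.eq_one_of_dvd_coprimes h ?_ ?_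
    · rw [← Nat.card_zpowers x]; exact card_dvd_of_le (zpowers_le.2 h2)
    · rw [← Nat.card_zpowers y]; exact card_dvd_of_le (zpowers_le.2 h1)
  rw [Nat.card_zpowers, orderOf_eq_one_iff, mul_inv_eq_one, mul_inv_eq_iff_eq_mul] at hbot
  exact hbot

/-- Noncommuting elements of prime power order force `p = 2` and a quaternion pair. -/
theorem quaternion_pair_aux {p : ℕ} [hp : Fact p.Prime] : ∀ (n : ℕ) (x y : G) (a b : ℕ),
    orderOf x = p ^ a → orderOf y = p ^ b → a + b = n → ¬ Commute x y →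
    p = 2 ∧ ∃ x y : G, orderOf x = 4 ∧ orderOf y = 4 ∧ x ^ 2 = y ^ 2 ∧ y * x * y⁻¹ = x⁻¹ ∧ ¬ Commute x y := by
  intro n
  induction n using Nat.strong_induction_on with
  | _ n ih =>
  intro x y a b hx hy hn hne
  wlog hba : b ≤ a generalizing x y a b
  · exact this y x b a hy hx (by omega) (fun h => hne h.symm) (by omega)
  have hp' := hp.out
  have ha0 : a ≠ 0 := by
    rintro rfl
    rw [pow_zero, orderOf_eq_one_iff] at hx
    exact hne (hx ▸ Commute.one_left y)
  have hb0 : b ≠ 0 := by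
    rintro rfl
    rw [pow_zero, orderOf_eq_one_iff] at hy
    exact hne (hy ▸ Commute.one_right x)
  by_cases hxp : Commute (x ^ p) y
  swap
  · refine ih (a - 1 + b) (by omega) (x ^ p) y (a - 1) b ?_ hy rfl hxp
    rw [orderOf_pow' _ hp'.ne_zero, hx, Nat.gcd_eq_right (dvd_pow_self p ha0), Nat.pow_div (Nat.one_le_iff_ne_zero.2 ha0) hp'.pos |>.symm, pow_one]
  by_cases hyp : Commute x (y ^ p)
  swap
  · refine ih (a + (b - 1)) (by omega) x (y ^ p) a (b - 1) hx ?_ rfl hyp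
    rw [orderOf_pow' _ hp'.ne_zero, hy, Nat.gcd_eq_right (dvd_pow_self p hb0), Nat.pow_div (Nat.one_le_iff_ne_zero.2 hb0) hp'.pos |>.symm, pow_one]
  obtain ⟨hcx, hcy⟩ := commutator_mem hall x y
  set c := y * x * y⁻¹ * x⁻¹ with hc
  have hcomm_x : Commute c x := by
    obtain ⟨i, hi⟩ := mem_zpowers_iff.1 hcx; rw [← hi]; exact (Commute.refl x).zpow_left i
  have hcomm_y : Commute c y := by
    obtain ⟨i, hi⟩ := mem_zpowers_iff.1 hcy; rw [← hi]; exact (Commute.refl y).zpow_left i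
  have hyx : y * x * y⁻¹ = c * x := by rw [hc]; group
  have hc1 : c ≠ 1 := fun h => hne (by
    rw [h, one_mul, mul_inv_eq_iff_eq_mul] at hyx; exact hyx.symm)
  have hcpow : ∀ i : ℕ, y * x ^ i * y⁻¹ = c ^ i * x ^ i := fun i => by
    rw [← conj_pow, hyx, hcomm_x.mul_pow]
  have hcp : c ^ p = 1 := by
    have h := hcpow p
    rw [← hxp.eq, mul_inv_cancel_right] at h
    exact mul_eq_right.1 h.symm
  have hgen : ∀ (z : G) (e : ℕ), orderOf z = p ^ e → e ≠ 0 → c ∈ zpowers z →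
      ∃ i, ¬ p ∣ i ∧ c = z ^ (p ^ (e - 1) * i) := by
    intro z e hz he hcz
    classical
    obtain ⟨m, rfl⟩ := Nat.exists_eq_succ_of_ne_zero he
    obtain ⟨k, -, hk⟩ := (isOfFinOrder_of_finite z).mem_zpowers_iff_mem_range_orderOf.1 hcz |> fun h => by
      simpa using h
    have h1 : p ^ (m + 1) ∣ k * p := hz ▸ orderOf_dvd_of_pow_eq_one (by rw [pow_mul, hk, hcp])
    rw [pow_succ] at h1
    obtain ⟨i, rfl⟩ := Nat.dvd_of_mul_dvd_mul_right hp'.pos h1
    refine ⟨i, fun hd => hc1 ?_, hk.symm⟩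
    obtain ⟨q, rfl⟩ := hd
    rw [← hk, show p ^ m * (p * q) = orderOf z * q by rw [hz, pow_succ]; ring, pow_mul, pow_orderOf_eq_one, one_pow]
  obtain ⟨i, hi, hix⟩ := hgen x a hx ha0 hcx
  obtain ⟨j, hj, hjy⟩ := hgen y b hy hb0 hcy
  by_cases hb1 : b = 1
  · exfalso
    subst hb1
    rw [show (1 : ℕ) - 1 = 0 from rfl, pow_zero, one_mul] at hjy
    rw [pow_one] at hy
    obtain ⟨l, -, hl⟩ := Nat.exists_mul_mod_eq_one_of_coprime ((hp'.coprime_iff_not_dvd.2 hj).symm) hp'.one_lt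
    have hyc : y = c ^ l := by
      rw [hjy, ← pow_mul, ← pow_mod_orderOf, hy, hl, pow_one]
    exact hne (hyc ▸ (hcomm_x.pow_left l).symm)
  obtain ⟨b', rfl⟩ : ∃ b', b = b' + 2 := ⟨b - 2, by omega⟩
  obtain ⟨l, -, hl⟩ := Nat.exists_mul_mod_eq_one_of_coprime ((hp'.coprime_iff_not_dvd.2 hj).symm) hp'.one_lt
  have hyl : y ^ p ^ (b' + 1) = c ^ l := by
    rw [hjy, show b' + 2 - 1 = b' + 1 from rfl, ← pow_mul, mul_assoc, pow_mul y (p ^ (b' + 1)) (j * l)]
    have : orderOf (y ^ p ^ (b' + 1)) ∣ p := orderOf_dvd_of_pow_eq_one (by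
      rw [← pow_mul, ← pow_succ, show b' + 1 + 1 = b' + 2 from rfl, ← hy, pow_orderOf_eq_one])
    conv_rhs => rw [← pow_mod_orderOf, ← Nat.mod_mod_of_dvd (j * l) this, hl, pow_mod_orderOf, pow_one]
  have hxu : (x ^ (p ^ (a - (b' + 2)) * (i * l))) ^ p ^ (b' + 1) = c ^ l := by
    rw [hix, ← pow_mul, ← pow_mul]
    congr 1
    rw [show a - 1 = a - (b' + 2) + (b' + 1) by omega, pow_add]
    ring
  set u := x ^ (p ^ (a - (b' + 2)) * (i * l)) with hu
  set e := p ^ (a - (b' + 2)) * (i * l) with he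
  by_cases hgood : p ∣ e ∨ p ∣ (p ^ (b' + 1)).choose 2
  · have hcu : Commute c u := hcomm_x.pow_right e
    have hyu : y * u * y⁻¹ = c ^ e * u := hcpow e
    have huy : u * y = (c ^ e)⁻¹ * (y * u) := by
      rw [eq_inv_mul_iff_mul_eq, ← mul_assoc]; rw [← hyu]; group
    have hvy : u⁻¹ * y = c ^ e * (y * u⁻¹) := by
      rw [inv_mul_eq_iff_eq_mul]
      calc y = c ^ e * ((c ^ e)⁻¹ * (y * u)) * u⁻¹ := by group
        _ = c ^ e * (u * y) * u⁻¹ := by rw [huy]
        _ = c ^ e * u * (y * u⁻¹) := by simp only [mul_assoc]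
        _ = u * c ^ e * (y * u⁻¹) := by rw [(hcu.pow_left e).eq]
        _ = u * (c ^ e * (y * u⁻¹)) := mul_assoc _ _ _
    have hpow := mul_pow_of_twist (y := y) (v := u⁻¹) (d := c ^ e) ((hcomm_y.symm).pow_right e)
      ((hcu.pow_left e).symm.inv_left) hvy (p ^ (b' + 1))
    rw [inv_pow, hxu, hyl, mul_inv_cancel, one_mul] at hpow
    have hd : (c ^ e) ^ (p ^ (b' + 1)).choose 2 = 1 := by
      rcases hgood with ⟨q, hq⟩ | ⟨q, hq⟩
      · rw [hq, pow_mul, hcp, one_pow, one_pow]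
      · rw [hq, ← pow_mul, mul_left_comm, pow_mul, hcp, one_pow]
    rw [hd] at hpow
    obtain ⟨k, hk, hord⟩ := (Nat.dvd_prime_pow hp').1 (orderOf_dvd_of_pow_eq_one hpow)
    refine ih (a + k) (by omega) x (y * u⁻¹) a k hx hord rfl fun h => hne ?_
    have h' := h.mul_right ((Commute.refl x).pow_right e)
    rwa [inv_mul_cancel_right] at h'
  push Not at hgood
  obtain ⟨hge, hgc⟩ := hgood
  have hab : a = b' + 2 := by
    by_contra hab
    exact hge (Dvd.dvd.mul_right (dvd_pow_self p (by omega)) _)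
  have hp2 : p = 2 ∧ b' = 0 := by
    have hch : (p ^ (b' + 1)).choose 2 = p ^ (b' + 1) * (p ^ (b' + 1) - 1) / 2 := Nat.choose_two_right _
    by_contra hcon
    refine hgc ?_
    rcases hp'.eq_two_or_odd' with rfl | hodd
    · have hb' : b' ≠ 0 := fun h => hcon ⟨rfl, h⟩
      rw [hch, pow_succ, mul_comm (2 ^ b') 2, mul_assoc, Nat.mul_div_cancel_left _ two_pos]
      exact Dvd.dvd.mul_right (dvd_pow_self 2 hb') _
    · have h2 : 2 ∣ p ^ (b' + 1) - 1 := by
        obtain ⟨q, hq⟩ := hodd.pow (n := b' + 1)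
        exact ⟨q, by omega⟩
      rw [hch, Nat.mul_div_assoc _ h2]
      exact Dvd.dvd.mul_right (dvd_pow_self p (by omega)) _
  obtain ⟨rfl, rfl⟩ := hp2
  subst hab
  have hc2 : ∀ m : ℕ, ¬ 2 ∣ m → ∀ z : G, orderOf z = 2 ^ 2 → z ^ (2 ^ (2 - 1) * m) = z ^ 2 := by
    intro m hm z hz
    rw [← pow_mod_orderOf, hz]
    congr 1
    norm_num
    omega
  have e1 : c = x ^ 2 := hix.trans (hc2 i hi x hx)
  have e2 : c = y ^ 2 := hjy.trans (hc2 j hj y hy)
  refine ⟨rfl, x, y, hx, hy, e1.symm.trans e2, ?_, hne⟩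
  rw [hyx, e1, ← mul_eq_one_iff_eq_inv, mul_assoc, ← sq, ← pow_add]
  rw [← pow_orderOf_eq_one x, hx]
  norm_num

theorem exists_quaternion_pair (hna : ¬ IsMulCommutative G) :
    ∃ x y : G, orderOf x = 4 ∧ orderOf y = 4 ∧ x ^ 2 = y ^ 2 ∧ y * x * y⁻¹ = x⁻¹ ∧ ¬ Commute x y := by
  obtain ⟨p, hp, q, hq, x, y, ⟨a, hx⟩, ⟨b, hy⟩, hne⟩ : ∃ (p : ℕ) (_ : p.Prime) (q : ℕ) (_ : q.Prime)
      (x y : G), (∃ a, orderOf x = p ^ a) ∧ (∃ b, orderOf y = q ^ b) ∧ ¬ Commute x y := by
    by_contra hcon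
    push Not at hcon
    refine hna ⟨⟨fun u v => ?_⟩⟩
    have h1 : (⊤ : Subgroup G) ≤ center G := CfsgLib.FGSA.le_of_prime_power_mem fun r hr u _ hu => by
      rw [mem_center_iff]
      intro v
      have h2 : (⊤ : Subgroup G) ≤ centralizer {u} := CfsgLib.FGSA.le_of_prime_power_mem fun s hs w _ hw =>
        mem_centralizer_singleton_iff.2 (hcon s hs r hr w u hw hu).eq
      exact (mem_centralizer_singleton_iff.1 (h2 (mem_top v)))
    exact (mem_center_iff.1 (h1 (mem_top u)) v).symm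
  by_cases hpq : p = q
  · subst hpq
    haveI := Fact.mk hp
    exact (quaternion_pair_aux hall _ x y a b hx hy rfl hne).2
  · exact absurd (commute_of_coprime hall (by
      rw [hx, hy]; exact ((Nat.coprime_primes hp hq).2 hpq).pow a b)) hne

theorem commute_of_odd {x y : G} (hx : Odd (orderOf x)) (hy : Odd (orderOf y)) : Commute x y := by
  have key : ∀ (r : ℕ), r.Prime → ∀ (s : ℕ), s.Prime → ∀ u v : G, (∃ a, orderOf u = r ^ a) → (∃ b, orderOf v = s ^ b) →
      Odd (orderOf u) → Commute u v := by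
    rintro r hr s hs u v ⟨a, hu⟩ ⟨b, hv⟩ hodd
    by_cases hrs : r = s
    · subst hrs
      haveI := Fact.mk hr
      by_contra hne
      obtain ⟨rfl, -⟩ := quaternion_pair_aux hall _ u v a b hu hv rfl hne
      rw [hu] at hodd
      have ha : a = 0 := by
        by_contra ha
        exact Nat.not_even_iff_odd.2 hodd ((Nat.even_pow).2 ⟨even_two, ha⟩)
      rw [ha, pow_zero, orderOf_eq_one_iff] at hu
      exact hne (hu ▸ Commute.one_left v)
    · exact commute_of_coprime hall (by rw [hu, hv]; exact ((Nat.coprime_primes hr hs).2 hrs).pow a b)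
  have h1 : zpowers x ≤ centralizer {y} := CfsgLib.FGSA.le_of_prime_power_mem fun r hr u hu hur => by
    have hou : Odd (orderOf u) := hx.of_dvd_nat (Nat.card_zpowers x ▸ orderOf_dvd_natCard _ hu)
    have h2 : zpowers y ≤ centralizer {u} := CfsgLib.FGSA.le_of_prime_power_mem fun s hs w hw hws =>
      mem_centralizer_singleton_iff.2 (key r hr s hs u w hur hws hou).eq.symm
    exact mem_centralizer_singleton_iff.2 (mem_centralizer_singleton_iff.1 (h2 (mem_zpowers y))).symm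
  exact mem_centralizer_singleton_iff.1 (h1 (mem_zpowers x))

theorem structure_thm (hna : ¬ IsMulCommutative G) : ∃ Q E A : Subgroup G, Nonempty (Q ≃* QuaternionGroup 2) ∧
    Cfsg.IsElementaryAbelian 2 E ∧ IsMulCommutative A ∧ Odd (Nat.card A) ∧ E ⊓ A = ⊥ ∧ Q ⊓ (E ⊔ A) = ⊥ ∧
    Q ⊔ (E ⊔ A) = ⊤ := by
  classical
  obtain ⟨x, y, hx, hy, hxy, hconj, hne⟩ := exists_quaternion_pair hall hna
  -- the quaternion subgroup
  have hx4 : x ^ 4 = 1 := hx ▸ pow_orderOf_eq_one x
  have hadd : ∀ i j : ZMod (2 * 2), x ^ (i + j).val = x ^ i.val * x ^ j.val := fun i j => by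
    rw [← pow_add, ZMod.val_add]; exact (pow_eq_pow_mod _ hx4).symm
  have h0 : x ^ (0 : ZMod (2 * 2)).val = 1 := by simp
  have hneg : ∀ i : ZMod (2 * 2), x ^ (-i).val = (x ^ i.val)⁻¹ := fun i =>
    eq_inv_of_mul_eq_one_left (by rw [← hadd, neg_add_cancel, h0])
  have hswap : ∀ i : ZMod (2 * 2), x ^ i.val * y = y * x ^ (-i).val := fun i => by
    rw [hneg]
    have h : y * x ^ i.val * y⁻¹ = (x ^ i.val)⁻¹ := by rw [← conj_pow, hconj, inv_pow]
    rw [eq_mul_inv_iff_mul_eq, mul_assoc, mul_inv_eq_iff_eq_mul.1 h, mul_inv_cancel_left]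
  let φ : QuaternionGroup 2 →* G := MonoidHom.mk'
    (fun q => match q with | .a i => x ^ i.val | .xa i => y * x ^ i.val) (by
      rintro (i | i) (j | j)
      · exact hadd i j
      · show y * x ^ (j - i).val = x ^ i.val * (y * x ^ j.val)
        rw [← mul_assoc, hswap, mul_assoc, ← hadd, neg_add_eq_sub]
      · show y * x ^ (i + j).val = y * x ^ i.val * x ^ j.val
        rw [mul_assoc, ← hadd]
      · show x ^ (((2 : ℕ) : ZMod (2 * 2)) + j - i).val = y * x ^ i.val * (y * x ^ j.val)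
        rw [mul_assoc, ← mul_assoc (x ^ i.val), hswap, mul_assoc, ← hadd, ← mul_assoc, ← sq y, ← hxy]
        have h2 : x ^ 2 = x ^ ((2 : ℕ) : ZMod (2 * 2)).val := rfl
        rw [h2, ← hadd]
        congr 2
        ring)
  have hφ : Function.Injective φ := by
    rw [← MonoidHom.ker_eq_bot_iff, eq_bot_iff]
    rintro (i | i) h
    · have h' : x ^ i.val = 1 := h
      have hd : 4 ∣ i.val := hx ▸ orderOf_dvd_of_pow_eq_one h'
      have hlt := ZMod.val_lt i
      have hi : i = 0 := (ZMod.val_eq_zero i).1 (by omega)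
      rw [hi]; rfl
    · have h' : y * x ^ i.val = 1 := h
      exact absurd (eq_inv_of_mul_eq_one_left h' ▸ ((Commute.refl x).pow_right i.val).inv_right) hne
  set Q := φ.range with hQdef
  have hxQ : x ∈ Q := ⟨.a 1, by show x ^ (1 : ZMod (2 * 2)).val = x; exact pow_one x⟩
  have hyQ : y ∈ Q := ⟨.xa 0, by show y * x ^ (0 : ZMod (2 * 2)).val = y; rw [h0, mul_one]⟩
  have eQ : Q ≃* QuaternionGroup 2 := (MonoidHom.ofInjective hφ).symm
  have hQ4 : ∀ q ∈ Q, q ^ 4 = 1 := by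
    rintro _ ⟨q, rfl⟩
    rw [← map_pow]
    have : ∀ q : QuaternionGroup 2, q ^ 4 = 1 := by decide +kernel
    rw [this, map_one]
  have hQ2 : ∀ q ∈ Q, q ^ 2 = 1 → q = 1 ∨ q = x ^ 2 := by
    rintro _ ⟨q, rfl⟩ h2
    have hq : q ^ 2 = 1 := hφ (by rw [map_pow, h2, map_one])
    have : ∀ q : QuaternionGroup 2, q ^ 2 = 1 → q = 1 ∨ q = QuaternionGroup.a 2 := by decide +kernel
    rcases this q hq with rfl | rfl
    · exact Or.inl (map_one φ)
    · exact Or.inr (show x ^ (2 : ZMod (2 * 2)).val = x ^ 2 from rfl)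
  -- involutions are central
  have hinv : ∀ z : G, z ^ 2 = 1 → ∀ g : G, Commute g z := by
    intro z hz g
    by_cases hz1 : z = 1
    · rw [hz1]; exact Commute.one_right g
    have hzp : orderOf z = 2 := orderOf_eq_prime hz hz1
    obtain ⟨k, hk⟩ := mem_zpowers_iff.1 ((hall (zpowers z)).conj_mem z (mem_zpowers z) g)
    rw [← zpow_mod_orderOf, hzp] at hk
    rcases Int.emod_two_eq_zero_or_one k with h | h
    · have : z ^ ((k % 2 : ℤ)) = 1 := by rw [h, zpow_zero]
      exact absurd (conj_eq_one_iff.1 ((by exact_mod_cast hk : z ^ (k % 2 : ℤ) = g * z * g⁻¹).symm.trans this)) hz1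
    · have h' : z ^ (k % 2 : ℤ) = z := by rw [h, zpow_one]
      exact (mul_inv_eq_iff_eq_mul.1 ((by exact_mod_cast hk : z ^ (k % 2 : ℤ) = g * z * g⁻¹).symm.trans h'))
  let E0 : Subgroup G :=
    { carrier := {z | z ^ 2 = 1}
      one_mem' := one_pow 2
      mul_mem' := fun {a b} ha hb => by
        show (a * b) ^ 2 = 1
        rw [(hinv b hb a).mul_pow, ha, hb, one_mul]
      inv_mem' := fun {a} ha => by show a⁻¹ ^ 2 = 1; rw [inv_pow, ha, inv_one] }
  let A : Subgroup G :=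
    { carrier := {z | Odd (orderOf z)}
      one_mem' := by show Odd (orderOf (1 : G)); simp
      mul_mem' := fun {a b} ha hb => (ha.mul hb).of_dvd_nat (commute_of_odd hall ha hb).orderOf_mul_dvd_mul_orderOf
      inv_mem' := fun {a} ha => by show Odd (orderOf a⁻¹); rwa [orderOf_inv] }
  have hc2 : x ^ 2 ∈ E0 := by show (x ^ 2) ^ 2 = 1; rw [← pow_mul]; exact hx4
  have hc1 : x ^ 2 ≠ 1 := fun h => by
    have := orderOf_dvd_of_pow_eq_one h
    rw [hx] at this
    omega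
  obtain ⟨E, hE⟩ : ∃ E, Maximal (fun E : Subgroup G => E ≤ E0 ∧ x ^ 2 ∉ E) E := by
    obtain ⟨E, -, hE⟩ := Finite.exists_le_maximal (p := fun E : Subgroup G => E ≤ E0 ∧ x ^ 2 ∉ E)
      (a := ⊥) ⟨bot_le, by rw [mem_bot]; exact hc1⟩
    exact ⟨E, hE⟩
  have hE0 : ∀ z ∈ E0, z ∈ E ∨ ∃ e ∈ E, z = e * x ^ 2 := by
    intro z hz
    by_cases hzE : z ∈ E
    · exact Or.inl hzE
    right
    have hle : E ⊔ zpowers z ≤ E0 := sup_le hE.prop.1 (zpowers_le.2 hz)
    have hmem : x ^ 2 ∈ E ⊔ zpowers z := by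
      by_contra hno
      exact hzE (hE.le_of_ge ⟨hle, hno⟩ le_sup_left (mem_sup_right (mem_zpowers z)))
    haveI := hall (zpowers z)
    obtain ⟨e, he, w, hw, hew⟩ := mem_sup_of_normal_right.1 hmem
    obtain ⟨k, rfl⟩ := mem_zpowers_iff.1 hw
    have hz2 : z ^ (2 : ℤ) = 1 := by exact_mod_cast (hz : z ^ 2 = 1)
    rcases Int.even_or_odd k with ⟨m, rfl⟩ | ⟨m, rfl⟩
    · rw [← two_mul, zpow_mul, hz2, one_zpow, mul_one] at hew
      exact absurd (hew ▸ he) hE.prop.2
    · rw [zpow_add, zpow_mul, hz2, one_zpow, one_mul, zpow_one] at hew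
      exact ⟨e⁻¹, inv_mem he, eq_inv_mul_iff_mul_eq.2 hew⟩
  refine ⟨Q, E, A, ⟨eQ⟩, ⟨⟨⟨fun a b => Subtype.ext (hinv b (hE.prop.1 b.2) a).eq⟩⟩, fun a ha => hE.prop.1 ha⟩,
    ⟨⟨fun a b => Subtype.ext (commute_of_odd hall a.2 b.2).eq⟩⟩, ?_, ?_, ?_, ?_⟩
  · refine Nat.not_even_iff_odd.1 fun heven => ?_
    obtain ⟨z, hz⟩ := exists_prime_orderOf_dvd_card' 2 heven.two_dvd
    have hzo : Odd (orderOf (z : G)) := z.2
    rw [orderOf_coe, hz] at hzo
    exact Nat.not_even_iff_odd.2 hzo even_two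
  · rw [eq_bot_iff]
    rintro z ⟨hzE, hzA⟩
    rw [mem_bot]
    have h2 : orderOf z ∣ 2 := orderOf_dvd_of_pow_eq_one (hE.prop.1 hzE)
    rcases (Nat.dvd_prime Nat.prime_two).1 h2 with h | h
    · exact orderOf_eq_one_iff.1 h
    · exact absurd (h ▸ hzA : Odd 2) (Nat.not_odd_iff_even.2 even_two)
  · rw [eq_bot_iff]
    rintro z ⟨hzQ, hz⟩
    rw [mem_bot]
    haveI := hall A
    obtain ⟨e, he, a, ha, rfl⟩ := mem_sup_of_normal_right.1 hz
    have he2 : e ^ 2 = 1 := hE.prop.1 he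
    have h4 : a ^ 4 = 1 := by
      have := hQ4 _ hzQ
      rw [((hinv e he2 a).symm).mul_pow, show e ^ 4 = (e ^ 2) ^ 2 by rw [← pow_mul], he2, one_pow, one_mul] at this
      exact this
    have ha1 : a = 1 := by
      rw [← orderOf_eq_one_iff]
      exact Nat.eq_one_of_dvd_coprimes ((Nat.coprime_two_left.2 ha).pow_left 2) (orderOf_dvd_of_pow_eq_one h4) dvd_rfl
    rw [ha1, mul_one] at hzQ ⊢
    exact (hQ2 e hzQ he2).resolve_right fun h => hE.prop.2 (h ▸ he)
  · rw [eq_top_iff]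
    intro g _
    -- correct `g` by an element of the quaternion subgroup
    have hxm : x ^ 4 = 1 := hx4
    have hconjpow : ∀ (u : G), orderOf u = 4 → ∀ h : G, h * u * h⁻¹ = u ∨ h * u * h⁻¹ = u⁻¹ := by
      intro u hu h
      obtain ⟨k, hk4, hk⟩ := (isOfFinOrder_of_finite u).mem_zpowers_iff_mem_range_orderOf.1
        ((hall (zpowers u)).conj_mem u (mem_zpowers u) h) |> fun h => by simpa [hu] using h
      have ho : orderOf (h * u * h⁻¹) = 4 := by
        rw [← MulAut.conj_apply, MulEquiv.orderOf_eq, hu]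
      interval_cases k
      · rw [pow_zero] at hk; rw [← hk, orderOf_one] at ho; omega
      · exact Or.inl (by rw [← hk, pow_one])
      · rw [← hk, orderOf_pow' _ two_ne_zero, hu] at ho; norm_num at ho
      · right
        rw [← hk, eq_inv_iff_mul_eq_one, ← pow_succ]
        have h4 := pow_orderOf_eq_one u
        rwa [hu] at h4
    have hxy' : x * y * x⁻¹ = y⁻¹ := by
      rcases hconjpow y hy x with h | h
      · exact absurd (mul_inv_eq_iff_eq_mul.1 h) hne
      · exact h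
    obtain ⟨q, hq, hqx, hqy⟩ : ∃ q ∈ Q, q * g * x * (q * g)⁻¹ = x ∧ q * g * y * (q * g)⁻¹ = y := by
      obtain ⟨q1, hq1, hq1x⟩ : ∃ q ∈ Q, q * g * x * (q * g)⁻¹ = x := by
        rcases hconjpow x hx g with h | h
        · exact ⟨1, one_mem _, by simpa using h⟩
        · refine ⟨y, hyQ, ?_⟩
          calc y * g * x * (y * g)⁻¹ = y * (g * x * g⁻¹) * y⁻¹ := by group
            _ = (y * x * y⁻¹)⁻¹ := by rw [h]; group
            _ = x := by rw [hconj, inv_inv]
      rcases hconjpow y hy (q1 * g) with h | h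
      · exact ⟨q1, hq1, hq1x, h⟩
      · refine ⟨x * q1, mul_mem hxQ hq1, ?_, ?_⟩
        · calc x * q1 * g * x * (x * q1 * g)⁻¹ = x * (q1 * g * x * (q1 * g)⁻¹) * x⁻¹ := by group
            _ = x := by rw [hq1x]; group
        · calc x * q1 * g * y * (x * q1 * g)⁻¹ = x * (q1 * g * y * (q1 * g)⁻¹) * x⁻¹ := by group
            _ = (x * y * x⁻¹)⁻¹ := by rw [h]; group
            _ = y := by rw [hxy', inv_inv]
    set z := q * g with hz
    have hzx : Commute z x := mul_inv_eq_iff_eq_mul.1 hqx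
    have hzy : Commute z y := mul_inv_eq_iff_eq_mul.1 hqy
    suffices z ∈ Q ⊔ (E ⊔ A) by
      have hg : g = q⁻¹ * z := by rw [hz]; group
      rw [hg]
      exact mul_mem (inv_mem (mem_sup_left hq)) this
    -- no element of order 4 centralizes the quaternion subgroup
    have h4 : ∀ w : G, orderOf w = 4 → Commute w x → Commute w y → False := by
      intro w hw hwx hwy
      have hw4 : w ^ 4 = 1 := hw ▸ pow_orderOf_eq_one w
      obtain ⟨hm, -⟩ := commutator_mem hall (x * w) y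
      have hcomm : y * (x * w) * y⁻¹ * (x * w)⁻¹ = x ^ 2 := by
        calc y * (x * w) * y⁻¹ * (x * w)⁻¹ = y * x * (w * y⁻¹) * w⁻¹ * x⁻¹ := by group
          _ = y * x * (y⁻¹ * w) * w⁻¹ * x⁻¹ := by rw [(hwy.inv_right).eq]
          _ = (y * x * y⁻¹) * x⁻¹ := by group
          _ = x⁻¹ * x⁻¹ := by rw [hconj]
          _ = x ^ 2 := by
            rw [← mul_inv_rev, inv_eq_iff_mul_eq_one, ← hx4]; group
      rw [hcomm] at hm
      have hsq : (x * w) ^ 2 = x ^ 2 * w ^ 2 := hwx.symm.mul_pow 2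
      have hnot : ∀ m : ℕ, m < 4 → (x * w) ^ m ≠ x ^ 2 := by
        intro m hm4 hm'
        interval_cases m
        · rw [pow_zero] at hm'; exact hc1 hm'.symm
        · rw [pow_one, sq, mul_right_inj] at hm'
          exact hne (hm' ▸ hwy)
        · rw [hsq, mul_eq_left] at hm'
          have := orderOf_dvd_of_pow_eq_one hm'
          rw [hw] at this; omega
        · rw [pow_succ, hsq] at hm'
          have h3 : w ^ 3 * x = 1 := by
            have e : x ^ 2 * w ^ 2 * (x * w) = x ^ 2 * (w ^ 3 * x) := by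
              rw [mul_assoc, show w ^ 2 * (x * w) = w ^ 3 * x from by
                rw [← mul_assoc, (hwx.pow_left 2).eq, mul_assoc, ← pow_succ, (hwx.pow_left 3).eq]]
            rw [e, mul_eq_left] at hm'
            exact hm'
          have hxw : x = w := by
            rw [eq_inv_of_mul_eq_one_right h3]
            refine (inv_eq_of_mul_eq_one_right ?_)
            rw [← pow_succ]; exact hw4
          exact hne (hxw ▸ hwy)
      have h44 : (x * w) ^ 4 = 1 := by rw [hwx.symm.mul_pow, hx4, hw4, one_mul]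
      obtain ⟨m, hm1, hm2⟩ := (isOfFinOrder_of_finite (x * w)).mem_zpowers_iff_mem_range_orderOf.1 hm |> fun h => by simpa using h
      exact hnot m (lt_of_lt_of_le hm1 (Nat.le_of_dvd (by norm_num) (orderOf_dvd_of_pow_eq_one h44))) hm2
    obtain ⟨k, m, hm, hkm⟩ := Nat.exists_eq_pow_mul_and_not_dvd (orderOf_pos z).ne' 2 (by norm_num)
    have hk2 : k ≤ 1 := by
      by_contra hk
      obtain ⟨k', rfl⟩ : ∃ k', k = k' + 2 := ⟨k - 2, by omega⟩
      refine h4 (z ^ (2 ^ k' * m)) ?_ (hzx.pow_left _) (hzy.pow_left _)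
      rw [orderOf_pow_of_dvd (by intro h0; simp at h0; exact hm (h0 ▸ dvd_zero 2)) (by rw [hkm, pow_add]; exact ⟨4, by ring⟩), hkm, pow_add]
      rw [show 2 ^ k' * 2 ^ 2 * m = 4 * (2 ^ k' * m) by ring, Nat.mul_div_cancel]
      have : m ≠ 0 := fun h0 => hm (h0 ▸ dvd_zero 2)
      positivity
    have hm2 : z ^ m ∈ E0 := by
      show (z ^ m) ^ 2 = 1
      rw [← pow_mul, ← orderOf_dvd_iff_pow_eq_one, hkm, mul_comm m 2]
      exact Nat.mul_dvd_mul (pow_dvd_pow 2 hk2 |>.trans (by norm_num)) dvd_rfl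
    have hzA : z ^ 2 ∈ A := by
      show Odd (orderOf (z ^ 2))
      have : orderOf (z ^ 2) ∣ m := by
        refine orderOf_dvd_of_pow_eq_one ?_
        rw [← pow_mul, ← orderOf_dvd_iff_pow_eq_one, hkm]
        exact Nat.mul_dvd_mul (pow_dvd_pow 2 hk2 |>.trans (by norm_num)) dvd_rfl
      exact (Nat.odd_iff.2 (Nat.two_dvd_ne_zero.1 hm)).of_dvd_nat this
    obtain ⟨t, ht⟩ : ∃ t, m = 2 * t + 1 := ⟨m / 2, by have := Nat.two_dvd_ne_zero.1 hm; omega⟩
    have hzeq : z = ((z ^ 2) ^ t)⁻¹ * z ^ m := by rw [ht, ← pow_mul, pow_succ, inv_mul_cancel_left]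
    rw [hzeq]
    refine mul_mem (inv_mem (pow_mem (mem_sup_right (mem_sup_right hzA)) _)) ?_
    rcases hE0 _ hm2 with h | ⟨e, he, h⟩
    · exact mem_sup_right (mem_sup_left h)
    · rw [h]; exact mul_mem (mem_sup_right (mem_sup_left he)) (mem_sup_left (pow_mem hxQ 2))

end CfsgLib.Hamiltonian
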