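import Cfsg.Prelude.Def_Local
import Cfsg.Agent.PLocal.PConstrained
import Cfsg.Agent.Solvable.Basics
import Cfsg.Agent.InvChar.UniqueInvolution
import Mathlib.GroupTheory.Sylow
import Mathlib.Tactic

/-!
# Normal `p`-solvable subgroups of groups with conjugate `p`-subgroups of equal order
-/

set_option autoImplicit false
set_option linter.unusedSectionVars false
set_option linter.style.haveILetI false

namespace CfsgLib.HomogeneousPSolvable

open Subgroup

universe u

variable {p : ℕ} [hp : Fact p.Prime]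

/-- Conjugacy of `p`-subgroups of equal order. -/
def Conj (p : ℕ) (G : Type u) [Group G] : Prop :=
  ∀ H K : Subgroup G, IsPGroup p H → IsPGroup p K → Nat.card H = Nat.card K →
    ∃ g : G, K = H.map (MulAut.conj g).toMonoidHom

theorem exists_minimal {G : Type u} [Group G] [Finite G] (H : Subgroup G) [H.Normal]
    (hs : Cfsg.IsPSolvable p H) (hH : H ≠ ⊥) :
    ∃ N : Subgroup G, N.Normal ∧ N ≠ ⊥ ∧ N ≤ H ∧ (IsPGroup p N ∨ (Nat.card N).Coprime p) := by
  classical
  haveI := hp
  obtain ⟨M, ⟨hMn, hM1, hMH⟩, hmin⟩ := exists_minimal_of_wellFoundedLT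
    (fun M : Subgroup G => M.Normal ∧ M ≠ ⊥ ∧ M ≤ H) ⟨H, inferInstance, hH, le_rfl⟩
  haveI := hMn
  refine ⟨M, hMn, hM1, hMH, ?_⟩
  obtain ⟨n, C, h0, hlast, hmono, hn, hfac⟩ := CfsgLib.PConstrained.isPSolvable_comap (inclusion hMH) (inclusion_injective hMH) hs
  haveI : Nontrivial M := (nontrivial_iff_ne_bot M).2 hM1
  obtain ⟨i, hi0, hi⟩ : ∃ i : Fin n, C i.castSucc = ⊥ ∧ C i.succ ≠ ⊥ := by
    by_contra hcon
    push Not at hcon
    have hall : ∀ j, C j = ⊥ := fun j => by
      induction j using Fin.induction with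
      | zero => exact h0
      | succ j ihj => exact hcon j ihj
    exact top_ne_bot (hlast.symm.trans (hall _))
  haveI := hn i.succ
  have hf := hfac i
  rw [hi0, relIndex_bot_left] at hf
  have hchar : ∀ K : Subgroup M, K.Characteristic → K ≠ ⊥ → K = ⊤ := by
    intro K hK hK1
    have h2 := hmin (y := K.map M.subtype) ⟨inferInstance, fun e => hK1 ((map_eq_bot_iff_of_injective K M.subtype_injective).1 e),
      (map_subtype_le K).trans hMH⟩ (map_subtype_le K)
    refine eq_top_iff.2 fun x _ => ?_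
    obtain ⟨y, hy, e⟩ := h2 x.2
    rwa [← M.subtype_injective e]
  rcases hf with ⟨m, hm⟩ | hc
  · left
    have hle : C i.succ ≤ Cfsg.pCore p M := CfsgLib.Solvable.le_pCore p (hn i.succ) (IsPGroup.of_card hm)
    have htop := hchar (Cfsg.pCore p M) (characteristic_iff_map_le.2 fun φ => CfsgLib.Solvable.le_pCore p
      (Normal.map (CfsgLib.Solvable.pCore_normal p) _ φ.surjective) ((CfsgLib.Solvable.isPGroup_pCore p).map _))
      fun e => hi (le_bot_iff.1 (e ▸ hle))
    exact ((CfsgLib.Solvable.isPGroup_pCore (G := M) p).of_equiv ((MulEquiv.subgroupCongr htop).trans Subgroup.topEquiv))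
  · right
    have hle : C i.succ ≤ Cfsg.pPrimeCore p M := CfsgLib.Solvable.le_pPrimeCore p (hn i.succ) hc
    have htop := hchar (Cfsg.pPrimeCore p M) (characteristic_iff_map_le.2 fun φ => CfsgLib.Solvable.le_pPrimeCore p
      (Normal.map (CfsgLib.Solvable.pPrimeCore_normal p) _ φ.surjective)
      (by rw [card_map_of_injective φ.injective]; exact CfsgLib.Solvable.coprime_card_pPrimeCore p))
      fun e => hi (le_bot_iff.1 (e ▸ hle))
    have := CfsgLib.Solvable.coprime_card_pPrimeCore (G := M) p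
    rwa [htop, card_top] at this

theorem main (hp2 : p ≠ 2) : ∀ (n : ℕ) (G : Type u) [Group G] [Finite G], Nat.card G = n → Conj p G →
    ∀ (P : Sylow p G) (H : Subgroup G) [H.Normal], Cfsg.IsPSolvable p H → p ∣ Nat.card H →
      IsMulCommutative P ∧ ((P : Subgroup G) ≤ H ∨ IsCyclic P) := by
  intro n
  induction n using Nat.strong_induction_on with
  | _ n ih =>
  intro G _ _ hn hC P H _ hs hdvd
  classical
  subst hn
  have hH : H ≠ ⊥ := fun e => by
    rw [e, card_bot, Nat.dvd_one] at hdvd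
    exact hp.out.ne_one hdvd
  obtain ⟨N, hNn, hN1, hNH, hN⟩ := exists_minimal H hs hH
  haveI := hNn
  rcases hN with hNp | hNc
  swap
  · -- pass to the quotient
    set π := QuotientGroup.mk' N
    have hπ : Function.Surjective π := QuotientGroup.mk'_surjective N
    have hlt : Nat.card (G ⧸ N) < Nat.card G := by
      rw [N.card_eq_card_quotient_mul_card_subgroup]
      exact lt_mul_of_one_lt_right Nat.card_pos (N.one_lt_card_iff_ne_bot.2 hN1)
    have hlift : ∀ A : Subgroup (G ⧸ N), IsPGroup p A → ∃ B : Subgroup G, IsPGroup p B ∧ B.map π = A ∧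
        Nat.card B = Nat.card A := by
      intro A hA
      set A' := A.comap π
      obtain ⟨B⟩ : Nonempty (Sylow p A') := inferInstance
      let φ : A' →* A := (π.comp A'.subtype).codRestrict A fun x => mem_comap.1 x.2
      have hφ : Function.Surjective φ := fun a => by
        obtain ⟨x, hx⟩ := hπ a.1
        exact ⟨⟨x, mem_comap.2 (hx ▸ a.2)⟩, Subtype.ext hx⟩
      have htop := (B.mapSurjective hφ).3 (hA.of_equiv Subgroup.topEquiv.symm) le_top
      have hmap : ((B : Subgroup A').map A'.subtype).map π = A := by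
        refine le_antisymm ?_ fun a ha => ?_
        · rintro _ ⟨_, ⟨x, -, rfl⟩, rfl⟩
          exact mem_comap.1 x.2
        · have h3 : (⟨a, ha⟩ : A) ∈ ((B.mapSurjective hφ : Sylow p A) : Subgroup A) := htop ▸ mem_top _
          rw [Sylow.coe_mapSurjective] at h3
          obtain ⟨x, hx, e⟩ := h3
          exact ⟨x, ⟨x, hx, rfl⟩, congrArg Subtype.val e⟩
      refine ⟨_, B.2.map _, hmap, ?_⟩
      refine Nat.card_eq_of_bijective (fun x => (⟨π x.1, hmap.le ⟨x.1, x.2, rfl⟩⟩ : A)) ⟨fun x y e => ?_, fun a => ?_⟩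
      · have h1 : (x.1)⁻¹ * y.1 ∈ N := QuotientGroup.eq.1 (congrArg Subtype.val e)
        obtain ⟨k, hk⟩ := (B.2.map A'.subtype) (x⁻¹ * y)
        refine Subtype.ext (inv_mul_eq_one.1 (orderOf_eq_one_iff.1 (Nat.eq_one_of_dvd_coprimes (hNc.pow_right k)
          ?_ (orderOf_dvd_of_pow_eq_one (congrArg Subtype.val hk)))))
        rw [← Subgroup.orderOf_mk _ h1]
        exact orderOf_dvd_natCard _
      · obtain ⟨x, hx, e⟩ := hmap.ge a.2
        exact ⟨⟨x, hx⟩, Subtype.ext e⟩
    have hC' : Conj p (G ⧸ N) := by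
      intro A B hA hB hAB
      obtain ⟨A', hA', rfl, cA⟩ := hlift A hA
      obtain ⟨B', hB', rfl, cB⟩ := hlift B hB
      obtain ⟨g, rfl⟩ := hC A' B' hA' hB' (cA.trans (hAB.trans cB.symm))
      refine ⟨π g, ?_⟩
      rw [Subgroup.map_map, Subgroup.map_map]
      congr 1
    haveI : (H.map π).Normal := Normal.map inferInstance _ hπ
    have hs' : Cfsg.IsPSolvable p (H.map π) :=
      CfsgLib.PConstrained.isPSolvable_map (π.subgroupMap H) (π.subgroupMap_surjective H) hs
    have hd' : p ∣ Nat.card (H.map π) := by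
      have h1 : Nat.card H ∣ Nat.card (H.map π) * Nat.card N := by
        have hle : H ≤ (H.map π).comap π := le_comap_map π H
        refine (card_dvd_of_le hle).trans (dvd_of_eq ?_)
        rw [← Subgroup.relIndex_bot_left, ← Subgroup.relIndex_bot_left (H.map π)]
        have := Subgroup.relIndex_comap (H := (⊥ : Subgroup (G ⧸ N))) π ((H.map π).comap π)
        rw [map_comap_eq_self_of_surjective hπ] at this
        rw [← this, MonoidHom.comap_bot, QuotientGroup.ker_mk', ← Subgroup.relIndex_bot_left N, mul_comm,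
          relIndex_mul_relIndex _ _ _ bot_le (fun x hx => mem_comap.2 (by
            rw [show π x = 1 from (QuotientGroup.eq_one_iff x).2 hx]; exact one_mem _))]
      exact ((hp.out.dvd_mul.1 (hdvd.trans h1)).resolve_right (hp.out.coprime_iff_not_dvd.1 hNc.symm))
    obtain ⟨hab, hor⟩ := ih _ hlt (G ⧸ N) rfl hC' (P.mapSurjective hπ) (H.map π) hs' hd'
    have hinj : Function.Injective (fun x : (P : Subgroup G) => π x) := by
      intro x y e
      have h1 : (x : G)⁻¹ * y ∈ N := QuotientGroup.eq.1 e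
      obtain ⟨k, hk⟩ := P.2 (x⁻¹ * y)
      refine inv_mul_eq_one.1 (Subtype.ext (orderOf_eq_one_iff.1 (Nat.eq_one_of_dvd_coprimes (hNc.pow_right k)
        ?_ (orderOf_dvd_of_pow_eq_one (congrArg Subtype.val hk)))))
      show orderOf ((x : G)⁻¹ * y) ∣ _
      rw [← Subgroup.orderOf_mk _ h1]
      exact orderOf_dvd_natCard _
    let ψ : (P : Subgroup G) →* ((P.mapSurjective hπ : Sylow p (G ⧸ N)) : Subgroup (G ⧸ N)) :=
      (π.comp (P : Subgroup G).subtype).codRestrict _ fun x => by
        rw [Sylow.coe_mapSurjective]; exact mem_map_of_mem π x.2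
    have hψ : Function.Injective ψ := fun x y e => hinj (congrArg Subtype.val e)
    haveI := hab
    refine ⟨⟨⟨fun x y => hψ (by rw [map_mul, map_mul]; exact mul_comm' _ _)⟩⟩, ?_⟩
    rcases hor with h | h
    · left
      intro x hx
      have : π x ∈ H.map π := h (by rw [Sylow.coe_mapSurjective]; exact mem_map_of_mem π hx)
      obtain ⟨y, hy, e⟩ := this
      have h1 : y⁻¹ * x ∈ N := QuotientGroup.eq.1 e
      simpa using mul_mem hy (hNH h1)
    · right
      haveI := h
      exact isCyclic_of_injective ψ hψ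
  -- a normal `p`-subgroup
  have hNP : N ≤ (P : Subgroup G) :=
    le_sup_left.trans (le_of_eq (P.3 (hNp.to_sup_of_normal_left P.2) le_sup_right))
  haveI : Nontrivial N := (nontrivial_iff_ne_bot N).2 hN1
  obtain ⟨z, hz⟩ := exists_prime_orderOf_dvd_card' (G := N) p (by
    obtain ⟨m, hm, hc⟩ := (IsPGroup.nontrivial_iff_card hNp).1 inferInstance
    exact hc ▸ dvd_pow_self p (Nat.pos_iff_ne_zero.1 hm))
  -- all elements of order `p` lie in any normal subgroup meeting them
  have hall : ∀ M : Subgroup G, M.Normal → ∀ w ∈ M, orderOf w = p → ∀ x : G, orderOf x = p → x ∈ M := by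
    intro M hM w hw hwp x hx
    have hpg : ∀ y : G, orderOf y = p → IsPGroup p (zpowers y) := fun y hy =>
      IsPGroup.of_card (n := 1) (by rw [Nat.card_zpowers, hy, pow_one])
    obtain ⟨g, hg⟩ := hC (zpowers w) (zpowers x) (hpg w hwp) (hpg x hx) (by rw [Nat.card_zpowers, Nat.card_zpowers, hwp, hx])
    have hxm : x ∈ (zpowers w).map (MulAut.conj g).toMonoidHom := hg ▸ mem_zpowers x
    obtain ⟨y, hy, rfl⟩ := hxm
    exact hM.conj_mem y ((zpowers_le.2 hw) hy) g
  have hN' : ∀ x : G, orderOf x = p → x ∈ N := hall N hNn z z.2 (by rw [Subgroup.orderOf_coe]; exact hz)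
  -- elementary abelian: minimal choice
  obtain ⟨V, hVn, hV1, hVN, hVc, -, q, hq, hVq, hVP⟩ :=
    CfsgLib.Solvable.exists_normal_elementary_le (N := N) hN1 (by haveI := hNp.isNilpotent; infer_instance)
  haveI := hVn
  haveI := Fact.mk hq
  obtain ⟨v, hv, hv1⟩ : ∃ v ∈ V, v ≠ 1 := by
    by_contra hcon
    push Not at hcon
    exact hV1 ((eq_bot_iff_forall _).2 hcon)
  have hvq : orderOf v = q := orderOf_eq_prime (hVq v hv) hv1
  obtain rfl : q = p := by
    obtain ⟨k, hk⟩ := hNp ⟨v, hVN hv⟩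
    have h1 : orderOf v ∣ p ^ k := orderOf_dvd_of_pow_eq_one (congrArg Subtype.val hk)
    rw [hvq] at h1
    exact (Nat.prime_dvd_prime_iff_eq hq hp.out).1 (hq.dvd_of_dvd_pow h1)
  have hV' : ∀ x : G, orderOf x = q → x ∈ V := hall V hVn v hv hvq
  by_cases hVcard : Nat.card V = q
  · have hc : IsCyclic P := by
      have hu : ∀ x y : (P : Subgroup G), orderOf x = q → orderOf y = q → y ∈ zpowers x := by
        intro x y hx hy
        rw [← Subgroup.orderOf_coe] at hx hy
        show y ∈ zpowers x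
        have hVx : V = zpowers (x : G) :=
          (Subgroup.eq_of_le_of_card_ge (zpowers_le.2 (hV' _ hx)) (by rw [hVcard, Nat.card_zpowers, hx])).symm
        obtain ⟨i, hi⟩ := mem_zpowers_iff.1 (hVx ▸ hV' _ hy : (y : G) ∈ zpowers (x : G))
        exact mem_zpowers_iff.2 ⟨i, Subtype.ext hi⟩
      rcases CfsgLib.UniqueInvol.cyclic_or_quaternion P.2 hu with h | ⟨h, -⟩
      · exact h
      · exact absurd h hp2
    haveI := hc
    exact ⟨⟨⟨fun x y => by letI := IsCyclic.commGroup (α := (P : Subgroup G)); exact mul_comm x y⟩⟩, Or.inr hc⟩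
  -- exponent `p`
  have hPV : (P : Subgroup G) ≤ V := by
    intro x hx
    rcases eq_or_ne x 1 with rfl | hx1
    · exact one_mem _
    obtain ⟨k, hk⟩ := P.2 ⟨x, hx⟩
    obtain ⟨j, -, hj⟩ := (Nat.dvd_prime_pow hp.out).1
      (orderOf_dvd_of_pow_eq_one (congrArg Subtype.val hk : x ^ q ^ k = 1))
    rcases j with _ | _ | j
    · exact absurd (orderOf_eq_one_iff.1 (by rw [hj, pow_zero])) hx1
    · exact hV' x (by rw [hj, pow_one])
    exfalso
    set y := x ^ q ^ j
    have hy : orderOf y = q ^ 2 := by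
      rw [orderOf_pow' x (pow_ne_zero _ hp.out.ne_zero), hj, Nat.gcd_eq_right (pow_dvd_pow q (by omega))]
      rw [show j + 1 + 1 = 2 + j by omega, pow_add, Nat.mul_div_cancel _ (pow_pos hp.out.pos _)]
    obtain ⟨m, hm⟩ := IsPGroup.iff_card.1 hVP
    have hm2 : 2 ≤ m := by
      by_contra hcon
      obtain rfl | rfl : m = 0 ∨ m = 1 := by omega
      · rw [pow_zero] at hm
        exact hV1 (Subgroup.card_eq_one.1 hm)
      · exact hVcard (by rw [hm, pow_one])
    obtain ⟨W, hW⟩ := Sylow.exists_subgroup_card_pow_prime (G := V) q (n := 2) (hm ▸ pow_dvd_pow q hm2)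
    have hW' : Nat.card (W.map V.subtype) = q ^ 2 := by rw [card_map_of_injective V.subtype_injective, hW]
    obtain ⟨g, hg⟩ := hC (W.map V.subtype) (zpowers y) (IsPGroup.of_card hW')
      (IsPGroup.of_card (n := 2) (by rw [Nat.card_zpowers, hy])) (by rw [hW', Nat.card_zpowers, hy])
    have hym : y ∈ (W.map V.subtype).map (MulAut.conj g).toMonoidHom := hg ▸ mem_zpowers y
    obtain ⟨_, ⟨w, -, rfl⟩, e⟩ := hym
    have h1 : y ^ q = 1 := by
      rw [← e, ← map_pow, ← map_pow, show w ^ q = 1 from Subtype.ext (hVq w w.2), map_one, map_one]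
    have h2 := Nat.le_of_dvd hp.out.pos (hy ▸ orderOf_dvd_of_pow_eq_one h1)
    nlinarith [hp.out.two_le]
  exact ⟨⟨⟨fun a b => Subtype.ext (show (a : G) * b = b * a from congrArg Subtype.val
    (hVc.is_comm.comm (⟨a, hPV a.2⟩ : V) ⟨b, hPV b.2⟩))⟩⟩, Or.inl (hPV.trans (hVN.trans hNH))⟩

end CfsgLib.HomogeneousPSolvable
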