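import Mathlib.GroupTheory.GroupAction.Quotient
import Mathlib.GroupTheory.PGroup
import Mathlib.GroupTheory.Sylow
import Mathlib.Data.Nat.Choose.Lucas
import Mathlib.Algebra.Group.Pointwise.Finset.Basic
import Mathlib.Algebra.Group.Action.Pointwise.Finset
import Mathlib.Tactic.Ring
import Mathlib.Tactic.Group

/-!
Counting subgroups of prime power order (Wielandt's subset argument), normal subgroups of a
`p`-group, and `p`-groups with a unique subgroup of some order.
-/

set_option autoImplicit false
set_option linter.unusedSectionVars false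
set_option linter.style.haveILetI false

namespace CfsgLib.Kulakoff

open scoped Pointwise Classical

theorem choose_sub_one_modEq (p : ℕ) [Fact p.Prime] : ∀ β k, 0 < k →
    (k * p ^ β - 1).choose (p ^ β - 1) ≡ 1 [MOD p] := by
  intro β
  induction β with
  | zero => intro k _; simp [Nat.ModEq.refl]
  | succ β ih =>
    intro k hk
    have hp := (Fact.out : p.Prime)
    have hpp : 0 < p ^ β := pow_pos hp.pos β
    have hkp : 0 < k * p ^ β := Nat.mul_pos hk hpp
    have e : ∀ j, 0 < j → (j * p - 1) % p = p - 1 ∧ (j * p - 1) / p = j - 1 := by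
      intro j hj
      obtain ⟨i, rfl⟩ : ∃ i, j = i + 1 := ⟨j - 1, by omega⟩
      have h : (i + 1) * p - 1 = p - 1 + i * p := by
        have := hp.one_le
        rw [add_mul, one_mul]; omega
      rw [h, Nat.add_mul_mod_self_right, Nat.add_mul_div_right _ _ hp.pos,
        Nat.mod_eq_of_lt (by have := hp.one_le; omega),
        Nat.div_eq_of_lt (by have := hp.one_le; omega)]
      exact ⟨rfl, by omega⟩
    refine (Choose.choose_modEq_choose_mod_mul_choose_div_nat).trans ?_
    rw [pow_succ, ← mul_assoc, (e _ hkp).1, (e _ hkp).2, (e _ hpp).1, (e _ hpp).2, Nat.choose_self,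
      one_mul]
    exact ih k hk

variable {G : Type*} [Group G]

theorem stab_union [Fintype G] (s : Finset G) {g : G} {x : G} (hg : g • s = s) (hx : x ∈ s) :
    g * x ∈ s := by
  rw [← hg]
  exact Finset.smul_mem_smul_finset hx

theorem exists_card_stab [Fintype G] (s : Finset G) :
    ∃ t : Finset (G ⧸ MulAction.stabilizer G s),
      s⁻¹ = Finset.univ.filter (fun x : G => (x : G ⧸ MulAction.stabilizer G s) ∈ t) ∧
      s.card = Nat.card (MulAction.stabilizer G s) * t.card := by
  have h1 : s⁻¹ = Finset.univ.filter (fun x : G => (x : G ⧸ MulAction.stabilizer G s) ∈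
      (s⁻¹).image (fun x : G => (x : G ⧸ MulAction.stabilizer G s))) := by
    ext x
    simp only [Finset.mem_filter, Finset.mem_univ, true_and, Finset.mem_image]
    refine ⟨fun hx => ⟨x, hx, rfl⟩, fun ⟨z, hz, he⟩ => ?_⟩
    rw [Finset.mem_inv'] at hz ⊢
    have h := stab_union s (MulAction.mem_stabilizer_iff.1 (inv_mem (QuotientGroup.eq.1 he))) hz
    rwa [show (z⁻¹ * x)⁻¹ * z⁻¹ = x⁻¹ by group] at h
  refine ⟨_, h1, ?_⟩
  rw [← Finset.card_inv s]
  conv_lhs => rw [h1]
  rw [← Fintype.card_subtype, ← Nat.card_eq_fintype_card]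
  have e := QuotientGroup.preimageMkEquivSubgroupProdSet (MulAction.stabilizer G s)
    (↑((s⁻¹).image (fun x : G => (x : G ⧸ MulAction.stabilizer G s))) : Set (G ⧸ MulAction.stabilizer G s))
  have e2 := Nat.card_congr e
  rw [Nat.card_prod, Nat.card_coe_set_eq
    (↑((s⁻¹).image (fun x : G => (x : G ⧸ MulAction.stabilizer G s))) : Set (G ⧸ MulAction.stabilizer G s)),
    Set.ncard_coe_finset] at e2
  refine Eq.trans (Nat.card_congr (Equiv.subtypeEquivRight fun x => ?_)) e2
  simp

theorem card_dvd_of_subset [Fintype G] (s : Finset G) :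
    Nat.card (MulAction.stabilizer G s) ∣ s.card := by
  obtain ⟨t, -, ht⟩ := exists_card_stab s
  exact Dvd.intro _ ht.symm

/-- The number of subgroups of order `p ^ β` is congruent to one modulo `p`. -/
theorem card_modEq_one [Finite G] {p β : ℕ} (hp : p.Prime) (hdiv : p ^ β ∣ Nat.card G) :
    Nat.card {H : Subgroup G // Nat.card H = p ^ β} ≡ 1 [MOD p] := by
  haveI := Fact.mk hp
  haveI := Fintype.ofFinite G
  haveI := Fintype.ofFinite (Subgroup G)
  obtain ⟨k, hk⟩ := hdiv
  have hk0 : 0 < k := Nat.pos_of_ne_zero fun h => Nat.card_pos.ne' (by rw [hk, h, mul_zero] : Nat.card G = 0)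
  have hpp : 0 < p ^ β := pow_pos hp.pos β
  set X := Finset.powersetCard (p ^ β) (Finset.univ : Finset G) with hX
  set Hs := Finset.univ.filter fun H : Subgroup G => Nat.card H = p ^ β with hHs
  have horb : ∀ s : Finset G, Fintype.card (MulAction.orbit G s) * Nat.card (MulAction.stabilizer G s) =
      k * p ^ β := fun s => by
    rw [Nat.card_eq_fintype_card, MulAction.card_orbit_mul_card_stabilizer_eq_card_group,
      ← Nat.card_eq_fintype_card, hk, mul_comm]
  -- subsets with large stabiliser
  have hA : (X.filter fun s => Nat.card (MulAction.stabilizer G s) = p ^ β).card = Hs.card * k := by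
    rw [Finset.card_eq_sum_card_fiberwise (t := Hs) (f := fun s : Finset G => MulAction.stabilizer G s)]
    swap
    · intro s hs
      simp only [Finset.mem_coe, Finset.mem_filter, hHs, Finset.mem_univ, true_and] at hs ⊢
      exact hs.2
    refine Finset.sum_const_nat fun H hH => ?_
    simp only [hHs, Finset.mem_filter, Finset.mem_univ, true_and] at hH
    have hidx : Nat.card (G ⧸ H) = k := by
      refine Nat.eq_of_mul_eq_mul_right (Nat.card_pos (α := H)) ?_
      rw [← Subgroup.card_eq_card_quotient_mul_card_subgroup, hk, hH, mul_comm]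
    haveI := Fintype.ofFinite (G ⧸ H)
    rw [← hidx, Nat.card_eq_fintype_card, ← Finset.card_univ]
    symm
    refine Finset.card_bij (fun q _ => (Finset.univ.filter fun x : G => (x : G ⧸ H) = q)⁻¹) ?_ ?_ ?_
    · intro q _
      obtain ⟨g, rfl⟩ := QuotientGroup.mk_surjective q
      have hc : ((Finset.univ.filter fun x : G => (x : G ⧸ H) = (g : G ⧸ H))⁻¹).card = p ^ β := by
        rw [Finset.card_inv, ← hH, ← Fintype.card_subtype, ← Nat.card_eq_fintype_card]
        refine Nat.card_congr
          { toFun := fun x => ⟨g⁻¹ * x.1, QuotientGroup.eq.1 x.2.symm⟩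
            invFun := fun h => ⟨g * h.1, QuotientGroup.eq.2 (by simpa using inv_mem h.2)⟩
            left_inv := fun x => Subtype.ext (by simp)
            right_inv := fun h => Subtype.ext (by simp) }
      have hst : MulAction.stabilizer G
          (Finset.univ.filter fun x : G => (x : G ⧸ H) = (g : G ⧸ H))⁻¹ = H := by
        ext h
        rw [MulAction.mem_stabilizer_iff]
        constructor
        · intro he
          have hm : g⁻¹ ∈ (Finset.univ.filter fun x : G => (x : G ⧸ H) = (g : G ⧸ H))⁻¹ := by simp
          have h2 := stab_union _ he hm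
          rw [Finset.mem_inv', Finset.mem_filter, QuotientGroup.eq] at h2
          simpa using h2.2
        · intro hh
          refine Finset.eq_of_subset_of_card_le (fun y hy => ?_) (Finset.card_smul_finset _ _).ge
          obtain ⟨z, hz, rfl⟩ := Finset.mem_smul_finset.1 hy
          rw [Finset.mem_inv', Finset.mem_filter, QuotientGroup.eq] at hz ⊢
          refine ⟨Finset.mem_univ _, ?_⟩
          have := mul_mem hh hz.2
          simpa [smul_eq_mul, mul_assoc] using this
      simp only [Finset.mem_filter, hX, Finset.mem_powersetCard]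
      exact ⟨⟨⟨Finset.subset_univ _, hc⟩, by rw [hst]; exact hH⟩, hst⟩
    · intro a _ b _ hab
      obtain ⟨g, rfl⟩ := QuotientGroup.mk_surjective a
      have hab' := inv_injective hab
      have : g ∈ (Finset.univ.filter fun x : G => (x : G ⧸ H) = b) := by rw [← hab']; simp
      simpa using this
    · intro s hs
      simp only [Finset.mem_filter, hX, Finset.mem_powersetCard] at hs
      obtain ⟨⟨⟨-, hsc⟩, -⟩, rfl⟩ := hs
      obtain ⟨t, ht, htc⟩ := exists_card_stab s
      rw [hsc, hH] at htc
      obtain ⟨q, rfl⟩ := Finset.card_eq_one.1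
        (Nat.eq_of_mul_eq_mul_left hpp (htc.symm.trans (mul_one _).symm))
      refine ⟨q, Finset.mem_univ _, ?_⟩
      refine inv_injective ?_
      rw [inv_inv, ht]
      ext x
      simp
  -- the others
  have hB : p * k ∣ (X.filter fun s => ¬ Nat.card (MulAction.stabilizer G s) = p ^ β).card := by
    rw [Finset.card_eq_sum_card_image (fun s => MulAction.orbit G s)]
    refine Finset.dvd_sum fun O hO => ?_
    simp only [Finset.mem_image] at hO
    obtain ⟨s, hs, rfl⟩ := hO
    simp only [Finset.mem_filter, hX, Finset.mem_powersetCard] at hs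
    obtain ⟨⟨-, hsc⟩, hne⟩ := hs
    have hset : ((X.filter fun u => ¬ Nat.card (MulAction.stabilizer G u) = p ^ β).filter
        fun u => MulAction.orbit G u = MulAction.orbit G s) =
        Finset.univ.filter fun u => u ∈ MulAction.orbit G s := by
      ext u
      simp only [Finset.mem_filter, hX, Finset.mem_powersetCard, Finset.mem_univ, true_and,
        MulAction.orbit_eq_iff, and_iff_right_iff_imp]
      rintro ⟨g, rfl⟩
      refine ⟨⟨Finset.subset_univ _, by rw [Finset.card_smul_finset]; exact hsc⟩, ?_⟩
      rwa [Nat.card_congr (MulAction.stabilizerEquivStabilizer (g := g) rfl).toEquiv.symm]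
    rw [hset, ← Fintype.card_subtype]
    obtain ⟨i, hi, hie⟩ := (Nat.dvd_prime_pow hp).1 (hsc ▸ card_dvd_of_subset s)
    have hlt : i < β := lt_of_le_of_ne hi fun h => hne (by rw [hie, h])
    obtain ⟨r, rfl⟩ : ∃ r, β = i + 1 + r := ⟨β - i - 1, by omega⟩
    have h := horb s
    rw [hie] at h
    rw [← Nat.card_eq_fintype_card] at h ⊢
    refine Dvd.intro (p ^ r) (Nat.eq_of_mul_eq_mul_right (pow_pos hp.pos i) ?_)
    exact (show p * k * p ^ r * p ^ i = k * p ^ (i + 1 + r) by ring).trans h.symm
  have hsum : k * (k * p ^ β - 1).choose (p ^ β - 1) =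
      Hs.card * k + (X.filter fun s => ¬ Nat.card (MulAction.stabilizer G s) = p ^ β).card := by
    rw [← hA, Finset.card_filter_add_card_filter_not, hX, Finset.card_powersetCard, Finset.card_univ,
      ← Nat.card_eq_fintype_card, hk, mul_comm (p ^ β) k]
    have h := Nat.add_one_mul_choose_eq (k * p ^ β - 1) (p ^ β - 1)
    rw [Nat.sub_add_cancel (Nat.mul_pos hk0 hpp), Nat.sub_add_cancel hpp] at h
    refine Nat.eq_of_mul_eq_mul_right hpp ?_
    rw [← h]; ring
  obtain ⟨c, hc⟩ := hB
  rw [hc] at hsum
  have h2 : (k * p ^ β - 1).choose (p ^ β - 1) = Hs.card + p * c :=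
    Nat.eq_of_mul_eq_mul_left hk0 (by rw [hsum]; ring)
  have h3 := choose_sub_one_modEq p β k hk0
  rw [h2] at h3
  rw [Nat.card_eq_fintype_card, Fintype.card_subtype]
  refine Nat.ModEq.trans ?_ h3
  show Hs.card % p = (Hs.card + p * c) % p
  rw [Nat.add_mul_mod_self_left]

/-- Normal subgroups of given order in a `p`-group. -/
theorem card_normal_modEq_one [Finite G] {p m s : ℕ} (hp : p.Prime) (hG : Nat.card G = p ^ m)
    (hs : s ≤ m) : Nat.card {H : Subgroup G // H.Normal ∧ Nat.card H = p ^ s} ≡ 1 [MOD p] := by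
  haveI := Fact.mk hp
  haveI := Fintype.ofFinite G
  let α := {H : Subgroup G // Nat.card H = p ^ s}
  letI : MulAction (ConjAct G) α :=
    { smul := fun g H => ⟨H.1.map (MulAut.conj (ConjAct.ofConjAct g)).toMonoidHom, by
        rw [Subgroup.card_map_of_injective (MulAut.conj _).injective]; exact H.2⟩
      one_smul := fun H => Subtype.ext (by
        show H.1.map (MulAut.conj (ConjAct.ofConjAct (1 : ConjAct G))).toMonoidHom = H.1
        rw [ConjAct.ofConjAct_one, map_one]
        exact Subgroup.map_id _)
      mul_smul := fun g g' H => Subtype.ext (by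
        show H.1.map (MulAut.conj (ConjAct.ofConjAct (g * g'))).toMonoidHom =
          (H.1.map (MulAut.conj (ConjAct.ofConjAct g')).toMonoidHom).map
            (MulAut.conj (ConjAct.ofConjAct g)).toMonoidHom
        rw [Subgroup.map_map, ConjAct.ofConjAct_mul, map_mul]
        rfl) }
  have hP : IsPGroup p (ConjAct G) := IsPGroup.of_card (n := m) (by
    rw [← hG]; exact Nat.card_congr ConjAct.ofConjAct.toEquiv)
  have h1 := hP.card_modEq_card_fixedPoints α
  have h2 : Nat.card (MulAction.fixedPoints (ConjAct G) α) =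
      Nat.card {H : Subgroup G // H.Normal ∧ Nat.card H = p ^ s} := by
    refine Nat.card_congr
      { toFun := fun H => ⟨H.1.1, ⟨fun x hx g => ?_⟩, H.1.2⟩
        invFun := fun H => ⟨⟨H.1, H.2.2⟩, fun g => Subtype.ext ?_⟩
        left_inv := fun H => rfl
        right_inv := fun H => rfl }
    · have := H.2 (ConjAct.toConjAct g)
      have h' : H.1.1.map (MulAut.conj g).toMonoidHom = H.1.1 := congrArg Subtype.val this
      rw [← h']
      exact ⟨x, hx, rfl⟩
    · haveI := H.2.1
      show H.1.map (MulAut.conj (ConjAct.ofConjAct g)).toMonoidHom = H.1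
      ext x
      refine ⟨fun ⟨y, hy, hyx⟩ => hyx ▸ H.2.1.conj_mem y hy (ConjAct.ofConjAct g), fun hx => ?_⟩
      refine ⟨(ConjAct.ofConjAct g)⁻¹ * x * ConjAct.ofConjAct g,
        by simpa using H.2.1.conj_mem x hx (ConjAct.ofConjAct g)⁻¹, ?_⟩
      simp [mul_assoc]
  rw [← h2]
  exact h1.symm.trans (card_modEq_one hp (hG ▸ pow_dvd_pow p hs))

end CfsgLib.Kulakoff
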