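import Cfsg.Agent.Solvable.MaximalClass
import Cfsg.Agent.FGSB.CyclicCount
import Cfsg.Agent.FGSB.KulakoffCount
import Mathlib.GroupTheory.FiniteAbelian.Duality
import Mathlib.RingTheory.RootsOfUnity.AlgebraicallyClosed
import Mathlib.Analysis.Complex.Polynomial.Basic
import Mathlib.Algebra.BigOperators.Ring.Finset
import Mathlib.Data.ZMod.Basic
import Mathlib.Tactic

/-!
Kulakoff's theorem: the number of subgroups of a given order modulo `p ^ 2`.
-/

set_option autoImplicit false
set_option linter.unusedSectionVars false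
set_option linter.style.haveILetI false

namespace CfsgLib.KulakoffSharp

open Subgroup
open scoped commutatorElement

universe u

section Elementary

/-- In an elementary abelian group the subgroups of index `p` are counted by those of order `p`. -/
theorem card_index_prime {V : Type*} [CommGroup V] [Finite V] {p : ℕ} [hp : Fact p.Prime]
    (hV : IsPGroup p V) :
    Nat.card {W : Subgroup V // W.index = p} = Nat.card {W : Subgroup V // Nat.card W = p} := by
  haveI : NeZero (Monoid.exponent V) := ⟨Monoid.exponent_ne_zero_of_finite⟩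
  haveI : NeZero (Monoid.exponent V : ℂ) := ⟨Nat.cast_ne_zero.2 Monoid.exponent_ne_zero_of_finite⟩
  let e : (V →* ℂˣ) ≃* V := (CommGroup.monoidHom_mulEquiv_of_hasEnoughRootsOfUnity V ℂ).some
  let o : Subgroup V ≃o (Subgroup V)ᵒᵈ :=
    (CommGroup.subgroupOrderIsoSubgroupMonoidHom V ℂ).trans e.mapSubgroup.dual
  have hco : ∀ W : Subgroup V, W.index = p ↔ IsCoatom W := by
    intro W
    constructor
    · intro h
      refine ⟨fun e => hp.out.ne_one (by rw [← h, e, index_top]), fun K hK => index_eq_one.1 ?_⟩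
      have h1 := relIndex_mul_index hK.le
      rcases (Nat.dvd_prime hp.out).1 (h ▸ index_dvd_of_le hK.le) with h2 | h2
      · exact h2
      · exact absurd (relIndex_eq_one.1 ((mul_eq_right₀ (hp.out.ne_zero)).1 (by rwa [h2, h] at h1))) hK.not_ge
    · intro h
      have hne : W.index ≠ 1 := fun e => h.1 (index_eq_one.1 e)
      obtain ⟨j, hj⟩ := hV.index W
      obtain ⟨x, hx⟩ := exists_prime_orderOf_dvd_card' (G := V ⧸ W) p (by
        rw [← index_eq_card, hj]
        exact dvd_pow_self p fun e => hne (by rw [hj, e, pow_zero]))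
      have h1 : (zpowers x).comap (QuotientGroup.mk' W) = ⊤ := h.2 _ (lt_of_le_of_ne
        (QuotientGroup.le_comap_mk' W _) fun e => by
          obtain ⟨g, rfl⟩ := QuotientGroup.mk'_surjective W x
          have hg : g ∈ W := e ▸ (mem_zpowers _ : g ∈ (zpowers (QuotientGroup.mk' W g)).comap _)
          rw [QuotientGroup.mk'_apply, (QuotientGroup.eq_one_iff g).2 hg, orderOf_one] at hx
          exact hp.out.ne_one hx.symm)
      rw [← hx, index_eq_card]
      refine (orderOf_eq_card_of_forall_mem_zpowers fun y => ?_).symm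
      obtain ⟨g, rfl⟩ := QuotientGroup.mk'_surjective W y
      exact (h1 ▸ mem_top g : g ∈ (zpowers x).comap (QuotientGroup.mk' W))
  have hat : ∀ W : Subgroup V, Nat.card W = p ↔ IsAtom W := by
    intro W
    constructor
    · intro h
      refine ⟨fun e => hp.out.ne_one (by rw [← h, e, card_bot]), fun K hK => card_eq_one.1 ?_⟩
      rcases (Nat.dvd_prime hp.out).1 (h ▸ card_dvd_of_le hK.le) with h2 | h2
      · exact h2
      · exact absurd (eq_of_le_of_card_ge hK.le (le_of_eq (h.trans h2.symm))) hK.ne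
    · intro h
      obtain ⟨j, hj⟩ := (hV.to_subgroup W).exists_card_eq
      obtain ⟨x, hx⟩ := exists_prime_orderOf_dvd_card' (G := W) p (by
        rw [hj]
        exact dvd_pow_self p fun e => h.1 (card_eq_one.1 (by rw [hj, e, pow_zero])))
      have h1 : zpowers (x : V) = W := (h.le_iff.1 (zpowers_le.2 x.2)).resolve_left fun e => by
        rw [zpowers_eq_bot] at e
        rw [← Subgroup.orderOf_coe, e, orderOf_one] at hx
        exact hp.out.ne_one hx.symm
      rw [← h1, Nat.card_zpowers, Subgroup.orderOf_coe, hx]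
  refine Nat.card_congr ((o.toEquiv.trans OrderDual.ofDual).subtypeEquiv fun W => ?_)
  rw [hco, hat]
  show IsCoatom W ↔ IsAtom (OrderDual.ofDual (o W))
  constructor
  · intro h
    refine ⟨fun e' => h.1 (o.injective ?_), fun b hb => ?_⟩
    · rw [o.map_top]; exact OrderDual.ofDual.injective e'
    · have h1 : W < o.symm (OrderDual.toDual b) := by
        rw [← o.lt_iff_lt, o.apply_symm_apply]; exact hb
      have h2 := congrArg (fun K => OrderDual.ofDual (o K)) (h.2 _ h1)
      simp only [o.apply_symm_apply, o.map_top, OrderDual.ofDual_toDual] at h2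
      exact h2
  · intro h
    refine ⟨fun e' => h.1 ?_, fun K hK => o.injective ?_⟩
    · rw [e', o.map_top]; rfl
    · rw [o.map_top]
      exact OrderDual.ofDual.injective (h.2 _ (o.lt_iff_lt.2 hK : OrderDual.ofDual (o K) < OrderDual.ofDual (o W)))

theorem cast_card_index_prime {V : Type*} [CommGroup V] [Finite V] {p j : ℕ} [hp : Fact p.Prime]
    (hexp : ∀ v : V, v ^ p = 1) (hcard : Nat.card V = p ^ j) (hj : 2 ≤ j) :
    (Nat.card {W : Subgroup V // W.index = p} : ZMod (p ^ 2)) = 1 + p := by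
  classical
  rw [card_index_prime (fun v => ⟨1, by rw [pow_one]; exact hexp v⟩)]
  set N := Nat.card {W : Subgroup V // Nat.card W = p}
  have h1 : (p - 1) * N + 1 = p ^ j := by
    have h2 := CfsgLib.CyclicCount.count (⊤ : Subgroup V) hp.out.pos
    have e1 : {x : V // x ∈ (⊤ : Subgroup V) ∧ orderOf x = p} ≃ {x : V // x ≠ 1} :=
      Equiv.subtypeEquivRight fun x => by
        constructor
        · rintro ⟨-, h⟩ rfl
          rw [orderOf_one] at h
          exact hp.out.ne_one h.symm
        · exact fun h => ⟨mem_top x, orderOf_eq_prime (hexp x) h⟩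
    have e2 : {C : CfsgLib.CyclicCount.Cyc V p // C.1 ≤ ⊤} ≃ {W : Subgroup V // Nat.card W = p} :=
      (Equiv.subtypeUnivEquiv fun C => le_top).trans (Equiv.subtypeEquivRight fun W =>
        ⟨fun h => h.2, fun h => ⟨isCyclic_of_prime_card h, h⟩⟩)
    rw [Nat.card_congr e1, Nat.card_congr e2, Nat.totient_prime hp.out] at h2
    have h3 : Nat.card {x : V // x ≠ 1} + 1 = Nat.card V := by
      have := Nat.card_congr (Equiv.sumCompl fun x : V => x = 1)
      have h1 : Nat.card {a : V // a = 1} = 1 := Nat.card_eq_one_iff_unique.2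
        ⟨⟨fun a b => Subtype.ext (a.2.trans b.2.symm)⟩, ⟨⟨1, rfl⟩⟩⟩
      rw [Nat.card_sum, h1] at this
      simp only [ne_eq]
      omega
    rw [h2, hcard] at h3
    rw [mul_comm]; exact h3
  have h2 : ((p : ZMod (p ^ 2)) - 1) * N + 1 = 0 := by
    have := congrArg (fun t : ℕ => (t : ZMod (p ^ 2))) h1
    simp only [Nat.cast_add, Nat.cast_mul, Nat.cast_one, Nat.cast_sub hp.out.one_le] at this
    rw [this]
    exact (ZMod.natCast_eq_zero_iff _ _).2 (pow_dvd_pow p hj)
  have hpp : (p : ZMod (p ^ 2)) * p = 0 := by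
    rw [← Nat.cast_mul, ← pow_two, ZMod.natCast_self]
  linear_combination (-(1 : ZMod (p ^ 2)) - p) * h2 + (N : ZMod (p ^ 2)) * hpp

end Elementary

section General

theorem pmul_cast {p : ℕ} (a : ℕ) (h : a ≡ 1 [MOD p]) : (p : ZMod (p ^ 2)) * (a : ZMod (p ^ 2)) = p := by
  rw [← Nat.cast_mul, ZMod.natCast_eq_natCast_iff]
  have := Nat.ModEq.mul_left' p h
  rwa [mul_one, ← pow_two] at this


variable {G : Type u} [Group G] [Finite G] {p : ℕ} [hp : Fact p.Prime]

/-- A normal subgroup with elementary abelian quotient. -/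
def ElemQuot (p : ℕ) (H : Subgroup G) : Prop := H.Normal ∧ (∀ x : G, x ^ p ∈ H) ∧ commutator G ≤ H

theorem ElemQuot.mono {H K : Subgroup G} (h : ElemQuot p H) (hle : H ≤ K) : ElemQuot p K :=
  ⟨⟨fun k hk g => by
    have e : g * k * g⁻¹ = ⁅g, k⁆ * k := by simp [commutatorElement_def, mul_assoc]
    rw [e]
    exact mul_mem (hle (h.2.2 (commutator_mem_commutator (mem_top g) (mem_top k)))) hk⟩,
    fun x => hle (h.2.1 x), h.2.2.trans hle⟩

theorem elemQuot_of_index {M : Subgroup G} (hG : IsPGroup p G) (hM : M.index = p) : ElemQuot p M := by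
  haveI := hG.isNilpotent
  have hco : IsCoatom M := ⟨fun e => hp.out.ne_one (by rw [← hM, e, index_top]), fun K hK => index_eq_one.1 (by
    have h1 := relIndex_mul_index hK.le
    rcases (Nat.dvd_prime hp.out).1 (hM ▸ index_dvd_of_le hK.le) with h2 | h2
    · exact h2
    · exact absurd (relIndex_eq_one.1 ((mul_eq_right₀ (hp.out.ne_zero)).1 (by rwa [h2, hM] at h1))) hK.not_ge)⟩
  haveI : M.Normal := NormalizerCondition.normal_of_coatom M Group.normalizerCondition_of_isNilpotent hco
  refine ⟨inferInstance, fun x => hM ▸ pow_index_mem M x, ?_⟩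
  haveI : IsCyclic (G ⧸ M) := isCyclic_of_prime_card (p := p) (by rw [← index_eq_card, hM])
  letI : CommGroup (G ⧸ M) := IsCyclic.commGroup
  rw [← QuotientGroup.ker_mk' M]
  exact Abelianization.commutator_subset_ker _

theorem count_over {H : Subgroup G} (hH : ElemQuot p H) {j : ℕ} (hj : H.index = p ^ j) :
    (j = 1 → Nat.card {M : Subgroup G // M.index = p ∧ H ≤ M} = 1 ∧
        Nat.card {D : Subgroup G // D.index = p ^ 2 ∧ H ≤ D} = 0) ∧
    (2 ≤ j → (Nat.card {M : Subgroup G // M.index = p ∧ H ≤ M} : ZMod (p ^ 2)) = 1 + p ∧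
        Nat.card {D : Subgroup G // D.index = p ^ 2 ∧ H ≤ D} ≡ 1 [MOD p]) := by
  classical
  haveI := hH.1
  refine ⟨fun h1 => ⟨?_, ?_⟩, fun h2 => ?_⟩
  · rw [h1, pow_one] at hj
    refine Nat.card_eq_one_iff_unique.2 ⟨⟨fun a b => ?_⟩, ⟨⟨H, hj, le_rfl⟩⟩⟩
    have key : ∀ M : {M : Subgroup G // M.index = p ∧ H ≤ M}, M.1 = H := fun M => by
      refine (eq_of_le_of_card_ge M.2.2 (le_of_eq ?_)).symm
      have e1 := card_mul_index M.1
      have e2 := card_mul_index H
      rw [M.2.1] at e1
      rw [hj] at e2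
      exact Nat.eq_of_mul_eq_mul_right hp.out.pos (e1.trans e2.symm)
    exact Subtype.ext ((key a).trans (key b).symm)
  · refine Nat.card_eq_zero.2 (Or.inl ⟨fun D => ?_⟩)
    have := Nat.le_of_dvd (pow_pos hp.out.pos _) (hj ▸ D.2.1 ▸ index_dvd_of_le D.2.2)
    rw [h1] at this
    exact absurd ((Nat.pow_le_pow_iff_right hp.out.one_lt).1 this) (by norm_num)
  have hcomm : ∀ a b : G ⧸ H, a * b = b * a := by
    intro a b
    obtain ⟨a, rfl⟩ := QuotientGroup.mk_surjective a
    obtain ⟨b, rfl⟩ := QuotientGroup.mk_surjective b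
    rw [← QuotientGroup.mk_mul, ← QuotientGroup.mk_mul, QuotientGroup.eq]
    have e : (a * b)⁻¹ * (b * a) = ⁅b⁻¹, a⁻¹⁆ := by simp [commutatorElement_def, mul_assoc]
    rw [e]
    exact hH.2.2 (commutator_mem_commutator (mem_top _) (mem_top _))
  letI : CommGroup (G ⧸ H) := { (inferInstance : Group (G ⧸ H)) with mul_comm := hcomm }
  have hexp : ∀ v : G ⧸ H, v ^ p = 1 := fun v => by
    obtain ⟨v, rfl⟩ := QuotientGroup.mk_surjective v
    rw [← QuotientGroup.mk_pow, QuotientGroup.eq_one_iff]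
    exact hH.2.1 v
  have hV : Nat.card (G ⧸ H) = p ^ j := hj
  have e : ∀ n : ℕ, {W : Subgroup (G ⧸ H) // W.index = n} ≃ {M : Subgroup G // M.index = n ∧ H ≤ M} := fun n =>
    { toFun := fun W => ⟨W.1.comap (QuotientGroup.mk' H),
        (index_comap_of_surjective _ (QuotientGroup.mk'_surjective H)).trans W.2, QuotientGroup.le_comap_mk' H _⟩
      invFun := fun M => ⟨M.1.map (QuotientGroup.mk' H), by
        rw [index_map_eq _ (QuotientGroup.mk'_surjective H) (by rw [QuotientGroup.ker_mk']; exact M.2.2)]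
        exact M.2.1⟩
      left_inv := fun W => Subtype.ext (map_comap_eq_self_of_surjective (QuotientGroup.mk'_surjective H) _)
      right_inv := fun M => Subtype.ext (comap_map_eq_self (by rw [QuotientGroup.ker_mk']; exact M.2.2)) }
  refine ⟨?_, ?_⟩
  · rw [← Nat.card_congr (e p)]
    exact cast_card_index_prime hexp hV h2
  · rw [← Nat.card_congr (e (p ^ 2)), Nat.card_congr (Equiv.subtypeEquivRight (q := fun W : Subgroup (G ⧸ H) =>
      Nat.card W = p ^ (j - 2)) fun W => ?_)]
    · exact CfsgLib.Kulakoff.card_modEq_one hp.out (hV ▸ pow_dvd_pow p (Nat.sub_le j 2))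
    · have h3 := card_mul_index W
      rw [hV, ← Nat.sub_add_cancel h2, pow_add] at h3
      constructor
      · intro h; rw [h] at h3; exact Nat.eq_of_mul_eq_mul_right (pow_pos hp.out.pos _) h3
      · intro h; rw [h] at h3; exact Nat.eq_of_mul_eq_mul_left (pow_pos hp.out.pos _) h3

/-- The subgroup generated by `p`-th powers and commutators. -/
def phi (p : ℕ) (G : Type*) [Group G] : Subgroup G := commutator G ⊔ closure (Set.range fun x : G => x ^ p)

theorem elemQuot_phi : ElemQuot p (phi p G) := by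
  refine ⟨⟨fun k hk g => ?_⟩, fun x => mem_sup_right (subset_closure ⟨x, rfl⟩), le_sup_left⟩
  have e : g * k * g⁻¹ = ⁅g, k⁆ * k := by simp [commutatorElement_def, mul_assoc]
  rw [e]
  exact mul_mem (mem_sup_left (commutator_mem_commutator (mem_top g) (mem_top k))) hk

theorem phi_le {M : Subgroup G} (h : ElemQuot p M) : phi p G ≤ M :=
  sup_le h.2.2 ((closure_le M).2 (by rintro _ ⟨x, rfl⟩; exact h.2.1 x))

theorem exists_index (hG : IsPGroup p G) {K : Subgroup G} (hK : K ≠ ⊤) :
    ∃ M : Subgroup G, M.index = p ∧ K ≤ M := by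
  haveI := hG.isNilpotent
  obtain ⟨M, hM, hKM⟩ := (eq_top_or_exists_le_coatom K).resolve_left hK
  haveI : M.Normal := NormalizerCondition.normal_of_coatom M Group.normalizerCondition_of_isNilpotent hM
  obtain ⟨j, hj⟩ := hG.index M
  obtain ⟨x, hx⟩ := exists_prime_orderOf_dvd_card' (G := G ⧸ M) p (by
    rw [← index_eq_card, hj]
    exact dvd_pow_self p fun e => hM.1 (index_eq_one.1 (by rw [hj, e, pow_zero])))
  have h1 : (zpowers x).comap (QuotientGroup.mk' M) = ⊤ := hM.2 _ (lt_of_le_of_ne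
    (QuotientGroup.le_comap_mk' M _) fun e => by
      obtain ⟨g, rfl⟩ := QuotientGroup.mk'_surjective M x
      have hg : g ∈ M := e ▸ (mem_zpowers _ : g ∈ (zpowers (QuotientGroup.mk' M g)).comap _)
      rw [QuotientGroup.mk'_apply, (QuotientGroup.eq_one_iff g).2 hg, orderOf_one] at hx
      exact hp.out.ne_one hx.symm)
  refine ⟨M, ?_, hKM⟩
  rw [← hx, index_eq_card]
  refine (orderOf_eq_card_of_forall_mem_zpowers fun y => ?_).symm
  obtain ⟨g, rfl⟩ := QuotientGroup.mk'_surjective M y
  exact (h1 ▸ mem_top g : g ∈ (zpowers x).comap (QuotientGroup.mk' M))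

theorem isCyclic_of_index_phi (hG : IsPGroup p G) {j : ℕ} (hj : (phi p G).index = p ^ j) (h : j ≤ 1) :
    IsCyclic G := by
  rcases Nat.le_one_iff_eq_zero_or_eq_one.1 h with rfl | rfl
  · have htop : phi p G = ⊤ := index_eq_one.1 (by rw [hj, pow_zero])
    by_cases hb : (⊥ : Subgroup G) = ⊤
    · haveI : Subsingleton G := ⟨fun a b =>
        (mem_bot.1 (hb ▸ mem_top a)).trans (mem_bot.1 (hb ▸ mem_top b)).symm⟩
      exact isCyclic_of_subsingleton
    · obtain ⟨M, hM, -⟩ := exists_index hG hb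
      have : M = ⊤ := top_le_iff.1 (htop ▸ phi_le (elemQuot_of_index hG hM))
      rw [this, index_top] at hM
      exact absurd hM.symm hp.out.ne_one
  · rw [pow_one] at hj
    obtain ⟨x, -, hx⟩ := SetLike.exists_of_lt ((lt_top_iff_ne_top.2 fun e =>
      hp.out.ne_one (by rw [← hj, e, index_top])) : phi p G < ⊤)
    refine isCyclic_iff_exists_zpowers_eq_top.2 ⟨x, by_contra fun hne => ?_⟩
    obtain ⟨M, hM, hle⟩ := exists_index hG hne
    have h2 := phi_le (elemQuot_of_index hG hM)
    have h3 : phi p G = M := eq_of_le_of_card_ge h2 (le_of_eq (by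
      have e1 := card_mul_index M
      have e2 := card_mul_index (phi p G)
      rw [hM] at e1
      rw [hj] at e2
      exact Nat.eq_of_mul_eq_mul_right hp.out.pos (e1.trans e2.symm)))
    exact hx (h3 ▸ hle (mem_zpowers x))

theorem phi_index (hG : IsPGroup p G) (hnc : ¬ IsCyclic G) : ∃ j, 2 ≤ j ∧ (phi p G).index = p ^ j := by
  obtain ⟨j, hj⟩ := hG.index (phi p G)
  exact ⟨j, by by_contra h; exact hnc (isCyclic_of_index_phi hG hj (by omega)), hj⟩

theorem phi_subtype (hG : IsPGroup p G) (H : Subgroup G) :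
    Nat.card {M : Subgroup G // M.index = p} = Nat.card {M : Subgroup G // M.index = p ∧ phi p G ≤ M} :=
  Nat.card_congr (Equiv.subtypeEquivRight fun M =>
    ⟨fun h => ⟨h, phi_le (elemQuot_of_index hG h)⟩, fun h => h.1⟩)

/-- Number of maximal subgroups. -/
theorem cast_card_maximal (hG : IsPGroup p G) (hnc : ¬ IsCyclic G) :
    (Nat.card {M : Subgroup G // M.index = p} : ZMod (p ^ 2)) = 1 + p := by
  obtain ⟨j, hj2, hj⟩ := phi_index hG hnc
  rw [phi_subtype hG ⊥]
  exact ((count_over elemQuot_phi hj).2 hj2).1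

/-- The enumeration identity. -/
theorem identity (hG : IsPGroup p G) (hnc : ¬ IsCyclic G) {k m : ℕ} (hm : Nat.card G = p ^ m)
    (hk : k + 1 < m) [Fintype {M : Subgroup G // M.index = p}] :
    (Nat.card {K : Subgroup G // Nat.card K = p ^ k} : ZMod (p ^ 2)) + p =
      ∑ M : {M : Subgroup G // M.index = p}, (Nat.card {K : Subgroup M.1 // Nat.card K = p ^ k} : ZMod (p ^ 2)) := by
  classical
  haveI := Fintype.ofFinite (Subgroup G)
  have hsub : ∀ M : Subgroup G, Nat.card {K : Subgroup M // Nat.card K = p ^ k} =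
      Nat.card {K : Subgroup G // Nat.card K = p ^ k ∧ K ≤ M} := fun M => Nat.card_congr
    { toFun := fun K => ⟨K.1.map M.subtype, (card_map_of_injective M.subtype_injective).trans K.2, map_subtype_le _⟩
      invFun := fun K => ⟨K.1.subgroupOf M, (Nat.card_congr (subgroupOfEquivOfLe K.2.2).toEquiv).trans K.2.1⟩
      left_inv := fun K => Subtype.ext (comap_map_eq_self_of_injective M.subtype_injective _)
      right_inv := fun K => Subtype.ext (map_subgroupOf_eq_of_le K.2.2) }
  -- swapping the two sums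
  have hswap : ∀ P : Subgroup G → Prop, ∀ [Fintype {M : Subgroup G // P M}],
      ∑ M : {M : Subgroup G // P M}, (Nat.card {K : Subgroup G // Nat.card K = p ^ k ∧ K ≤ M.1} : ZMod (p ^ 2)) =
        ∑ K ∈ Finset.univ.filter (fun K : Subgroup G => Nat.card K = p ^ k),
          (Nat.card {M : Subgroup G // P M ∧ K ≤ M} : ZMod (p ^ 2)) := by
    intro P _
    have e1 : ∀ (α : Type u) [Fintype α] (P' : α → Prop), (Nat.card {M : α // P' M} : ZMod (p ^ 2)) =
        ∑ M : α, if P' M then 1 else 0 := fun α _ P' => by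
      rw [Nat.card_eq_fintype_card, Fintype.card_subtype, Finset.sum_boole]
    simp only [e1 (Subgroup G) (fun K => Nat.card K = p ^ k ∧ K ≤ _)]
    rw [Finset.sum_comm, Finset.sum_filter]
    refine Finset.sum_congr rfl fun K _ => ?_
    by_cases hK : Nat.card K = p ^ k
    · simp only [hK, true_and, if_true]
      rw [← e1 _ (fun M : {M : Subgroup G // P M} => K ≤ M.1)]
      exact congrArg Nat.cast (Nat.card_congr (Equiv.subtypeSubtypeEquivSubtypeInter P (fun M => K ≤ M)))
    · simp [hK]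
  set Φ := phi p G
  haveI : Fintype {D : Subgroup G // D.index = p ^ 2 ∧ Φ ≤ D} := Fintype.ofFinite _
  have hD : ∀ D : {D : Subgroup G // D.index = p ^ 2 ∧ Φ ≤ D},
      (p : ZMod (p ^ 2)) * (Nat.card {K : Subgroup G // Nat.card K = p ^ k ∧ K ≤ D.1} : ZMod (p ^ 2)) = p := by
    intro D
    rw [← hsub]
    have h1 : Nat.card D.1 * p ^ 2 = p ^ m := by
      have := card_mul_index D.1
      rwa [D.2.1, hm] at this
    have h2 : p ^ k ∣ Nat.card D.1 := by
      rw [← Nat.sub_add_cancel (show 2 ≤ m by omega), pow_add] at h1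
      rw [Nat.eq_of_mul_eq_mul_right (pow_pos hp.out.pos _) h1]
      exact pow_dvd_pow p (by omega)
    exact pmul_cast _ (CfsgLib.Kulakoff.card_modEq_one (G := D.1) hp.out h2)
  have hDcount : (p : ZMod (p ^ 2)) * (Nat.card {D : Subgroup G // D.index = p ^ 2 ∧ Φ ≤ D} : ZMod (p ^ 2)) = p := by
    obtain ⟨j, hj2, hj⟩ := phi_index hG hnc
    exact pmul_cast _ ((count_over elemQuot_phi hj).2 hj2).2
  have hlhs : (p : ZMod (p ^ 2)) * ∑ D : {D : Subgroup G // D.index = p ^ 2 ∧ Φ ≤ D},
      (Nat.card {K : Subgroup G // Nat.card K = p ^ k ∧ K ≤ D.1} : ZMod (p ^ 2)) = p := by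
    rw [Finset.mul_sum, Finset.sum_congr rfl fun D _ => hD D, Finset.sum_const, nsmul_eq_mul,
      Finset.card_univ, ← Nat.card_eq_fintype_card, mul_comm]
    exact hDcount
  simp only [hsub]
  rw [hswap (fun M => M.index = p)]
  conv_lhs => rw [← hlhs, hswap (fun D => D.index = p ^ 2 ∧ Φ ≤ D), Nat.card_eq_fintype_card,
    Fintype.card_subtype, Finset.card_eq_sum_ones, Nat.cast_sum, Finset.mul_sum, ← Finset.sum_add_distrib]
  refine Finset.sum_congr rfl fun K hK => ?_
  rw [Finset.mem_filter] at hK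
  set H := K ⊔ Φ
  have hH : ElemQuot p H := elemQuot_phi.mono le_sup_right
  have eM : Nat.card {M : Subgroup G // M.index = p ∧ K ≤ M} = Nat.card {M : Subgroup G // M.index = p ∧ H ≤ M} :=
    Nat.card_congr (Equiv.subtypeEquivRight fun M =>
      ⟨fun h => ⟨h.1, sup_le h.2 (phi_le (elemQuot_of_index hG h.1))⟩, fun h => ⟨h.1, le_sup_left.trans h.2⟩⟩)
  have eD : Nat.card {D : Subgroup G // (D.index = p ^ 2 ∧ Φ ≤ D) ∧ K ≤ D} =
      Nat.card {D : Subgroup G // D.index = p ^ 2 ∧ H ≤ D} :=
    Nat.card_congr (Equiv.subtypeEquivRight fun D =>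
      ⟨fun h => ⟨h.1.1, sup_le h.2 h.1.2⟩, fun h => ⟨⟨h.1, le_sup_right.trans h.2⟩, le_sup_left.trans h.2⟩⟩)
  rw [eM, eD, Nat.cast_one]
  obtain ⟨j, hj⟩ := hG.index H
  rcases Nat.lt_or_ge j 2 with hj2 | hj2
  · interval_cases j
    · exfalso
      have hne : K ≠ ⊤ := fun e => by
        rw [e, card_top, hm] at hK
        exact absurd (Nat.pow_right_injective hp.out.two_le hK.2) (by omega)
      obtain ⟨M, hM, hKM⟩ := exists_index hG hne
      have := index_dvd_of_le (sup_le hKM (phi_le (elemQuot_of_index hG hM)) : H ≤ M)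
      rw [hM, hj, pow_zero] at this
      exact hp.out.ne_one (Nat.dvd_one.1 this)
    · obtain ⟨h1, h2⟩ := (count_over hH hj).1 rfl
      rw [h1, h2]; simp
  · obtain ⟨h1, h2⟩ := (count_over hH hj).2 hj2
    rw [h1, pmul_cast _ h2]

end General

end CfsgLib.KulakoffSharp
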