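import Cfsg.Agent.FGSB.KulakoffSharp

/-!
Parity of the number of cyclic and maximal class maximal subgroups of a `2`-group, and Kulakoff's theorem.
-/

set_option autoImplicit false
set_option linter.unusedSectionVars false
set_option linter.style.haveILetI false

namespace CfsgLib.KulakoffSharp

open Subgroup
open scoped commutatorElement

universe u

variable {G : Type u} [Group G] [Finite G]

/-- Cyclic, or of maximal class. -/
def Bad2 (G : Type*) [Group G] : Prop := IsCyclic G ∨ (commutator G).index = 4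

theorem four_dvd_index (hG : IsPGroup 2 G) (hnc : ¬ IsCyclic G) : 4 ∣ (commutator G).index := by
  haveI := Fact.mk Nat.prime_two
  obtain ⟨j, hj2, hj⟩ := phi_index hG hnc
  have h1 : 2 ^ j ∣ (commutator G).index := hj ▸ index_dvd_of_le le_sup_left
  exact (show (4 : ℕ) ∣ 2 ^ j from pow_dvd_pow 2 hj2).trans h1

theorem odd_root {c : G} {k u : ℤ} {n : ℕ} (hn : orderOf c = 2 ^ n) (hu : Odd u) :
    c ^ k ∈ zpowers (c ^ (k * u)) := by
  have hco : IsCoprime u ((2 : ℤ) ^ n) := by
    refine IsCoprime.pow_right ?_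
    obtain ⟨w, rfl⟩ := hu
    exact ⟨1, -w, by ring⟩
  obtain ⟨a, b, hab⟩ := hco
  have hN : c ^ ((2 : ℤ) ^ n) = 1 := by
    rw [show ((2 : ℤ) ^ n) = ((2 ^ n : ℕ) : ℤ) by push_cast; ring, zpow_natCast, ← hn, pow_orderOf_eq_one]
  refine mem_zpowers_iff.2 ⟨a, ?_⟩
  conv_rhs => rw [← mul_one k, ← hab, mul_add, zpow_add, show k * (b * (2 : ℤ) ^ n) = (2 : ℤ) ^ n * (k * b) by ring,
    zpow_mul c ((2 : ℤ) ^ n), hN, one_zpow, mul_one]
  rw [← zpow_mul]
  congr 1
  ring

/-- The maximal subgroup through `g`. -/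
theorem half {c g : G} {n : ℕ} (hn : orderOf c = 2 ^ (n + 2)) (hidx : (zpowers c).index = 2)
    (hg : g ∉ zpowers c) {i s : ℤ} (hi : g * c * g⁻¹ = c ^ i) (hs : g * g = c ^ s) (hse : (2 : ℤ) ∣ s)
    (hio : (2 : ℤ) ∣ i - 1) :
    ∃ M : Subgroup G, M.index = 2 ∧ g ∈ M ∧ (∀ M' : Subgroup G, M'.index = 2 → g ∈ M' → c ∉ M' → M' = M) ∧
      c ∉ M ∧ (IsCyclic M ↔ ¬ (4 : ℤ) ∣ s) ∧ (¬ (4 : ℤ) ∣ i - 1 → 1 ≤ n → (commutator M).index = 4) := by
  have hN : ∀ t : ℤ, c ^ t = 1 ↔ ((2 ^ (n + 2) : ℕ) : ℤ) ∣ t := fun t => by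
    rw [← hn]; exact orderOf_dvd_iff_zpow_eq_one.symm
  have h2N : (2 : ℤ) ∣ ((2 ^ (n + 2) : ℕ) : ℤ) := ⟨((2 ^ (n + 1) : ℕ) : ℤ), by push_cast; ring⟩
  have hcard : Nat.card G = 2 ^ (n + 2) * 2 := by
    rw [← hn, ← Nat.card_zpowers, ← hidx, card_mul_index]
  have hconj : ∀ t : ℤ, g * c ^ t * g⁻¹ = c ^ (i * t) := fun t => by rw [← conj_zpow, hi, zpow_mul]
  have hdec : ∀ x : G, ∃ t : ℤ, x = c ^ t ∨ x = g * c ^ t := fun x => by
    by_cases hx : x ∈ zpowers c
    · obtain ⟨t, ht⟩ := mem_zpowers_iff.1 hx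
      exact ⟨t, Or.inl ht.symm⟩
    · have h1 : g⁻¹ * x ∈ zpowers c := by
        rw [mul_mem_iff_of_index_two hidx, inv_mem_iff]
        simp [hg, hx]
      obtain ⟨t, ht⟩ := mem_zpowers_iff.1 h1
      exact ⟨t, Or.inr (by rw [ht, mul_inv_cancel_left])⟩
  obtain ⟨s', hs'⟩ := hse
  obtain ⟨i', hi'⟩ := hio
  have hswap : ∀ t : ℤ, c ^ (2 * t) * g = g * c ^ (2 * (t * i) - 2 * (t * (i * i - 1))) := fun t => by
    have h1 : g * g * c ^ (2 * t) = c ^ (2 * t) * (g * g) := by
      rw [hs, ← zpow_add, ← zpow_add, add_comm]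
    have h2 : c ^ (i * (i * (2 * t))) = c ^ (2 * t) := by
      rw [← hconj, ← hconj, show g * (g * c ^ (2 * t) * g⁻¹) * g⁻¹ = g * g * c ^ (2 * t) * (g * g)⁻¹ by group,
        h1, mul_inv_cancel_right]
    have h3 := hconj (i * (2 * t))
    rw [h2] at h3
    rw [show 2 * (t * i) - 2 * (t * (i * i - 1)) = i * (2 * t) + (2 * t - i * (i * (2 * t))) by ring, zpow_add,
      zpow_sub, h2, mul_inv_cancel, mul_one, ← h3, inv_mul_cancel_right]
  let M : Subgroup G :=
    { carrier := {x | ∃ t : ℤ, x = c ^ (2 * t) ∨ x = g * c ^ (2 * t)}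
      one_mem' := ⟨0, Or.inl (by simp)⟩
      mul_mem' := by
        rintro a b ⟨t, rfl | rfl⟩ ⟨v, rfl | rfl⟩
        · exact ⟨t + v, Or.inl (by rw [← zpow_add]; ring_nf)⟩
        · refine ⟨t * i - t * (i * i - 1) + v, Or.inr ?_⟩
          rw [← mul_assoc, hswap, mul_assoc, ← zpow_add]; ring_nf
        · exact ⟨t + v, Or.inr (by rw [mul_assoc, ← zpow_add]; ring_nf)⟩
        · refine ⟨s' + (t * i - t * (i * i - 1) + v), Or.inl ?_⟩
          rw [mul_assoc, ← mul_assoc (c ^ (2 * t)), hswap, mul_assoc g, ← mul_assoc g g, hs, ← zpow_add, ← zpow_add,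
            hs']
          ring_nf
      inv_mem' := by
        rintro a ⟨t, rfl | rfl⟩
        · exact ⟨-t, Or.inl (by rw [← zpow_neg]; ring_nf)⟩
        · have e : (g * c ^ (2 * t))⁻¹ = c ^ (2 * (-t)) * g * c ^ (2 * (-s')) := by
            have h1 : g⁻¹ = g * c ^ (2 * (-s')) := by
              rw [mul_neg, ← hs', zpow_neg, ← hs]; group
            rw [mul_inv_rev, ← zpow_neg, mul_assoc, ← h1, mul_neg]
          refine ⟨-t * i - -t * (i * i - 1) + -s', Or.inr ?_⟩
          rw [e, hswap, mul_assoc, ← zpow_add]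
          ring_nf }
  have hMc : c ∉ M := by
    rintro ⟨t, h | h⟩
    · have : ((2 ^ (n + 2) : ℕ) : ℤ) ∣ 2 * t - 1 := (hN _).1 (by rw [zpow_sub, ← h, zpow_one, mul_inv_cancel])
      have h2 := h2N.trans this
      omega
    · refine hg ?_
      rw [eq_mul_inv_of_mul_eq h.symm]
      exact mul_mem (mem_zpowers c) (inv_mem (zpow_mem (mem_zpowers c) _))
  have hgM : g ∈ M := ⟨0, Or.inr (by simp)⟩
  have hMidx : M.index = 2 := by
    rw [index_eq_two_iff_exists_notMem_and]
    refine ⟨c, hMc, fun x => ?_⟩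
    obtain ⟨t, rfl | rfl⟩ := hdec x
    · rcases Int.even_or_odd t with ⟨v, hv⟩ | ⟨v, hv⟩
      · exact Or.inr ⟨v, Or.inl (by rw [hv]; ring_nf)⟩
      · exact Or.inl ⟨v + 1, Or.inl (by rw [← zpow_add_one, hv]; ring_nf)⟩
    · rcases Int.even_or_odd t with ⟨v, hv⟩ | ⟨v, hv⟩
      · exact Or.inr ⟨v, Or.inr (by rw [hv]; ring_nf)⟩
      · exact Or.inl ⟨v + 1, Or.inr (by rw [mul_assoc, ← zpow_add_one, hv]; ring_nf)⟩
  have hMcard : Nat.card M = 2 ^ (n + 2) := by
    have := card_mul_index M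
    rw [hMidx, hcard] at this
    omega
  have huniq : ∀ M' : Subgroup G, M'.index = 2 → g ∈ M' → c ∉ M' → M' = M := by
    intro M' h1 h2 h3
    refine (eq_of_le_of_card_ge ?_ ?_).symm
    · rintro x ⟨t, rfl | rfl⟩
      · rw [zpow_mul]; exact zpow_mem (by rw [zpow_two]; exact mul_self_mem_of_index_two h1 c) _
      · rw [zpow_mul]; exact mul_mem h2 (zpow_mem (by rw [zpow_two]; exact mul_self_mem_of_index_two h1 c) _)
    · have e1 := card_mul_index M'
      rw [h1, hcard] at e1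
      omega
  refine ⟨M, hMidx, hgM, huniq, hMc, ⟨fun hcyc h4 => ?_, fun h4 => ?_⟩, fun h4 hn1 => ?_⟩
  · -- every element has order at most half
    obtain ⟨s'', hs''⟩ := h4
    obtain ⟨x, hx⟩ := isCyclic_iff_exists_zpowers_eq_top.1 hcyc
    have hox : orderOf (x : G) = 2 ^ (n + 2) := by
      rw [Subgroup.orderOf_coe, ← Nat.card_zpowers, hx, card_top, hMcard]
    have key : (x : G) ^ (2 ^ (n + 1)) = 1 := by
      obtain ⟨t, ht | ht⟩ := x.2
      · rw [ht, ← zpow_natCast, ← zpow_mul, hN]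
        exact ⟨t, by push_cast; ring⟩
      · have h1 : (x : G) ^ 2 = c ^ (i * (2 * t) + s + 2 * t) := by
          rw [ht, pow_two, show g * c ^ (2 * t) * (g * c ^ (2 * t)) = (g * c ^ (2 * t) * g⁻¹) * (g * g) * c ^ (2 * t) by group,
            hconj, hs, ← zpow_add, ← zpow_add]
        rw [pow_succ', pow_mul, h1, ← zpow_natCast, ← zpow_mul, hN]
        refine ⟨s'' + t * (i' + 1), ?_⟩
        have : i = 2 * i' + 1 := by omega
        subst this hs''
        push_cast; ring
    have h1 := Nat.le_of_dvd (pow_pos two_pos _) (orderOf_dvd_of_pow_eq_one key)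
    rw [hox] at h1
    exact absurd ((Nat.pow_le_pow_iff_right (by norm_num : 1 < 2)).1 h1) (by omega)
  · -- `g` generates
    have hog : orderOf g = 2 ^ (n + 1 + 1) := by
      haveI := Fact.mk Nat.prime_two
      refine orderOf_eq_prime_pow ?_ ?_
      · rw [pow_succ', pow_mul, pow_two, hs, ← zpow_natCast, ← zpow_mul, hN]
        intro hd
        refine h4 ?_
        push_cast at hd
        simp only [pow_succ'] at hd
        rw [show s * (2 : ℤ) ^ n = (2 : ℤ) ^ n * s by ring,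
          show (2 : ℤ) * (2 * 2 ^ n) = 2 ^ n * 4 by ring] at hd
        exact (mul_dvd_mul_iff_left (by positivity)).1 hd
      · rw [pow_succ', pow_mul, pow_two, hs, ← zpow_natCast, ← zpow_mul, hN]
        exact ⟨s', by rw [hs']; push_cast; ring⟩
    refine isCyclic_of_orderOf_eq_card ⟨g, hgM⟩ ?_
    rw [Subgroup.orderOf_mk, hog, hMcard]
  · -- a large derived subgroup
    obtain ⟨n, rfl⟩ : ∃ n', n = n' + 1 := ⟨n - 1, by omega⟩
    have hu : Odd i' := by
      rcases Int.even_or_odd i' with ⟨w, hw⟩ | h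
      · exact absurd ⟨w, by rw [hi', hw]; ring⟩ h4
      · exact h
    have hs4 : (4 : ℤ) ∣ s := by
      have h1 : c ^ (i * s) = c ^ s := by
        rw [← hconj, ← hs, show g * (g * g) * g⁻¹ = g * g by group]
      have h2 : ((2 ^ (n + 1 + 2) : ℕ) : ℤ) ∣ i * s - s := (hN _).1 (by rw [zpow_sub, h1, mul_inv_cancel])
      obtain ⟨w, hw⟩ := hu
      have h3 : (8 : ℤ) ∣ i * s - s := (Dvd.intro ((2 ^ n : ℕ) : ℤ) (by push_cast; ring)).trans h2
      rw [show i * s - s = 2 * (i' * s) by rw [show i = 2 * i' + 1 by omega]; ring, show (8 : ℤ) = 2 * 4 by norm_num] at h3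
      have h5 := (mul_dvd_mul_iff_left (two_ne_zero' ℤ)).1 h3
      rw [hw] at h5
      obtain ⟨v, hv⟩ := h5
      refine ⟨v - w * s' , ?_⟩
      rw [hs'] at hv ⊢
      linarith
    have hnc : ¬ IsCyclic M := by
      intro hcyc
      obtain ⟨s'', hs''⟩ := hs4
      obtain ⟨x, hx⟩ := isCyclic_iff_exists_zpowers_eq_top.1 hcyc
      have hox : orderOf (x : G) = 2 ^ (n + 1 + 2) := by
        rw [Subgroup.orderOf_coe, ← Nat.card_zpowers, hx, card_top, hMcard]
      have key : (x : G) ^ (2 ^ (n + 1 + 1)) = 1 := by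
        obtain ⟨t, ht | ht⟩ := x.2
        · rw [ht, ← zpow_natCast, ← zpow_mul, hN]
          exact ⟨t, by push_cast; ring⟩
        · have h1 : (x : G) ^ 2 = c ^ (i * (2 * t) + s + 2 * t) := by
            rw [ht, pow_two, show g * c ^ (2 * t) * (g * c ^ (2 * t)) = (g * c ^ (2 * t) * g⁻¹) * (g * g) * c ^ (2 * t) by group,
              hconj, hs, ← zpow_add, ← zpow_add]
          rw [pow_succ', pow_mul, h1, ← zpow_natCast, ← zpow_mul, hN]
          refine ⟨s'' + t * (i' + 1), ?_⟩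
          have : i = 2 * i' + 1 := by omega
          subst this hs''
          push_cast; ring
      have h1 := Nat.le_of_dvd (pow_pos two_pos _) (orderOf_dvd_of_pow_eq_one key)
      rw [hox] at h1
      exact absurd ((Nat.pow_le_pow_iff_right (by norm_num : 1 < 2)).1 h1) (by omega)
    have hmem : c ^ (4 * i') ∈ (commutator M).map M.subtype := by
      refine ⟨⁅(⟨g, hgM⟩ : M), ⟨c ^ (2 * (1 : ℤ)), ⟨1, Or.inl rfl⟩⟩⁆, commutator_mem_commutator (mem_top _) (mem_top _), ?_⟩
      simp only [map_commutatorElement, coe_subtype, commutatorElement_def]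
      show g * c ^ (2 * (1 : ℤ)) * g⁻¹ * (c ^ (2 * (1 : ℤ)))⁻¹ = _
      rw [hconj, ← zpow_neg, ← zpow_add]
      congr 1
      rw [show i = 2 * i' + 1 by omega]; ring
    have hle : zpowers (c ^ (4 : ℤ)) ≤ (commutator M).map M.subtype :=
      zpowers_le.2 ((zpowers_le.2 hmem) (odd_root hn hu))
    have h1 := card_dvd_of_le hle
    rw [card_map_of_injective M.subtype_injective, Nat.card_zpowers, show (4 : ℤ) = ((4 : ℕ) : ℤ) from rfl,
      zpow_natCast, orderOf_pow_of_dvd (by norm_num) (by rw [hn]; exact pow_dvd_pow 2 (show 2 ≤ n + 1 + 2 by omega)),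
      hn, show (2 : ℕ) ^ (n + 1 + 2) = 2 ^ (n + 1) * 4 by rw [pow_add]; norm_num, Nat.mul_div_cancel _ (by norm_num)] at h1
    have h2 := card_mul_index (commutator M)
    rw [hMcard] at h2
    have h3 : (commutator M).index ∣ 4 := by
      obtain ⟨d, hd⟩ := h1
      refine ⟨d, Nat.eq_of_mul_eq_mul_left (pow_pos two_pos (n + 1)) ?_⟩
      rw [hd] at h2
      rw [show (2 : ℕ) ^ (n + 1) * 4 = 2 ^ (n + 1 + 2) by rw [pow_add (2 : ℕ) (n + 1) 2]; norm_num, ← h2]; ring
    exact Nat.dvd_antisymm h3 (four_dvd_index (IsPGroup.of_card hMcard) hnc)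

/-- A group with a cyclic subgroup of index two: its three maximal subgroups. -/
theorem index_two_data {m : ℕ} (hm : Nat.card G = 2 ^ m) (hm3 : 3 ≤ m) (hnc : ¬ IsCyclic G)
    {C : Subgroup G} (hC : IsCyclic C) (hidx : C.index = 2) :
    ∃ C₂ C₃ : Subgroup G, C₂ ≠ C ∧ C₃ ≠ C ∧ C₂ ≠ C₃ ∧
      (∀ M : Subgroup G, M.index = 2 ↔ M = C ∨ M = C₂ ∨ M = C₃) ∧
      ((commutator G).index ≠ 4 → (IsCyclic C₂ ↔ ¬ IsCyclic C₃)) ∧
      ((commutator G).index = 4 → (IsCyclic C₂ ↔ IsCyclic C₃) ∧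
        (4 ≤ m → (commutator C₂).index = 4 ∧ (commutator C₃).index = 4)) := by
  have hG : IsPGroup 2 G := IsPGroup.of_card hm
  obtain ⟨n, rfl⟩ : ∃ n, m = n + 2 + 1 := ⟨m - 3, by omega⟩
  obtain ⟨c, hzc⟩ : ∃ c : G, zpowers c = C := by
    obtain ⟨c₀, hc₀⟩ := isCyclic_iff_exists_zpowers_eq_top.1 hC
    refine ⟨c₀.1, ?_⟩
    rw [show (c₀ : G) = C.subtype c₀ from rfl, ← MonoidHom.map_zpowers, hc₀, ← MonoidHom.range_eq_map, range_subtype]
  subst hzc
  have hn : orderOf c = 2 ^ (n + 2) := by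
    have h1 := card_mul_index (zpowers c)
    rw [hidx, hm, Nat.card_zpowers, pow_succ] at h1
    omega
  have hnorm : (zpowers c).Normal := normal_of_index_eq_two hidx
  obtain ⟨g, -, hg⟩ := SetLike.exists_of_lt (lt_top_iff_ne_top.2 fun e => by
    rw [e, index_top] at hidx; omega : zpowers c < ⊤)
  obtain ⟨i, hi⟩ := mem_zpowers_iff.1 (hnorm.conj_mem c (mem_zpowers c) g)
  obtain ⟨s, hs⟩ := mem_zpowers_iff.1 (mul_self_mem_of_index_two hidx g)
  have hN : ∀ t : ℤ, c ^ t = 1 ↔ ((2 ^ (n + 2) : ℕ) : ℤ) ∣ t := fun t => by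
    rw [← hn]; exact orderOf_dvd_iff_zpow_eq_one.symm
  have hio : (2 : ℤ) ∣ i - 1 := by
    rcases Int.even_or_odd i with ⟨w, hw⟩ | ⟨w, hw⟩
    · exfalso
      have h1 : (g * c * g⁻¹) ^ (2 ^ (n + 1)) = 1 := by
        rw [← hi, ← zpow_natCast, ← zpow_mul, hN]
        exact ⟨w, by rw [hw]; push_cast; ring⟩
      rw [conj_pow, mul_inv_eq_one, mul_eq_left] at h1
      have := Nat.le_of_dvd (pow_pos two_pos _) (orderOf_dvd_of_pow_eq_one h1)
      rw [hn] at this
      exact absurd ((Nat.pow_le_pow_iff_right (by norm_num : 1 < 2)).1 this) (by omega)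
    · exact ⟨w, by rw [hw]; ring⟩
  have hse : (2 : ℤ) ∣ s := by
    rcases Int.even_or_odd s with ⟨w, hw⟩ | h
    · exact ⟨w, by rw [hw]; ring⟩
    · exfalso
      have h1 : c ∈ zpowers g := by
        have h2 := odd_root (k := 1) hn h
        rw [zpow_one, one_mul, hs] at h2
        exact (zpowers_le.2 (mul_mem (mem_zpowers g) (mem_zpowers g))) h2
      refine hnc (isCyclic_iff_exists_zpowers_eq_top.2 ⟨g, ?_⟩)
      refine index_eq_one.1 ?_
      have h3 := index_dvd_of_le (zpowers_le.2 h1)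
      rw [hidx] at h3
      rcases (Nat.dvd_prime Nat.prime_two).1 h3 with e | e
      · exact e
      · exfalso
        have e1 := card_mul_index (zpowers g)
        have e2 := card_mul_index (zpowers c)
        rw [e] at e1
        rw [hidx] at e2
        exact hg ((eq_of_le_of_card_ge (zpowers_le.2 h1) (by omega)) ▸ mem_zpowers g)
  obtain ⟨M₂, hM₂, hgM₂, hu₂, hcM₂, hcyc₂, hmax₂⟩ := half hn hidx hg hi.symm hs.symm hse hio
  have hgc : g * c ∉ zpowers c := fun h => hg ((mul_mem_cancel_right (mem_zpowers c)).1 h)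
  have hi' : g * c * c * (g * c)⁻¹ = c ^ i := by rw [hi]; group
  have hs'' : g * c * (g * c) = c ^ (i + s + 1) := by
    rw [show g * c * (g * c) = g * c * g⁻¹ * (g * g) * c by group, ← hi, ← hs, zpow_add, zpow_add, zpow_one]
  have hse' : (2 : ℤ) ∣ i + s + 1 := by omega
  obtain ⟨M₃, hM₃, hgM₃, hu₃, hcM₃, hcyc₃, hmax₃⟩ := half hn hidx hgc hi' hs'' hse' hio
  have h23 : M₂ ≠ M₃ := fun e => hcM₂ (by
    have := mul_mem (inv_mem hgM₂) (e ▸ hgM₃ : g * c ∈ M₂)
    simpa using this)
  refine ⟨M₂, M₃, fun e => hcM₂ (e ▸ mem_zpowers c), fun e => hcM₃ (e ▸ mem_zpowers c), h23, fun M => ?_, ?_, ?_⟩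
  · constructor
    · intro hMi
      by_cases hcM : c ∈ M
      · refine Or.inl (eq_of_le_of_card_ge (zpowers_le.2 hcM) ?_).symm
        have e1 := card_mul_index M
        have e2 := card_mul_index (zpowers c)
        rw [hMi] at e1
        rw [hidx] at e2
        omega
      · by_cases hgM : g ∈ M
        · exact Or.inr (Or.inl (hu₂ M hMi hgM hcM))
        · exact Or.inr (Or.inr (hu₃ M hMi (by rw [mul_mem_iff_of_index_two hMi]; simp [hgM, hcM]) hcM))
    · rintro (rfl | rfl | rfl) <;> assumption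
  · intro hne
    have h4 : (4 : ℤ) ∣ i - 1 := by
      by_contra h4
      refine hne (Nat.dvd_antisymm ?_ (four_dvd_index hG hnc))
      obtain ⟨w, hw⟩ := hio
      have hodd : Odd w := by
        rcases Int.even_or_odd w with ⟨v, hv⟩ | h
        · exact absurd ⟨v, by rw [hw, hv]; ring⟩ h4
        · exact h
      have hmem : c ^ (2 * w) ∈ commutator G := by
        have h1 := commutator_mem_commutator (H₁ := (⊤ : Subgroup G)) (H₂ := ⊤) (mem_top g) (mem_top c)
        rwa [show ⁅g, c⁆ = c ^ (2 * w) by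
          rw [commutatorElement_def, ← hi, ← hw, zpow_sub, zpow_one]] at h1
      have hle : zpowers (c ^ (2 : ℤ)) ≤ commutator G :=
        zpowers_le.2 ((zpowers_le.2 hmem) (odd_root hn hodd))
      have h1 := index_dvd_of_le hle
      have h2 := card_mul_index (zpowers (c ^ (2 : ℤ)))
      rw [hm, Nat.card_zpowers, show (2 : ℤ) = ((2 : ℕ) : ℤ) from rfl, zpow_natCast,
        orderOf_pow_of_dvd (by norm_num) (by rw [hn]; exact dvd_pow_self 2 (by omega)), hn,
        show (2 : ℕ) ^ (n + 2) = 2 ^ (n + 1) * 2 by rw [← pow_succ], Nat.mul_div_cancel _ two_pos,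
        show (2 : ℕ) ^ (n + 2 + 1) = 2 ^ (n + 1) * 4 by
          rw [show n + 2 + 1 = n + 1 + 2 by ring, pow_add (2 : ℕ) (n + 1) 2]; norm_num] at h2
      refine h1.trans (dvd_of_eq ?_)
      rw [show (2 : ℤ) = ((2 : ℕ) : ℤ) from rfl, zpow_natCast]
      exact Nat.eq_of_mul_eq_mul_left (pow_pos two_pos (n + 1)) h2
    rw [hcyc₂, hcyc₃]
    omega
  · intro heq
    have h4 : ¬ (4 : ℤ) ∣ i - 1 := by
      intro h4
      set K := zpowers (c ^ (4 : ℤ))
      haveI hK : K.Normal := by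
        refine ⟨fun k hk x => ?_⟩
        obtain ⟨a, rfl⟩ := mem_zpowers_iff.1 hk
        obtain ⟨b, hb⟩ := mem_zpowers_iff.1 (hnorm.conj_mem c (mem_zpowers c) x)
        exact mem_zpowers_iff.2 ⟨b * a, by rw [← zpow_mul, ← zpow_mul, ← conj_zpow, ← hb, ← zpow_mul]; ring_nf⟩
      obtain ⟨w, hw⟩ := h4
      have hgcK : Commute (g : G ⧸ K) (c : G ⧸ K) := by
        have h1 : ((g * c * g⁻¹ : G) : G ⧸ K) = (c : G ⧸ K) := by
          rw [← hi, QuotientGroup.eq]
          refine mem_zpowers_iff.2 ⟨-w, ?_⟩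
          rw [← zpow_mul, show (4 : ℤ) * -w = -i + 1 by omega, zpow_add, zpow_neg, zpow_one]
        rw [QuotientGroup.mk_mul, QuotientGroup.mk_mul, QuotientGroup.mk_inv, mul_inv_eq_iff_eq_mul] at h1
        exact h1
      have hgen : ∀ x : G, ∃ t : ℤ, (x : G ⧸ K) = (c : G ⧸ K) ^ t ∨ (x : G ⧸ K) = (g : G ⧸ K) * (c : G ⧸ K) ^ t := by
        intro x
        by_cases hx : x ∈ zpowers c
        · obtain ⟨t, rfl⟩ := mem_zpowers_iff.1 hx
          exact ⟨t, Or.inl (QuotientGroup.mk_zpow _ _ _)⟩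
        · have h1 : g⁻¹ * x ∈ zpowers c := by
            rw [mul_mem_iff_of_index_two hidx, inv_mem_iff]
            simp [hg, hx]
          obtain ⟨t, ht⟩ := mem_zpowers_iff.1 h1
          refine ⟨t, Or.inr ?_⟩
          rw [← QuotientGroup.mk_zpow, ← QuotientGroup.mk_mul, ht, mul_inv_cancel_left]
      have hle : commutator G ≤ K := by
        rw [_root_.commutator_def, commutator_le]
        intro x _ y _
        rw [← QuotientGroup.eq_one_iff (N := K)]
        show ((x * y * x⁻¹ * y⁻¹ : G) : G ⧸ K) = 1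
        rw [QuotientGroup.mk_mul, QuotientGroup.mk_mul, QuotientGroup.mk_mul, QuotientGroup.mk_inv,
          QuotientGroup.mk_inv, mul_inv_eq_one, mul_inv_eq_iff_eq_mul]
        show Commute (x : G ⧸ K) (y : G ⧸ K)
        have hcc : ∀ a b : ℤ, Commute ((c : G ⧸ K) ^ a) ((c : G ⧸ K) ^ b) := fun a b =>
          (Commute.refl _).zpow_zpow a b
        have hgt : ∀ a : ℤ, Commute (g : G ⧸ K) ((c : G ⧸ K) ^ a) := fun a => hgcK.zpow_right a
        obtain ⟨t, ht | ht⟩ := hgen x <;> obtain ⟨v, hv | hv⟩ := hgen y <;> rw [ht, hv]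
        · exact hcc t v
        · exact (hgt t).symm.mul_right (hcc t v)
        · exact (hgt v).mul_left (hcc t v)
        · exact ((Commute.refl _).mul_right (hgt v)).mul_left ((hgt t).symm.mul_right (hcc t v))
      have h1 := index_dvd_of_le hle
      rw [heq] at h1
      have h2 := card_mul_index K
      rw [hm, Nat.card_zpowers, show (4 : ℤ) = ((4 : ℕ) : ℤ) from rfl, zpow_natCast,
        orderOf_pow_of_dvd (by norm_num) (by rw [hn]; exact pow_dvd_pow 2 (show 2 ≤ n + 2 by omega)), hn,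
        show (2 : ℕ) ^ (n + 2) = 2 ^ n * 4 by rw [pow_add (2 : ℕ) n 2]; norm_num, Nat.mul_div_cancel _ (by norm_num),
        show (2 : ℕ) ^ (n + 2 + 1) = 2 ^ n * 8 by rw [show n + 2 + 1 = n + 3 by ring, pow_add (2 : ℕ) n 3]; norm_num] at h2
      have h3 := Nat.eq_of_mul_eq_mul_left (pow_pos two_pos n) h2
      rw [h3] at h1
      omega
    rw [hcyc₂, hcyc₃]
    exact ⟨by omega, fun h => ⟨hmax₂ h4 (by omega), hmax₃ h4 (by omega)⟩⟩

theorem card_three {α : Type*} (a b c : α) (hab : a ≠ b) (hac : a ≠ c) (hbc : b ≠ c) (P Q : α → Prop)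
    [DecidablePred P] (hQ : ∀ x, Q x ↔ x = a ∨ x = b ∨ x = c) :
    Nat.card {x : α // Q x ∧ P x} = (if P a then 1 else 0) + ((if P b then 1 else 0) + (if P c then 1 else 0)) := by
  classical
  rw [Nat.subtype_card (({a, b, c} : Finset α).filter P)
    (fun x => by simp only [Finset.mem_filter, Finset.mem_insert, Finset.mem_singleton, hQ]),
    Finset.card_filter, Finset.sum_insert (by simp [hab, hac]), Finset.sum_insert (by simp [hbc]),
    Finset.sum_singleton]

/-- Parity of the number of cyclic subgroups of index two. -/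
theorem parity_cyclic {m : ℕ} (hm : Nat.card G = 2 ^ m) (hm3 : 3 ≤ m) (hnc : ¬ IsCyclic G) :
    ((commutator G).index ≠ 4 → Even (Nat.card {M : Subgroup G // M.index = 2 ∧ IsCyclic M})) ∧
    ((commutator G).index = 4 → Odd (Nat.card {M : Subgroup G // M.index = 2 ∧ IsCyclic M})) := by
  classical
  by_cases hex : ∃ C : Subgroup G, IsCyclic C ∧ C.index = 2
  · obtain ⟨C, hC, hidx⟩ := hex
    obtain ⟨C₂, C₃, h2, h3, h23, hall, hne, heq⟩ := index_two_data hm hm3 hnc hC hidx
    rw [card_three C C₂ C₃ (Ne.symm h2) (Ne.symm h3) h23 (fun M : Subgroup G => IsCyclic M) _ hall, if_pos hC]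
    refine ⟨fun h => ?_, fun h => ?_⟩
    · have h1 := hne h
      by_cases hc : IsCyclic C₂
      · rw [if_pos hc, if_neg (h1.1 hc)]; decide
      · rw [if_neg hc, if_pos (not_not.1 (mt h1.2 hc))]; decide
    · have h1 := (heq h).1
      by_cases hc : IsCyclic C₂
      · rw [if_pos hc, if_pos (h1.1 hc)]; decide
      · rw [if_neg hc, if_neg (mt h1.2 hc)]; decide
  · refine ⟨fun _ => ?_, fun h => absurd (CfsgLib.MaximalClass.cyclic_index_two m hm3 hm h) hex⟩
    rw [Nat.card_eq_zero.2 (Or.inl ⟨fun M => hex ⟨M.1, M.2.2, M.2.1⟩⟩)]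
    exact ⟨0, rfl⟩

/-- Parity of the number of cyclic or maximal class subgroups of index two. -/
theorem parity_bad {m : ℕ} (hm : Nat.card G = 2 ^ m) (hm4 : 4 ≤ m) (hnc : ¬ IsCyclic G) :
    ((commutator G).index ≠ 4 → Even (Nat.card {M : Subgroup G // M.index = 2 ∧ Bad2 M})) ∧
    ((commutator G).index = 4 → Odd (Nat.card {M : Subgroup G // M.index = 2 ∧ Bad2 M})) := by
  classical
  have hG : IsPGroup 2 G := IsPGroup.of_card hm
  haveI := Fact.mk Nat.prime_two
  refine ⟨fun hne => ?_, fun h => ?_⟩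
  swap
  · obtain ⟨C, hC, hidx⟩ := CfsgLib.MaximalClass.cyclic_index_two m (by omega) hm h
    obtain ⟨C₂, C₃, h2, h3, h23, hall, -, heq⟩ := index_two_data hm (by omega) hnc hC hidx
    rw [card_three C C₂ C₃ (Ne.symm h2) (Ne.symm h3) h23 (fun M : Subgroup G => Bad2 M) _ hall,
      if_pos (show Bad2 C from Or.inl hC), if_pos (show Bad2 C₂ from Or.inr ((heq h).2 hm4).1),
      if_pos (show Bad2 C₃ from Or.inr ((heq h).2 hm4).2)]
    decide
  by_cases hex : ∃ M₀ : Subgroup G, M₀.index = 2 ∧ (commutator M₀).index = 4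
  swap
  · rw [Nat.card_congr (Equiv.subtypeEquivRight (q := fun M : Subgroup G => M.index = 2 ∧ IsCyclic M) fun M =>
      ⟨fun h => ⟨h.1, h.2.resolve_right fun h' => hex ⟨M, h.1, h'⟩⟩, fun h => ⟨h.1, Or.inl h.2⟩⟩)]
    exact (parity_cyclic hm (by omega) hnc).1 hne
  obtain ⟨M₀, hM₀, hM₀'⟩ := hex
  have hcardM : ∀ M : Subgroup G, M.index = 2 → Nat.card M = 2 ^ (m - 1) := fun M hM => by
    have h1 := card_mul_index M
    rw [hM, hm, show m = m - 1 + 1 by omega, pow_succ] at h1
    omega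
  set C := ⁅M₀, M₀⁆ with hCdef
  haveI : M₀.Normal := normal_of_index_eq_two hM₀
  haveI hCn : C.Normal := Subgroup.commutator_normal M₀ M₀
  have hCmap : ∀ M : Subgroup G, (commutator M).map M.subtype = ⁅M, M⁆ := fun M => by
    rw [_root_.commutator_def, map_commutator, ← MonoidHom.range_eq_map, range_subtype]
  have hCM : ∀ M : Subgroup G, Nat.card (commutator M) = Nat.card (⁅M, M⁆ : Subgroup G) := fun M => by
    rw [← hCmap, card_map_of_injective M.subtype_injective]
  have hCle : C ≤ M₀ := by rw [hCdef, ← hCmap]; exact map_subtype_le _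
  have hCcard : Nat.card C = 2 ^ (m - 3) := by
    have h1 := card_mul_index (commutator M₀)
    rw [hM₀', hcardM M₀ hM₀, hCM, ← hCdef, show m - 1 = m - 3 + 2 by omega, pow_add] at h1
    exact Nat.eq_of_mul_eq_mul_right (by norm_num : 0 < 4) h1
  have hCcyc : IsCyclic C := by
    obtain ⟨C₀, hC₀, hC₀i⟩ := CfsgLib.MaximalClass.cyclic_index_two (m - 1) (by omega) (hcardM M₀ hM₀) hM₀'
    haveI := Fact.mk Nat.prime_two
    have hle : commutator M₀ ≤ C₀ := (elemQuot_of_index (IsPGroup.of_card (hcardM M₀ hM₀)) hC₀i).2.2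
    haveI := hC₀
    haveI : IsCyclic (commutator M₀) := isCyclic_of_injective (inclusion hle) (inclusion_injective hle)
    have := (equivMapOfInjective (commutator M₀) M₀.subtype M₀.subtype_injective).isCyclic.1 inferInstance
    rwa [hCmap] at this
  obtain ⟨d, hd⟩ : ∃ d : G, zpowers d = C := by
    obtain ⟨c₀, hc₀⟩ := isCyclic_iff_exists_zpowers_eq_top.1 hCcyc
    refine ⟨c₀.1, ?_⟩
    rw [show (c₀ : G) = C.subtype c₀ from rfl, ← MonoidHom.map_zpowers, hc₀, ← MonoidHom.range_eq_map, range_subtype]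
  have hdo : orderOf d = 2 ^ (m - 4 + 1) := by
    rw [← Nat.card_zpowers, hd, hCcard]; congr 1; omega
  have hidxC : C.index = 2 ^ 3 := by
    have h1 := card_mul_index C
    rw [hCcard, hm] at h1
    refine Nat.eq_of_mul_eq_mul_left (pow_pos two_pos (m - 3)) (h1.trans ?_)
    rw [← pow_add]; congr 1; omega
  -- the derived subgroup is `C`
  have hGC : commutator G = C := by
    have hle : C ≤ commutator G := Subgroup.commutator_mono le_top le_top
    have h1 := index_dvd_of_le hle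
    rw [hidxC] at h1
    obtain ⟨j, hj, hje⟩ := (Nat.dvd_prime_pow Nat.prime_two).1 h1
    have h4 := four_dvd_index hG hnc
    rw [hje] at h4
    have h2 : j = 3 := by
      interval_cases j
      · norm_num at h4
      · norm_num at h4
      · exact absurd (by rw [hje]; norm_num) hne
      · rfl
    subst h2
    refine (eq_of_le_of_card_ge hle ?_).symm
    have e1 := card_mul_index C
    have e2 := card_mul_index (commutator G)
    rw [hidxC] at e1
    rw [hje] at e2
    omega
  -- the quotient with derived subgroup of order two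
  set D := zpowers (d * d) with hDdef
  have hDC : D ≤ C := hd ▸ zpowers_le.2 (mul_mem (mem_zpowers d) (mem_zpowers d))
  haveI hDn : D.Normal := by
    refine ⟨fun k hk x => ?_⟩
    obtain ⟨a, rfl⟩ := mem_zpowers_iff.1 hk
    obtain ⟨b, hb⟩ := mem_zpowers_iff.1 (show x * d * x⁻¹ ∈ zpowers d from
      hd.symm ▸ hCn.conj_mem d (hd ▸ mem_zpowers d) x)
    refine mem_zpowers_iff.2 ⟨b * a, ?_⟩
    rw [← conj_zpow, show x * (d * d) * x⁻¹ = (x * d * x⁻¹) * (x * d * x⁻¹) by group, ← hb, ← zpow_add,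
      ← zpow_mul, show d * d = d ^ (2 : ℤ) by rw [zpow_two], ← zpow_mul]
    ring_nf
  have hdD : d ∉ D := by
    intro h
    obtain ⟨a, ha⟩ := mem_zpowers_iff.1 h
    have h1 : ((2 ^ (m - 4 + 1) : ℕ) : ℤ) ∣ 2 * a - 1 := by
      rw [← hdo]
      refine orderOf_dvd_iff_zpow_eq_one.2 ?_
      rw [zpow_sub, zpow_mul, zpow_two, ha, zpow_one, mul_inv_cancel]
    have h2 : (2 : ℤ) ∣ ((2 ^ (m - 4 + 1) : ℕ) : ℤ) := ⟨((2 ^ (m - 4) : ℕ) : ℤ), by push_cast; ring⟩
    have h3 := h2.trans h1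
    omega
  set π := QuotientGroup.mk' D with hπdef
  have hπ : ∀ x, π x = 1 ↔ x ∈ D := fun x => QuotientGroup.eq_one_iff x
  set z := π d with hzdef
  have hz1 : z ≠ 1 := fun e => hdD ((hπ d).1 e)
  have hz2 : z * z = 1 := by rw [hzdef, ← map_mul]; exact (hπ _).2 (mem_zpowers _)
  have hzC : ∀ c ∈ C, π c = 1 ∨ π c = z := by
    intro c hc
    rw [← hd] at hc
    obtain ⟨a, rfl⟩ := mem_zpowers_iff.1 hc
    rcases Int.even_or_odd a with ⟨b, hb⟩ | ⟨b, hb⟩
    · left
      rw [map_zpow, ← hzdef, hb, ← two_mul, zpow_mul, zpow_two, hz2, one_zpow]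
    · right
      rw [map_zpow, ← hzdef, hb, zpow_add, zpow_mul, zpow_two, hz2, one_zpow, one_mul, zpow_one]
  have hcomm : ∀ x y : G, π x * π y * (π x)⁻¹ * (π y)⁻¹ = 1 ∨ π x * π y * (π x)⁻¹ * (π y)⁻¹ = z := by
    intro x y
    have hmem : x * y * x⁻¹ * y⁻¹ ∈ C := hGC ▸ commutator_mem_commutator (mem_top x) (mem_top y)
    rw [← map_inv, ← map_inv, ← map_mul, ← map_mul, ← map_mul]
    exact hzC _ hmem
  have hzc : ∀ v, Commute z (π v) := by
    intro v
    have h1 : π (v * d * v⁻¹) = z := by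
      refine (hzC _ (hCn.conj_mem d (hd ▸ mem_zpowers d) v)).resolve_left fun e => hz1 ?_
      rw [map_mul, map_mul, map_inv, mul_inv_eq_one, mul_eq_left] at e
      exact e
    rw [map_mul, map_mul, map_inv, ← hzdef, mul_inv_eq_iff_eq_mul] at h1
    exact h1.symm
  have hCc : ∀ c ∈ C, ∀ v, Commute (π c) (π v) := by
    intro c hc v
    rcases hzC c hc with e | e <;> rw [e]
    · exact Commute.one_left _
    · exact hzc v
  have hconjz : ∀ x y : G, ¬ Commute (π x) (π y) → π x * π y * (π x)⁻¹ = z * π y := by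
    intro x y h
    rcases hcomm x y with e | e
    · exact absurd (mul_inv_eq_iff_eq_mul.1 (mul_inv_eq_one.1 e)) h
    · exact mul_inv_eq_iff_eq_mul.1 e
  have hsq : ∀ x y : G, Commute (π (x * x)) (π y) := by
    intro x y
    rw [map_mul]
    by_cases h : Commute (π x) (π y)
    · exact h.mul_left h
    · have e := mul_inv_eq_iff_eq_mul.1 (hconjz x y h)
      show π x * π x * π y = π y * (π x * π x)
      rw [mul_assoc, e, ← mul_assoc, ← mul_assoc, ← (hzc x).eq, mul_assoc z, mul_assoc z, e, ← mul_assoc, ← mul_assoc,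
        ← mul_assoc, hz2, one_mul, mul_assoc]
  -- a subgroup of index two with central image gives an abelian image
  have habel : ∀ (M L : Subgroup G) (b : G), b ∈ M → b ∉ L → L ≤ M → Nat.card M = 2 * Nat.card L →
      (∀ l ∈ L, ∀ v : G, Commute (π l) (π v)) → ∀ u ∈ M, ∀ v ∈ M, Commute (π u) (π v) := by
    intro M L b hbM hbL hLM hcard hL u hu v hv
    have hidx : (L.subgroupOf M).index = 2 := by
      have h1 := card_mul_index (L.subgroupOf M)
      rw [Nat.card_congr (subgroupOfEquivOfLe hLM).toEquiv, hcard, mul_comm 2] at h1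
      exact Nat.eq_of_mul_eq_mul_left Nat.card_pos h1
    have hdec : ∀ u ∈ M, u ∈ L ∨ b⁻¹ * u ∈ L := by
      intro u hu
      by_cases h : u ∈ L
      · exact Or.inl h
      · right
        have h2 := (mul_mem_iff_of_index_two hidx (a := (⟨b, hbM⟩ : M)⁻¹) (b := ⟨u, hu⟩))
        simp only [inv_mem_iff, mem_subgroupOf, Subgroup.coe_mul, InvMemClass.coe_inv] at h2
        exact h2.2 (by simp [h, hbL])
    rcases hdec u hu with h | h
    · exact hL u h v
    rcases hdec v hv with h' | h'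
    · exact (hL v h' u).symm
    rw [show u = b * (b⁻¹ * u) by group, show v = b * (b⁻¹ * v) by group, map_mul π b, map_mul π b]
    exact ((Commute.refl _).mul_right (hL _ h' b).symm).mul_left ((hL _ h b).mul_right (hL _ h _))
  have habC : ∀ M : Subgroup G, (∀ u ∈ M, ∀ v ∈ M, Commute (π u) (π v)) ↔ ⁅M, M⁆ ≤ D := by
    intro M
    rw [Subgroup.commutator_le]
    refine forall₂_congr fun u _ => forall₂_congr fun v _ => ?_
    rw [← hπ, map_commutatorElement, commutatorElement_eq_one_iff_mul_comm]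
    rfl
  have hM₀na : ¬ ∀ u ∈ M₀, ∀ v ∈ M₀, Commute (π u) (π v) := fun h =>
    hdD ((habC M₀).1 h (hCdef ▸ hd ▸ mem_zpowers d))
  -- the quotient by `C` is elementary
  have hsqC : ∀ x : G, x * x ∈ C := by
    intro x
    by_contra hx
    have hxM : x * x ∈ M₀ := mul_self_mem_of_index_two hM₀ x
    have hx4 : x * x * (x * x) ∈ C := by
      have h1 := mul_self_mem_of_index_two (H := (commutator M₀)) (a := (⟨x * x, hxM⟩ : M₀))
      haveI : IsKleinFour (M₀ ⧸ commutator M₀) :=
        CfsgLib.MaximalClass.klein_of_index (by omega) (hcardM M₀ hM₀) hM₀'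
      have h2 : ((⟨x * x, hxM⟩ * ⟨x * x, hxM⟩ : M₀) : M₀ ⧸ commutator M₀) = 1 := by
        rw [QuotientGroup.mk_mul]; exact IsKleinFour.mul_self _
      rw [QuotientGroup.eq_one_iff] at h2
      exact hCdef ▸ hCmap M₀ ▸ mem_map_of_mem _ h2
    set L := C ⊔ zpowers (x * x)
    have hLM : L ≤ M₀ := sup_le hCle (zpowers_le.2 hxM)
    have hLc : ∀ l ∈ L, ∀ v : G, Commute (π l) (π v) := by
      intro l hl v
      rw [← SetLike.mem_coe, normal_mul] at hl
      obtain ⟨c, hc, w, hw, rfl⟩ := hl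
      obtain ⟨a, rfl⟩ := mem_zpowers_iff.1 hw
      rw [map_mul, map_zpow]
      exact (hCc c hc v).mul_left ((hsq x v).zpow_left a)
    refine hM₀na ?_
    by_cases hLe : L = M₀
    · exact fun u hu v _ => hLc u (hLe.symm ▸ hu) v
    obtain ⟨b, hbM, hbL⟩ := SetLike.exists_of_lt (lt_of_le_of_ne hLM hLe)
    refine habel M₀ L b hbM hbL hLM ?_ hLc
    obtain ⟨j, hj⟩ := (hG.to_subgroup L).exists_card_eq
    have h1 : Nat.card C < Nat.card L := Set.Finite.card_lt_card (Set.toFinite _)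
      (SetLike.coe_ssubset_coe.2 (lt_of_le_of_ne le_sup_left fun e => hx (e ▸ mem_sup_right (mem_zpowers _))))
    have h2 : Nat.card L < Nat.card M₀ := Set.Finite.card_lt_card (Set.toFinite _)
      (SetLike.coe_ssubset_coe.2 (lt_of_le_of_ne hLM hLe))
    rw [hCcard, hj] at h1
    rw [hj, hcardM M₀ hM₀] at h2
    have h3 := (Nat.pow_lt_pow_iff_right (by norm_num : 1 < 2)).1 h1
    have h4 := (Nat.pow_lt_pow_iff_right (by norm_num : 1 < 2)).1 h2
    rw [hcardM M₀ hM₀, hj, ← pow_succ']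
    congr 1
    omega
  have hCelem : ElemQuot 2 C := ⟨hCn, fun x => by rw [pow_two]; exact hsqC x, hGC.le⟩
  -- the central element
  obtain ⟨b, hb, e, he, hbe⟩ : ∃ b ∈ M₀, ∃ e ∈ M₀, ¬ Commute (π b) (π e) := by
    by_contra hcon
    push Not at hcon
    exact hM₀na hcon
  obtain ⟨a, -, ha⟩ := SetLike.exists_of_lt (lt_top_iff_ne_top.2 fun e' => by
    rw [e', index_top] at hM₀; omega : M₀ < ⊤)
  have hcm : ∀ x y w : G, ¬ Commute (π x) (π w) → ¬ Commute (π y) (π w) → Commute (π (x * y)) (π w) := by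
    intro x y w hx hy
    have h1 := hconjz x w hx
    have h2 := hconjz y w hy
    show π (x * y) * π w = π w * π (x * y)
    rw [← mul_inv_eq_iff_eq_mul, map_mul, mul_inv_rev]
    calc π x * π y * π w * ((π y)⁻¹ * (π x)⁻¹) = π x * (π y * π w * (π y)⁻¹) * (π x)⁻¹ := by group
      _ = π x * z * π w * (π x)⁻¹ := by rw [h2]; group
      _ = z * (π x * π w * (π x)⁻¹) := by rw [← (hzc x).eq]; group
      _ = π w := by rw [h1, ← mul_assoc, hz2, one_mul]
  have hcm' : ∀ x y w : G, Commute (π x) (π w) → Commute (π y) (π w) → Commute (π (x * y)) (π w) :=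
    fun x y w hx hy => by rw [map_mul]; exact hx.mul_left hy
  obtain ⟨a', ha', hab, hae⟩ : ∃ a', a' ∉ M₀ ∧ Commute (π a') (π b) ∧ Commute (π a') (π e) := by
    have hbe' : ¬ Commute (π e) (π b) := fun h => hbe h.symm
    obtain ⟨a₁, ha₁, h₁⟩ : ∃ a₁, a₁ ∉ M₀ ∧ Commute (π a₁) (π b) := by
      by_cases h : Commute (π a) (π b)
      · exact ⟨a, ha, h⟩
      · exact ⟨a * e, fun h' => ha ((mul_mem_cancel_right he).1 h'), hcm a e b h hbe'⟩
    by_cases h : Commute (π a₁) (π e)
    · exact ⟨a₁, ha₁, h₁, h⟩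
    · exact ⟨a₁ * b, fun h' => ha₁ ((mul_mem_cancel_right hb).1 h'), hcm' a₁ b b h₁ (Commute.refl _),
        hcm a₁ b e h hbe⟩
  have hacent : ∀ v : G, Commute (π a') (π v) := by
    let S : Subgroup G := (centralizer ({π a'} : Set (G ⧸ D))).comap π
    have hS : ∀ v, v ∈ S ↔ Commute (π a') (π v) := fun v => by
      rw [mem_comap, mem_centralizer_singleton_iff]; exact ⟨fun h => h.symm, fun h => h.symm⟩
    have hSM : M₀ ≤ S := by
      set L := (C ⊔ zpowers b) ⊔ zpowers e
      have hLS : L ≤ S := sup_le (sup_le (fun c hc => (hS c).2 (hCc c hc a').symm) (zpowers_le.2 ((hS b).2 hab)))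
        (zpowers_le.2 ((hS e).2 hae))
      have hLM : L ≤ M₀ := sup_le (sup_le hCle (zpowers_le.2 hb)) (zpowers_le.2 he)
      suffices L = M₀ from this ▸ hLS
      refine eq_of_le_of_card_ge hLM ?_
      obtain ⟨j, hj⟩ := (hG.to_subgroup (C ⊔ zpowers b)).exists_card_eq
      obtain ⟨k, hk⟩ := (hG.to_subgroup L).exists_card_eq
      have h1 : Nat.card C < Nat.card (C ⊔ zpowers b : Subgroup G) := Set.Finite.card_lt_card (Set.toFinite _)
        (SetLike.coe_ssubset_coe.2 (lt_of_le_of_ne le_sup_left fun e' =>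
          hbe (hCc b (e' ▸ mem_sup_right (mem_zpowers b)) e)))
      have h2 : Nat.card (C ⊔ zpowers b : Subgroup G) < Nat.card L := Set.Finite.card_lt_card (Set.toFinite _)
        (SetLike.coe_ssubset_coe.2 (lt_of_le_of_ne le_sup_left fun e' => hbe (by
          have hle : C ⊔ zpowers b ≤ (centralizer ({π b} : Set (G ⧸ D))).comap π :=
            sup_le (fun c hc => mem_centralizer_singleton_iff.2 (hCc c hc b))
              (zpowers_le.2 (mem_centralizer_singleton_iff.2 rfl))
          exact (mem_centralizer_singleton_iff.1 (hle (e' ▸ mem_sup_right (mem_zpowers e)))).symm)))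
      rw [hCcard, hj] at h1
      rw [hj, hk] at h2
      have h3 := (Nat.pow_lt_pow_iff_right (by norm_num : 1 < 2)).1 h1
      have h4 := (Nat.pow_lt_pow_iff_right (by norm_num : 1 < 2)).1 h2
      rw [hcardM M₀ hM₀, hk]
      exact Nat.pow_le_pow_right two_pos (by omega)
    have htop : S = ⊤ := by
      refine index_eq_one.1 ?_
      have h1 := index_dvd_of_le hSM
      rw [hM₀] at h1
      rcases (Nat.dvd_prime Nat.prime_two).1 h1 with e' | e'
      · exact e'
      · exfalso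
        refine ha' ?_
        have e1 := card_mul_index S
        have e2 := card_mul_index M₀
        rw [e'] at e1
        rw [hM₀] at e2
        exact (eq_of_le_of_card_ge hSM (by omega)) ▸ (hS a').2 (Commute.refl _)
    exact fun v => (hS v).1 (htop ▸ mem_top v)
  -- counting
  set H := C ⊔ zpowers a'
  have hH : ElemQuot 2 H := hCelem.mono le_sup_left
  have ha'C : a' ∉ C := fun h => ha' (hCle h)
  have hHc : ∀ l ∈ H, ∀ v : G, Commute (π l) (π v) := by
    intro l hl v
    rw [← SetLike.mem_coe, normal_mul] at hl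
    obtain ⟨c, hc, w, hw, rfl⟩ := hl
    obtain ⟨k, rfl⟩ := mem_zpowers_iff.1 hw
    rw [map_mul, map_zpow]
    exact (hCc c hc v).mul_left ((hacent v).zpow_left k)
  have hHcard : Nat.card H = 2 * Nat.card C := by
    haveI : (C.subgroupOf H).Normal := hCn.comap _
    have h1 : (C.subgroupOf H).index = 2 := by
      rw [index_eq_two_iff_exists_notMem_and]
      refine ⟨⟨a', mem_sup_right (mem_zpowers a')⟩, fun h => ha'C (mem_subgroupOf.1 h), fun l => ?_⟩
      have hl := l.2
      rw [← SetLike.mem_coe, normal_mul] at hl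
      obtain ⟨c, hc, w, hw, hl⟩ := hl
      obtain ⟨k, rfl⟩ := mem_zpowers_iff.1 hw
      simp only [mem_subgroupOf, Subgroup.coe_mul]
      replace hl : c * a' ^ k = (l : G) := hl
      rw [← hl]
      have h2 : ∀ v : ℤ, a' ^ (2 * v) ∈ C := fun v => by
        rw [zpow_mul, zpow_two]; exact zpow_mem (hsqC a') v
      rcases Int.even_or_odd k with ⟨v, hv⟩ | ⟨v, hv⟩
      · refine Or.inr (mul_mem hc ?_)
        rw [hv, ← two_mul]; exact h2 v
      · refine Or.inl ?_
        rw [mul_assoc, ← zpow_add_one, hv, show 2 * v + 1 + 1 = 2 * (v + 1) by ring]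
        exact mul_mem hc (h2 _)
    have h2 := card_mul_index (C.subgroupOf H)
    rw [h1, Nat.card_congr (subgroupOfEquivOfLe (le_sup_left : C ≤ H)).toEquiv] at h2
    omega
  have hHidx : H.index = 2 ^ 2 := by
    have h1 := card_mul_index H
    have h2 := card_mul_index C
    rw [hHcard] at h1
    rw [hidxC] at h2
    have : Nat.card C * (2 * H.index) = Nat.card C * (2 * 2 ^ 2) := by
      rw [← mul_assoc, mul_comm _ 2, h1, ← h2]; ring
    exact Nat.eq_of_mul_eq_mul_left two_pos (Nat.eq_of_mul_eq_mul_left Nat.card_pos this)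
  have hiff : ∀ M : Subgroup G, M.index = 2 → (Bad2 M ↔ ¬ H ≤ M) := by
    intro M hMi
    have hCM' : C ≤ M := hGC ▸ (elemQuot_of_index hG hMi).2.2
    have hMD : (∀ u ∈ M, ∀ v ∈ M, Commute (π u) (π v)) ↔ H ≤ M := by
      constructor
      · intro h
        by_contra hH'
        have ha'M : a' ∉ M := fun h' => hH' (sup_le hCM' (zpowers_le.2 h'))
        have hS : ∀ u v : G, Commute (π u) (π v) := by
          intro u v
          have hdec : ∀ u : G, ∃ w ∈ M, ∃ k : ℤ, u = w * a' ^ k := by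
            intro u
            by_cases hu : u ∈ M
            · exact ⟨u, hu, 0, by simp⟩
            · refine ⟨u * a'⁻¹, ?_, 1, by simp⟩
              rw [mul_mem_iff_of_index_two hMi]; simp [hu, ha'M]
          obtain ⟨w, hw, k, rfl⟩ := hdec u
          obtain ⟨w', hw', k', rfl⟩ := hdec v
          rw [map_mul, map_mul, map_zpow, map_zpow]
          exact (((h w hw w' hw').mul_right ((hacent w).symm.zpow_right k')).mul_left
            (((hacent w').zpow_left k).mul_right ((Commute.refl _).zpow_zpow k k')))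
        exact hbe (hS b e)
      · intro hle
        have hne' : H ≠ M := fun e' => by rw [e', hMi] at hHidx; norm_num at hHidx
        obtain ⟨w, hwM, hwH⟩ := SetLike.exists_of_lt (lt_of_le_of_ne hle hne')
        refine habel M H w hwM hwH hle ?_ hHc
        rw [hcardM M hMi, hHcard, hCcard, ← pow_succ', ← pow_succ']
        congr 1; omega
    have hcard : Nat.card (⁅M, M⁆ : Subgroup G) ≤ Nat.card C := Nat.le_of_dvd Nat.card_pos
      (card_dvd_of_le (hGC ▸ Subgroup.commutator_mono le_top le_top))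
    constructor
    · rintro (hcyc | hidx) hle
      · -- cyclic
        obtain ⟨v, hv⟩ := isCyclic_iff_exists_zpowers_eq_top.1 hcyc
        have h1 : orderOf (v : G) = 2 ^ (m - 1) := by
          rw [Subgroup.orderOf_coe, ← Nat.card_zpowers, hv, card_top, hcardM M hMi]
        have h2 : orderOf (v : G) ∣ 2 * 2 ^ (m - 3) := by
          refine orderOf_dvd_of_pow_eq_one ?_
          rw [pow_mul, pow_two, ← hCcard]
          exact orderOf_dvd_iff_pow_eq_one.1 (Subgroup.orderOf_dvd_natCard C (hsqC v))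
        rw [h1, ← pow_succ', Nat.pow_dvd_pow_iff_le_right one_lt_two] at h2
        omega
      · have h1 := card_mul_index (commutator M)
        rw [hidx, hcardM M hMi, hCM, show m - 1 = m - 3 + 2 by omega, pow_add] at h1
        have h2 : ⁅M, M⁆ = C := eq_of_le_of_card_ge (hGC ▸ Subgroup.commutator_mono le_top le_top) (by
          rw [hCcard]; omega)
        exact hdD ((habC M).1 (hMD.2 hle) (h2 ▸ hd ▸ mem_zpowers d))
    · intro hle
      right
      obtain ⟨w, hw, hwD⟩ := SetLike.not_le_iff_exists.1 fun h => hle (hMD.1 ((habC M).2 h))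
      have hwC : w ∈ C := hGC ▸ Subgroup.commutator_mono le_top le_top hw
      rw [← hd] at hwC
      obtain ⟨k, rfl⟩ := mem_zpowers_iff.1 hwC
      have hk : Odd k := by
        rcases Int.even_or_odd k with ⟨v, hv⟩ | h
        · refine absurd (mem_zpowers_iff.2 ⟨v, ?_⟩) hwD
          rw [hv, ← two_mul, zpow_mul, zpow_two]
        · exact h
      have hdM : d ∈ ⁅M, M⁆ := by
        have h1 := odd_root (k := 1) hdo hk
        rw [zpow_one, one_mul] at h1
        exact (zpowers_le.2 hw) h1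
      have h2 : Nat.card C ≤ Nat.card (⁅M, M⁆ : Subgroup G) :=
        Nat.le_of_dvd Nat.card_pos (card_dvd_of_le (hd ▸ zpowers_le.2 hdM))
      have h1 := card_mul_index (commutator M)
      rw [hCM, le_antisymm hcard h2, hcardM M hMi, hCcard, show m - 1 = m - 3 + 2 by omega, pow_add] at h1
      exact Nat.eq_of_mul_eq_mul_left (pow_pos two_pos _) h1
  rw [Nat.card_congr (Equiv.subtypeEquivRight (q := fun M : Subgroup G => M.index = 2 ∧ ¬ H ≤ M) fun M =>
    and_congr_right fun h => hiff M h)]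
  have hsum : Nat.card {M : Subgroup G // M.index = 2 ∧ H ≤ M} +
      Nat.card {M : Subgroup G // M.index = 2 ∧ ¬ H ≤ M} = Nat.card {M : Subgroup G // M.index = 2} := by
    rw [← Nat.card_congr (Equiv.sumCompl fun M : {M : Subgroup G // M.index = 2} => H ≤ M.1), Nat.card_sum,
      Nat.card_congr (Equiv.subtypeSubtypeEquivSubtypeInter (fun M : Subgroup G => M.index = 2) (fun M => H ≤ M)),
      Nat.card_congr (Equiv.subtypeSubtypeEquivSubtypeInter (fun M : Subgroup G => M.index = 2) (fun M => ¬ H ≤ M))]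
  have hA := ((count_over hH hHidx).2 le_rfl).1
  have hB := cast_card_maximal hG hnc
  rw [← hsum, Nat.cast_add, hA, add_eq_left, ZMod.natCast_eq_zero_iff] at hB
  obtain ⟨k, hk⟩ := hB
  exact ⟨2 * k, by rw [hk]; ring⟩

end CfsgLib.KulakoffSharp
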