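import Cfsg.Agent.StDefZero.Lemmas
import Mathlib.GroupTheory.Solvable
import Mathlib.GroupTheory.Nilpotent
import Mathlib.GroupTheory.Abelianization.Defs
import Mathlib.LinearAlgebra.FiniteDimensional.Basic
import Mathlib.LinearAlgebra.Projection
import Mathlib.Tactic

/-!
# The derived length of a linear `p`-group
-/

set_option autoImplicit false
set_option linter.unusedSectionVars false
set_option linter.style.haveILetI false

namespace CfsgLib.LinearDerivedLength

open Subgroup
open scoped commutatorElement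

universe u v w

variable {P : Type u} [Group P]

theorem derived_succ_le (M : Subgroup P) (h : commutator P ≤ M) :
    ∀ k : ℕ, derivedSeries P (k + 1) ≤ (derivedSeries M k).map M.subtype := by
  intro k
  induction k with
  | zero => rw [derivedSeries_one, derivedSeries_zero, ← MonoidHom.range_eq_map, M.range_subtype]; exact h
  | succ k ih =>
    rw [show derivedSeries P (k + 1 + 1) = ⁅derivedSeries P (k + 1), derivedSeries P (k + 1)⁆ from rfl,
      show derivedSeries M (k + 1) = ⁅derivedSeries M k, derivedSeries M k⁆ from rfl, map_commutator]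
    exact commutator_mono ih ih

theorem comm_of_commute {X : Type*} [Monoid X] (ρ : P →* X) {a b : P} (h : ρ a * ρ b = ρ b * ρ a) :
    ρ ⁅a, b⁆ = 1 := by
  have h1 : ρ (a * b) = ρ (b * a) := by rw [map_mul, map_mul, h]
  rw [commutatorElement_def, show a * b * a⁻¹ * b⁻¹ = a * b * (b * a)⁻¹ by group, map_mul, h1, ← map_mul,
    mul_inv_cancel, map_one]

theorem derivedSeries_succ_triv {X : Type*} [Monoid X] (ρ : P →* X) (k : ℕ)
    (h : ∀ a ∈ derivedSeries P k, ∀ b ∈ derivedSeries P k, ρ a * ρ b = ρ b * ρ a) :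
    ∀ g ∈ derivedSeries P (k + 1), ρ g = 1 := by
  intro g hg
  have h1 : derivedSeries P (k + 1) ≤ ρ.ker := by
    rw [derivedSeries_succ, commutator_le]
    exact fun a ha b hb => comm_of_commute ρ (h a ha b hb)
  exact h1 hg

variable {K : Type v} [Field K] {V : Type w} [AddCommGroup V] [Module K V]

/-- The representation on an invariant subspace. -/
def sub (ρ : P →* Module.End K V) (U : Submodule K V) (hU : ∀ g, ∀ x ∈ U, ρ g x ∈ U) :
    P →* Module.End K U where
  toFun g := (ρ g).restrict (hU g)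
  map_one' := LinearMap.ext fun x => Subtype.ext (by simp)
  map_mul' a b := LinearMap.ext fun x => Subtype.ext (by simp)

/-- The representation on a quotient. -/
def quo (ρ : P →* Module.End K V) (U : Submodule K V) (hU : ∀ g, ∀ x ∈ U, ρ g x ∈ U) :
    P →* Module.End K (V ⧸ U) where
  toFun g := U.mapQ U (ρ g) (hU g)
  map_one' := Submodule.linearMap_qext _ (LinearMap.ext fun x => by simp)
  map_mul' a b := Submodule.linearMap_qext _ (LinearMap.ext fun x => by simp)

theorem commute_of_two_step (ρ : P →* Module.End K V) (U : Submodule K V) {a b : P}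
    (ha : ∀ x, ρ a x - x ∈ U) (ha' : ∀ x ∈ U, ρ a x = x)
    (hb : ∀ x, ρ b x - x ∈ U) (hb' : ∀ x ∈ U, ρ b x = x) : ρ a * ρ b = ρ b * ρ a := by
  refine LinearMap.ext fun x => ?_
  show ρ a (ρ b x) = ρ b (ρ a x)
  have e1 : ρ a (ρ b x) = ρ a (ρ b x - x) + ρ a x := by rw [← map_add, sub_add_cancel]
  have e2 : ρ b (ρ a x) = ρ b (ρ a x - x) + ρ b x := by rw [← map_add, sub_add_cancel]
  rw [e1, e2, ha' _ (hb x), hb' _ (ha x)]
  abel

variable [Finite P] {p : ℕ} [hp : Fact p.Prime]

theorem exists_invariant_finrank [CharP K p] (hP : IsPGroup p P) [FiniteDimensional K V]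
    (ρ : P →* Module.End K V) : ∀ d : ℕ, d ≤ Module.finrank K V →
    ∃ U : Submodule K V, (∀ g, ∀ x ∈ U, ρ g x ∈ U) ∧ Module.finrank K U = d := by
  intro d
  induction d with
  | zero => exact fun _ => ⟨⊥, fun g x hx => by rw [Submodule.mem_bot] at hx ⊢; rw [hx, map_zero], finrank_bot K V⟩
  | succ d ih =>
    intro hd
    obtain ⟨U, hU, hUd⟩ := ih (by omega)
    have hne : U ≠ ⊤ := fun e => by rw [e, finrank_top] at hUd; omega
    obtain ⟨v, -, hv⟩ := SetLike.exists_of_lt (lt_top_iff_ne_top.2 hne)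
    have hv' : Submodule.Quotient.mk (p := U) v ≠ 0 := fun e => hv ((Submodule.Quotient.mk_eq_zero U).1 e)
    obtain ⟨z, -, hz0, hz⟩ := CfsgLib.DefectZero.exists_fixed_ne_zero hP (quo ρ U hU) ⊤
      (fun _ _ _ => Submodule.mem_top) Submodule.mem_top hv'
    obtain ⟨y, rfl⟩ := Submodule.Quotient.mk_surjective U z
    have hy : y ∉ U := fun h => hz0 ((Submodule.Quotient.mk_eq_zero U).2 h)
    refine ⟨U ⊔ K ∙ y, fun g x hx => ?_, by rw [Submodule.finrank_sup_span_singleton hy, hUd]⟩
    obtain ⟨u, hu, w', hw', rfl⟩ := Submodule.mem_sup.1 hx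
    obtain ⟨c, rfl⟩ := Submodule.mem_span_singleton.1 hw'
    rw [map_add, map_smul]
    refine Submodule.add_mem _ (Submodule.mem_sup_left (hU g u hu)) (Submodule.smul_mem _ c ?_)
    have h1 : ρ g y - y ∈ U := (Submodule.Quotient.eq U).1 (hz g)
    rw [← sub_add_cancel (ρ g y) y]
    exact Submodule.add_mem _ (Submodule.mem_sup_left h1)
      (Submodule.mem_sup_right (Submodule.mem_span_singleton_self y))

theorem unipotent [CharP K p] (hP : IsPGroup p P) : ∀ (m : ℕ) {V : Type w} [AddCommGroup V] [Module K V]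
    [FiniteDimensional K V] (ρ : P →* Module.End K V), Module.finrank K V ≤ 2 ^ m →
    ∀ g ∈ derivedSeries P m, ρ g = 1 := by
  intro m
  induction m with
  | zero =>
    intro V _ _ _ ρ hd g _
    rcases subsingleton_or_nontrivial V with hs | hn
    · exact LinearMap.ext fun x => Subsingleton.elim _ _
    obtain ⟨v, hv⟩ := exists_ne (0 : V)
    obtain ⟨z, -, hz0, hz⟩ := CfsgLib.DefectZero.exists_fixed_ne_zero hP ρ ⊤
      (fun _ _ _ => Submodule.mem_top) Submodule.mem_top hv
    have h1 : Module.finrank K V = 1 := le_antisymm (by simpa using hd) Module.finrank_pos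
    refine LinearMap.ext fun x => ?_
    obtain ⟨c, rfl⟩ := (finrank_eq_one_iff_of_nonzero' z hz0).1 h1 x
    rw [map_smul, hz, Module.End.one_apply]
  | succ m ih =>
    intro V _ _ _ ρ hd
    obtain ⟨U, hU, hUd⟩ := exists_invariant_finrank hP ρ (min (2 ^ m) (Module.finrank K V)) (min_le_right _ _)
    have h1 := ih (sub ρ U hU) (hUd.le.trans (min_le_left _ _))
    have h2 := ih (quo ρ U hU) (by
      have := U.finrank_quotient_add_finrank
      rw [pow_succ] at hd
      omega)
    refine derivedSeries_succ_triv ρ m fun a ha b hb => ?_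
    refine commute_of_two_step ρ U (fun x => ?_) (fun x hx => ?_) (fun x => ?_) (fun x hx => ?_)
    · exact (Submodule.Quotient.eq U).1 (LinearMap.congr_fun (h2 a ha) (Submodule.Quotient.mk x))
    · exact congrArg Subtype.val (LinearMap.congr_fun (h1 a ha) ⟨x, hx⟩)
    · exact (Submodule.Quotient.eq U).1 (LinearMap.congr_fun (h2 b hb) (Submodule.Quotient.mk x))
    · exact congrArg Subtype.val (LinearMap.congr_fun (h1 b hb) ⟨x, hx⟩)

/-- An invariant complement when the order is invertible. -/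
theorem exists_complement (hc : (Nat.card P : K) ≠ 0) (ρ : P →* Module.End K V) (U : Submodule K V)
    (hU : ∀ g, ∀ x ∈ U, ρ g x ∈ U) : ∃ U' : Submodule K V, (∀ g, ∀ x ∈ U', ρ g x ∈ U') ∧ IsCompl U U' := by
  classical
  haveI := Fintype.ofFinite P
  obtain ⟨π, hπ⟩ := LinearMap.exists_leftInverse_of_injective U.subtype U.ker_subtype
  let π₀ : Module.End K V := U.subtype ∘ₗ π
  let E : Module.End K V := (Nat.card P : K)⁻¹ • ∑ g : P, ρ g * π₀ * ρ g⁻¹
  have hE : ∀ x, E x ∈ U := fun x => by
    simp only [E, LinearMap.smul_apply, LinearMap.sum_apply]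
    exact U.smul_mem _ (U.sum_mem fun g _ => hU g _ (π (ρ g⁻¹ x)).2)
  have hid : ∀ x ∈ U, E x = x := by
    intro x hx
    have : ∀ g : P, (ρ g * π₀ * ρ g⁻¹) x = x := fun g => by
      show ρ g (π₀ (ρ g⁻¹ x)) = x
      rw [show π₀ (ρ g⁻¹ x) = ρ g⁻¹ x from congrArg Subtype.val (LinearMap.congr_fun hπ ⟨_, hU g⁻¹ x hx⟩)]
      rw [← Module.End.mul_apply, ← map_mul, mul_inv_cancel, map_one, Module.End.one_apply]
    simp only [E, LinearMap.smul_apply, LinearMap.sum_apply, this, Finset.sum_const, Finset.card_univ]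
    rw [← Nat.card_eq_fintype_card, ← Nat.cast_smul_eq_nsmul K, inv_smul_smul₀ hc]
  have heq : ∀ h : P, ρ h * E = E * ρ h := by
    intro h
    simp only [E, mul_smul_comm, smul_mul_assoc, Finset.mul_sum, Finset.sum_mul]
    congr 1
    rw [← Equiv.sum_comp (Equiv.mulLeft h) fun g => ρ g * π₀ * ρ g⁻¹ * ρ h]
    refine Finset.sum_congr rfl fun g _ => ?_
    rw [Equiv.coe_mulLeft, mul_inv_rev, mul_assoc _ (ρ (g⁻¹ * h⁻¹)), ← map_mul ρ (g⁻¹ * h⁻¹), inv_mul_cancel_right,
      map_mul]
    simp only [mul_assoc]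
  refine ⟨LinearMap.ker E, fun g x hx => ?_, ?_⟩
  · rw [LinearMap.mem_ker] at hx ⊢
    rw [← Module.End.mul_apply, ← heq, Module.End.mul_apply, hx, map_zero]
  · refine IsCompl.of_eq ?_ ?_
    · rw [Submodule.eq_bot_iff]
      intro x hx
      rw [← hid x hx.1, LinearMap.mem_ker.1 hx.2]
    · rw [eq_top_iff]
      intro x _
      rw [← add_sub_cancel (E x) x]
      exact Submodule.add_mem_sup (hE x) (LinearMap.mem_ker.2 (by rw [map_sub, hid _ (hE x), sub_self]))

theorem semisimple_bound [IsAlgClosed K] (hpK : (p : K) ≠ 0) : ∀ (d : ℕ) {P : Type u} [Group P] [Finite P],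
    IsPGroup p P → ∀ {V : Type w} [AddCommGroup V] [Module K V] [FiniteDimensional K V]
    (ρ : P →* Module.End K V), Module.finrank K V = d → ∀ g ∈ derivedSeries P (Nat.log 2 d + 1), ρ g = 1 := by
  intro d
  induction d using Nat.strong_induction_on with
  | _ d ih =>
  intro P _ _ hP V _ _ _ ρ hd g hg
  classical
  have hc : (Nat.card P : K) ≠ 0 := by
    obtain ⟨k, hk⟩ := IsPGroup.iff_card.1 hP
    rw [hk, Nat.cast_pow]; exact pow_ne_zero _ hpK
  by_cases hred : ∃ U : Submodule K V, (∀ g, ∀ x ∈ U, ρ g x ∈ U) ∧ U ≠ ⊥ ∧ U ≠ ⊤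
  · obtain ⟨U, hU, hU1, hU2⟩ := hred
    obtain ⟨U', hU', hcompl⟩ := exists_complement hc ρ U hU
    have hsum : Module.finrank K U + Module.finrank K U' = d := hd ▸ Submodule.finrank_add_eq_of_isCompl hcompl
    have h0 : 0 < Module.finrank K U := Nat.pos_of_ne_zero fun e => hU1 (Submodule.finrank_eq_zero.1 e)
    have h0' : 0 < Module.finrank K U' := Nat.pos_of_ne_zero fun e => hU2 (by
      have : U' = ⊥ := Submodule.finrank_eq_zero.1 e
      have h := hcompl.sup_eq_top
      rwa [this, sup_bot_eq] at h)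
    have hmono : ∀ e, e ≤ d → g ∈ derivedSeries P (Nat.log 2 e + 1) := fun e he =>
      derivedSeries_antitone P (Nat.add_le_add_right (Nat.log_mono_right he) 1) hg
    have e1 := ih _ (by omega) hP (sub ρ U hU) rfl g (hmono _ (by omega))
    have e2 := ih _ (by omega) hP (sub ρ U' hU') rfl g (hmono _ (by omega))
    refine LinearMap.ext fun x => ?_
    obtain ⟨a, ha, b, hb, rfl⟩ := Submodule.mem_sup.1 (hcompl.sup_eq_top ▸ Submodule.mem_top : x ∈ U ⊔ U')
    rw [map_add, show ρ g a = a from congrArg Subtype.val (LinearMap.congr_fun e1 ⟨a, ha⟩),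
      show ρ g b = b from congrArg Subtype.val (LinearMap.congr_fun e2 ⟨b, hb⟩), Module.End.one_apply]
  push Not at hred
  rcases subsingleton_or_nontrivial V with hs | hn
  · exact LinearMap.ext fun x => Subsingleton.elim _ _
  by_cases hab : ∀ a b : P, ρ a * ρ b = ρ b * ρ a
  · exact derivedSeries_succ_triv ρ 0 (fun a _ b _ => hab a b) g
      (derivedSeries_antitone P (show 0 + 1 ≤ Nat.log 2 d + 1 by omega) hg)
  -- an element central modulo the scalars
  let Z : Subgroup P :=
    { carrier := {x | ∀ g, ρ x * ρ g = ρ g * ρ x}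
      one_mem' := fun g => by rw [map_one, one_mul, mul_one]
      mul_mem' := fun {x y} hx hy g => by rw [map_mul, mul_assoc, hy g, ← mul_assoc, hx g, mul_assoc]
      inv_mem' := fun {x} hx g => by
        have h1 := congrArg (fun t => ρ x⁻¹ * t * ρ x⁻¹) (hx g).symm
        simpa [← map_mul, mul_assoc] using h1 }
  haveI : Z.Normal := ⟨fun x hx y g => by
    have h1 := congrArg (fun t => ρ y * t * ρ y⁻¹) (hx (y⁻¹ * g * y))
    simpa [← map_mul, mul_assoc] using h1⟩
  haveI : Nontrivial (P ⧸ Z) := by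
    refine QuotientGroup.nontrivial_iff.2 fun e => hab fun a b => ?_
    have ha : a ∈ Z := e ▸ mem_top a
    exact ha b
  haveI := (hP.to_quotient Z).center_nontrivial
  obtain ⟨⟨zb, hzb⟩, hzne⟩ := exists_ne (1 : Subgroup.center (P ⧸ Z))
  obtain ⟨z, rfl⟩ := QuotientGroup.mk'_surjective Z zb
  have hzZ : z ∉ Z := fun h => hzne (Subtype.ext ((QuotientGroup.eq_one_iff z).2 h))
  have hcomm : ∀ g : P, ⁅g, z⁆ ∈ Z := fun g => (QuotientGroup.eq_one_iff _).1 (by
    show QuotientGroup.mk' Z ⁅g, z⁆ = 1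
    rw [map_commutatorElement, commutatorElement_eq_one_iff_mul_comm]
    exact mem_center_iff.1 hzb _)
  have hscalar : ∀ x ∈ Z, ∃ c : K, ∀ v, ρ x v = c • v := by
    intro x hx
    obtain ⟨c, hc'⟩ := Module.End.exists_eigenvalue (ρ x)
    refine ⟨c, fun v => Module.End.mem_eigenspace_iff.1 ?_⟩
    have htop : (ρ x).eigenspace c = ⊤ := hred _ (fun g y hy => by
      rw [Module.End.mem_eigenspace_iff] at hy ⊢
      rw [← Module.End.mul_apply, hx g, Module.End.mul_apply, hy, map_smul]) hc'
    exact htop ▸ Submodule.mem_top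
  choose χ hχ using fun g : P => hscalar _ (hcomm g)
  have hrel : ∀ g v, ρ g (ρ z v) = χ g • ρ z (ρ g v) := by
    intro g v
    rw [← hχ g, ← Module.End.mul_apply, ← Module.End.mul_apply, ← Module.End.mul_apply, ← map_mul, ← map_mul, ← map_mul]
    congr 2
    rw [commutatorElement_def]; group
  have hne : ∀ (x : P) (v : V), v ≠ 0 → ρ x v ≠ 0 := fun x v hv e => hv (by
    have := congrArg (ρ x⁻¹) e
    rwa [← Module.End.mul_apply, ← map_mul, inv_mul_cancel, map_one, map_zero] at this)
  obtain ⟨v₀, hv₀⟩ := exists_ne (0 : V)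
  have hχmul : ∀ a b, χ (a * b) = χ a * χ b := by
    intro a b
    refine smul_left_injective K (hne z _ (hne (a * b) _ hv₀)) ?_
    show χ (a * b) • ρ z (ρ (a * b) v₀) = (χ a * χ b) • ρ z (ρ (a * b) v₀)
    rw [← hrel, map_mul, Module.End.mul_apply, Module.End.mul_apply, hrel b, map_smul, hrel a, smul_smul, mul_comm]
  have hχone : χ 1 = 1 := by
    refine smul_left_injective K (hne z _ hv₀) ?_
    show χ 1 • ρ z v₀ = (1 : K) • ρ z v₀
    have := hrel 1 v₀
    simp only [map_one, Module.End.one_apply] at this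
    rw [← this, one_smul]
  let χh : P →* K := { toFun := χ, map_one' := hχone, map_mul' := hχmul }
  -- reduce the image to order `p`
  have hex : ∃ j, ∀ a, χh a ^ p ^ j = 1 := by
    obtain ⟨k, hk⟩ := IsPGroup.iff_card.1 hP
    exact ⟨k, fun a => by rw [← map_pow, ← hk, pow_card_eq_one', map_one]⟩
  have hj0 : Nat.find hex ≠ 0 := by
    intro e
    refine hzZ fun g => ?_
    have h1 : χ g = 1 := by
      have := Nat.find_spec hex g
      rwa [e, pow_zero, pow_one] at this
    refine LinearMap.ext fun v => ?_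
    show ρ z (ρ g v) = ρ g (ρ z v)
    rw [hrel, h1, one_smul]
  obtain ⟨j, hj⟩ : ∃ j, Nat.find hex = j + 1 := ⟨Nat.find hex - 1, by omega⟩
  obtain ⟨g₁, hg₁⟩ : ∃ g₁, χ g₁ ^ p ^ j ≠ 1 := by
    by_contra hcon
    push Not at hcon
    exact Nat.find_min hex (show j < Nat.find hex by omega) hcon
  set m := p ^ j
  let ψ : P →* K := (powMonoidHom m).comp χh
  have hψ : ∀ a, ψ a = χ a ^ m := fun a => rfl
  have hrelw' : ∀ (k : ℕ) g v, ρ g (ρ (z ^ k) v) = χ g ^ k • ρ (z ^ k) (ρ g v) := by
    intro k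
    induction k with
    | zero => simp
    | succ k ihk =>
      intro g v
      rw [pow_succ z k, map_mul, Module.End.mul_apply, Module.End.mul_apply, ihk, hrel, map_smul, smul_smul, pow_succ]
  have hrelw : ∀ g v, ρ g (ρ (z ^ m) v) = ψ g • ρ (z ^ m) (ρ g v) := fun g v => by
    rw [hψ]; exact hrelw' m g v
  obtain ⟨μ, hμ⟩ := Module.End.exists_eigenvalue (ρ (z ^ m))
  set W := (ρ (z ^ m)).eigenspace μ
  have hW0 : W ≠ ⊥ := hμ
  have hψ0 : ∀ a, ψ a ≠ 0 := fun a e => by
    have := map_mul ψ a a⁻¹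
    rw [mul_inv_cancel, map_one, e, zero_mul] at this
    exact one_ne_zero this
  have himg : ∀ a, ∀ x ∈ W, ψ a • ρ (z ^ m) (ρ a x) = μ • ρ a x := by
    intro a x hx
    rw [← hrelw, Module.End.mem_eigenspace_iff.1 hx, map_smul]
  have hμ0 : μ ≠ 0 := by
    intro e
    obtain ⟨x, hx, hx0⟩ := Submodule.exists_mem_ne_zero_of_ne_bot hW0
    refine hne (z ^ m) x hx0 ?_
    rw [Module.End.mem_eigenspace_iff.1 hx, e, zero_smul]
  let M : Subgroup P := ψ.ker
  have hMW : ∀ a ∈ M, ∀ x ∈ W, ρ a x ∈ W := by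
    intro a ha x hx
    have := himg a x hx
    rw [MonoidHom.mem_ker.1 ha, one_smul] at this
    exact Module.End.mem_eigenspace_iff.2 this
  have hdisj : W ⊓ W.map (ρ g₁) = ⊥ := by
    rw [Submodule.eq_bot_iff]
    intro y hy
    obtain ⟨x, hx, rfl⟩ := Submodule.mem_map.1 hy.2
    have h1 := himg g₁ x hx
    rw [Module.End.mem_eigenspace_iff.1 hy.1, smul_smul] at h1
    by_contra hy0
    have h2 := smul_left_injective K hy0 h1
    exact hg₁ (mul_left_eq_self₀.1 h2 |>.resolve_right hμ0)
  have hinj : ∀ a, Function.Injective (ρ a) := fun a x y e => by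
    have := congrArg (ρ a⁻¹) e
    simpa [← Module.End.mul_apply, ← map_mul] using this
  have hdimW : ∀ a, Module.finrank K (W.map (ρ a)) = Module.finrank K W := fun a =>
    (Submodule.equivMapOfInjective (ρ a) (hinj a) W).finrank_eq.symm
  have hhalf : 2 * Module.finrank K W ≤ d := by
    have h1 := Submodule.finrank_sup_add_finrank_inf_eq W (W.map (ρ g₁))
    rw [hdisj, finrank_bot, hdimW, add_zero] at h1
    have h2 : Module.finrank K ↥(W ⊔ W.map (ρ g₁)) ≤ Module.finrank K V := Submodule.finrank_le _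
    omega
  have hWpos : 0 < Module.finrank K W := Nat.pos_of_ne_zero fun e => hW0 (Submodule.finrank_eq_zero.1 e)
  have hspan : ⨆ a, W.map (ρ a) = ⊤ := by
    refine hred _ (fun g x hx => ?_) ?_
    · induction hx using Submodule.iSup_induction' with
      | mem a y hy =>
        obtain ⟨y', hy', rfl⟩ := Submodule.mem_map.1 hy
        rw [← Module.End.mul_apply, ← map_mul]
        exact Submodule.mem_iSup_of_mem (g * a) (Submodule.mem_map_of_mem hy')
      | zero => rw [map_zero]; exact zero_mem _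
      | add y y' _ _ h h' => rw [map_add]; exact add_mem h h'
    · intro e
      refine hW0 (le_bot_iff.1 (fun x hx => e ▸ ?_))
      exact Submodule.mem_iSup_of_mem 1 ⟨x, hx, by simp⟩
  have hcommM : commutator P ≤ M := by
    rw [_root_.commutator_def, commutator_le]
    exact fun a _ b _ => MonoidHom.mem_ker.2 (comm_of_commute ψ (mul_comm _ _))
  obtain ⟨g', hg', rfl⟩ := derived_succ_le M hcommM _ hg
  have key : ∀ a, ∀ x ∈ W.map (ρ a), ρ g'.1 x = x := by
    intro a x hx
    have hinvA : ∀ b : M, ∀ y ∈ W.map (ρ a), (ρ.comp M.subtype) b y ∈ W.map (ρ a) := by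
      intro b y hy
      obtain ⟨y', hy', rfl⟩ := Submodule.mem_map.1 hy
      refine ⟨ρ (a⁻¹ * b.1 * a) y', hMW _ ?_ y' hy', ?_⟩
      · have := (MonoidHom.normal_ker ψ).conj_mem _ b.2 a⁻¹
        rwa [inv_inv] at this
      · rw [← Module.End.mul_apply, ← map_mul, MonoidHom.comp_apply, ← Module.End.mul_apply, ← map_mul]
        congr 2
        simp [mul_assoc]
    have hlt : Module.finrank K (W.map (ρ a)) < d := by rw [hdimW]; omega
    have hlog : Nat.log 2 (Module.finrank K (W.map (ρ a))) + 1 ≤ Nat.log 2 d := by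
      rw [hdimW, ← Nat.log_mul_base one_lt_two hWpos.ne', mul_comm]
      exact Nat.log_mono_right hhalf
    have h1 := ih _ hlt (hP.to_subgroup M) (sub (ρ.comp M.subtype) (W.map (ρ a)) hinvA) rfl g'
      (derivedSeries_antitone M hlog hg')
    exact congrArg Subtype.val (LinearMap.congr_fun h1 ⟨x, hx⟩)
  refine LinearMap.ext fun x => ?_
  have hx : x ∈ ⨆ a, W.map (ρ a) := hspan ▸ Submodule.mem_top
  induction hx using Submodule.iSup_induction' with
  | mem a y hy => exact key a y hy
  | zero => simp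
  | add y y' _ _ h h' => rw [map_add, h, h', map_add]

end CfsgLib.LinearDerivedLength
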