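import Mathlib.GroupTheory.RegularWreathProduct
import Mathlib.GroupTheory.Solvable
import Mathlib.GroupTheory.PGroup
import Mathlib.GroupTheory.Sylow
import Mathlib.Tactic
import Cfsg.Agent.FGSB.LinearDerivedLength

/-!
# The derived length of the Sylow subgroups of symmetric groups
-/

set_option autoImplicit false
set_option linter.unusedSectionVars false
set_option linter.style.haveILetI false

namespace CfsgLib.SylowPermDerived

open Subgroup
open scoped commutatorElement

universe u v

/-- An orbit of size at most `p ^ a` is fixed pointwise by the `a`-th derived subgroup. -/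
theorem fixes {p : ℕ} [hp : Fact p.Prime] : ∀ (a : ℕ) {P : Type u} [Group P] [Finite P], IsPGroup p P →
    ∀ {X : Type v} [MulAction P X] (x : X), (MulAction.stabilizer P x).index < p ^ (a + 1) →
      ∀ g ∈ derivedSeries P a, g • x = x := by
  intro a
  induction a with
  | zero =>
    intro P _ _ hP X _ x hx g _
    obtain ⟨j, hj⟩ := hP.index (MulAction.stabilizer P x)
    rw [hj] at hx
    have hj0 : j = 0 := by
      have := (Nat.pow_lt_pow_iff_right hp.out.one_lt).1 hx
      omega
    rw [hj0, pow_zero, index_eq_one] at hj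
    exact MulAction.mem_stabilizer_iff.1 (hj ▸ mem_top g)
  | succ a ih =>
    intro P _ _ hP X _ x hx g hg
    by_cases htop : MulAction.stabilizer P x = ⊤
    · exact MulAction.mem_stabilizer_iff.1 (htop ▸ mem_top g)
    haveI := hP.isNilpotent
    obtain ⟨M, hM, hHM⟩ := (eq_top_or_exists_le_coatom (MulAction.stabilizer P x)).resolve_left htop
    haveI : M.Normal := Group.normalizerCondition_of_isNilpotent.normal_of_coatom M hM
    have hMidx : 1 < M.index := by
      rcases Nat.lt_or_ge 1 M.index with h | h
      · exact h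
      · have := M.index_ne_zero_of_finite
        exact absurd (index_eq_one.1 (show M.index = 1 by omega)) hM.1
    have hcomm : _root_.commutator P ≤ M := by
      haveI : Nontrivial (P ⧸ M) := QuotientGroup.nontrivial_iff.2 hM.1
      haveI := (hP.to_quotient M).center_nontrivial
      have hZ : (Subgroup.center (P ⧸ M)).comap (QuotientGroup.mk' M) = ⊤ := by
        refine (hM.le_iff.1 ?_).resolve_right fun e => ?_
        · exact fun m hm => mem_comap.2 (by rw [QuotientGroup.mk'_apply, (QuotientGroup.eq_one_iff m).2 hm]; exact one_mem _)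
        · obtain ⟨z, hz⟩ := exists_ne (1 : Subgroup.center (P ⧸ M))
          obtain ⟨w, hw⟩ := QuotientGroup.mk'_surjective M z.1
          have : w ∈ M := e ▸ mem_comap.2 (hw.symm ▸ z.2)
          refine hz (Subtype.ext ?_)
          rw [← hw, QuotientGroup.mk'_apply, (QuotientGroup.eq_one_iff w).2 this]
          rfl
      rw [_root_.commutator_def, commutator_le]
      intro u _ w _
      rw [← QuotientGroup.eq_one_iff (N := M), ← QuotientGroup.mk'_apply, map_commutatorElement,
        commutatorElement_eq_one_iff_mul_comm]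
      exact (mem_center_iff.1 (mem_comap.1 (hZ ▸ mem_top u : u ∈ _)) _).symm
    obtain ⟨g', hg', rfl⟩ := CfsgLib.LinearDerivedLength.derived_succ_le M hcomm a hg
    refine ih (P := M) (hP.to_subgroup M) x ?_ g' hg'
    have e : (MulAction.stabilizer M x) = (MulAction.stabilizer P x).subgroupOf M := rfl
    rw [e]
    have h1 := relIndex_mul_index hHM
    change ((MulAction.stabilizer P x).subgroupOf M).index * M.index = _ at h1
    obtain ⟨i, hi⟩ := hP.index M
    have h2 : p ≤ M.index := by
      rw [hi] at hMidx ⊢
      exact Nat.le_self_pow (fun e => by rw [e, pow_zero] at hMidx; omega) p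
    rw [pow_succ p (a + 1), ← h1] at hx
    by_contra hcon
    exact absurd (Nat.mul_le_mul (not_lt.1 hcon) h2) (not_le.2 hx)

/-- The derived series of a wreath product reaches down to the base. -/
theorem derived_le_wreath {D Q : Type*} [Group D] [Group Q] (q : Q) (hq : q ≠ 1) :
    ∀ (j : ℕ), ∀ d ∈ derivedSeries D j, ∃ w ∈ derivedSeries (RegularWreathProduct D Q) (j + 1),
      w.right = 1 ∧ w.left 1 = d := by
  intro j
  classical
  induction j with
  | zero =>
    intro d _
    let b : RegularWreathProduct D Q := ⟨Pi.mulSingle 1 d, 1⟩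
    refine ⟨⁅b, RegularWreathProduct.inl q⁆, ?_, ?_, ?_⟩
    · rw [derivedSeries_one]
      exact commutator_mem_commutator (mem_top b) (mem_top _)
    · simp [commutatorElement_def, b]
    · simp [commutatorElement_def, b, RegularWreathProduct.mul_def, RegularWreathProduct.inv_left,
        RegularWreathProduct.inl, Pi.mulSingle_eq_of_ne (inv_ne_one.2 hq)]
  | succ j ih =>
    let S : Subgroup D :=
      { carrier := {d | ∃ w ∈ derivedSeries (RegularWreathProduct D Q) (j + 1 + 1), w.right = 1 ∧ w.left 1 = d}
        one_mem' := ⟨1, one_mem _, rfl, rfl⟩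
        mul_mem' := by
          rintro _ _ ⟨w, hw, hw1, rfl⟩ ⟨w', hw', hw1', rfl⟩
          exact ⟨w * w', mul_mem hw hw', by simp [hw1, hw1'], by simp [hw1]⟩
        inv_mem' := by
          rintro _ ⟨w, hw, hw1, rfl⟩
          exact ⟨w⁻¹, inv_mem hw, by simp [hw1], by simp [hw1]⟩ }
    suffices h : derivedSeries D (j + 1) ≤ S from fun d hd => h hd
    rw [show derivedSeries D (j + 1) = ⁅derivedSeries D j, derivedSeries D j⁆ from rfl, commutator_le]
    intro x hx y hy
    obtain ⟨w, hw, hw1, rfl⟩ := ih x hx
    obtain ⟨w', hw', hw1', rfl⟩ := ih y hy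
    refine ⟨⁅w, w'⁆, ?_, ?_, ?_⟩
    · rw [show derivedSeries (RegularWreathProduct D Q) (j + 1 + 1) = ⁅derivedSeries _ (j + 1), derivedSeries _ (j + 1)⁆ from rfl]
      exact commutator_mem_commutator hw hw'
    · simp [commutatorElement_def, hw1, hw1']
    · simp [commutatorElement_def, hw1, hw1', RegularWreathProduct.mul_def]

theorem derived_iterated_ne_bot (G : Type) [Group G] [Nontrivial G] :
    ∀ k : ℕ, derivedSeries (IteratedWreathProduct G (k + 1)) k ≠ ⊥ := by
  intro k
  induction k with
  | zero =>
    haveI : Nontrivial (IteratedWreathProduct G 1) := by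
      obtain ⟨q, hq⟩ := exists_ne (1 : G)
      exact ⟨⟨(RegularWreathProduct.inl q : RegularWreathProduct (IteratedWreathProduct G 0) G), 1,
        fun e => hq (congrArg RegularWreathProduct.right e)⟩⟩
    rw [derivedSeries_zero]
    exact top_ne_bot
  | succ k ih =>
    intro h
    obtain ⟨q, hq⟩ := exists_ne (1 : G)
    refine ih ((eq_bot_iff_forall _).2 fun d hd => ?_)
    obtain ⟨w, hw, -, rfl⟩ := derived_le_wreath (Q := G) q hq k d hd
    have hw' : w = 1 := (eq_bot_iff_forall _).1 h w hw
    rw [hw']
    rfl

theorem main (p : ℕ) [hp : Fact p.Prime] (n : ℕ) (hn : 1 ≤ n) (P : Sylow p (Equiv.Perm (Fin n))) :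
    derivedSeries ↥(P : Subgroup (Equiv.Perm (Fin n))) (Nat.log p n) = ⊥ ∧
      (1 ≤ Nat.log p n → derivedSeries ↥(P : Subgroup (Equiv.Perm (Fin n))) (Nat.log p n - 1) ≠ ⊥) := by
  refine ⟨?_, fun hk hbot => ?_⟩
  · rw [eq_bot_iff_forall]
    intro g hg
    refine Subtype.ext (Equiv.ext fun x => ?_)
    show g • x = x
    refine fixes (Nat.log p n) P.2 x ?_ g hg
    rw [MulAction.index_stabilizer]
    refine lt_of_le_of_lt ?_ (Nat.lt_pow_succ_log_self hp.out.one_lt n)
    calc (MulAction.orbit (↥(P : Subgroup (Equiv.Perm (Fin n)))) x).ncard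
        ≤ (Set.univ : Set (Fin n)).ncard := Set.ncard_le_ncard (Set.subset_univ _)
      _ = n := by rw [Set.ncard_univ, Nat.card_fin]
  · set k := Nat.log p n
    have hle : p ^ k ≤ n := Nat.pow_log_le_self p (by omega)
    have hcard : Nat.card (Fin k → Multiplicative (ZMod p)) = p ^ k := by
      rw [Nat.card_fun, Nat.card_fin, Nat.card_congr Multiplicative.toAdd, Nat.card_zmod]
    let ι : (Fin k → Multiplicative (ZMod p)) ↪ Fin n :=
      (Finite.equivFinOfCardEq hcard).toEmbedding.trans (Fin.castLEEmb hle)
    let f : IteratedWreathProduct (Multiplicative (ZMod p)) k →* Equiv.Perm (Fin n) :=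
      (Equiv.Perm.viaEmbeddingHom ι).comp (iteratedWreathToPermHom (Multiplicative (ZMod p)) k)
    have hf : Function.Injective f :=
      (Equiv.Perm.viaEmbeddingHom_injective ι).comp (iteratedWreathToPermHomInj _ k)
    have hW : IsPGroup p (IteratedWreathProduct (Multiplicative (ZMod p)) k) := IsPGroup.of_card (by
      rw [IteratedWreathProduct.card, Nat.card_congr Multiplicative.toAdd, Nat.card_zmod])
    obtain ⟨S, hS⟩ := (hW.of_surjective f.rangeRestrict f.rangeRestrict_surjective).exists_le_sylow
    let g : IteratedWreathProduct (Multiplicative (ZMod p)) k →* ↥(P : Subgroup (Equiv.Perm (Fin n))) :=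
      (S.equiv P).toMonoidHom.comp (f.codRestrict (S : Subgroup _) fun x => hS ⟨x, rfl⟩)
    have hg : Function.Injective g := (S.equiv P).injective.comp fun a b e => hf (congrArg Subtype.val e)
    obtain ⟨j, hj⟩ : ∃ j, k = j + 1 := ⟨k - 1, by omega⟩
    have h1 := map_derivedSeries_le_derivedSeries g (k - 1)
    rw [hbot, le_bot_iff, Subgroup.map_eq_bot_iff_of_injective _ hg] at h1
    rw [hj, Nat.add_sub_cancel] at h1
    haveI : Nontrivial (Multiplicative (ZMod p)) := inferInstance
    exact derived_iterated_ne_bot _ j (by rw [hj] at *; exact h1)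

end CfsgLib.SylowPermDerived
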