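import Cfsg.Agent.FGSB.LinearDerivedLengthPrime
import Cfsg.Agent.FGSB.SylowPermDerived
import Mathlib.GroupTheory.Sylow
import Mathlib.FieldTheory.Finite.Basic
import Mathlib.FieldTheory.IsAlgClosed.AlgebraicClosure
import Mathlib.LinearAlgebra.Matrix.GeneralLinearGroup.Card
import Mathlib.Data.Nat.Choose.Factorization

/-!
# The derived length of a Sylow `p`-subgroup of `GL(n, q)` in cross characteristic
-/

set_option autoImplicit false
set_option linter.unusedSectionVars false
set_option linter.style.haveILetI false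

namespace CfsgLib.LinearDerivedLength.CrossChar

open Subgroup

universe u v

variable {p : ℕ} [hp : Fact p.Prime] {F : Type v} [Field F] [Fintype F]

theorem order_pos (hpq : ¬ p ∣ Fintype.card F) : 0 < orderOf (Fintype.card F : ZMod p) := by
  have hne : (Fintype.card F : ZMod p) ≠ 0 := fun h => hpq ((ZMod.natCast_eq_zero_iff _ p).1 h)
  exact orderOf_pos_iff.2 (isOfFinOrder_iff_pow_eq_one.2
    ⟨p - 1, Nat.sub_pos_of_lt hp.out.one_lt, ZMod.pow_card_sub_one_eq_one hne⟩)

theorem cast_prime_ne_zero (hpq : ¬ p ∣ Fintype.card F) : (p : F) ≠ 0 := by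
  intro h
  have h1 : ringChar F ∣ p := ringChar.dvd h
  rcases hp.out.eq_one_or_self_of_dvd _ h1 with h2 | h2
  · exact CharP.ringChar_ne_one h2
  · haveI : CharP F p := h2 ▸ ringChar.charP F
    exact hpq ((CharP.cast_eq_zero_iff F p _).1 (Nat.cast_card_eq_zero F))

section Upper

variable {P : Type u} [Group P]

local notation "K" => AlgebraicClosure F

/-- A matrix representation over `F`, extended to the algebraic closure. -/
noncomputable def extend {n : ℕ} (φ : P →* Matrix.GeneralLinearGroup (Fin n) F) : P →* Module.End K (Fin n → K) :=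
  ((Matrix.toLinAlgEquiv' (R := K)).toAlgHom.toRingHom.toMonoidHom.comp
    (RingHom.mapMatrix (algebraMap F K)).toMonoidHom).comp ((Units.coeHom _).comp φ)

theorem extend_apply {n : ℕ} (φ : P →* Matrix.GeneralLinearGroup (Fin n) F) (g : P) (v : Fin n → K) (i : Fin n) :
    extend φ g v i = ∑ j, algebraMap F K ((φ g : Matrix (Fin n) (Fin n) F) i j) * v j := by
  simp [extend, Matrix.mulVec, dotProduct]

theorem extend_commutes {n : ℕ} (φ : P →* Matrix.GeneralLinearGroup (Fin n) F) (τ : K ≃ₐ[F] K) (g : P)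
    (v : Fin n → K) : extend φ g (fun j => τ (v j)) = fun i => τ (extend φ g v i) := by
  funext i
  simp [extend_apply, map_sum, map_mul]

theorem finrank_le_eigenspace {n : ℕ} (φ : P →* Matrix.GeneralLinearGroup (Fin n) F) (τ : K ≃ₐ[F] K) (z : P)
    (c : K) (U : Submodule K (Fin n → K)) (hz : ∀ x ∈ U, extend φ z x = c • x) :
    Module.finrank K U ≤ Module.finrank K ((extend φ z).eigenspace (τ c)) := by
  let b := Module.finBasis K U
  let f : Fin (Module.finrank K U) → (extend φ z).eigenspace (τ c) := fun i =>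
    ⟨fun j => τ ((b i : Fin n → K) j), Module.End.mem_eigenspace_iff.2 (by
      rw [extend_commutes, hz _ (b i).2]
      funext j
      simp)⟩
  have hf : LinearIndependent K f := by
    rw [Fintype.linearIndependent_iff]
    intro a ha i
    have h1 : ∑ k, τ.symm (a k) • b k = 0 := by
      refine Subtype.ext (funext fun j => ?_)
      have h2 := congrArg (fun y : (extend φ z).eigenspace (τ c) => τ.symm ((y : Fin n → K) j)) ha
      simpa [f] using h2
    have h3 := Fintype.linearIndependent_iff.1 b.linearIndependent _ h1 i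
    simpa using h3
  simpa using hf.fintype_card_le_finrank

theorem dim_bound {n : ℕ} (φ : P →* Matrix.GeneralLinearGroup (Fin n) F) (z : P) (c : K) {a : ℕ} (hc : c ≠ 1)
    (hca : c ^ p ^ a = 1) (U : Submodule K (Fin n → K)) (hz : ∀ x ∈ U, extend φ z x = c • x) :
    orderOf (Fintype.card F : ZMod p) * Module.finrank K U ≤ n := by
  classical
  set d := orderOf (Fintype.card F : ZMod p) with hd
  let τ : Fin d → (K ≃ₐ[F] K) := fun i => FiniteField.frobeniusAlgEquivOfAlgebraic F K ^ (i : ℕ)
  have hτ : ∀ i : Fin d, τ i c = c ^ (Fintype.card F ^ (i : ℕ)) := fun i => by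
    simp only [τ, AlgEquiv.coe_pow, FiniteField.coe_frobeniusAlgEquivOfAlgebraic_iterate]
  obtain ⟨b, -, hb⟩ := (Nat.dvd_prime_pow hp.out).1 (orderOf_dvd_of_pow_eq_one hca)
  have hb0 : b ≠ 0 := fun e => hc (orderOf_eq_one_iff.1 (by rw [hb, e, pow_zero]))
  have hpd : p ∣ orderOf c := hb ▸ dvd_pow_self p hb0
  have hunit : IsUnit c := (isOfFinOrder_iff_pow_eq_one.2 ⟨_, Nat.pow_pos hp.out.pos, hca⟩).isUnit
  have hinj : Function.Injective fun i => τ i c := by
    intro i j e
    simp only [hτ] at e
    have e' : (Fintype.card F ^ (i : ℕ)) ≡ (Fintype.card F ^ (j : ℕ)) [MOD orderOf c] := by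
      obtain ⟨x, rfl⟩ := hunit
      rw [orderOf_units]
      exact pow_eq_pow_iff_modEq.1 (Units.ext (by simpa using e))
    have e2 := (ZMod.natCast_eq_natCast_iff _ _ _).2 (e'.of_dvd hpd)
    push_cast at e2
    exact Fin.ext (pow_injOn_Iio_orderOf i.2 j.2 e2)
  have h1 := CfsgLib.LinearDerivedLength.sum_finrank_le (fun i => (extend φ z).eigenspace (τ i c))
    ((Module.End.eigenspaces_iSupIndep _).comp hinj)
  have h2 := Finset.sum_le_sum (s := Finset.univ) fun (i : Fin d) _ => finrank_le_eigenspace φ (τ i) z c U hz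
  simp only [Finset.sum_const, Finset.card_univ, Fintype.card_fin, smul_eq_mul] at h2
  simp only [Module.finrank_pi, Fintype.card_fin] at h1
  exact h2.trans h1

variable [Finite P]

theorem upper (hpq : ¬ p ∣ Fintype.card F) (hP : IsPGroup p P) {n : ℕ}
    (φ : P →* Matrix.GeneralLinearGroup (Fin n) F) {g : P}
    (hg : g ∈ derivedSeries P (Nat.log p (n / orderOf (Fintype.card F : ZMod p)) + 1)) : φ g = 1 := by
  classical
  set ρ := extend φ with hρ
  have hd := order_pos (F := F) hpq
  have hpK : (p : K) ≠ 0 := by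
    rw [← map_natCast (algebraMap F K)]
    exact (map_ne_zero _).2 (cast_prime_ne_zero hpq)
  have hcard : (Nat.card P : K) ≠ 0 := by
    obtain ⟨k, hk⟩ := IsPGroup.iff_card.1 hP
    rw [hk, Nat.cast_pow]; exact pow_ne_zero _ hpK
  have key : ∀ (e : ℕ) (U : Submodule K (Fin n → K)), (∀ g, ∀ x ∈ U, ρ g x ∈ U) → Module.finrank K U = e →
      ∀ x ∈ U, ρ g x = x := by
    intro e
    induction e using Nat.strong_induction_on with
    | _ e ih =>
    intro U hU he x hx
    by_cases hred : ∃ U₁ : Submodule K (Fin n → K), (∀ g, ∀ x ∈ U₁, ρ g x ∈ U₁) ∧ U₁ ≠ ⊥ ∧ U₁ < U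
    · obtain ⟨U₁, hU₁, hne, hlt⟩ := hred
      obtain ⟨U', hU', hcompl⟩ := exists_complement hcard ρ U₁ hU₁
      obtain ⟨a, ha, b, hb, rfl⟩ := Submodule.mem_sup.1 (hcompl.sup_eq_top ▸ Submodule.mem_top : x ∈ U₁ ⊔ U')
      have hbU : b ∈ U := by simpa using U.sub_mem hx (hlt.le ha)
      have hlt' : U ⊓ U' < U := inf_le_left.lt_of_ne fun h => hne (le_bot_iff.1
        (hcompl.inf_eq_bot ▸ le_inf le_rfl (hlt.le.trans (inf_eq_left.1 h))))
      rw [map_add, ih _ (he ▸ Submodule.finrank_lt_finrank_of_lt hlt) U₁ hU₁ rfl a ha,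
        ih _ (he ▸ Submodule.finrank_lt_finrank_of_lt hlt') (U ⊓ U')
          (fun g y hy => ⟨hU g y hy.1, hU' g y hy.2⟩) rfl b ⟨hbU, hb⟩]
    push Not at hred
    let σ := sub ρ U hU
    by_cases hN : σ.ker = ⊤
    · exact congrArg Subtype.val (LinearMap.congr_fun (MonoidHom.mem_ker.1 (hN ▸ mem_top g : g ∈ σ.ker)) ⟨x, hx⟩)
    haveI : Nontrivial (P ⧸ σ.ker) := QuotientGroup.nontrivial_iff.2 hN
    haveI := (hP.to_quotient σ.ker).center_nontrivial
    obtain ⟨⟨zb, hzb⟩, hzne⟩ := exists_ne (1 : Subgroup.center (P ⧸ σ.ker))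
    obtain ⟨z, rfl⟩ := QuotientGroup.mk'_surjective σ.ker zb
    have hz : z ∉ σ.ker := fun h => hzne (Subtype.ext ((QuotientGroup.eq_one_iff z).2 h))
    have hcom : ∀ a, σ z * σ a = σ a * σ z := fun a => by
      have h := mem_center_iff.1 hzb (QuotientGroup.mk' σ.ker a)
      rw [← map_mul, ← map_mul] at h
      obtain ⟨t, ht, ht'⟩ := (QuotientGroup.mk'_eq_mk' σ.ker).1 h
      have h3 := congrArg σ ht'
      rw [map_mul σ (a * z), MonoidHom.mem_ker.1 ht, mul_one, map_mul, map_mul] at h3
      exact h3.symm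
    haveI : Nontrivial U := by
      by_contra h
      rw [not_nontrivial_iff_subsingleton] at h
      exact hz (MonoidHom.mem_ker.2 (LinearMap.ext fun y => Subsingleton.elim _ _))
    obtain ⟨c, hc⟩ := Module.End.exists_eigenvalue (σ z)
    have hscal : ∀ y : U, σ z y = c • y := by
      intro y
      set E := (σ z).eigenspace c
      have hE : E.map U.subtype = U := by
        refine le_antisymm (Submodule.map_subtype_le U E) ?_
        by_contra hlt
        refine hred (E.map U.subtype) ?_ ?_ (lt_of_le_not_ge (Submodule.map_subtype_le U E) hlt)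
        · rintro a _ ⟨y', hy', rfl⟩
          refine ⟨σ a y', ?_, rfl⟩
          show σ a y' ∈ E
          rw [Module.End.mem_eigenspace_iff]
          rw [← Module.End.mul_apply, hcom, Module.End.mul_apply, Module.End.mem_eigenspace_iff.1 hy', map_smul]
        · intro h
          exact hc (Submodule.map_injective_of_injective U.injective_subtype (h.trans (Submodule.map_bot _).symm))
      have hy : (y : Fin n → K) ∈ E.map U.subtype := hE.symm ▸ y.2
      obtain ⟨y', hy', hyy⟩ := hy
      obtain rfl : y' = y := Subtype.ext hyy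
      exact Module.End.mem_eigenspace_iff.1 hy'
    have hc1 : c ≠ 1 := by
      rintro rfl
      exact hz (MonoidHom.mem_ker.2 (LinearMap.ext fun y => by rw [hscal, one_smul, Module.End.one_apply]))
    obtain ⟨a, hca⟩ : ∃ a, c ^ p ^ a = 1 := by
      obtain ⟨a, ha⟩ := hP z
      obtain ⟨y, hy⟩ := exists_ne (0 : U)
      refine ⟨a, smul_left_injective K hy ?_⟩
      show c ^ p ^ a • y = (1 : K) • y
      have hpow : ∀ m : ℕ, σ (z ^ m) y = c ^ m • y := by
        intro m
        induction m with
        | zero => simp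
        | succ m ihm => rw [pow_succ, map_mul, Module.End.mul_apply, hscal, map_smul, ihm, smul_smul, pow_succ']
      rw [← hpow, ha, map_one, Module.End.one_apply, one_smul]
    have hle := dim_bound φ z c hc1 hca U (fun y hy => congrArg Subtype.val (hscal ⟨y, hy⟩))
    have hle' : Module.finrank K U ≤ n / orderOf (Fintype.card F : ZMod p) := by
      rw [Nat.le_div_iff_mul_le hd, mul_comm]; exact hle
    have h1 := semisimple_bound_prime hpK (Module.finrank K U) hP σ rfl g
      (derivedSeries_antitone P (Nat.add_le_add_right (Nat.log_mono_right hle') 1) hg)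
    exact congrArg Subtype.val (LinearMap.congr_fun h1 ⟨x, hx⟩)
  have h1 : ρ g = 1 := LinearMap.ext fun x => key _ ⊤ (fun _ _ _ => Submodule.mem_top) rfl x Submodule.mem_top
  refine Units.ext ?_
  refine Matrix.map_injective (algebraMap F K).injective ?_
  show RingHom.mapMatrix (algebraMap F K) (φ g : Matrix (Fin n) (Fin n) F) = RingHom.mapMatrix (algebraMap F K) 1
  rw [map_one]
  refine (Matrix.toLinAlgEquiv' (R := K)).injective ?_
  rw [map_one]
  exact h1

end Upper

section Lower

variable {w : ℕ}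

/-- The permutations of `Fin w × ZMod p` commuting with the shift. -/
def wreath (p w : ℕ) : Subgroup (Equiv.Perm (Fin w × ZMod p)) :=
  Subgroup.centralizer {(Equiv.refl (Fin w)).prodCongr (Equiv.addRight (1 : ZMod p))}

theorem wreath_shift {h : Equiv.Perm (Fin w × ZMod p)} (hh : h ∈ wreath p w) (i : Fin w) (a : ZMod p) :
    h (i, a) = ((h (i, 0)).1, (h (i, 0)).2 + a) := by
  have h1 : ∀ x : Fin w × ZMod p, h (x.1, x.2 + 1) = ((h x).1, (h x).2 + 1) := fun x => by
    have := Equiv.congr_fun (Subgroup.mem_centralizer_singleton_iff.1 hh) x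
    simpa [Prod.map] using this
  suffices ∀ m : ℕ, h (i, (m : ZMod p)) = ((h (i, 0)).1, (h (i, 0)).2 + m) by
    simpa using this a.val
  intro m
  induction m with
  | zero => simp
  | succ m ih =>
    have h2 := h1 (i, (m : ZMod p))
    simp only [ih] at h2
    push_cast
    rw [h2, add_assoc]

/-- The element of the wreath product with given translation part and permutation. -/
def wperm (c : Fin w → ZMod p) (π : Equiv.Perm (Fin w)) : Equiv.Perm (Fin w × ZMod p) where
  toFun x := (π x.1, c x.1 + x.2)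
  invFun x := (π.symm x.1, x.2 - c (π.symm x.1))
  left_inv x := by simp
  right_inv x := by simp

theorem wperm_mem (c : Fin w → ZMod p) (π : Equiv.Perm (Fin w)) : wperm c π ∈ wreath p w := by
  rw [wreath, Subgroup.mem_centralizer_singleton_iff]
  refine Equiv.ext fun x => ?_
  simp [wperm, Prod.map, add_assoc]

theorem card_wreath : Nat.card (wreath p w) = p ^ w * w.factorial := by
  have hb : Function.Bijective fun x : (Fin w → ZMod p) × Equiv.Perm (Fin w) =>
      (⟨wperm x.1 x.2, wperm_mem _ _⟩ : wreath p w) := by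
    refine ⟨fun x y e => ?_, fun h => ?_⟩
    · have e' : ∀ i, (x.2 i, x.1 i) = (y.2 i, y.1 i) := fun i => by
        simpa [wperm] using Equiv.congr_fun (congrArg Subtype.val e) (i, 0)
      exact Prod.ext (funext fun i => (Prod.ext_iff.1 (e' i)).2) (Equiv.ext fun i => (Prod.ext_iff.1 (e' i)).1)
    · have hinj : Function.Injective fun i : Fin w => (h.1 (i, 0)).1 := fun i j e => by
        have h1 : h.1 (i, 0) = h.1 (j, (h.1 (i, 0)).2 - (h.1 (j, 0)).2) := by
          rw [wreath_shift h.2 j]
          exact Prod.ext e (by simp)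
        exact congrArg Prod.fst (h.1.injective h1)
      refine ⟨(fun i => (h.1 (i, 0)).2, Equiv.ofBijective _ (Finite.injective_iff_bijective.1 hinj)),
        Subtype.ext (Equiv.ext fun x => ?_)⟩
      rw [wreath_shift h.2 x.1 x.2]
      rfl
  rw [← Nat.card_eq_of_bijective _ hb, Nat.card_prod, Nat.card_fun, Nat.card_perm, Nat.card_fin, Nat.card_zmod]

theorem factorization_wreath :
    (Nat.card (wreath p w)).factorization p = (Nat.card (Equiv.Perm (Fin (p * w)))).factorization p := by
  have hp0 : p ^ w ≠ 0 := pow_ne_zero _ hp.out.ne_zero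
  rw [card_wreath, Nat.card_perm, Nat.card_fin, Nat.factorization_def _ hp.out, Nat.factorization_def _ hp.out,
    padicValNat_factorial_mul, padicValNat.mul hp0 w.factorial_ne_zero, padicValNat.prime_pow, add_comm]

theorem exists_order_p_matrix (hpq : ¬ p ∣ Fintype.card F) :
    ∃ M : Matrix.GeneralLinearGroup (Fin (orderOf (Fintype.card F : ZMod p))) F, orderOf M = p := by
  classical
  haveI : Finite (Matrix.GeneralLinearGroup (Fin (orderOf (Fintype.card F : ZMod p))) F) :=
    Finite.of_injective _ Units.val_injective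
  refine exists_prime_orderOf_dvd_card' p ?_
  rw [Matrix.card_GL_field]
  set d := orderOf (Fintype.card F : ZMod p) with hd
  refine Dvd.dvd.trans ?_ (Finset.dvd_prod_of_mem _ (Finset.mem_univ (⟨0, order_pos hpq⟩ : Fin d)))
  rw [pow_zero, ← Nat.modEq_iff_dvd' (Nat.one_le_pow _ _ Fintype.card_pos), ← ZMod.natCast_eq_natCast_iff]
  push_cast
  exact (pow_orderOf_eq_one _).symm

theorem exists_embedding (hpq : ¬ p ∣ Fintype.card F) {n : ℕ}
    (hwn : w * orderOf (Fintype.card F : ZMod p) ≤ n) :
    ∃ φ : wreath p w →* Matrix.GeneralLinearGroup (Fin n) F, Function.Injective φ := by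
  classical
  obtain ⟨M, hM⟩ := exists_order_p_matrix (F := F) hpq
  haveI : Nonempty (Fin (orderOf (Fintype.card F : ZMod p))) := ⟨⟨0, order_pos hpq⟩⟩
  revert M
  generalize orderOf (Fintype.card F : ZMod p) = d at *
  intro M hM
  let T : ZMod p → Module.End F (Fin d → F) := fun a =>
    Matrix.toLinAlgEquiv' ((M ^ a.val : Matrix.GeneralLinearGroup (Fin d) F) : Matrix (Fin d) (Fin d) F)
  have hTadd : ∀ a b, T (a + b) = T a * T b := fun a b => by
    show Matrix.toLinAlgEquiv' _ = Matrix.toLinAlgEquiv' _ * Matrix.toLinAlgEquiv' _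
    rw [← map_mul, ← Units.val_mul, ← pow_add, ZMod.val_add]
    conv_lhs => rw [show (a.val + b.val) % p = (a.val + b.val) % orderOf M by rw [hM], pow_mod_orderOf]
  have hT0 : T 0 = 1 := by simp [T]
  let A : wreath p w → Module.End F (Fin w → Fin d → F) := fun h =>
    LinearMap.pi fun j => (T (-(h.1⁻¹ (j, 0)).2)).comp (LinearMap.proj (h.1⁻¹ (j, 0)).1)
  have hA : ∀ h v j, A h v j = T (-(h.1⁻¹ (j, 0)).2) (v (h.1⁻¹ (j, 0)).1) := fun h v j => rfl
  have hAone : A 1 = 1 := LinearMap.ext fun v => funext fun j => by simp [hA, hT0]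
  have hAmul : ∀ g h, A (g * h) = A g * A h := fun g h => LinearMap.ext fun v => funext fun j => by
    have e : (g * h).1⁻¹ (j, 0) = h.1⁻¹ ((g.1⁻¹ (j, 0)).1, (g.1⁻¹ (j, 0)).2) := by
      simp [mul_inv_rev]
    rw [Module.End.mul_apply, hA, hA, hA, e, wreath_shift (inv_mem h.2), neg_add, add_comm, hTadd]
    rfl
  let B : wreath p w →* Module.End F ((Fin w → Fin d → F) × (Fin (n - w * d) → F)) :=
    { toFun := fun h => (A h).prodMap LinearMap.id
      map_one' := by rw [hAone]; rfl
      map_mul' := fun g h => by rw [hAmul]; rfl }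
  let e : ((Fin w → Fin d → F) × (Fin (n - w * d) → F)) ≃ₗ[F] (Fin n → F) := LinearEquiv.ofFinrankEq _ _ (by
    simp only [Module.finrank_prod, Module.finrank_pi_fintype, Module.finrank_self, mul_one, Fintype.card_fin,
      Finset.sum_const, Finset.card_univ, smul_eq_mul]
    omega)
  let C : wreath p w →* Matrix (Fin n) (Fin n) F :=
    { toFun := fun h => Matrix.toLinAlgEquiv'.symm (e.conj (B h))
      map_one' := by rw [map_one B, Module.End.one_eq_id, LinearEquiv.conj_id, ← Module.End.one_eq_id, map_one]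
      map_mul' := fun g h => by rw [map_mul B, Module.End.mul_eq_comp, LinearEquiv.conj_comp, ← Module.End.mul_eq_comp, map_mul] }
  refine ⟨C.toHomUnits, (injective_iff_map_eq_one _).2 fun h hh => ?_⟩
  have h1 : C h = 1 := congrArg Units.val hh
  have h2 : B h = 1 := e.conj.injective (Matrix.toLinAlgEquiv'.symm.injective (h1.trans (map_one C).symm |>.trans
    (by show Matrix.toLinAlgEquiv'.symm (e.conj (B 1)) = _; rw [map_one B])))
  have h3 : ∀ v, A h v = v := fun v => congrArg Prod.fst (LinearMap.congr_fun h2 (v, 0))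
  have hfix : ∀ j, h.1⁻¹ (j, 0) = (j, 0) := by
    intro j
    generalize hx : h.1⁻¹ (j, 0) = x
    obtain ⟨i, a⟩ := x
    have key : ∀ u : Fin d → F, T (-a) u = (Pi.single i u : Fin w → Fin d → F) j := fun u => by
      have := congrFun (h3 (Pi.single i u)) j
      rwa [hA, hx, Pi.single_eq_same] at this
    have hij : i = j := by
      by_contra hij
      have h4 := key 1
      rw [Pi.single_eq_of_ne' hij] at h4
      have h5 := congrArg (T a) h4
      rw [← Module.End.mul_apply, ← hTadd, add_neg_cancel, hT0, Module.End.one_apply, map_zero] at h5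
      exact one_ne_zero h5
    subst hij
    have h4 : T (-a) = 1 := LinearMap.ext fun u => by rw [key, Pi.single_eq_same]; rfl
    have h5 : M ^ (-a).val = 1 := Units.ext (Matrix.toLinAlgEquiv'.injective (h4.trans (map_one _).symm))
    have h6 : (-a).val = 0 := Nat.eq_zero_of_dvd_of_lt ((dvd_of_eq hM.symm).trans (orderOf_dvd_of_pow_eq_one h5)) (ZMod.val_lt _)
    rw [ZMod.val_eq_zero, neg_eq_zero] at h6
    rw [h6]
  have : h⁻¹ = 1 := Subtype.ext (Equiv.ext fun x => by
    show h.1⁻¹ x = x
    rw [wreath_shift (inv_mem h.2) x.1 x.2, hfix, zero_add])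
  exact inv_eq_one.1 this

theorem lower (hpq : ¬ p ∣ Fintype.card F) {n : ℕ} (hn : orderOf (Fintype.card F : ZMod p) ≤ n)
    (P : Sylow p (Matrix.GeneralLinearGroup (Fin n) F)) :
    derivedSeries ↥(P : Subgroup (Matrix.GeneralLinearGroup (Fin n) F))
      (Nat.log p (n / orderOf (Fintype.card F : ZMod p))) ≠ ⊥ := by
  classical
  haveI : Finite (Matrix.GeneralLinearGroup (Fin n) F) := Finite.of_injective _ Units.val_injective
  set d := orderOf (Fintype.card F : ZMod p)
  have hd : 0 < d := order_pos hpq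
  have hw : 1 ≤ n / d := (Nat.one_le_div_iff hd).2 hn
  obtain ⟨φ, hφ⟩ := exists_embedding (F := F) (p := p) (w := n / d) (n := n) hpq (Nat.div_mul_le_self n d)
  revert φ
  generalize n / d = w at *
  intro φ hφ
  let e : Fin w × ZMod p ≃ Fin (p * w) :=
    Fintype.equivFinOfCardEq (by rw [Fintype.card_prod, Fintype.card_fin, ZMod.card, mul_comm])
  let E : Equiv.Perm (Fin w × ZMod p) ≃* Equiv.Perm (Fin (p * w)) := e.permCongrHom
  let Q₀ : Sylow p (wreath p w) := default
  let j : wreath p w →* Equiv.Perm (Fin (p * w)) := E.toMonoidHom.comp (wreath p w).subtype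
  have hj : Function.Injective j := E.injective.comp Subtype.val_injective
  let Q : Sylow p (Equiv.Perm (Fin (p * w))) := Sylow.ofCard ((Q₀ : Subgroup (wreath p w)).map j) (by
    rw [Subgroup.card_map_of_injective hj, Q₀.card_eq_multiplicity, factorization_wreath])
  let φQ : ↥(Q₀ : Subgroup (wreath p w)) →* Matrix.GeneralLinearGroup (Fin n) F :=
    φ.comp (Q₀ : Subgroup (wreath p w)).subtype
  obtain ⟨R, hR⟩ := (Q₀.isPGroup'.of_surjective φQ.rangeRestrict φQ.rangeRestrict_surjective).exists_le_sylow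
  let i : ↥(Q : Subgroup (Equiv.Perm (Fin (p * w)))) →* ↥(P : Subgroup (Matrix.GeneralLinearGroup (Fin n) F)) :=
    (R.equiv P).toMonoidHom.comp ((Subgroup.inclusion hR).comp (φQ.rangeRestrict.comp
      ((Q₀ : Subgroup (wreath p w)).equivMapOfInjective j hj).symm.toMonoidHom))
  have hi : Function.Injective i := by
    refine (R.equiv P).injective.comp ((Subgroup.inclusion_injective hR).comp ?_)
    exact fun x y e => ((Q₀ : Subgroup (wreath p w)).equivMapOfInjective j hj).symm.injective
      (Subtype.ext (hφ (congrArg Subtype.val e)))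
  intro hbot
  have h1 := (CfsgLib.SylowPermDerived.main p (p * w) (Nat.one_le_iff_ne_zero.2
    (Nat.mul_ne_zero hp.out.ne_zero (by omega))) Q).2
  have hlog : Nat.log p (p * w) = Nat.log p w + 1 := by
    rw [mul_comm, Nat.log_mul_base hp.out.one_lt (by omega)]
  rw [hlog] at h1
  refine h1 (by omega) ?_
  rw [Nat.add_sub_cancel]
  have h2 := map_derivedSeries_le_derivedSeries i (Nat.log p w)
  rw [hbot, le_bot_iff] at h2
  exact (Subgroup.map_eq_bot_iff_of_injective _ hi).1 h2

end Lower

theorem main (hpq : ¬ p ∣ Fintype.card F) {n : ℕ} (hn : orderOf (Fintype.card F : ZMod p) ≤ n)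
    (P : Sylow p (Matrix.GeneralLinearGroup (Fin n) F)) :
    derivedSeries ↥(P : Subgroup (Matrix.GeneralLinearGroup (Fin n) F))
      (Nat.log p (n / orderOf (Fintype.card F : ZMod p)) + 1) = ⊥ ∧
    derivedSeries ↥(P : Subgroup (Matrix.GeneralLinearGroup (Fin n) F))
      (Nat.log p (n / orderOf (Fintype.card F : ZMod p))) ≠ ⊥ := by
  haveI : Finite (Matrix.GeneralLinearGroup (Fin n) F) := Finite.of_injective _ Units.val_injective
  refine ⟨(Subgroup.eq_bot_iff_forall _).2 fun g hg => Subtype.ext ?_, lower hpq hn P⟩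
  exact upper hpq P.isPGroup' (P : Subgroup (Matrix.GeneralLinearGroup (Fin n) F)).subtype hg

end CfsgLib.LinearDerivedLength.CrossChar
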