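import Cfsg.Agent.FGSB.LinearDerivedLength
import Mathlib.LinearAlgebra.Eigenspace.Basic

/-!
# The derived length of a linear `p`-group, bound in terms of `log p`
-/

set_option autoImplicit false
set_option linter.unusedSectionVars false
set_option linter.style.haveILetI false

namespace CfsgLib.LinearDerivedLength

open Subgroup
open scoped commutatorElement

universe u v w

variable {K : Type v} [Field K] {p : ℕ} [hp : Fact p.Prime]

/-- The dimensions of independent subspaces add up to at most the whole. -/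
theorem sum_finrank_le {V : Type w} [AddCommGroup V] [Module K V] [FiniteDimensional K V]
    {ι : Type*} [Fintype ι] (W : ι → Submodule K V) (h : iSupIndep W) :
    ∑ i, Module.finrank K (W i) ≤ Module.finrank K V := by
  classical
  suffices hs : ∀ s : Finset ι, ∑ i ∈ s, Module.finrank K (W i) ≤ Module.finrank K ↥(s.sup W) from
    (hs Finset.univ).trans (Submodule.finrank_le _)
  intro s
  induction s using Finset.induction_on with
  | empty => simp
  | @insert a s ha ih =>
    rw [Finset.sum_insert ha, Finset.sup_insert]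
    have hd : W a ⊓ s.sup W = ⊥ := by
      refine ((h a).mono_right ?_).eq_bot
      exact Finset.sup_le fun b hb => le_iSup₂_of_le b (fun e => ha (by rw [← e]; exact hb)) le_rfl
    have h1 := Submodule.finrank_sup_add_finrank_inf_eq (W a) (s.sup W)
    rw [hd, finrank_bot, add_zero] at h1
    omega

variable {P : Type u} [Group P]

theorem semisimple_bound_prime [IsAlgClosed K] (hpK : (p : K) ≠ 0) : ∀ (d : ℕ) {P : Type u} [Group P] [Finite P],
    IsPGroup p P → ∀ {V : Type w} [AddCommGroup V] [Module K V] [FiniteDimensional K V]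
    (ρ : P →* Module.End K V), Module.finrank K V = d → ∀ g ∈ derivedSeries P (Nat.log p d + 1), ρ g = 1 := by
  intro d
  induction d using Nat.strong_induction_on with
  | _ d ih =>
  intro P _ _ hP V _ _ _ ρ hd g hg
  classical
  have hc : (Nat.card P : K) ≠ 0 := by
    obtain ⟨k, hk⟩ := IsPGroup.iff_card.1 hP
    rw [hk, Nat.cast_pow]; exact pow_ne_zero _ hpK
  by_cases hred : ∃ U : Submodule K V, (∀ g, ∀ x ∈ U, ρ g x ∈ U) ∧ U ≠ ⊥ ∧ U ≠ ⊤
  · obtain ⟨U, hU, hU1, hU2⟩ := hred
    obtain ⟨U', hU', hcompl⟩ := exists_complement hc ρ U hU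
    have hsum : Module.finrank K U + Module.finrank K U' = d := hd ▸ Submodule.finrank_add_eq_of_isCompl hcompl
    have h0 : 0 < Module.finrank K U := Nat.pos_of_ne_zero fun e => hU1 (Submodule.finrank_eq_zero.1 e)
    have h0' : 0 < Module.finrank K U' := Nat.pos_of_ne_zero fun e => hU2 (by
      have : U' = ⊥ := Submodule.finrank_eq_zero.1 e
      have h := hcompl.sup_eq_top
      rwa [this, sup_bot_eq] at h)
    have hmono : ∀ e, e ≤ d → g ∈ derivedSeries P (Nat.log p e + 1) := fun e he =>
      derivedSeries_antitone P (Nat.add_le_add_right (Nat.log_mono_right he) 1) hg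
    have e1 := ih _ (by omega) hP (sub ρ U hU) rfl g (hmono _ (by omega))
    have e2 := ih _ (by omega) hP (sub ρ U' hU') rfl g (hmono _ (by omega))
    refine LinearMap.ext fun x => ?_
    obtain ⟨a, ha, b, hb, rfl⟩ := Submodule.mem_sup.1 (hcompl.sup_eq_top ▸ Submodule.mem_top : x ∈ U ⊔ U')
    rw [map_add, show ρ g a = a from congrArg Subtype.val (LinearMap.congr_fun e1 ⟨a, ha⟩),
      show ρ g b = b from congrArg Subtype.val (LinearMap.congr_fun e2 ⟨b, hb⟩), Module.End.one_apply]
  push Not at hred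
  rcases subsingleton_or_nontrivial V with hs | hn
  · exact LinearMap.ext fun x => Subsingleton.elim _ _
  by_cases hab : ∀ a b : P, ρ a * ρ b = ρ b * ρ a
  · exact derivedSeries_succ_triv ρ 0 (fun a _ b _ => hab a b) g
      (derivedSeries_antitone P (show 0 + 1 ≤ Nat.log p d + 1 by omega) hg)
  -- an element central modulo the scalars
  let Z : Subgroup P :=
    { carrier := {x | ∀ g, ρ x * ρ g = ρ g * ρ x}
      one_mem' := fun g => by rw [map_one, one_mul, mul_one]
      mul_mem' := fun {x y} hx hy g => by rw [map_mul, mul_assoc, hy g, ← mul_assoc, hx g, mul_assoc]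
      inv_mem' := fun {x} hx g => by
        have h1 := congrArg (fun t => ρ x⁻¹ * t * ρ x⁻¹) (hx g).symm
        simpa [← map_mul, mul_assoc] using h1 }
  haveI : Z.Normal := ⟨fun x hx y g => by
    have h1 := congrArg (fun t => ρ y * t * ρ y⁻¹) (hx (y⁻¹ * g * y))
    simpa [← map_mul, mul_assoc] using h1⟩
  haveI : Nontrivial (P ⧸ Z) := by
    refine QuotientGroup.nontrivial_iff.2 fun e => hab fun a b => ?_
    have ha : a ∈ Z := e ▸ mem_top a
    exact ha b
  haveI := (hP.to_quotient Z).center_nontrivial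
  obtain ⟨⟨zb, hzb⟩, hzne⟩ := exists_ne (1 : Subgroup.center (P ⧸ Z))
  obtain ⟨z, rfl⟩ := QuotientGroup.mk'_surjective Z zb
  have hzZ : z ∉ Z := fun h => hzne (Subtype.ext ((QuotientGroup.eq_one_iff z).2 h))
  have hcomm : ∀ g : P, ⁅g, z⁆ ∈ Z := fun g => (QuotientGroup.eq_one_iff _).1 (by
    show QuotientGroup.mk' Z ⁅g, z⁆ = 1
    rw [map_commutatorElement, commutatorElement_eq_one_iff_mul_comm]
    exact mem_center_iff.1 hzb _)
  have hscalar : ∀ x ∈ Z, ∃ c : K, ∀ v, ρ x v = c • v := by
    intro x hx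
    obtain ⟨c, hc'⟩ := Module.End.exists_eigenvalue (ρ x)
    refine ⟨c, fun v => Module.End.mem_eigenspace_iff.1 ?_⟩
    have htop : (ρ x).eigenspace c = ⊤ := hred _ (fun g y hy => by
      rw [Module.End.mem_eigenspace_iff] at hy ⊢
      rw [← Module.End.mul_apply, hx g, Module.End.mul_apply, hy, map_smul]) hc'
    exact htop ▸ Submodule.mem_top
  choose χ hχ using fun g : P => hscalar _ (hcomm g)
  have hrel : ∀ g v, ρ g (ρ z v) = χ g • ρ z (ρ g v) := by
    intro g v
    rw [← hχ g, ← Module.End.mul_apply, ← Module.End.mul_apply, ← Module.End.mul_apply, ← map_mul, ← map_mul, ← map_mul]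
    congr 2
    rw [commutatorElement_def]; group
  have hne : ∀ (x : P) (v : V), v ≠ 0 → ρ x v ≠ 0 := fun x v hv e => hv (by
    have := congrArg (ρ x⁻¹) e
    rwa [← Module.End.mul_apply, ← map_mul, inv_mul_cancel, map_one, map_zero] at this)
  obtain ⟨v₀, hv₀⟩ := exists_ne (0 : V)
  have hχmul : ∀ a b, χ (a * b) = χ a * χ b := by
    intro a b
    refine smul_left_injective K (hne z _ (hne (a * b) _ hv₀)) ?_
    show χ (a * b) • ρ z (ρ (a * b) v₀) = (χ a * χ b) • ρ z (ρ (a * b) v₀)
    rw [← hrel, map_mul, Module.End.mul_apply, Module.End.mul_apply, hrel b, map_smul, hrel a, smul_smul, mul_comm]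
  have hχone : χ 1 = 1 := by
    refine smul_left_injective K (hne z _ hv₀) ?_
    show χ 1 • ρ z v₀ = (1 : K) • ρ z v₀
    have := hrel 1 v₀
    simp only [map_one, Module.End.one_apply] at this
    rw [← this, one_smul]
  let χh : P →* K := { toFun := χ, map_one' := hχone, map_mul' := hχmul }
  -- reduce the image to order `p`
  have hex : ∃ j, ∀ a, χh a ^ p ^ j = 1 := by
    obtain ⟨k, hk⟩ := IsPGroup.iff_card.1 hP
    exact ⟨k, fun a => by rw [← map_pow, ← hk, pow_card_eq_one', map_one]⟩
  have hj0 : Nat.find hex ≠ 0 := by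
    intro e
    refine hzZ fun g => ?_
    have h1 : χ g = 1 := by
      have := Nat.find_spec hex g
      rwa [e, pow_zero, pow_one] at this
    refine LinearMap.ext fun v => ?_
    show ρ z (ρ g v) = ρ g (ρ z v)
    rw [hrel, h1, one_smul]
  obtain ⟨j, hj⟩ : ∃ j, Nat.find hex = j + 1 := ⟨Nat.find hex - 1, by omega⟩
  obtain ⟨g₁, hg₁⟩ : ∃ g₁, χ g₁ ^ p ^ j ≠ 1 := by
    by_contra hcon
    push Not at hcon
    exact Nat.find_min hex (show j < Nat.find hex by omega) hcon
  set m := p ^ j
  let ψ : P →* K := (powMonoidHom m).comp χh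
  have hψ : ∀ a, ψ a = χ a ^ m := fun a => rfl
  have hrelw' : ∀ (k : ℕ) g v, ρ g (ρ (z ^ k) v) = χ g ^ k • ρ (z ^ k) (ρ g v) := by
    intro k
    induction k with
    | zero => simp
    | succ k ihk =>
      intro g v
      rw [pow_succ z k, map_mul, Module.End.mul_apply, Module.End.mul_apply, ihk, hrel, map_smul, smul_smul, pow_succ]
  have hrelw : ∀ g v, ρ g (ρ (z ^ m) v) = ψ g • ρ (z ^ m) (ρ g v) := fun g v => by
    rw [hψ]; exact hrelw' m g v
  obtain ⟨μ, hμ⟩ := Module.End.exists_eigenvalue (ρ (z ^ m))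
  set W := (ρ (z ^ m)).eigenspace μ
  have hW0 : W ≠ ⊥ := hμ
  have hψ0 : ∀ a, ψ a ≠ 0 := fun a e => by
    have := map_mul ψ a a⁻¹
    rw [mul_inv_cancel, map_one, e, zero_mul] at this
    exact one_ne_zero this
  have himg : ∀ a, ∀ x ∈ W, ψ a • ρ (z ^ m) (ρ a x) = μ • ρ a x := by
    intro a x hx
    rw [← hrelw, Module.End.mem_eigenspace_iff.1 hx, map_smul]
  have hμ0 : μ ≠ 0 := by
    intro e
    obtain ⟨x, hx, hx0⟩ := Submodule.exists_mem_ne_zero_of_ne_bot hW0
    refine hne (z ^ m) x hx0 ?_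
    rw [Module.End.mem_eigenspace_iff.1 hx, e, zero_smul]
  let M : Subgroup P := ψ.ker
  have hMW : ∀ a ∈ M, ∀ x ∈ W, ρ a x ∈ W := by
    intro a ha x hx
    have := himg a x hx
    rw [MonoidHom.mem_ker.1 ha, one_smul] at this
    exact Module.End.mem_eigenspace_iff.2 this
  have hinj : ∀ a, Function.Injective (ρ a) := fun a x y e => by
    have := congrArg (ρ a⁻¹) e
    simpa [← Module.End.mul_apply, ← map_mul] using this
  have hdimW : ∀ a, Module.finrank K (W.map (ρ a)) = Module.finrank K W := fun a =>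
    (Submodule.equivMapOfInjective (ρ a) (hinj a) W).finrank_eq.symm
  have hψp : ψ g₁ ^ p = 1 := by
    rw [hψ, ← pow_mul, ← pow_succ, ← hj]
    exact Nat.find_spec hex g₁
  have hhalf : p * Module.finrank K W ≤ d := by
    have hord : orderOf (ψ g₁) = p := orderOf_eq_prime hψp (by rw [hψ]; exact hg₁)
    have hinj' : Function.Injective fun i : Fin p => μ * ((ψ g₁) ^ (i : ℕ))⁻¹ := fun a b e =>
      Fin.ext (pow_injOn_Iio_orderOf (by rw [Set.mem_Iio, hord]; exact a.2) (by rw [Set.mem_Iio, hord]; exact b.2)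
        (inv_injective (mul_left_cancel₀ hμ0 e)))
    have hle : ∀ i : Fin p, W.map (ρ (g₁ ^ (i : ℕ))) ≤
        (ρ (z ^ m)).eigenspace (μ * ((ψ g₁) ^ (i : ℕ))⁻¹) := by
      rintro i _ ⟨x, hx, rfl⟩
      rw [Module.End.mem_eigenspace_iff]
      have h1 := congrArg (fun y => ((ψ g₁) ^ (i : ℕ))⁻¹ • y) (himg (g₁ ^ (i : ℕ)) x hx)
      simp only [map_pow, smul_smul, inv_mul_cancel₀ (pow_ne_zero _ (hψ0 g₁)), one_smul] at h1
      simp only [map_pow]
      rw [h1, mul_comm]
    have h1 := sum_finrank_le (fun i : Fin p => W.map (ρ (g₁ ^ (i : ℕ))))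
      (((Module.End.eigenspaces_iSupIndep (ρ (z ^ m))).comp hinj').mono hle)
    simp only [hdimW, Finset.sum_const, Finset.card_univ, Fintype.card_fin, smul_eq_mul] at h1
    exact h1.trans_eq hd
  have hWpos : 0 < Module.finrank K W := Nat.pos_of_ne_zero fun e => hW0 (Submodule.finrank_eq_zero.1 e)
  have hspan : ⨆ a, W.map (ρ a) = ⊤ := by
    refine hred _ (fun g x hx => ?_) ?_
    · induction hx using Submodule.iSup_induction' with
      | mem a y hy =>
        obtain ⟨y', hy', rfl⟩ := Submodule.mem_map.1 hy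
        rw [← Module.End.mul_apply, ← map_mul]
        exact Submodule.mem_iSup_of_mem (g * a) (Submodule.mem_map_of_mem hy')
      | zero => rw [map_zero]; exact zero_mem _
      | add y y' _ _ h h' => rw [map_add]; exact add_mem h h'
    · intro e
      refine hW0 (le_bot_iff.1 (fun x hx => e ▸ ?_))
      exact Submodule.mem_iSup_of_mem 1 ⟨x, hx, by simp⟩
  have hcommM : commutator P ≤ M := by
    rw [_root_.commutator_def, commutator_le]
    exact fun a _ b _ => MonoidHom.mem_ker.2 (comm_of_commute ψ (mul_comm _ _))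
  obtain ⟨g', hg', rfl⟩ := derived_succ_le M hcommM _ hg
  have key : ∀ a, ∀ x ∈ W.map (ρ a), ρ g'.1 x = x := by
    intro a x hx
    have hinvA : ∀ b : M, ∀ y ∈ W.map (ρ a), (ρ.comp M.subtype) b y ∈ W.map (ρ a) := by
      intro b y hy
      obtain ⟨y', hy', rfl⟩ := Submodule.mem_map.1 hy
      refine ⟨ρ (a⁻¹ * b.1 * a) y', hMW _ ?_ y' hy', ?_⟩
      · have := (MonoidHom.normal_ker ψ).conj_mem _ b.2 a⁻¹
        rwa [inv_inv] at this
      · rw [← Module.End.mul_apply, ← map_mul, MonoidHom.comp_apply, ← Module.End.mul_apply, ← map_mul]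
        congr 2
        simp [mul_assoc]
    have hlt : Module.finrank K (W.map (ρ a)) < d := by
      rw [hdimW]
      calc Module.finrank K W = 1 * Module.finrank K W := (one_mul _).symm
        _ < p * Module.finrank K W := Nat.mul_lt_mul_of_pos_right hp.out.one_lt hWpos
        _ ≤ d := hhalf
    have hlog : Nat.log p (Module.finrank K (W.map (ρ a))) + 1 ≤ Nat.log p d := by
      rw [hdimW, ← Nat.log_mul_base hp.out.one_lt hWpos.ne', mul_comm]
      exact Nat.log_mono_right hhalf
    have h1 := ih _ hlt (hP.to_subgroup M) (sub (ρ.comp M.subtype) (W.map (ρ a)) hinvA) rfl g'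
      (derivedSeries_antitone M hlog hg')
    exact congrArg Subtype.val (LinearMap.congr_fun h1 ⟨x, hx⟩)
  refine LinearMap.ext fun x => ?_
  have hx : x ∈ ⨆ a, W.map (ρ a) := hspan ▸ Submodule.mem_top
  induction hx using Submodule.iSup_induction' with
  | mem a y hy => exact key a y hy
  | zero => simp
  | add y y' _ _ h h' => rw [map_add, h, h', map_add]

end CfsgLib.LinearDerivedLength
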