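import Cfsg.Agent.FGSA.Metacyclic
import Cfsg.Agent.FGSA.Blackburn
import Mathlib.GroupTheory.SemidirectProduct

/-!
# Automorphisms of order `p` of metacyclic `p`-groups and maximal class
-/

set_option autoImplicit false
set_option linter.unusedSectionVars false
set_option linter.style.haveILetI false

namespace CfsgLib.MetacyclicMaximal

open Subgroup CfsgLib.FGSA CfsgLib.FGSA.Huppert
open scoped commutatorElement

universe u

variable {L : Type u} [Group L] [Finite L] {p : ℕ} [hp : Fact p.Prime]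

/-- The facts about the first two layers of a metacyclic `p`-group, `p` odd, without a cyclic
subgroup of index `p`. -/
structure Layers (p : ℕ) (L : Type u) [Group L] : Prop where
  isP : IsPGroup p L
  mul_pow_one : ∀ a b : L, a ^ p = 1 → b ^ p = 1 → (a * b) ^ p = 1
  mul_pow_two : ∀ a b : L, a ^ (p * p) = 1 → b ^ (p * p) = 1 → (a * b) ^ (p * p) = 1
  comm_one : ∀ a b : L, a ^ p = 1 → b ^ p = 1 → Commute a b
  card_one : Nat.card {x : L // x ^ p = 1} = p ^ 2
  root : ∀ u : L, u ^ p = 1 → ∃ y : L, y ^ p = u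
  quo_one : ∀ a b : L, a ^ p = b ^ p ↔ (a * b⁻¹) ^ p = 1
  quo_two : ∀ a b : L, a ^ (p * p) = b ^ (p * p) ↔ (a * b⁻¹) ^ (p * p) = 1
  pow_hom : ∀ a b : L, a ^ (p * p) = 1 → b ^ (p * p) = 1 → (a * b) ^ p = a ^ p * b ^ p
  central : ∀ a b : L, a ^ p = 1 → b ^ (p * p) = 1 → Commute a b

theorem layers (hp2 : p ≠ 2) (hL : IsPGroup p L) (hmc : Cfsg.IsMetacyclic L)
    (hnc : ∀ C : Subgroup L, IsCyclic C → C.index ≠ p) (hnt : Nontrivial L) : Layers p L := by
  classical
  have hG := CfsgLib.FGSA.Metacyclic.good_of_metacyclic hp2 hL hmc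
  have law := hG.law hp2
  have e2 : p ^ 2 = p * p := pow_two p
  have hq1 : ∀ a b : L, a ^ p = b ^ p ↔ (a * b⁻¹) ^ p = 1 := fun a b => by
    have h := Regular.pow_eq_iff hL (law 1) a b
    rwa [pow_one] at h
  have hq2 : ∀ a b : L, a ^ (p * p) = b ^ (p * p) ↔ (a * b⁻¹) ^ (p * p) = 1 := fun a b => by
    have h := Regular.pow_eq_iff hL (law 2) a b
    rwa [e2] at h
  have hm1 : ∀ a b : L, a ^ p = 1 → b ^ p = 1 → (a * b) ^ p = 1 := fun a b ha hb => by
    have h := Regular.torsion_mul hL (law 1) (a := a) (b := b) (by rw [pow_one]; exact ha) (by rw [pow_one]; exact hb)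
    rwa [pow_one] at h
  have hm2 : ∀ a b : L, a ^ (p * p) = 1 → b ^ (p * p) = 1 → (a * b) ^ (p * p) = 1 := fun a b ha hb => by
    have h := Regular.torsion_mul hL (law 2) (a := a) (b := b) (by rw [e2]; exact ha) (by rw [e2]; exact hb)
    rwa [e2] at h
  have hncyc : ¬ IsCyclic L := by
    intro hc
    haveI := hc
    obtain ⟨n, hn⟩ := IsPGroup.iff_card.1 hL
    have hn0 : n ≠ 0 := fun e => absurd (hn.trans (by rw [e, pow_zero])) (Finite.one_lt_card (α := L)).ne'
    obtain ⟨H, hH⟩ := Sylow.exists_subgroup_card_pow_prime p (n := n - 1) (by rw [hn]; exact pow_dvd_pow p (by omega))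
    refine hnc H inferInstance ?_
    have h1 := H.card_mul_index
    rw [hH, hn, show p ^ n = p ^ (n - 1) * p by rw [← pow_succ, Nat.sub_add_cancel (Nat.pos_of_ne_zero hn0)]] at h1
    exact Nat.eq_of_mul_eq_mul_left (Nat.pow_pos hp.out.pos) h1
  obtain ⟨N, hN, hNc, hQ⟩ := hmc
  obtain ⟨A, ⟨hAc, hAe⟩, hA2, hall⟩ := CfsgLib.OddPGroup.omega_metacyclic hp2 hL hncyc N hNc hQ
  have hcomm1 : ∀ a b : L, a ^ p = 1 → b ^ p = 1 → Commute a b := fun a b ha hb =>
    congrArg Subtype.val (hAc.is_comm.comm ⟨a, hall a ha⟩ ⟨b, hall b hb⟩)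
  have hcard1 : Nat.card {x : L // x ^ p = 1} = p ^ 2 := by
    rw [← hA2]
    exact Nat.card_congr ⟨fun x => ⟨x.1, hall _ x.2⟩, fun x => ⟨x.1, hAe _ x.2⟩, fun _ => rfl, fun _ => rfl⟩
  have hmemP : ∀ y, y ∈ Cfsg.powerClosure p 1 (⊤ : Subgroup L) ↔ ∃ x, y = x ^ p := fun y => by
    rw [Regular.mem_powerClosure_iff hL (law 1)]
    simp
  have hroot : ∀ u : L, u ^ p = 1 → ∃ y : L, y ^ p = u := by
    set P := Cfsg.powerClosure p 1 (⊤ : Subgroup L) with hP
    suffices h : A ≤ P from fun u hu => ((hmemP u).1 (h (hall u hu))).imp fun _ e => e.symm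
    by_contra hAP
    obtain ⟨k, hk⟩ := IsPGroup.iff_card.1 (hL.to_subgroup (P ⊓ A))
    have hZ : Nat.card ↥(P ⊓ A) ≤ p := by
      have h1 : Nat.card ↥(P ⊓ A) < Nat.card A :=
        CfsgLib.Solvable.card_lt_of_lt (inf_le_right.lt_of_ne fun e => hAP (inf_eq_right.1 e))
      rw [hk, hA2] at h1
      rw [hk]
      have := (Nat.pow_lt_pow_iff_right hp.out.one_lt).1 h1
      exact (Nat.pow_le_pow_right hp.out.pos (by omega : k ≤ 1)).trans (pow_one p).le
    have hPc : IsCyclic P := by
      by_contra h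
      obtain ⟨B, -, hB, hB2⟩ := CfsgLib.FGSA.RankTwoOdd.exists_data hp2 (hL.to_subgroup P) h
      have hle : B.map P.subtype ≤ P ⊓ A := by
        rintro _ ⟨b, hb, rfl⟩
        exact ⟨b.2, hall _ (by rw [← map_pow, hB.2 b hb, map_one])⟩
      have h2 := (card_le_of_le hle).trans hZ
      rw [card_map_of_injective P.subtype_injective, hB2] at h2
      exact absurd h2 (not_le.2 (lt_self_pow₀ hp.out.one_lt one_lt_two))
    have hcardP : Nat.card L ≤ Nat.card P * p ^ 2 := by
      have h1 := card_le_of_fibre (⊤ : Subgroup L) P A (fun x _ => (hmemP _).2 ⟨x, rfl⟩)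
        fun a _ b _ e => hall _ ((hq1 a b).1 e)
      rwa [card_top, hA2] at h1
    obtain ⟨c, hc⟩ := IsCyclic.exists_ofOrder_eq_natCard (α := P)
    obtain ⟨w, hw⟩ := (hmemP c).1 c.2
    obtain ⟨l, hl⟩ := IsPGroup.iff_card.1 (hL.to_subgroup P)
    -- a root of a generator of the cyclic group of `p`-th powers
    obtain ⟨x, hx⟩ : ∃ x : L, orderOf x = p ^ (l + 1) := by
      rcases Nat.eq_zero_or_pos l with rfl | hl0
      · obtain ⟨x, hx⟩ := exists_ne (1 : L)
        refine ⟨x, ?_⟩
        rw [zero_add, pow_one]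
        refine orderOf_eq_prime ?_ hx
        have h1 : x ^ p ∈ P := (hmemP _).2 ⟨x, rfl⟩
        rw [eq_bot_of_card_eq P (by rw [hl, pow_zero])] at h1
        exact mem_bot.1 h1
      · refine ⟨w, ?_⟩
        have h1 : orderOf (w ^ p) = p ^ l := by rw [← hw, Subgroup.orderOf_coe, hc, hl]
        obtain ⟨j, hj⟩ := IsPGroup.iff_orderOf.1 hL w
        have h2 : 1 < p ^ l := Nat.one_lt_pow hl0.ne' hp.out.one_lt
        rcases Nat.eq_zero_or_pos j with rfl | hj0
        · rw [pow_zero, orderOf_eq_one_iff] at hj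
          rw [hj, one_pow, orderOf_one] at h1
          omega
        rw [orderOf_pow_of_dvd hp.out.ne_zero (hj ▸ dvd_pow_self p hj0.ne'), hj] at h1
        rw [hj, pow_succ, ← h1, Nat.div_mul_cancel (dvd_pow_self p hj0.ne')]
    have h1 := (zpowers x).card_mul_index
    obtain ⟨n, hn⟩ := IsPGroup.iff_card.1 hL
    obtain ⟨i, hi⟩ := hL.index (zpowers x)
    rw [Nat.card_zpowers, hx, hi, hn, ← pow_add] at h1
    rw [hl, hn, ← pow_add] at hcardP
    have h2 := (Nat.pow_le_pow_iff_right hp.out.one_lt).1 hcardP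
    have h3 := Nat.pow_right_injective hp.out.two_le h1
    rcases (show i = 0 ∨ i = 1 by omega) with rfl | rfl
    · rw [pow_zero, index_eq_one] at hi
      exact hncyc ⟨⟨x, fun y => by have h4 : y ∈ zpowers x := hi ▸ mem_top y; exact h4⟩⟩
    · exact hnc (zpowers x) inferInstance (by rw [hi, pow_one])
  have hcen : ∀ a b : L, a ^ (p * p) = 1 → b ^ (p * p) = 1 → ⁅a, b⁆ ^ p = 1 := by
    let U : Subgroup L :=
      { carrier := {x | x ^ p = 1}
        one_mem' := one_pow _
        mul_mem' := fun {x y} hx hy => hm1 x y hx hy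
        inv_mem' := fun {x} hx => show x⁻¹ ^ p = 1 by rw [inv_pow, show x ^ p = 1 from hx, inv_one] }
    let T : Subgroup L :=
      { carrier := {x | x ^ (p * p) = 1}
        one_mem' := one_pow _
        mul_mem' := fun {x y} hx hy => hm2 x y hx hy
        inv_mem' := fun {x} hx => show x⁻¹ ^ (p * p) = 1 by rw [inv_pow, show x ^ (p * p) = 1 from hx, inv_one] }
    haveI : U.Normal := ⟨fun x hx g => show (g * x * g⁻¹) ^ p = 1 by
      rw [conj_pow, show x ^ p = 1 from hx, mul_one, mul_inv_cancel]⟩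
    have hUT : U ≤ T := fun x hx => show x ^ (p * p) = 1 by rw [pow_mul, show x ^ p = 1 from hx, one_pow]
    have hU2 : Nat.card U = p ^ 2 := hcard1
    have hT : Nat.card T ≤ Nat.card U * Nat.card U := card_le_of_fibre T U U
      (fun x hx => show (x ^ p) ^ p = 1 by rw [← pow_mul]; exact hx) fun a _ b _ e => (hq1 a b).1 e
    obtain ⟨k, hk⟩ := IsPGroup.iff_card.1 ((hL.to_subgroup T).to_quotient (U.subgroupOf T))
    have hk2 : k ≤ 2 := by
      have h1 := Subgroup.card_eq_card_quotient_mul_card_subgroup (U.subgroupOf T)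
      rw [Nat.card_congr (Subgroup.subgroupOfEquivOfLe hUT).toEquiv, hk] at h1
      rw [h1, hU2, ← pow_add, ← pow_add] at hT
      have := (Nat.pow_le_pow_iff_right hp.out.one_lt).1 hT
      omega
    intro a b ha hb
    have h := commutative_le_sq hk hk2 (QuotientGroup.mk (⟨a, ha⟩ : T)) (QuotientGroup.mk (⟨b, hb⟩ : T))
    have h' : ⁅(⟨a, ha⟩ : T), ⟨b, hb⟩⁆ ∈ U.subgroupOf T := (QuotientGroup.eq_one_iff _).1 (by
      show QuotientGroup.mk' (U.subgroupOf T) ⁅(⟨a, ha⟩ : T), ⟨b, hb⟩⁆ = 1
      rw [map_commutatorElement, commutatorElement_eq_one_iff_mul_comm]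
      exact h)
    exact h'
  refine ⟨hL, hm1, hm2, hcomm1, hcard1, hroot, hq1, hq2, fun a b ha hb => ?_, fun a b ha hb => ?_⟩
  · have h := Regular.pow_mul_of_commutator hL (law 1) (a := a) (b := b)
      (by rw [pow_one]; exact hcen a b ha hb)
      (Subgroup.subset_closure (Set.mem_insert _ _)) (Subgroup.subset_closure (Set.mem_insert_of_mem _ rfl))
    rwa [pow_one] at h
  · obtain ⟨z, rfl⟩ := hroot a ha
    have hz : z ^ (p * p) = 1 := by rw [pow_mul]; exact ha
    have h := (hG.commutator_pow_eq_one_iff hp2 1 z b).1 (by rw [pow_one]; exact hcen z b hz hb)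
    rwa [pow_one] at h

variable (a : MulAut L)

/-- The semidirect product by the cyclic group generated by `a`. -/
abbrev Ext : Type u := SemidirectProduct L (zpowers a) (zpowers a).subtype

/-- The element of the semidirect product inducing `a`. -/
def gen : Ext a := SemidirectProduct.inr ⟨a, mem_zpowers a⟩

theorem gen_conj (x : L) : gen a * SemidirectProduct.inl x * (gen a)⁻¹ = (SemidirectProduct.inl (a x) : Ext a) :=
  by
  have h := (SemidirectProduct.inl_aut (φ := (zpowers a).subtype) ⟨a, mem_zpowers a⟩ x).symm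
  rw [map_inv] at h
  exact h

variable {a}

instance finite_ext : Finite (Ext a) :=
  Finite.of_injective (fun g : Ext a => (g.left, g.right)) fun g h e => by
    simp only [Prod.mk.injEq] at e
    exact SemidirectProduct.ext e.1 e.2

theorem card_ext (ha : orderOf a = p) {m : ℕ} (hm : Nat.card L = p ^ m) : Nat.card (Ext a) = p ^ (m + 1) := by
  rw [SemidirectProduct.card, hm, Nat.card_zpowers, ha, pow_succ]

theorem zpowers_apply {Q : L → L → Prop} (hrefl : ∀ x, Q x x) (htrans : ∀ x y z, Q x y → Q y z → Q x z)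
    (h : ∀ x, Q (a x) x) (ha : IsOfFinOrder a) {b : MulAut L} (hb : b ∈ zpowers a) (x : L) : Q (b x) x := by
  obtain ⟨i, rfl⟩ := ha.mem_powers_iff_mem_zpowers.2 hb
  show Q ((a ^ i) x) x
  clear hb
  induction i generalizing x with
  | zero => exact hrefl x
  | succ i ih =>
    rw [pow_succ', MulAut.mul_apply]
    exact htrans _ _ _ (h _) (ih x)

theorem forward (hp2 : p ≠ 2) (S : Layers p L) (ha : orderOf a = p) {m : ℕ} (hm : Nat.card L = p ^ m)
    {u : L} (hu : u ^ p = 1) (hau : a u ≠ u) :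
    p = 3 ∧ Group.nilpotencyClass (Ext a) = m := by
  classical
  have hG : IsPGroup p (Ext a) := IsPGroup.of_card (card_ext ha hm)
  haveI := hG.isNilpotent
  set ι : L →* Ext a := SemidirectProduct.inl with hι
  have hinj : Function.Injective ι := SemidirectProduct.inl_injective
  let U : Subgroup L :=
    { carrier := {x | x ^ p = 1}
      one_mem' := one_pow _
      mul_mem' := fun {x y} hx hy => S.mul_pow_one x y hx hy
      inv_mem' := fun {x} hx => show x⁻¹ ^ p = 1 by rw [inv_pow, show x ^ p = 1 from hx, inv_one] }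
  haveI : (U.map ι).Normal := by
    refine ⟨fun z hz g => ?_⟩
    obtain ⟨x, hx, rfl⟩ := hz
    have h1 : g * ι x * g⁻¹ ∈ ι.range := by
      rw [hι, SemidirectProduct.range_inl_eq_ker_rightHom]
      exact (MonoidHom.normal_ker _).conj_mem _ (by simp) g
    obtain ⟨y, hy⟩ := h1
    refine ⟨y, show y ^ p = 1 from hinj ?_, hy⟩
    rw [map_pow, hy, conj_pow, ← map_pow, show x ^ p = 1 from hx, map_one, mul_one, mul_inv_cancel]
  have hUel : Cfsg.IsElementaryAbelian p (U.map ι) := by
    refine ⟨⟨⟨fun x y => Subtype.ext ?_⟩⟩, ?_⟩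
    · obtain ⟨x', hx, ex⟩ := x.2
      obtain ⟨y', hy, ey⟩ := y.2
      show x.1 * y.1 = y.1 * x.1
      rw [← ex, ← ey, ← map_mul, (S.comm_one x' y' hx hy).eq, map_mul]
    · rintro _ ⟨x, hx, rfl⟩
      rw [← map_pow, show x ^ p = 1 from hx, map_one]
  have hU2 : Nat.card (U.map ι) = p ^ 2 := by rw [card_map_of_injective hinj]; exact S.card_one
  have hgu : gen a ∉ centralizer ((U.map ι : Subgroup (Ext a)) : Set (Ext a)) := fun h => hau (hinj (by
    have h1 : ι u * gen a = gen a * ι u := mem_centralizer_iff.1 h _ (mem_map_of_mem ι (show u ∈ U from hu))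
    rw [hι, ← gen_conj, ← h1, mul_inv_cancel_right]))
  obtain ⟨hZp, -, hcl, hfix⟩ := CfsgLib.FGSA.RankTwoOdd.split_data hG (U.map ι) hUel hU2
    fun e => hgu (e ▸ mem_top _)
  set Z := U.map ι ⊓ center (Ext a) with hZ
  have hstab : ∀ x : L, x ^ p = 1 → a (a x * x⁻¹) = a x * x⁻¹ := by
    intro x hx
    have h1 := hcl (gen a) (ι x) (mem_map_of_mem ι hx)
    rw [hι, gen_conj, ← map_inv, ← map_mul] at h1
    refine hinj ?_
    rw [hι, ← gen_conj, mem_center_iff.1 (mem_inf.1 h1).2, mul_inv_cancel_right]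
  have hfixmem : ∀ x : L, x ^ p = 1 → a x = x → ι x ∈ Z := fun x hx hax =>
    hfix _ hgu _ (mem_map_of_mem ι hx) (mul_inv_eq_iff_eq_mul.1 (by rw [hι, gen_conj, hax]))
  set ζ := a u * u⁻¹ with hζdef
  have hζp : ζ ^ p = 1 :=
    S.mul_pow_one _ _ (by rw [← map_pow, hu, map_one]) (by rw [inv_pow, hu, inv_one])
  have hζf : a ζ = ζ := hstab u hu
  have hζ1 : ζ ≠ 1 := fun e => hau (mul_inv_eq_one.1 e)
  have hζo : orderOf ζ = p := orderOf_eq_prime hζp hζ1
  have hgen : zpowers (ι ζ) = Z := eq_of_le_of_card_ge (zpowers_le.2 (hfixmem ζ hζp hζf)) (by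
    rw [Nat.card_zpowers, orderOf_injective ι hinj, hζo, hZp])
  obtain ⟨y, hy⟩ := S.root u hu
  have hy2 : y ^ (p * p) = 1 := by rw [pow_mul, hy, hu]
  have hay2 : a y ^ (p * p) = 1 := by rw [← map_pow, hy2, map_one]
  set v := a y * y⁻¹ with hvdef
  have hyi : y⁻¹ ^ (p * p) = 1 := by rw [inv_pow, hy2, inv_one]
  have hv2 : v ^ (p * p) = 1 := S.mul_pow_two _ _ hay2 hyi
  have hvp : v ^ p = ζ := by rw [hvdef, S.pow_hom _ _ hay2 hyi, inv_pow, ← map_pow, hy]
  set w := a v * v⁻¹ with hwdef
  have hwp : w ^ p = 1 := (S.quo_one _ _).1 (by rw [← map_pow, hvp, hζf])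
  set η := a w * w⁻¹ with hηdef
  have hηp : η ^ p = 1 :=
    S.mul_pow_one _ _ (by rw [← map_pow, hwp, map_one]) (by rw [inv_pow, hwp, inv_one])
  have hηf : a η = η := hstab w hwp
  have hcw : Commute w v := S.central w v hwp hv2
  have hcη : Commute η w := S.comm_one η w hηp hwp
  have eay : a y = v * y := by rw [hvdef, inv_mul_cancel_right]
  have eav : a v = w * v := by rw [hwdef, inv_mul_cancel_right]
  have eaw : a w = η * w := by rw [hηdef, inv_mul_cancel_right]
  have hit : ∀ k : ℕ, (a ^ k) y = η ^ (k.choose 3) * w ^ (k.choose 2) * v ^ k * y := by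
    intro k
    induction k with
    | zero => simp
    | succ k ih =>
      rw [pow_succ', MulAut.mul_apply, ih]
      simp only [map_mul, map_pow, hηf, eay, eav, eaw, hcη.mul_pow, hcw.mul_pow]
      rw [Nat.choose_succ_succ' k 2, Nat.choose_succ_succ' k 1, Nat.choose_one_right]
      rw [show k.choose (1 + 1) + k.choose (2 + 1) = k.choose 3 + k.choose 2 by ring_nf,
        show k + k.choose (1 + 1) = k.choose 2 + k by ring_nf, pow_add, pow_add, pow_succ]
      simp only [mul_assoc]
  have hfull := hit p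
  rw [show a ^ p = 1 by rw [← ha, pow_orderOf_eq_one], MulAut.one_apply, hvp,
    CfsgLib.FGSA.Blackburn.pow_choose_two_eq_one hp2 hwp, mul_one] at hfull
  have hrel : η ^ p.choose 3 * ζ = 1 := mul_eq_right.1 hfull.symm
  have hp3 : p = 3 := by
    by_contra hne
    obtain ⟨d, hd⟩ := hp.out.dvd_choose_self (k := 3) (by norm_num)
      (by have := hp.out.two_le; omega)
    rw [hd, pow_mul, hηp, one_pow, one_mul] at hrel
    exact hζ1 hrel
  refine ⟨hp3, ?_⟩
  subst hp3
  rw [Nat.choose_self, pow_one] at hrel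
  have hη1 : η ≠ 1 := fun e => hζ1 (by rwa [e, one_mul] at hrel)
  have hηo : orderOf η = 3 := orderOf_eq_prime hηp hη1
  have hC : ∀ c : L, a c = c → c ^ 3 = 1 := by
    have h2 : ∀ c : L, a c = c → c ^ (3 * 3) = 1 → c ^ 3 = 1 := by
      intro c hc hc2
      have h1 : ι (c ^ 3) ∈ zpowers (ι ζ) :=
        hgen.ge (hfixmem _ (by rw [← pow_mul]; exact hc2) (by rw [map_pow, hc]))
      obtain ⟨i, hi⟩ := mem_zpowers_iff.1 h1
      rw [← map_zpow] at hi
      have hci : c ^ 3 = ζ ^ i := (hinj hi).symm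
      have hvi : (v ^ i) ^ 3 = ζ ^ i := by rw [← hvp, ← zpow_natCast, ← zpow_natCast, ← zpow_mul, ← zpow_mul, mul_comm]
      set u' := c * (v ^ i)⁻¹ with hu'def
      have hu' : u' ^ 3 = 1 := (S.quo_one _ _).1 (hci.trans hvi.symm)
      have hau' : a u' ^ 3 = 1 := by rw [← map_pow, hu', map_one]
      have hwi : (w ^ i) ^ 3 = 1 := by
        rw [← zpow_natCast, ← zpow_mul, mul_comm, zpow_mul, zpow_natCast, hwp, one_zpow]
      have he : a u' * w ^ i = u' := by
        have e1 : c = u' * v ^ i := by rw [hu'def, inv_mul_cancel_right]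
        have e2 := hc
        rw [e1, map_mul, map_zpow, eav, hcw.mul_zpow, ← mul_assoc] at e2
        exact mul_right_cancel e2
      have hwfix : a (w ^ i) = w ^ i := by
        have e3 : w ^ i = (a u')⁻¹ * u' := by rw [eq_inv_mul_iff_mul_eq, he]
        have e4 : (w ^ i)⁻¹ = a u' * u'⁻¹ := by
          rw [e3, mul_inv_rev, inv_inv, ((S.comm_one _ _ hau' hu').symm.inv_left).eq]
        have h3 := hstab u' hu'
        rw [← e4, map_inv, inv_inj] at h3
        exact h3
      have hηi : η ^ i = 1 := by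
        rw [map_zpow, eaw, hcη.mul_zpow, mul_eq_right] at hwfix
        exact hwfix
      rw [hci, ← orderOf_dvd_iff_zpow_eq_one, hζo, ← hηo, orderOf_dvd_iff_zpow_eq_one, hηi]
    intro c hc
    obtain ⟨k, hk⟩ := IsPGroup.iff_card.1 S.isP
    have h : ∀ j, ∀ c : L, a c = c → c ^ 3 ^ j = 1 → c ^ 3 = 1 := by
      intro j
      induction j with
      | zero => intro c _ h; rw [pow_zero, pow_one] at h; rw [h, one_pow]
      | succ j ih =>
        intro c hc h
        refine h2 c hc ?_
        rw [pow_mul]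
        exact ih (c ^ 3) (by rw [map_pow, hc]) (by rw [← pow_mul, ← pow_succ']; exact h)
    exact h k c hc (by rw [← hk, pow_card_eq_one'])
  have hcent : Nat.card (centralizer ({gen a} : Set (Ext a))) ≤ 3 ^ 2 := by
    have hmem : ∀ g : centralizer ({gen a} : Set (Ext a)), ι g.1.left ∈ Z := fun g => by
      have h1 := congrArg SemidirectProduct.left (mem_centralizer_singleton_iff.1 g.2)
      simp only [gen, SemidirectProduct.mul_left, SemidirectProduct.left_inr, SemidirectProduct.right_inr,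
        map_one, mul_one, one_mul, Subgroup.coe_subtype] at h1
      exact hfixmem _ (hC _ h1.symm) h1.symm
    have hf : Function.Injective fun g : centralizer ({gen a} : Set (Ext a)) =>
        ((⟨ι g.1.left, hmem g⟩ : Z), g.1.right) := by
      intro g g' e
      simp only [Prod.mk.injEq, Subtype.mk.injEq] at e
      exact Subtype.ext (SemidirectProduct.ext (hinj e.1) e.2)
    refine (Nat.card_le_card_of_injective _ hf).trans ?_
    rw [Nat.card_prod, hZp, Nat.card_zpowers, ha, pow_two]
  have hm1 : 1 ≤ m := by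
    by_contra h
    rw [show m = 0 by omega, pow_zero] at hm
    haveI := (Nat.card_eq_one_iff_unique.1 hm).1
    exact hau (Subsingleton.elim _ _)
  have hmax := CfsgLib.FGSA.RankTwoOdd.maximal_class_of_centralizer (m + 1) (by omega) (card_ext ha hm) (gen a) hcent
  refine le_antisymm (Subgroup.lowerCentralSeries_eq_bot_iff_nilpotencyClass_le.1
    (CfsgLib.FGSA.RankTwoOdd.lcs_eq_bot hG (card_ext ha hm) hm1 le_rfl)) ?_
  by_contra hlt
  exact hmax (Subgroup.lowerCentralSeries_eq_bot_iff_nilpotencyClass_le.2 (by omega))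

theorem converse (hp2 : p ≠ 2) (S : Layers p L) (ha : orderOf a = p) {m : ℕ} (hm : Nat.card L = p ^ m)
    (hfixall : ∀ x : L, x ^ p = 1 → a x = x) : Group.nilpotencyClass (Ext a) ≠ m := by
  classical
  have hG : IsPGroup p (Ext a) := IsPGroup.of_card (card_ext ha hm)
  haveI := hG.isNilpotent
  have hd : ∀ k : ℕ, ∀ x : L, x ^ p ^ k = 1 → (a x * x⁻¹) ^ p = 1 := by
    intro k
    induction k with
    | zero =>
      intro x hx
      rw [pow_zero, pow_one] at hx
      rw [hx, map_one, one_mul, inv_one, one_pow]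
    | succ k ih =>
      intro x hx
      have hs := ih (x ^ p) (by rw [← pow_mul, ← pow_succ']; exact hx)
      have hpp : a x ^ (p * p) = x ^ (p * p) := by
        rw [pow_mul, pow_mul, ← map_pow]; exact (S.quo_one _ _).2 hs
      set d := a x * x⁻¹ with hddef
      have hd2 : d ^ (p * p) = 1 := (S.quo_two _ _).1 hpp
      set w := a d * d⁻¹ with hwdef
      have hwp : w ^ p = 1 :=
        (S.quo_one _ _).1 (by rw [← map_pow, hfixall (d ^ p) (by rw [← pow_mul]; exact hd2)])
      have hwf := hfixall w hwp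
      have hcw : Commute w d := S.central w d hwp hd2
      have hit : ∀ j : ℕ, (a ^ j) x = w ^ (j.choose 2) * d ^ j * x := by
        intro j
        induction j with
        | zero => simp
        | succ j ihj =>
          rw [pow_succ', MulAut.mul_apply, ihj, map_mul, map_mul, map_pow, map_pow, hwf,
            show a d = w * d by rw [hwdef, inv_mul_cancel_right],
            show a x = d * x by rw [hddef, inv_mul_cancel_right],
            hcw.mul_pow, Nat.choose_succ_succ' j 1, Nat.choose_one_right, Nat.add_comm j, pow_add, pow_succ]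
          simp only [mul_assoc]
      have h1 := hit p
      rw [show a ^ p = 1 by rw [← ha, pow_orderOf_eq_one], MulAut.one_apply,
        CfsgLib.FGSA.Blackburn.pow_choose_two_eq_one hp2 hwp, one_mul] at h1
      exact mul_eq_right.1 h1.symm
  have hdd : ∀ x : L, (a x * x⁻¹) ^ p = 1 := by
    intro x
    obtain ⟨k, hk⟩ := IsPGroup.iff_card.1 S.isP
    exact hd k x (by rw [← hk, pow_card_eq_one'])
  let U : Subgroup L :=
    { carrier := {x | x ^ p = 1}
      one_mem' := one_pow _
      mul_mem' := fun {x y} hx hy => S.mul_pow_one x y hx hy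
      inv_mem' := fun {x} hx => show x⁻¹ ^ p = 1 by rw [inv_pow, show x ^ p = 1 from hx, inv_one] }
  haveI : U.Normal := ⟨fun x hx g => show (g * x * g⁻¹) ^ p = 1 by
    rw [conj_pow, show x ^ p = 1 from hx, mul_one, mul_inv_cancel]⟩
  have hU2 : Nat.card U = p ^ 2 := S.card_one
  choose r hr using fun x : U => S.root x.1 x.2
  have hr2 : ∀ x, r x ^ (p * p) = 1 := fun x => by rw [pow_mul, hr]; exact x.2
  have h4 : 4 ≤ m := by
    have h1 : Nat.card (U × U) ≤ Nat.card L := by
      refine Nat.card_le_card_of_injective (fun z => r z.1 * z.2.1) ?_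
      intro z z' e
      have e' : r z.1 * z.2.1 = r z'.1 * z'.2.1 := e
      have e1 : z.1 = z'.1 := by
        have h2 := congrArg (fun t => t ^ p) e'
        have hz2 : ∀ w : U, w.1 ^ (p * p) = 1 := fun w => by rw [pow_mul, show w.1 ^ p = 1 from w.2, one_pow]
        simp only [S.pow_hom _ _ (hr2 _) (hz2 _), hr, show ∀ w : U, w.1 ^ p = 1 from fun w => w.2, mul_one] at h2
        exact Subtype.ext h2
      rw [e1] at e'
      exact Prod.ext e1 (Subtype.ext (mul_left_cancel e'))
    rw [Nat.card_prod, hU2, hm, ← pow_add] at h1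
    exact (Nat.pow_le_pow_iff_right hp.out.one_lt).1 h1
  set q := QuotientGroup.mk' U with hq
  have hQ : Nat.card (L ⧸ U) = p ^ (m - 2) := by
    have h1 := Subgroup.card_eq_card_quotient_mul_card_subgroup U
    rw [hm, hU2, show m = m - 2 + 2 by omega, pow_add] at h1
    exact (Nat.eq_of_mul_eq_mul_right (Nat.pow_pos hp.out.pos) h1).symm
  have hfin : IsOfFinOrder a := orderOf_pos_iff.1 (ha ▸ hp.out.pos)
  have hcompat : ∀ b : zpowers a, q.comp ((zpowers a).subtype b).toMonoidHom =
      (MulAut.conj ((1 : zpowers a →* L ⧸ U) b)).toMonoidHom.comp q := by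
    intro b
    refine MonoidHom.ext fun x => ?_
    have h := zpowers_apply (Q := fun s t => q s = q t) (fun _ => rfl) (fun _ _ _ => Eq.trans)
      (fun x => by
        have h1 : q (a x * x⁻¹) = 1 := (QuotientGroup.eq_one_iff _).2 (hdd x)
        rwa [map_mul, map_inv, mul_inv_eq_one] at h1) hfin b.2 x
    simpa using h
  set π : Ext a →* L ⧸ U := SemidirectProduct.lift q 1 hcompat with hπ
  set Γ := fun i => (⊤ : Subgroup (Ext a)).lowerCentralSeries i with hΓ
  have hle : Γ (m - 3) ≤ U.map (SemidirectProduct.inl : L →* Ext a) := by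
    intro g hg
    have h1 : g.right = 1 := by
      have h2 : Γ (m - 3) ≤ (SemidirectProduct.rightHom : Ext a →* zpowers a).ker := by
        refine ((⊤ : Subgroup (Ext a)).lowerCentralSeries_antitone (by omega : 1 ≤ m - 3)).trans ?_
        rw [Subgroup.top_lowerCentralSeries_one, _root_.commutator_def, commutator_le]
        intro x _ y _
        rw [MonoidHom.mem_ker, map_commutatorElement, commutatorElement_eq_one_iff_mul_comm]
        exact mul_comm' _ _
      exact MonoidHom.mem_ker.1 (h2 hg)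
    refine ⟨g.left, ?_, SemidirectProduct.ext rfl h1.symm⟩
    have hπs : Function.Surjective π := fun z => by
      obtain ⟨l, rfl⟩ := QuotientGroup.mk'_surjective U z
      exact ⟨SemidirectProduct.inl l, SemidirectProduct.lift_inl ..⟩
    have h3 : π g = 1 := by
      have h4 := mem_map_of_mem π hg
      rw [hΓ, Subgroup.map_lowerCentralSeries, Subgroup.map_top_of_surjective π hπs,
        CfsgLib.FGSA.RankTwoOdd.lcs_eq_bot (S.isP.to_quotient U) hQ (by omega) (by omega), mem_bot] at h4
      exact h4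
    have h5 : q g.left = 1 := by
      have e : g = SemidirectProduct.inl g.left := SemidirectProduct.ext rfl h1
      rwa [e, hπ, SemidirectProduct.lift_inl] at h3
    exact (QuotientGroup.eq_one_iff _).1 h5
  have hcommU : ∀ g : Ext a, ∀ x ∈ U.map (SemidirectProduct.inl : L →* Ext a),
      g * x * g⁻¹ ∈ U.map (SemidirectProduct.inl : L →* Ext a) := by
    rintro g _ ⟨x, hx, rfl⟩
    have h1 : g * SemidirectProduct.inl x * g⁻¹ ∈ (SemidirectProduct.inl : L →* Ext a).range := by
      rw [SemidirectProduct.range_inl_eq_ker_rightHom]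
      exact (MonoidHom.normal_ker _).conj_mem _ (by simp) g
    obtain ⟨y, hy⟩ := h1
    refine ⟨y, show y ^ p = 1 from SemidirectProduct.inl_injective (φ := (zpowers a).subtype) ?_, hy⟩
    rw [map_pow, hy, conj_pow, ← map_pow, show x ^ p = 1 from hx, map_one, mul_one, mul_inv_cancel]
  haveI hUn : (U.map (SemidirectProduct.inl : L →* Ext a)).Normal := ⟨fun x hx g => hcommU g x hx⟩
  have hUel : Cfsg.IsElementaryAbelian p (U.map (SemidirectProduct.inl : L →* Ext a)) := by
    refine ⟨⟨⟨fun x y => Subtype.ext ?_⟩⟩, ?_⟩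
    · obtain ⟨x', hx, ex⟩ := x.2
      obtain ⟨y', hy, ey⟩ := y.2
      show x.1 * y.1 = y.1 * x.1
      rw [← ex, ← ey, ← map_mul, (S.comm_one x' y' hx hy).eq, map_mul]
    · rintro _ ⟨x, hx, rfl⟩
      rw [← map_pow, show x ^ p = 1 from hx, map_one]
  have hstep : Γ (m - 2) ≤ center (Ext a) := by
    rw [hΓ]
    simp only
    rw [show m - 2 = m - 3 + 1 by omega, Subgroup.lowerCentralSeries_succ, commutator_le]
    intro g hg h _
    have hgU := hle hg
    by_cases hc : centralizer ((U.map (SemidirectProduct.inl : L →* Ext a) : Subgroup (Ext a)) : Set (Ext a)) = ⊤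
    · rw [commutatorElement_eq_one_iff_mul_comm.2 (mem_centralizer_iff.1 (hc ▸ mem_top h) g hgU)]
      exact one_mem _
    · obtain ⟨-, -, hcl, -⟩ := CfsgLib.FGSA.RankTwoOdd.split_data hG _ hUel
        (by rw [card_map_of_injective SemidirectProduct.inl_injective, hU2]) hc
      have h6 := hcl h g hgU
      rw [show ⁅g, h⁆ = (h * g * h⁻¹ * g⁻¹)⁻¹ by rw [commutatorElement_def]; group]
      exact inv_mem (mem_inf.1 h6).2
  intro hcl
  have hbot : Γ (m - 1) = ⊥ := by
    rw [hΓ]
    simp only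
    rw [show m - 1 = m - 2 + 1 by omega, Subgroup.lowerCentralSeries_succ, ← le_bot_iff, commutator_le]
    exact fun g hg h _ => mem_bot.2
      (commutatorElement_eq_one_iff_mul_comm.2 (mem_center_iff.1 (hstep hg) h).symm)
  have := Subgroup.lowerCentralSeries_eq_bot_iff_nilpotencyClass_le.1 hbot
  omega

theorem main {m : ℕ} (hp2 : p ≠ 2) (hL : IsPGroup p L) (hmc : Cfsg.IsMetacyclic L)
    (hnc : ∀ C : Subgroup L, IsCyclic C → C.index ≠ p) (ha : orderOf a = p) (hm : Nat.card L = p ^ m) :
    (∃ x : L, orderOf x = p ∧ a x ≠ x) ↔ (p = 3 ∧ Group.nilpotencyClass (Ext a) = m) := by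
  have hnt : Nontrivial L := by
    by_contra h
    rw [not_nontrivial_iff_subsingleton] at h
    have : a = 1 := MulEquiv.ext fun x => Subsingleton.elim _ _
    rw [this, orderOf_one] at ha
    exact hp.out.one_lt.ne ha
  have S := layers hp2 hL hmc hnc hnt
  constructor
  · rintro ⟨x, hx, hax⟩
    exact forward hp2 S ha hm (orderOf_dvd_iff_pow_eq_one.1 (dvd_of_eq hx)) hax
  · rintro ⟨-, hcl⟩
    by_contra hcon
    push Not at hcon
    refine converse hp2 S ha hm (fun x hx => ?_) hcl
    by_cases hx1 : x = 1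
    · rw [hx1, map_one]
    · exact hcon x (orderOf_eq_prime hx hx1)

end CfsgLib.MetacyclicMaximal
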