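import Mathlib.GroupTheory.Nilpotent
import Mathlib.GroupTheory.Index
import Mathlib.Tactic.Group

/-!
Subgroup generated by the smallest classes when a self centralizing abelian normal subgroup exists.
-/

set_option autoImplicit false
set_option linter.unusedSectionVars false

namespace CfsgLib.MinimalClass

open Subgroup

variable {G : Type*} [Group G] [Finite G]

theorem commutator_central (A : Subgroup G) [A.Normal] (hA : IsMulCommutative A) {m : ℕ}
    (hmin : ∀ x : G, 1 < (centralizer ({x} : Set G)).index → m ≤ (centralizer ({x} : Set G)).index)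
    {x : G} (hx : (centralizer ({x} : Set G)).index = 1 ∨ (centralizer ({x} : Set G)).index = m)
    {a : G} (ha : a ∈ A) : a⁻¹ * (x * a * x⁻¹) ∈ center G := by
  classical
  rcases hx with hx | hx
  · have h : ∀ g, g * x = x * g := fun g =>
      mem_centralizer_singleton_iff.1 ((index_eq_one.1 hx).symm ▸ mem_top g)
    have he : a⁻¹ * (x * a * x⁻¹) = 1 := by rw [← h a]; group
    rw [he]; exact one_mem _
  have hc : ∀ u ∈ A, ∀ v ∈ A, u * v = v * u := fun u hu v hv =>
    congrArg Subtype.val (hA.is_comm.comm ⟨u, hu⟩ ⟨v, hv⟩)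
  let φ : A →* G :=
    { toFun := fun a => (a : G)⁻¹ * (x * (a : G) * x⁻¹)
      map_one' := by simp
      map_mul' := fun u v => by
        have h1 : x * (u : G) * x⁻¹ ∈ A := (inferInstance : A.Normal).conj_mem _ u.2 x
        calc ((u * v : A) : G)⁻¹ * (x * ((u * v : A) : G) * x⁻¹)
            = (v : G)⁻¹ * ((u : G)⁻¹ * (x * u * x⁻¹)) * (x * v * x⁻¹) := by
              rw [Subgroup.coe_mul]; group
          _ = ((u : G)⁻¹ * (x * u * x⁻¹)) * (v : G)⁻¹ * (x * v * x⁻¹) := by
              rw [hc _ (inv_mem v.2) _ (mul_mem (inv_mem u.2) h1)]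
          _ = _ := by group }
  set y := a⁻¹ * (x * a * x⁻¹) with hy
  set C := centralizer ({x} : Set G) with hC
  set D := centralizer ({y} : Set G) with hD
  by_cases hy1 : y = 1
  · rw [hy1]; exact one_mem _
  have hyA : y ∈ A := mul_mem (inv_mem ha) ((inferInstance : A.Normal).conj_mem _ ha x)
  have hAD : A ≤ D := fun u hu => mem_centralizer_singleton_iff.2 (hc u hu y hyA)
  -- the orbit of `C` on `y`
  have horb : ∀ c ∈ C, c * y * c⁻¹ ∈ φ.range ∧ c * y * c⁻¹ ≠ 1 := by
    intro c hcC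
    refine ⟨⟨⟨c * a * c⁻¹, (inferInstance : A.Normal).conj_mem _ ha c⟩, ?_⟩, fun h => hy1 ?_⟩
    · have h1 : c * x = x * c := mem_centralizer_singleton_iff.1 hcC
      have h2 : c⁻¹ * x = x * c⁻¹ := mem_centralizer_singleton_iff.1 (inv_mem hcC)
      show (c * a * c⁻¹)⁻¹ * (x * (c * a * c⁻¹) * x⁻¹) = c * y * c⁻¹
      rw [hy]
      calc (c * a * c⁻¹)⁻¹ * (x * (c * a * c⁻¹) * x⁻¹)
          = c * a⁻¹ * c⁻¹ * ((x * c) * a * (c⁻¹ * x⁻¹)) := by group
        _ = c * a⁻¹ * c⁻¹ * ((c * x) * a * (x⁻¹ * c⁻¹)) := by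
            rw [← h1, show c⁻¹ * x⁻¹ = x⁻¹ * c⁻¹ by rw [← mul_inv_rev, ← mul_inv_rev, h1]]
        _ = _ := by group
    · calc y = c⁻¹ * (c * y * c⁻¹) * c := by group
        _ = 1 := by rw [h]; group
  have hlt : D.relIndex C < Nat.card φ.range := by
    let f : C ⧸ D.subgroupOf C → {b : φ.range // b ≠ 1} := fun q =>
      Quotient.liftOn' q (fun c => ⟨⟨(c : G) * y * (c : G)⁻¹, (horb c c.2).1⟩,
        fun h => (horb c c.2).2 (congrArg Subtype.val h)⟩) (by
        intro u v h
        rw [QuotientGroup.leftRel_apply, mem_subgroupOf] at h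
        have h' := mem_centralizer_singleton_iff.1 h
        simp only [Subgroup.coe_mul, InvMemClass.coe_inv] at h'
        refine Subtype.ext (Subtype.ext ?_)
        show (u : G) * y * (u : G)⁻¹ = v * y * (v : G)⁻¹
        calc (u : G) * y * (u : G)⁻¹ = u * (y * ((u : G)⁻¹ * v)) * (v : G)⁻¹ := by group
          _ = u * ((u : G)⁻¹ * v * y) * (v : G)⁻¹ := by rw [h']
          _ = _ := by group)
    have hf : Function.Injective f := by
      intro p q
      induction p using QuotientGroup.induction_on with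
      | _ u =>
      induction q using QuotientGroup.induction_on with
      | _ v =>
      intro h
      have h' : (u : G) * y * (u : G)⁻¹ = v * y * (v : G)⁻¹ :=
        congrArg (fun t : {b : φ.range // b ≠ 1} => ((t : φ.range) : G)) h
      rw [QuotientGroup.eq, mem_subgroupOf]
      refine mem_centralizer_singleton_iff.2 ?_
      simp only [Subgroup.coe_mul, InvMemClass.coe_inv]
      calc (u : G)⁻¹ * v * y = (u : G)⁻¹ * (v * y * (v : G)⁻¹) * v := by group
        _ = (u : G)⁻¹ * (u * y * (u : G)⁻¹) * v := by rw [h']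
        _ = _ := by group
    refine lt_of_le_of_lt (Nat.card_le_card_of_injective f hf) ?_
    exact Finite.card_subtype_lt (p := fun b : φ.range => b ≠ 1) (x := 1) (by simp)
  have hker : φ.ker = C.subgroupOf A := by
    ext u
    rw [MonoidHom.mem_ker, mem_subgroupOf, hC, mem_centralizer_singleton_iff]
    show (u : G)⁻¹ * (x * (u : G) * x⁻¹) = 1 ↔ _
    rw [inv_mul_eq_one, eq_mul_inv_iff_mul_eq]
  have hB : Nat.card φ.range = (C ⊓ D).relIndex A := by
    rw [← Subgroup.index_ker, hker, Subgroup.relIndex]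
    congr 1
    ext u
    simp only [mem_subgroupOf, mem_inf]
    exact ⟨fun h => ⟨h, hAD u.2⟩, fun h => h.1⟩
  have hle : Nat.card φ.range ≤ (C ⊓ D).relIndex D :=
    hB ▸ relIndex_le_of_le_right hAD (Subgroup.index_ne_zero_of_finite)
  have h1 := relIndex_mul_index (inf_le_left : C ⊓ D ≤ C)
  have h2 := relIndex_mul_index (inf_le_right : C ⊓ D ≤ D)
  rw [inf_relIndex_left] at h1
  have hidx : D.index < m := by
    rw [← hx]
    have hDpos : 0 < D.index := Nat.pos_of_ne_zero Subgroup.index_ne_zero_of_finite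
    by_contra hge
    push Not at hge
    have : D.relIndex C * C.index < (C ⊓ D).relIndex D * D.index :=
      calc D.relIndex C * C.index ≤ D.relIndex C * D.index := Nat.mul_le_mul_left _ hge
        _ < (C ⊓ D).relIndex D * D.index := Nat.mul_lt_mul_of_pos_right (hlt.trans_le hle) hDpos
    omega
  have hD1 : D.index = 1 := by
    have := hmin y
    have hne : D.index ≠ 0 := Subgroup.index_ne_zero_of_finite
    rw [← hD] at this
    omega
  rw [mem_center_iff]
  intro g
  exact mem_centralizer_singleton_iff.1 (show g ∈ D by rw [index_eq_one.1 hD1]; exact mem_top g)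

theorem main (A : Subgroup G) [A.Normal] (hA : IsMulCommutative A) (hCA : centralizer (A : Set G) = A)
    (m : ℕ) (hmin : ∀ x : G, 1 < (centralizer ({x} : Set G)).index → m ≤ (centralizer ({x} : Set G)).index) :
    Subgroup.upperCentralSeries ↥(closure {x : G | (centralizer ({x} : Set G)).index = 1 ∨
      (centralizer ({x} : Set G)).index = m}) 3 = ⊤ := by
  set M := closure {x : G | (centralizer ({x} : Set G)).index = 1 ∨
      (centralizer ({x} : Set G)).index = m} with hM
  have key : ∀ g ∈ M, ∀ a ∈ A, a⁻¹ * (g * a * g⁻¹) ∈ center G := by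
    intro g hg
    induction hg using closure_induction with
    | mem x hx => exact fun a ha => commutator_central A hA hmin hx ha
    | one => intro a _; simp [one_mem]
    | mul u v _ _ hu hv =>
      intro a ha
      have h := hv a ha
      have he : a⁻¹ * (u * v * a * (u * v)⁻¹) =
          (a⁻¹ * (u * a * u⁻¹)) * (u * (a⁻¹ * (v * a * v⁻¹)) * u⁻¹) := by group
      rw [he, mem_center_iff.1 h u, mul_inv_cancel_right]
      exact mul_mem (hu a ha) h
    | inv u _ hu =>
      intro a ha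
      have h := inv_mem (hu a ha)
      have he : a⁻¹ * (u⁻¹ * a * u⁻¹⁻¹) = a⁻¹ * (u⁻¹ * (u * a * u⁻¹ * a⁻¹) * u)⁻¹ * a := by group
      have h2 : u * a * u⁻¹ * a⁻¹ = a⁻¹ * (u * a * u⁻¹) := by
        have := mem_center_iff.1 (hu a ha) a
        calc u * a * u⁻¹ * a⁻¹ = a * (a⁻¹ * (u * a * u⁻¹)) * a⁻¹ := by group
          _ = a⁻¹ * (u * a * u⁻¹) * a * a⁻¹ := by rw [this]
          _ = _ := by group
      rw [he, h2, mem_center_iff.1 (hu a ha) u⁻¹, inv_mul_cancel_right, mem_center_iff.1 h a⁻¹,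
        inv_mul_cancel_right]
      exact h
  have hcom : ∀ g ∈ M, ∀ h ∈ M, g * h * g⁻¹ * h⁻¹ ∈ A := by
    intro g hg h hh
    rw [← hCA, mem_centralizer_iff]
    intro a ha
    obtain ⟨z, hz, hgz⟩ : ∃ z ∈ center G, g * a * g⁻¹ = a * z :=
      ⟨_, key g hg a ha, by group⟩
    obtain ⟨w, hw, hhw⟩ : ∃ w ∈ center G, h * a * h⁻¹ = a * w :=
      ⟨_, key h hh a ha, by group⟩
    have hz' : ∀ t, t * z = z * t := fun t => mem_center_iff.1 hz t
    have hw' : ∀ t, t * w = w * t := fun t => mem_center_iff.1 hw t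
    have hg' : g * a = a * z * g := by rw [← hgz]; group
    have hh' : h * a = a * w * h := by rw [← hhw]; group
    have hgi : g⁻¹ * a = a * z⁻¹ * g⁻¹ := by
      calc g⁻¹ * a = g⁻¹ * (a * z * g) * z⁻¹ * g⁻¹ := by
            rw [mul_assoc g⁻¹ (a * z * g), mul_assoc (a * z) g z⁻¹]
            rw [mem_center_iff.1 (inv_mem hz) g]; group
        _ = _ := by rw [← hg']; group
    have hhi : h⁻¹ * a = a * w⁻¹ * h⁻¹ := by
      calc h⁻¹ * a = h⁻¹ * (a * w * h) * w⁻¹ * h⁻¹ := by
            rw [mul_assoc h⁻¹ (a * w * h), mul_assoc (a * w) h w⁻¹]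
            rw [mem_center_iff.1 (inv_mem hw) h]; group
        _ = _ := by rw [← hh']; group
    symm
    calc g * h * g⁻¹ * h⁻¹ * a = g * h * g⁻¹ * (a * w⁻¹) * h⁻¹ := by
          rw [mul_assoc _ h⁻¹ a, hhi]; group
      _ = g * h * (a * z⁻¹) * g⁻¹ * w⁻¹ * h⁻¹ := by
          rw [show g * h * g⁻¹ * (a * w⁻¹) = g * h * (g⁻¹ * a) * w⁻¹ by group, hgi]; group
      _ = g * (a * w) * h * z⁻¹ * g⁻¹ * w⁻¹ * h⁻¹ := by
          rw [show g * h * (a * z⁻¹) = g * (h * a) * z⁻¹ by group, hh']; group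
      _ = (a * z) * g * w * h * z⁻¹ * g⁻¹ * w⁻¹ * h⁻¹ := by
          rw [show g * (a * w) = g * a * w by group, hg']
      _ = a * (g * h * g⁻¹ * h⁻¹) := by
          rw [mul_assoc (a * z * g * w) h z⁻¹, mem_center_iff.1 (inv_mem hz) h,
            mul_assoc (a * z) g w, hw' g]
          calc a * z * (w * g) * (z⁻¹ * h) * g⁻¹ * w⁻¹ * h⁻¹
              = a * z * w * (g * z⁻¹) * (h * g⁻¹ * w⁻¹) * h⁻¹ := by group
            _ = a * z * w * (z⁻¹ * g) * (w⁻¹ * (h * g⁻¹)) * h⁻¹ := by
                rw [mem_center_iff.1 (inv_mem hz) g, mem_center_iff.1 (inv_mem hw) (h * g⁻¹)]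
            _ = a * (z * w) * z⁻¹ * (g * w⁻¹) * h * g⁻¹ * h⁻¹ := by group
            _ = a * (w * z) * z⁻¹ * (w⁻¹ * g) * h * g⁻¹ * h⁻¹ := by
                rw [hw' z, mem_center_iff.1 (inv_mem hw) g]
            _ = _ := by group
  have h1 : ∀ g : M, (g : G) ∈ center G → g ∈ Subgroup.upperCentralSeries M 1 := by
    intro g hg
    rw [Subgroup.upperCentralSeries_one, mem_center_iff]
    exact fun t => Subtype.ext (mem_center_iff.1 hg t)
  have h2 : ∀ g : M, (g : G) ∈ A → g ∈ Subgroup.upperCentralSeries M 2 := by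
    intro g hg t
    refine h1 _ ?_
    have h := key t t.2 _ (inv_mem hg)
    rw [inv_inv] at h
    simpa [commutatorElement_def, mul_assoc] using h
  rw [eq_top_iff]
  intro g _ t
  exact h2 _ (hcom g g.2 t t.2)

end CfsgLib.MinimalClass
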