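import Cfsg.Prelude.Def_KGroupFacts
import Mathlib.GroupTheory.PresentedGroup
import Mathlib.GroupTheory.Rank
import Mathlib.LinearAlgebra.FreeModule.PID
import Mathlib.LinearAlgebra.Dimension.RankNullity
import Mathlib.LinearAlgebra.Dimension.Finrank
import Mathlib.LinearAlgebra.Dimension.Localization
import Mathlib.GroupTheory.OrderOfElement
import Mathlib.Tactic.Group
import Mathlib.RingTheory.PrincipalIdealDomain
import Mathlib.Algebra.EuclideanDomain.Int
import Mathlib.RingTheory.Finiteness.Basic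

/-!
The rank of the multiplier of a finitely presented finite group.
-/

set_option autoImplicit false
set_option linter.unusedSectionVars false

namespace CfsgLib.MultPres

open Subgroup

universe v

/-- A finite abelian group inside a finitely generated subgroup of `A × ℤⁿ` of full rank. -/
theorem rank_le_of_span {A : Type v} [CommGroup A] [Finite A] {r n : ℕ}
    (Φ : (Fin r → ℤ) →ₗ[ℤ] Additive A × (Fin n → ℤ))
    (hA : ∀ a : A, (Additive.ofMul a, (0 : Fin n → ℤ)) ∈ LinearMap.range Φ)
    (m : ℕ) (hm : m ≠ 0) (hfull : ∀ v : Fin n → ℤ, (m : ℤ) • v ∈ LinearMap.range ((LinearMap.snd ℤ _ _).comp Φ)) :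
    Group.rank A ≤ r - n := by
  classical
  set φ : (Fin r → ℤ) →ₗ[ℤ] (Fin n → ℤ) := (LinearMap.snd ℤ _ _).comp Φ with hφ
  set N := LinearMap.ker Φ with hN
  obtain ⟨k, S⟩ := Submodule.smithNormalForm (Pi.basisFun ℤ (Fin r)) N
  have hrange : n ≤ Module.finrank ℤ (LinearMap.range φ) := by
    let g : (Fin n → ℤ) →ₗ[ℤ] LinearMap.range φ :=
      LinearMap.codRestrict (LinearMap.range φ) ((m : ℤ) • LinearMap.id) hfull
    have hg : Function.Injective g := by
      intro u v h
      have h' : (m : ℤ) • u = (m : ℤ) • v := congrArg Subtype.val h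
      exact smul_right_injective (Fin n → ℤ) (show (m : ℤ) ≠ 0 by exact_mod_cast hm) h'
    simpa using LinearMap.finrank_le_finrank_of_injective hg
  have hk : k ≤ r - n := by
    have h1 := Submodule.finrank_quotient_add_finrank (LinearMap.ker φ)
    rw [φ.quotKerEquivRange.finrank_eq, Module.finrank_fintype_fun_eq_card, Fintype.card_fin] at h1
    have h2 : Module.finrank ℤ N ≤ Module.finrank ℤ (LinearMap.ker φ) :=
      Submodule.finrank_mono (fun x hx => by
        rw [LinearMap.mem_ker] at hx ⊢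
        simp [φ, LinearMap.mem_ker.1 hx])
    rw [Module.finrank_eq_card_basis S.bN, Fintype.card_fin] at h2
    omega
  let g : Fin k → A := fun i => (Φ (S.bM (S.f i))).1.toMul
  have hclos : closure (Set.range g) = ⊤ := by
    rw [eq_top_iff]
    intro a _
    obtain ⟨x, hx⟩ := hA a
    have hmem : (Nat.card A : ℤ) • x ∈ N := by
      rw [hN, LinearMap.mem_ker, map_smul, hx, Prod.smul_mk, smul_zero, natCast_zsmul,
        ← ofMul_pow, pow_card_eq_one', ofMul_one]
      rfl
    have hx0 : ∀ j ∉ Set.range S.f, S.bM.repr x j = 0 := by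
      intro j hj
      have h := S.repr_eq_zero_of_notMem_range ⟨_, hmem⟩ hj
      simp only [map_smul, Finsupp.coe_smul, Pi.smul_apply, smul_eq_mul] at h
      exact (mul_eq_zero.1 h).resolve_left (by exact_mod_cast Nat.card_pos.ne')
    have hsum : x = ∑ i, S.bM.repr x (S.f i) • S.bM (S.f i) := by
      conv_lhs => rw [← S.bM.sum_repr x]
      rw [← Finset.sum_map Finset.univ S.f (fun j => S.bM.repr x j • S.bM j)]
      refine (Finset.sum_subset (Finset.subset_univ _) fun j _ hj => ?_).symm
      rw [hx0 j (by simpa using hj), zero_smul]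
    have ha : a = ∏ i, g i ^ S.bM.repr x (S.f i) := by
      have h : (Φ x).1 = Additive.ofMul a := congrArg Prod.fst hx
      rw [hsum, map_sum, Prod.fst_sum] at h
      apply Additive.ofMul.injective
      rw [ofMul_prod, ← h]
      exact Finset.sum_congr rfl fun i _ => by rw [map_smul, Prod.smul_fst]; rfl
    rw [ha]
    exact prod_mem fun i _ => zpow_mem (subset_closure (Set.mem_range_self i)) _
  refine (Group.rank_le (S := Finset.univ.image g) (by rw [Finset.coe_image, Finset.coe_univ, Set.image_univ]; exact hclos)).trans ?_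
  exact (Finset.card_image_le.trans (by rw [Finset.card_univ, Fintype.card_fin])).trans hk

theorem main (n : ℕ) (rels : Finset (FreeGroup (Fin n)))
    [Finite (PresentedGroup (rels : Set (FreeGroup (Fin n))))] {A : Type*} [CommGroup A] [Finite A]
    (hA : Cfsg.HasSchurMultiplier (PresentedGroup (rels : Set (FreeGroup (Fin n)))) A) :
    Group.rank A ≤ rels.card - n := by
  classical
  obtain ⟨⟨Γ, _, _, σ, ⟨hs, hc, hd⟩, ⟨e⟩⟩, -⟩ := hA
  set π := PresentedGroup.mk (rels : Set (FreeGroup (Fin n))) with hπ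
  choose t ht using fun i : Fin n => hs (π (FreeGroup.of i))
  let ψ : FreeGroup (Fin n) →* Γ := FreeGroup.lift t
  have hσψ : ∀ x, σ (ψ x) = π x := DFunLike.congr_fun
    (FreeGroup.ext_hom (σ.comp ψ) π fun i => by simp [ψ, ht])
  have hψs : Function.Surjective ψ := by
    rw [← MonoidHom.range_eq_top]
    have hsup : ψ.range ⊔ σ.ker = ⊤ := eq_top_iff.2 fun y _ => by
      obtain ⟨x, hx⟩ := PresentedGroup.mk_surjective _ (σ y)
      have hk : (ψ x)⁻¹ * y ∈ σ.ker := by
        rw [MonoidHom.mem_ker, map_mul, map_inv, hσψ x, hπ, hx, inv_mul_cancel]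
      have hxr : ψ x ∈ ψ.range := ⟨x, rfl⟩
      have := mul_mem_sup hxr hk
      rwa [mul_inv_cancel_left] at this
    have hcomm : commutator Γ ≤ ψ.range := by
      rw [_root_.commutator_def, Subgroup.commutator_le]
      intro x _ y _
      have key : ∀ z : Γ, ∃ u ∈ ψ.range, ∃ w ∈ σ.ker, u * w = z := fun z => by
        haveI : σ.ker.Normal := inferInstance
        exact Subgroup.mem_sup_of_normal_right.1 (hsup.ge (mem_top z))
      obtain ⟨u, hu, a, ha, rfl⟩ := key x
      obtain ⟨w, hw, b, hb, rfl⟩ := key y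
      have ha' : ∀ z, z * a = a * z := fun z => mem_center_iff.1 (hc ha) z
      have hb' : ∀ z, z * b = b * z := fun z => mem_center_iff.1 (hc hb) z
      have heq : (u * a) * (w * b) * (u * a)⁻¹ * (w * b)⁻¹ = u * w * u⁻¹ * w⁻¹ := by
        calc (u * a) * (w * b) * (u * a)⁻¹ * (w * b)⁻¹
            = u * (a * (w * b) * a⁻¹) * u⁻¹ * b⁻¹ * w⁻¹ := by group
          _ = u * ((w * b) * a * a⁻¹) * u⁻¹ * b⁻¹ * w⁻¹ := by rw [ha']
          _ = u * w * (b * u⁻¹ * b⁻¹) * w⁻¹ := by group
          _ = u * w * (u⁻¹ * b * b⁻¹) * w⁻¹ := by rw [hb']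
          _ = _ := by group
      rw [commutatorElement_def, heq]
      exact mul_mem (mul_mem (mul_mem hu hw) (inv_mem hu)) (inv_mem hw)
    rw [eq_top_iff, ← hsup]
    exact sup_le le_rfl (hd.trans hcomm)
  let ab : FreeGroup (Fin n) →* Multiplicative (Fin n → ℤ) :=
    FreeGroup.lift fun i => Multiplicative.ofAdd (Pi.single i 1)
  let L := rels.equivFin.symm
  have hkerψ : ∀ x, π x = 1 → ψ x ∈ σ.ker := fun x hx => by rw [MonoidHom.mem_ker, hσψ, hx]
  have hrel : ∀ i, π (L i : FreeGroup (Fin n)) = 1 := fun i =>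
    (QuotientGroup.eq_one_iff _).2 (subset_normalClosure (L i).2)
  let v : Fin rels.card → Additive A × (Fin n → ℤ) := fun i =>
    (Additive.ofMul (e ⟨ψ (L i), hkerψ _ (hrel i)⟩), (ab (L i)).toAdd)
  let Φ := Fintype.linearCombination ℤ v
  let K : Subgroup (FreeGroup (Fin n)) :=
    { carrier := {x | ∃ h : ψ x ∈ σ.ker, (Additive.ofMul (e ⟨ψ x, h⟩), (ab x).toAdd) ∈ LinearMap.range Φ}
      mul_mem' := by
        rintro x y ⟨hx, hx'⟩ ⟨hy, hy'⟩
        refine ⟨by rw [map_mul]; exact mul_mem hx hy, ?_⟩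
        convert add_mem hx' hy' using 1
        refine Prod.ext ?_ ?_
        · show Additive.ofMul (e ⟨ψ (x * y), _⟩) = Additive.ofMul (e ⟨ψ x, hx⟩) + Additive.ofMul (e ⟨ψ y, hy⟩)
          rw [← ofMul_mul, ← map_mul e]
          congr 2
          exact Subtype.ext (map_mul ψ x y)
        · show (ab (x * y)).toAdd = (ab x).toAdd + (ab y).toAdd
          rw [map_mul]; rfl
      one_mem' := ⟨by rw [map_one]; exact one_mem _, by
        convert zero_mem (LinearMap.range Φ) using 1
        refine Prod.ext ?_ ?_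
        · show Additive.ofMul (e ⟨ψ 1, _⟩) = 0
          rw [show (⟨ψ 1, _⟩ : σ.ker) = 1 from Subtype.ext (map_one ψ), map_one]; rfl
        · show (ab 1).toAdd = 0
          rw [map_one]; rfl⟩
      inv_mem' := by
        rintro x ⟨hx, hx'⟩
        refine ⟨by rw [map_inv]; exact inv_mem hx, ?_⟩
        convert neg_mem hx' using 1
        refine Prod.ext ?_ ?_
        · show Additive.ofMul (e ⟨ψ x⁻¹, _⟩) = -Additive.ofMul (e ⟨ψ x, hx⟩)
          rw [← ofMul_inv, ← map_inv e]
          congr 2
          exact Subtype.ext (map_inv ψ x)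
        · show (ab x⁻¹).toAdd = -(ab x).toAdd
          rw [map_inv]; rfl }
  have hKn : K.Normal := ⟨by
    rintro x ⟨hx, hx'⟩ g
    have h1 : ψ (g * x * g⁻¹) = ψ x := by
      rw [map_mul, map_mul, map_inv, mem_center_iff.1 (hc hx) (ψ g), mul_inv_cancel_right]
    refine ⟨by rw [h1]; exact hx, ?_⟩
    convert hx' using 1
    refine Prod.ext ?_ ?_
    · show Additive.ofMul (e ⟨ψ (g * x * g⁻¹), _⟩) = Additive.ofMul (e ⟨ψ x, hx⟩)
      congr 2
      exact Subtype.ext h1
    · show (ab (g * x * g⁻¹)).toAdd = (ab x).toAdd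
      congr 1
      rw [map_mul, map_mul, mul_comm (ab g), mul_assoc, ← map_mul, mul_inv_cancel, map_one, mul_one]⟩
  have hR : ∀ x, π x = 1 → x ∈ K := by
    intro x hx
    refine normalClosure_le_normal (N := K) ?_ ((QuotientGroup.eq_one_iff x).1 hx)
    intro y hy
    have hy1 : π y = 1 := (QuotientGroup.eq_one_iff y).2 (subset_normalClosure hy)
    refine ⟨hkerψ y hy1, LinearMap.mem_range.2 ⟨Pi.single (L.symm ⟨y, hy⟩) 1, ?_⟩⟩
    simp only [Φ, Fintype.linearCombination_apply_single, one_smul]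
    simp [v]
  refine rank_le_of_span Φ ?_ (Nat.card (PresentedGroup (rels : Set (FreeGroup (Fin n))))) Nat.card_pos.ne' ?_
  · intro a
    obtain ⟨y, hy⟩ := e.surjective a
    have hmap : (commutator (FreeGroup (Fin n))).map ψ = commutator Γ := by
      rw [_root_.commutator_def, _root_.commutator_def, map_commutator, map_top_of_surjective _ hψs]
    obtain ⟨x, hx, hxy⟩ := hmap.ge (hd y.2)
    have hπx : π x = 1 := by rw [← hσψ, hxy]; exact y.2
    obtain ⟨h1, h2⟩ := hR x hπx
    have hab0 : ab x = 1 := (Abelianization.commutator_subset_ker ab) hx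
    have hyx : (⟨ψ x, h1⟩ : σ.ker) = y := Subtype.ext hxy
    rw [hyx, hy, hab0] at h2
    exact h2
  · intro w
    rw [← Finset.univ_sum_single w, Finset.smul_sum]
    refine sum_mem fun i _ => ?_
    have hi : π ((FreeGroup.of i) ^ Nat.card (PresentedGroup (rels : Set (FreeGroup (Fin n))))) = 1 := by
      rw [map_pow, pow_card_eq_one']
    obtain ⟨h1, c, hc'⟩ := hR _ hi
    refine ⟨w i • c, ?_⟩
    rw [map_smul, LinearMap.comp_apply, hc', LinearMap.snd_apply]
    show w i • (ab (FreeGroup.of i ^ _)).toAdd = _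
    rw [map_pow, toAdd_pow, FreeGroup.lift_apply_of, toAdd_ofAdd]
    ext j
    rcases eq_or_ne j i with rfl | hji
    · simp [mul_comm]
    · simp [hji]

end CfsgLib.MultPres
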