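import Cfsg.Agent.FGSA.GTCriterion
import Cfsg.Agent.Fusion.InnerZJ
import Cfsg.Agent.ZJ.Constrained
import Cfsg.Agent.Solvable.CoprimeAct
import Cfsg.Agent.Solvable.Basics

/-!
A finite group with a nilpotent maximal subgroup of odd order (Thompson) or of class at most two
(Deskins, Janko) is solvable.
-/

set_option autoImplicit false
set_option linter.style.haveILetI false

universe u

namespace CfsgLib.NilMaximal

open Subgroup

variable {G : Type u} [Group G] [Finite G]

/-- A nilpotent maximal core-free subgroup is the normalizer of each of its nontrivial normal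
subgroups. -/
theorem normalizer_eq {M : Subgroup G} (hmax : IsCoatom M)
    (hcore : ∀ N : Subgroup G, N.Normal → N ≤ M → N = ⊥) {X : Subgroup G} (hX : X ≠ ⊥) (hXM : X ≤ M)
    (hMX : M ≤ normalizer (X : Set G)) : normalizer (X : Set G) = M := by
  rcases hmax.le_iff.1 hMX with h | h
  · exact absurd (hcore X (normalizer_eq_top_iff.1 h) hXM) hX
  · exact h

/-- The Sylow subgroup of a nilpotent subgroup, moved to the group, is normalised by it. -/
theorem le_normalizer_sylow {p : ℕ} [Fact p.Prime] (M : Subgroup G) (hnil : Group.IsNilpotent M)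
    (P : Sylow p M) : M ≤ normalizer (((P : Subgroup M).map M.subtype : Subgroup G) : Set G) := by
  haveI := hnil
  haveI : (P : Subgroup M).Normal := inferInstance
  intro m hm
  refine mem_normalizer_iff.2 fun y => ⟨?_, ?_⟩
  · rintro ⟨z, hz, rfl⟩
    exact ⟨⟨m, hm⟩ * z * ⟨m, hm⟩⁻¹, Normal.conj_mem inferInstance z hz _, rfl⟩
  · rintro ⟨z, hz, e⟩
    refine ⟨⟨m, hm⟩⁻¹ * z * ⟨m, hm⟩,
      (inferInstance : (P : Subgroup M).Normal).conj_mem' z hz _, ?_⟩
    simp only [map_mul, map_inv]
    rw [e]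
    simp [mul_assoc]

/-- A Sylow subgroup of a core-free nilpotent maximal subgroup is a Sylow subgroup of the group. -/
theorem exists_sylow {M : Subgroup G} (hmax : IsCoatom M) (hnil : Group.IsNilpotent M)
    (hcore : ∀ N : Subgroup G, N.Normal → N ≤ M → N = ⊥) {p : ℕ} [Fact p.Prime]
    (hpM : p ∣ Nat.card M) : ∃ S : Sylow p G, (S : Subgroup G) ≤ M ∧ (S : Subgroup G) ≠ ⊥ ∧
      M ≤ normalizer ((S : Subgroup G) : Set G) := by
  obtain ⟨P₀⟩ : Nonempty (Sylow p M) := inferInstance
  set P := (P₀ : Subgroup M).map M.subtype with hP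
  have hPp : IsPGroup p P := P₀.2.map _
  have hPM : P ≤ M := map_subtype_le _
  have hPne : P ≠ ⊥ := by
    intro e
    have h := P₀.dvd_card_of_dvd_card hpM
    rw [Nat.card_congr ((P₀ : Subgroup M).equivMapOfInjective _ M.subtype_injective).toEquiv,
      ← hP, e, Subgroup.card_bot] at h
    exact (Fact.out : p.Prime).not_dvd_one h
  have hMP := le_normalizer_sylow M hnil P₀
  have hNP := normalizer_eq hmax hcore hPne hPM hMP
  obtain ⟨S, hS⟩ := hPp.exists_le_sylow
  have hSP : (S : Subgroup G) = P := by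
    by_contra hne
    have hlt : P.subgroupOf S < normalizer ((P.subgroupOf S : Subgroup S) : Set S) := by
      haveI := S.2.isNilpotent
      refine Group.normalizerCondition_of_isNilpotent _
        (lt_top_iff_ne_top.2 fun e => hne (le_antisymm ?_ hS))
      exact subgroupOf_eq_top.1 e
    obtain ⟨y, hyN, hyP⟩ := SetLike.exists_of_lt hlt
    refine hyP ?_
    rw [mem_subgroupOf]
    have hyn : (y : G) ∈ normalizer (P : Set G) := by
      refine mem_normalizer_iff.2 fun x => ?_
      constructor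
      · intro hx
        exact (mem_normalizer_iff.1 hyN ⟨x, hS hx⟩).1 hx
      · intro hx
        have hxS : x ∈ (S : Subgroup G) := by
          have := mul_mem (mul_mem (inv_mem y.2) (hS hx)) y.2
          simpa [mul_assoc] using this
        exact (mem_normalizer_iff.1 hyN ⟨x, hxS⟩).2 hx
    rw [hNP] at hyn
    -- a p-element of M lies in P
    have hP₀n : (P₀ : Subgroup M).Normal := by haveI := hnil; infer_instance
    obtain ⟨k, hk⟩ := IsPGroup.iff_orderOf.1 S.2 y
    have hz : IsPGroup p (zpowers (⟨(y : G), hyn⟩ : M)) := IsPGroup.of_card (n := k) (by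
      rw [Nat.card_zpowers, Subgroup.orderOf_mk, Subgroup.orderOf_coe, hk])
    have := P₀.3 (hz.to_sup_of_normal_right P₀.2) le_sup_right
    exact ⟨⟨(y : G), hyn⟩, this ▸ mem_sup_left (mem_zpowers _), rfl⟩
  exact ⟨S, hSP ▸ hPM, hSP ▸ hPne, hSP ▸ hMP⟩

/-- The centre of the Thompson subgroup gives normal complements for odd primes. -/
theorem hasNormalPComplement_odd {M : Subgroup G} (hmax : IsCoatom M) (hnil : Group.IsNilpotent M)
    (hcore : ∀ N : Subgroup G, N.Normal → N ≤ M → N = ⊥) {p : ℕ} [Fact p.Prime] (hp : p ≠ 2)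
    (hpM : p ∣ Nat.card M) : Cfsg.HasNormalPComplement p G := by
  obtain ⟨S, hPM, hPne, hMP⟩ := exists_sylow hmax hnil hcore hpM
  refine CfsgLib.FGSA.GT.hasNormalPComplement hp S ?_
  have hPp : IsPGroup p (S : Subgroup G) := S.2
  set P : Subgroup G := (S : Subgroup G)
  have hZle : Cfsg.centerThompsonAOf P ≤ P := inf_le_left.trans (by
    rw [Cfsg.thompsonSubgroupAOf]
    exact map_subtype_le _)
  have hMZ : M ≤ normalizer ((Cfsg.centerThompsonAOf P : Subgroup G) : Set G) := by
    intro m hm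
    have e : P.map (MulAut.conj m).toMonoidHom = P := by
      refine eq_of_le_of_card_ge ?_ (le_of_eq (Nat.card_congr
        (P.equivMapOfInjective (MulAut.conj m).toMonoidHom (MulAut.conj m).injective).toEquiv))
      rintro _ ⟨x, hx, rfl⟩
      exact (mem_normalizer_iff.1 (hMP hm) x).1 hx
    have hz := CfsgLib.ZJ.centerThompsonAOf_map (MulAut.conj m).toMonoidHom P fun x _ hx =>
      (MulAut.conj m).injective (hx.trans (map_one _).symm)
    rw [e] at hz
    refine mem_normalizer_iff.2 fun x => ⟨fun hx => hz ▸ mem_map_of_mem (MulAut.conj m).toMonoidHom hx,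
      fun hx => ?_⟩
    rw [hz] at hx
    obtain ⟨y, hy, e'⟩ := hx
    exact (MulAut.conj m).injective e' ▸ hy
  have hNZ := normalizer_eq hmax hcore (CfsgLib.Fusion.centerThompsonAOf_ne_bot hPp hPne)
    (hZle.trans hPM) hMZ
  rw [hNZ]
  haveI := hnil
  exact CfsgLib.FGSA.GT.npc_of_isNilpotent

/-- A nilpotent core-free maximal subgroup of class at most two controls fusion. -/
theorem hasNormalPComplement_classTwo {M : Subgroup G} (hmax : IsCoatom M) (hnil : Group.IsNilpotent M)
    (hcl : Group.nilpotencyClass M ≤ 2)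
    (hcore : ∀ N : Subgroup G, N.Normal → N ≤ M → N = ⊥) {p : ℕ} [Fact p.Prime]
    (hpM : p ∣ Nat.card M) : Cfsg.HasNormalPComplement p G := by
  classical
  haveI := hnil
  obtain ⟨S, hSM, hSne, hMS⟩ := exists_sylow hmax hnil hcore hpM
  have hNS := normalizer_eq hmax hcore hSne hSM hMS
  have hp' : ∀ u ∈ M, (orderOf u).Coprime p → ∀ y ∈ (S : Subgroup G), u * y = y * u := by
    intro u hu huc y hy
    obtain ⟨k, hk⟩ := IsPGroup.iff_orderOf.1 S.2 ⟨y, hy⟩
    rw [Subgroup.orderOf_mk] at hk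
    exact congrArg Subtype.val (CfsgLib.FGSA.commute_of_coprime_orderOf (⟨u, hu⟩ : M) ⟨y, hSM hy⟩
      (by rw [Subgroup.orderOf_mk, Subgroup.orderOf_mk, hk]; exact huc.pow_right k)).eq
  have htop2 : Subgroup.upperCentralSeries M 2 = ⊤ := top_le_iff.1
    ((Subgroup.upperCentralSeries_nilpotencyClass (G := M)).ge.trans (Subgroup.upperCentralSeries_mono M hcl))
  have hcomm : ∀ x y : M, x * y * x⁻¹ * y⁻¹ ∈ center M := fun x y => by
    have hx : x ∈ Subgroup.upperCentralSeries M 2 := htop2 ▸ mem_top x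
    rw [Subgroup.mem_upperCentralSeries_succ_iff] at hx
    simpa only [Subgroup.upperCentralSeries_one, commutatorElement_def] using hx y
  refine CfsgLib.Fusion.hasNormalPComplement_of_localCondition fun Q hQ g hg hgc => ?_
  set N := normalizer (Q : Set G)
  set C := centralizer (Q : Set G)
  haveI hCn : (C.subgroupOf N).Normal := ⟨fun c' hc' g' => by
    rw [mem_subgroupOf] at hc' ⊢
    refine mem_centralizer_iff.2 fun y hy => ?_
    have h1 := mem_centralizer_iff.1 hc' _ ((mem_normalizer_iff''.1 g'.2 y).1 hy)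
    calc y * ((g' : G) * c' * (g' : G)⁻¹) = (g' : G) * (((g' : G)⁻¹ * y * g') * c') * (g' : G)⁻¹ := by group
      _ = ((g' : G) * c' * (g' : G)⁻¹) * y := by rw [h1]; group⟩
  set CN := C.subgroupOf N
  obtain ⟨T⟩ : Nonempty (Sylow p CN) := inferInstance
  -- a Sylow subgroup of N(Q) over T, moved into S
  obtain ⟨R, hT⟩ := (T.2.map CN.subtype).exists_le_sylow
  obtain ⟨S', hS'⟩ := (R.2.map N.subtype).exists_le_sylow
  obtain ⟨x, hx⟩ := MulAction.exists_smul_eq G S' S
  set c := MulAut.conj x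
  have hS'S : ∀ y ∈ (S' : Subgroup G), c y ∈ (S : Subgroup G) := fun y hy => by
    rw [← hx]
    exact mem_map_of_mem c.toMonoidHom hy
  have hQN : Q ≤ N := le_normalizer
  have hQS : ∀ y ∈ Q, c y ∈ (S : Subgroup G) := fun y hy => by
    refine hS'S y (hS' ⟨⟨y, hQN hy⟩, ?_, rfl⟩)
    haveI : (Q.subgroupOf N).Normal := normal_in_normalizer
    exact R.3 ((show IsPGroup p (Q.subgroupOf N) from
      hQ.comap_of_injective N.subtype N.subtype_injective).to_sup_of_normal_left R.2)
      le_sup_right ▸ mem_sup_left (show (⟨y, hQN hy⟩ : N) ∈ Q.subgroupOf N from hy)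
  set T' : Subgroup G := (((T : Subgroup CN).map CN.subtype).map N.subtype).map c.toMonoidHom
  have hT'S : T' ≤ (S : Subgroup G) := by
    rintro _ ⟨w, hw, rfl⟩
    exact hS'S w (hS' (map_mono hT hw))
  -- the centre of S lies in T'
  have hZT : ∀ z ∈ (S : Subgroup G), (∀ u ∈ (S : Subgroup G), z * u = u * z) → z ∈ T' := by
    intro z hz hzc
    have hzC : c.symm z ∈ C := mem_centralizer_iff.2 fun u hu => c.injective (by
      rw [map_mul, map_mul, MulEquiv.apply_symm_apply]
      exact (hzc _ (hQS u hu)).symm)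
    have hzN : c.symm z ∈ N := centralizer_le_normalizer _ hzC
    set z' : CN := ⟨⟨c.symm z, hzN⟩, hzC⟩
    have hcomm' : ∀ w ∈ (T : Subgroup CN), z' * w = w * z' := fun w hw => by
      refine Subtype.ext (Subtype.ext (c.injective ?_))
      show c (c.symm z * (w : N).1) = c ((w : N).1 * c.symm z)
      rw [map_mul, map_mul, MulEquiv.apply_symm_apply]
      exact hzc _ (hT'S ⟨_, ⟨_, ⟨w, hw, rfl⟩, rfl⟩, rfl⟩)
    obtain ⟨k, hk⟩ := IsPGroup.iff_orderOf.1 S.2 ⟨z, hz⟩
    rw [Subgroup.orderOf_mk] at hk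
    have hzp : IsPGroup p (zpowers z') := IsPGroup.of_card (n := k) (by
      rw [Nat.card_zpowers, ← hk, ← Subgroup.orderOf_coe, ← Subgroup.orderOf_coe]
      exact MulEquiv.orderOf_eq c.symm z)
    have hle : zpowers z' ≤ normalizer ((T : Subgroup CN) : Set CN) :=
      zpowers_le.2 (centralizer_le_normalizer _ (mem_centralizer_iff.2 fun w hw => (hcomm' w hw).symm))
    have hin : z' ∈ (T : Subgroup CN) :=
      T.3 (hzp.to_sup_of_normal_right' T.2 hle) le_sup_right ▸ mem_sup_left (mem_zpowers z')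
    exact ⟨c.symm z, ⟨_, ⟨z', hin, rfl⟩, rfl⟩, MulEquiv.apply_symm_apply c z⟩
  have hT'ne : T' ≠ ⊥ := by
    haveI := (nontrivial_iff_ne_bot _).2 hSne
    haveI := S.2.center_nontrivial
    obtain ⟨z, hz⟩ := exists_ne (1 : center (S : Subgroup G))
    intro e
    have := hZT (z : S).1 (z : S).2 fun u hu =>
      (congrArg Subtype.val (mem_center_iff.1 z.2 ⟨u, hu⟩)).symm
    rw [e, mem_bot] at this
    exact hz (Subtype.ext (Subtype.ext this))
  have hMT : M ≤ normalizer (T' : Set G) := by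
    have key : ∀ u ∈ M, ∀ t ∈ T', u * t * u⁻¹ ∈ T' := by
      intro u hu t ht
      have hd : u * t * u⁻¹ * t⁻¹ ∈ T' := by
        refine hZT _ (mul_mem ((mem_normalizer_iff.1 (hMS hu) t).1 (hT'S ht)) (inv_mem (hT'S ht)))
          fun v hv => ?_
        exact (congrArg Subtype.val (mem_center_iff.1 (hcomm ⟨u, hu⟩ ⟨t, hSM (hT'S ht)⟩) ⟨v, hSM hv⟩)).symm
      have := mul_mem hd ht
      rwa [inv_mul_cancel_right] at this
    intro u hu
    refine mem_normalizer_iff.2 fun t => ⟨key u hu t, fun h => ?_⟩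
    have := key u⁻¹ (inv_mem hu) _ h
    simpa [mul_assoc] using this
  have hNT := normalizer_eq hmax hcore hT'ne (hT'S.trans hSM) hMT
  -- Frattini argument
  have hgN : (⟨g, hg⟩ : N) ∈ normalizer (((T : Subgroup CN).map CN.subtype : Subgroup N) : Set N) ⊔ CN := by
    rw [Sylow.normalizer_sup_eq_top T]
    exact mem_top _
  rw [sup_comm, mem_sup_of_normal_left] at hgN
  obtain ⟨d, hd, m, hm, hdm⟩ := hgN
  have hmM : c (m : G) ∈ M := by
    rw [← hNT]
    refine mem_normalizer_iff.2 fun t => ?_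
    constructor
    · rintro ⟨_, ⟨w, hw, rfl⟩, rfl⟩
      exact ⟨_, ⟨m * w * m⁻¹, (mem_normalizer_iff.1 hm w).1 hw, rfl⟩, by simp [mul_assoc]⟩
    · rintro ⟨_, ⟨w, hw, rfl⟩, e⟩
      refine ⟨_, ⟨m⁻¹ * w * m, (mem_normalizer_iff''.1 hm w).1 hw, rfl⟩, c.injective.eq_iff.2 rfl |>.trans ?_⟩
      have e' : c (w : G) = c (m : G) * t * (c (m : G))⁻¹ := e
      show c ((m : G)⁻¹ * (w : G) * (m : G)) = t
      rw [map_mul, map_mul, map_inv, e']
      group
  obtain ⟨e, he⟩ : ∃ e : ℕ, (orderOf (c (m : G)) / p ^ (orderOf (c (m : G))).factorization p).Coprime p ∧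
      e = p ^ (orderOf (c (m : G))).factorization p :=
    ⟨_, (Nat.coprime_ordCompl Fact.out (orderOf_pos _).ne').symm, rfl⟩
  have hme : (m : G) ^ e ∈ C := by
    refine mem_centralizer_iff.2 fun u hu => c.injective ?_
    rw [map_mul, map_mul, map_pow]
    refine (hp' _ (pow_mem hmM e) ?_ _ (hQS u hu)).symm
    rw [orderOf_pow_of_dvd (by rw [he.2]; exact pow_ne_zero _ (Fact.out : p.Prime).ne_zero)
      (he.2 ▸ Nat.ordProj_dvd _ _), he.2]
    exact he.1
  have hge : ((⟨g, hg⟩ : N) : N ⧸ CN) ^ e = 1 := by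
    rw [← hdm, QuotientGroup.mk_mul, (QuotientGroup.eq_one_iff d).2 hd, one_mul,
      ← QuotientGroup.mk_pow, QuotientGroup.eq_one_iff]
    exact hme
  have h1 : orderOf ((⟨g, hg⟩ : N) : N ⧸ CN) ∣ orderOf g := by
    rw [← Subgroup.orderOf_mk g hg]
    exact orderOf_map_dvd (QuotientGroup.mk' CN) _
  have h2 := Nat.eq_one_of_dvd_coprimes (hgc.pow_right _) h1 (he.2 ▸ orderOf_dvd_of_pow_eq_one hge)
  rw [orderOf_eq_one_iff, QuotientGroup.eq_one_iff] at h2
  exact h2

/-- Solvability from a nilpotent maximal subgroup of odd order or of class at most two. -/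
theorem isSolvable : ∀ (n : ℕ) (G : Type u) [Group G] [Finite G], Nat.card G = n →
    ∀ M : Subgroup G, IsCoatom M → Group.IsNilpotent M → (Odd (Nat.card M) ∨ Group.nilpotencyClass M ≤ 2) →
      Group.IsSolvable G := by
  intro n
  induction n using Nat.strong_induction_on with
  | _ n ih =>
  intro G _ _ hn M hmax hnil hgood
  classical
  subst hn
  by_cases hcore : ∀ N : Subgroup G, N.Normal → N ≤ M → N = ⊥
  swap
  · push Not at hcore
    obtain ⟨N, hNn, hNM, hN⟩ := hcore
    set f := QuotientGroup.mk' N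
    have hf : Function.Surjective f := QuotientGroup.mk'_surjective N
    have hcm : (M.map f).comap f = M := by
      rw [comap_map_eq, QuotientGroup.ker_mk', sup_eq_left.2 hNM]
    have hmax' : IsCoatom (M.map f) := by
      refine ⟨fun e => hmax.1 (by rw [← hcm, e, comap_top]), fun X hX => ?_⟩
      have h1 : M < X.comap f := hcm ▸ (comap_lt_comap_of_surjective hf).2 hX
      exact comap_injective hf (by rw [hmax.2 _ h1, comap_top])
    haveI := hnil
    haveI hnil' : Group.IsNilpotent (M.map f) :=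
      nilpotent_of_surjective (f.subgroupMap M) (f.subgroupMap_surjective M)
    haveI : Group.IsSolvable N := by
      haveI : Group.IsSolvable M := inferInstance
      exact Group.isSolvable_of_isSolvable_injective (inclusion_injective hNM)
    haveI := ih _ (CfsgLib.Solvable.card_quotient_lt hN) (G ⧸ N) rfl (M.map f) hmax' hnil'
      (hgood.imp (fun h => h.of_dvd_nat (M.card_map_dvd f)) fun h =>
        (Group.nilpotencyClass_le_of_surjective (f.subgroupMap M) (f.subgroupMap_surjective M)).trans h)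
    exact Group.isSolvable_of_ker_le_range N.subtype f (by
      rw [QuotientGroup.ker_mk', N.range_subtype])
  rcases eq_or_ne M ⊥ with rfl | hM
  · haveI : IsCyclic G := by
      obtain ⟨g, hg⟩ : ∃ g : G, g ≠ 1 := by
        by_contra h
        push Not at h
        exact hmax.1 (eq_top_iff.2 fun x _ => mem_bot.2 (h x))
      refine ⟨⟨g, fun x => mem_zpowers_iff.1 ?_⟩⟩
      rw [hmax.2 (zpowers g) (bot_lt_iff_ne_bot.2 fun e => hg (zpowers_eq_bot.1 e))]
      exact mem_top x
    exact Group.isSolvable_of_comm fun a b => (IsCyclic.commGroup (α := G)).mul_comm a b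
  -- the complement
  set S := (Nat.card M).primeFactors
  have hS : ∀ p ∈ S, ¬ p ∣ M.index ∧ Cfsg.HasNormalPComplement p G := by
    intro p hp
    haveI := Fact.mk (Nat.prime_of_mem_primeFactors hp)
    have hpM := Nat.dvd_of_mem_primeFactors hp
    refine ⟨fun hd => ?_, ?_⟩
    · obtain ⟨T, hT, -, -⟩ := exists_sylow hmax hnil hcore hpM
      exact T.not_dvd_index (hd.trans (index_dvd_of_le hT))
    · rcases hgood with hodd | hcl
      · refine hasNormalPComplement_odd hmax hnil hcore (fun e => ?_) hpM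
        exact (Nat.not_even_iff_odd.2 hodd) (even_iff_two_dvd.2 (e ▸ hpM))
      · exact hasNormalPComplement_classTwo hmax hnil hcl hcore hpM
  have hC : ∀ p : S, ∃ C : Subgroup G, C.Normal ∧ ¬ (p : ℕ) ∣ Nat.card C ∧ ∀ q : ℕ, q.Prime →
      q ≠ p → ¬ q ∣ C.index := by
    intro p
    haveI := Fact.mk (Nat.prime_of_mem_primeFactors p.2)
    obtain ⟨P, C, hC, hcomp⟩ := (hS p p.2).2
    refine ⟨C, hC, ?_, fun q hq hqp hd => ?_⟩
    · intro hd
      rw [← hcomp.index_eq_card] at hd
      exact P.not_dvd_index hd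
    · rw [hcomp.symm.index_eq_card] at hd
      rw [P.card_eq_multiplicity] at hd
      exact hqp ((Nat.prime_dvd_prime_iff_eq hq Fact.out).1 (hq.dvd_of_dvd_pow hd))
  choose C hCn hCc hCi using hC
  set K : Subgroup G := ⨅ p : S, C p
  haveI : K.Normal := normal_iInf_normal hCn
  have hKcop : (Nat.card M).Coprime (Nat.card K) := Nat.coprime_of_dvd fun p hp h1 h2 =>
    hCc ⟨p, Nat.mem_primeFactors.2 ⟨hp, h1, Nat.card_pos.ne'⟩⟩ (h2.trans (card_dvd_of_le (iInf_le C _)))
  -- a prime outside M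
  obtain ⟨q, hq, hqd⟩ := Nat.exists_prime_and_dvd (fun e => hmax.1 (index_eq_one.1 e))
  haveI := Fact.mk hq
  have hqS : q ∉ S := fun h => (hS q h).1 hqd
  obtain ⟨Q⟩ : Nonempty (Sylow q G) := inferInstance
  have hQK : (Q : Subgroup G) ≤ K := by
    refine le_iInf fun p y hy => ?_
    haveI := hCn p
    rw [← QuotientGroup.eq_one_iff, ← orderOf_eq_one_iff]
    obtain ⟨j, hj⟩ := IsPGroup.iff_orderOf.1 Q.2 ⟨y, hy⟩
    rw [Subgroup.orderOf_mk] at hj
    have h1 := orderOf_map_dvd (QuotientGroup.mk' (C p)) y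
    rw [hj] at h1
    have h2 : orderOf (y : G ⧸ C p) ∣ (C p).index := (C p).index_eq_card ▸ orderOf_dvd_natCard _
    refine Nat.eq_one_of_dvd_coprimes (Nat.Coprime.pow_left j ?_) h1 h2
    exact (Nat.Prime.coprime_iff_not_dvd hq).2 (hCi p q hq fun e => hqS (e ▸ p.2))
  haveI := hnil
  haveI : Group.IsSolvable M := inferInstance
  obtain ⟨R, hR⟩ := CfsgLib.CoprimeAct.exists_invariant_sylow
    (show M ≤ normalizer (K : Set G) from normalizer_eq_top K ▸ le_top) hKcop (Or.inl inferInstance) q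
  set R' := (R : Subgroup K).map K.subtype
  have hR'ne : R' ≠ ⊥ := by
    intro e
    have hqK : q ∣ Nat.card K :=
      (Q.dvd_card_of_dvd_card (hqd.trans M.index_dvd_card)).trans (card_dvd_of_le hQK)
    have h := R.dvd_card_of_dvd_card hqK
    rw [Nat.card_congr ((R : Subgroup K).equivMapOfInjective _ K.subtype_injective).toEquiv] at h
    rw [show (R : Subgroup K).map K.subtype = ⊥ from e, Subgroup.card_bot] at h
    exact hq.not_dvd_one h
  have hR'M : ¬ R' ≤ M := fun h => hR'ne ((eq_bot_iff_forall _).2 fun y hy =>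
    orderOf_eq_one_iff.1 (Nat.eq_one_of_dvd_coprimes hKcop (Subgroup.orderOf_dvd_natCard M (h hy))
      (Subgroup.orderOf_dvd_natCard K (map_subtype_le _ hy))))
  have htop : R' ⊔ M = ⊤ := hmax.2 _ (lt_of_le_of_ne le_sup_right fun e => hR'M (e.symm ▸ le_sup_left))
  haveI hRn : R'.Normal := normalizer_eq_top_iff.1 (top_le_iff.1 (htop ▸ sup_le le_normalizer hR))
  haveI : Group.IsNilpotent R' := (R.2.map K.subtype).isNilpotent
  haveI : Group.IsSolvable (G ⧸ R') := by
    refine Group.isSolvable_of_surjective (f := (QuotientGroup.mk' R').comp M.subtype) fun x => ?_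
    obtain ⟨g, rfl⟩ := QuotientGroup.mk_surjective x
    obtain ⟨r, hr, m, hm, rfl⟩ := mem_sup_of_normal_left.1 (htop ▸ mem_top g : g ∈ R' ⊔ M)
    refine ⟨⟨m, hm⟩, ?_⟩
    show (m : G ⧸ R') = ((r * m : G) : G ⧸ R')
    rw [QuotientGroup.mk_mul, (QuotientGroup.eq_one_iff r).2 hr, one_mul]
  exact Group.isSolvable_of_ker_le_range R'.subtype (QuotientGroup.mk' R') (by
    rw [QuotientGroup.ker_mk', R'.range_subtype])

end CfsgLib.NilMaximal
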