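import Mathlib.GroupTheory.Sylow
import Mathlib.GroupTheory.Solvable
import Mathlib.GroupTheory.Nilpotent
import Mathlib.GroupTheory.QuotientGroup.Basic
import Mathlib.GroupTheory.OrderOfElement
import Mathlib.FieldTheory.Finite.Basic
import Cfsg.Prelude.Def_SolvableStructure

/-!
# Order types detect Sylow towers

`BigCount G` says that, for every `k`, the number of elements all of whose order's prime divisors
exceed `k` equals the corresponding part of `|G|`. It holds in supersolvable groups, depends only
on the order type, and forces solvability.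
-/

namespace CfsgLib.OrderType

universe u

/-- All prime divisors of `m` exceed `k`. -/
def Big (k m : ℕ) : Prop := ∀ r : ℕ, r.Prime → r ∣ m → k < r

/-- The counting property of groups with an ordered Sylow tower. -/
def BigCount (G : Type*) [Group G] : Prop :=
  ∀ k : ℕ, ∃ b : ℕ, Nat.card G = Nat.card {x : G // Big k (orderOf x)} * b ∧
    Big k (Nat.card {x : G // Big k (orderOf x)}) ∧ ∀ r : ℕ, r.Prime → r ∣ b → r ≤ k

theorem Big.of_dvd {k m n : ℕ} (h : Big k m) (hd : n ∣ m) : Big k n :=
  fun r hr hrn => h r hr (hrn.trans hd)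

theorem Big.mul {k m n : ℕ} (hm : Big k m) (hn : Big k n) : Big k (m * n) := fun r hr h =>
  (hr.dvd_mul.1 h).elim (hm r hr) (hn r hr)

theorem big_one (k : ℕ) : Big k 1 := fun _ hr h => absurd h hr.not_dvd_one

theorem Big.coprime {k m n : ℕ} (hm : Big k m) (hn : ∀ r : ℕ, r.Prime → r ∣ n → r ≤ k) :
    m.Coprime n := Nat.coprime_of_dvd fun r hr hrm hrn => (hn r hr hrn).not_gt (hm r hr hrm)

variable {G : Type*} [Group G]

/-- If all primes of `|N|` exceed `k`, the big elements are the full preimage. -/
theorem card_big_mul (N : Subgroup G) [N.Normal] {k : ℕ} (hN : Big k (Nat.card N)) :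
    Nat.card {x : G // Big k (orderOf x)} =
      Nat.card {x : G ⧸ N // Big k (orderOf x)} * Nat.card N := by
  have hiff : ∀ x : G, Big k (orderOf x) ↔ Big k (orderOf (x : G ⧸ N)) := by
    refine fun x => ⟨fun h => h.of_dvd (orderOf_map_dvd (QuotientGroup.mk' N) x), fun h => ?_⟩
    refine (h.mul hN).of_dvd (orderOf_dvd_of_pow_eq_one ?_)
    rw [pow_mul]
    have : x ^ orderOf (x : G ⧸ N) ∈ N := (QuotientGroup.eq_one_iff _).1 (by
      rw [QuotientGroup.mk_pow, pow_orderOf_eq_one])
    exact congrArg Subtype.val (pow_card_eq_one' (x := (⟨_, this⟩ : N)))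
  rw [Nat.card_congr (Equiv.subtypeEquivRight hiff)]
  rw [show {x : G // Big k (orderOf (x : G ⧸ N))} =
    (QuotientGroup.mk ⁻¹' {x : G ⧸ N | Big k (orderOf x)} : Set G) from rfl]
  rw [Nat.card_congr (QuotientGroup.preimageMkEquivSubgroupProdSet N _), Nat.card_prod, mul_comm]
  rfl

theorem bigCount_congr {H : Type*} [Group H] [Finite G] [Finite H]
    (hT : ∀ m : ℕ, Nat.card {g : G // orderOf g = m} = Nat.card {h : H // orderOf h = m})
    (hG : BigCount G) : BigCount H := by
  classical
  have := Fintype.ofFinite G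
  have := Fintype.ofFinite H
  have key : ∀ P : ℕ → Prop,
      Nat.card {g : G // P (orderOf g)} = Nat.card {h : H // P (orderOf h)} := fun P => by
    refine Nat.card_congr ?_
    let e : G ≃ H := Equiv.ofFiberEquiv (f := orderOf) (g := orderOf) fun m =>
      Classical.choice (Fintype.card_eq.1 (by simpa [Nat.card_eq_fintype_card] using hT m) |>.elim
        fun e => ⟨e⟩)
    exact e.subtypeEquiv fun g => by rw [show orderOf (e g) = orderOf g from Equiv.ofFiberEquiv_map _ g]
  intro k
  obtain ⟨b, h1, h2, h3⟩ := hG k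
  have hc : Nat.card G = Nat.card H := by
    simpa [Nat.card_congr (Equiv.subtypeUnivEquiv fun _ : G => trivial),
      Nat.card_congr (Equiv.subtypeUnivEquiv fun _ : H => trivial)] using key fun _ => True
  rw [key (Big k)] at h1 h2
  exact ⟨b, hc ▸ h1, h2, h3⟩

theorem bigCount_of_supersolvable (n : ℕ) : ∀ (G : Type u) [Group G] [Finite G], Nat.card G ≤ n →
    Cfsg.IsSupersolvable G → BigCount G := by
  induction n with
  | zero => intro G _ _ h; exact absurd h (by simpa using Nat.card_pos (α := G).ne')
  | succ n ih =>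
    intro G _ _ hn hG
    rcases subsingleton_or_nontrivial G with hs | hnt
    · intro k
      have : Nat.card {x : G // Big k (orderOf x)} = 1 := by
        have : Nonempty {x : G // Big k (orderOf x)} := ⟨⟨1, by simpa using big_one k⟩⟩
        exact Nat.card_of_subsingleton ⟨1, by simpa using big_one k⟩
      exact ⟨1, by simp [this], this ▸ big_one k,
        fun r hr h => absurd h hr.not_dvd_one⟩
    obtain ⟨m, H, h0, hl, hnorm, hstep⟩ := hG
    obtain ⟨i, hi, g, hg⟩ : ∃ i : Fin m, H i.succ ≠ ⊥ ∧ ∃ g : G, H i.succ = Subgroup.zpowers g := by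
      by_contra! hcon
      have hall : ∀ j : Fin (m + 1), H j = ⊥ := fun j => by
        induction j using Fin.induction with
        | zero => exact h0
        | succ i ihi =>
          by_contra hne
          obtain ⟨g, hg⟩ := hstep i
          exact hcon i hne g (by rw [hg, ihi, bot_sup_eq])
      exact top_ne_bot (hl ▸ hall (Fin.last m))
    have hg1 : g ≠ 1 := fun h => hi (by simp [hg, h])
    obtain ⟨p, hp, hpd⟩ := Nat.exists_prime_and_dvd (n := orderOf g) (by simpa using hg1)
    obtain ⟨x, hxg, hx⟩ : ∃ x ∈ Subgroup.zpowers g, orderOf x = p :=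
      ⟨g ^ (orderOf g / p), Subgroup.npow_mem_zpowers g _,
        orderOf_pow_orderOf_div (orderOf_pos g).ne' hpd⟩
    set N := Subgroup.zpowers x
    have hNn : N.Normal := ⟨fun y hy c => by
      obtain ⟨t, ht⟩ := hg ▸ (hnorm i.succ).conj_mem g (hg ▸ Subgroup.mem_zpowers g) c
      obtain ⟨j, rfl⟩ := hxg
      obtain ⟨l, rfl⟩ := hy
      change g ^ t = _ at ht
      change c * (g ^ j) ^ l * c⁻¹ ∈ N
      refine ⟨t * l, ?_⟩
      change (g ^ j) ^ (t * l) = _
      rw [← conj_zpow, ← conj_zpow, ← ht, ← zpow_mul, ← zpow_mul, ← zpow_mul]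
      congr 1
      ring⟩
    have hNcard : Nat.card N = p := by rw [Nat.card_zpowers, hx]
    have hQs : Cfsg.IsSupersolvable (G ⧸ N) := by
      refine ⟨m, fun j => (H j).map (QuotientGroup.mk' N), by simp [h0], ?_, fun j => ?_, fun j => ?_⟩
      · simp [hl, Subgroup.map_top_of_surjective _ (QuotientGroup.mk'_surjective N)]
      · exact (hnorm j).map _ (QuotientGroup.mk'_surjective N)
      · obtain ⟨g, hg⟩ := hstep j
        exact ⟨(g : G ⧸ N), by simp [hg, Subgroup.map_sup, MonoidHom.map_zpowers]⟩
    have hQc : Nat.card G = Nat.card (G ⧸ N) * p := by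
      rw [← hNcard, Subgroup.card_eq_card_quotient_mul_card_subgroup N]
    have hQ : BigCount (G ⧸ N) := ih _ (by
      have h2 := hp.two_le
      have h3 : Nat.card (G ⧸ N) * 2 ≤ Nat.card G := hQc ▸ Nat.mul_le_mul_left _ h2
      have := Nat.card_pos (α := G ⧸ N)
      omega) hQs
    intro k
    obtain ⟨b, h1, h2, h3⟩ := hQ k
    by_cases hpk : k < p
    · have hNbig : Big k (Nat.card N) := fun r hr h => by
        rw [hNcard, Nat.prime_dvd_prime_iff_eq hr hp] at h; omega
      refine ⟨b, ?_, ?_, h3⟩
      · rw [card_big_mul N hNbig, hQc, h1, hNcard]; ring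
      · rw [card_big_mul N hNbig]; exact h2.mul hNbig
    push Not at hpk
    have hbigp : ∀ {o : ℕ}, Big k o → o.Coprime p := fun ho =>
      ho.coprime fun r hr hrp => by rw [Nat.prime_dvd_prime_iff_eq hr hp] at hrp; omega
    have hcomm : ∀ y : G, Big k (orderOf (y : G ⧸ N)) → y * x = x * y := by
      intro y hy
      have : Fact p.Prime := ⟨hp⟩
      obtain ⟨t, ht⟩ := hNn.conj_mem x (Subgroup.mem_zpowers x) y
      let o := orderOf (y : G ⧸ N)
      have hyo : y ^ o ∈ N := (QuotientGroup.eq_one_iff _).1 (by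
        rw [QuotientGroup.mk_pow, pow_orderOf_eq_one])
      have hpow : ∀ n : ℕ, y ^ n * x * (y ^ n)⁻¹ = x ^ (t ^ n) := by
        intro n
        induction n with
        | zero => simp
        | succ n ihn =>
          have hstep : y ^ (n + 1) * x * (y ^ (n + 1))⁻¹ = y * (y ^ n * x * (y ^ n)⁻¹) * y⁻¹ := by
            rw [pow_succ']; group
          rw [hstep, ihn, ← conj_zpow, ← show x ^ t = y * x * y⁻¹ from ht, ← zpow_mul, pow_succ']
      have hto : ((t : ZMod p)) ^ o = 1 := by
        have hfix : y ^ o * x * (y ^ o)⁻¹ = x := by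
          obtain ⟨l, hl⟩ := hyo
          rw [← show x ^ l = y ^ o from hl]; group
        rw [hpow o] at hfix
        have := zpow_eq_zpow_iff_modEq.1 (hfix.trans (zpow_one x).symm)
        rw [hx] at this
        have := (ZMod.intCast_eq_intCast_iff _ _ _).2 this
        simpa using this
      have hco : o.Coprime (p - 1) := hy.coprime fun r hr hrp =>
        (Nat.le_of_dvd (Nat.sub_pos_of_lt hp.one_lt) hrp).trans (by omega)
      have ht0 : (t : ZMod p) ≠ 0 := fun h => by
        rw [h, zero_pow (orderOf_pos _).ne'] at hto; exact zero_ne_one hto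
      have ht1 : (t : ZMod p) = 1 := orderOf_eq_one_iff.1 (Nat.eq_one_of_dvd_coprimes hco
        (orderOf_dvd_of_pow_eq_one hto)
        (orderOf_dvd_of_pow_eq_one (ZMod.pow_card_sub_one_eq_one ht0)))
      have hxt : x ^ t = x := by
        conv_rhs => rw [← zpow_one x]
        rw [zpow_eq_zpow_iff_modEq, hx, ← ZMod.intCast_eq_intCast_iff]
        simpa using ht1
      rw [show x ^ t = y * x * y⁻¹ from ht] at hxt
      calc y * x = y * x * y⁻¹ * y := by group
        _ = x * y := by rw [hxt]
    have hbij : Function.Bijective (fun y : {y : G // Big k (orderOf y)} =>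
        (⟨(y.1 : G ⧸ N), y.2.of_dvd (orderOf_map_dvd (QuotientGroup.mk' N) y.1)⟩ :
          {y : G ⧸ N // Big k (orderOf y)})) := by
      constructor
      · rintro ⟨y, hy⟩ ⟨z, hz⟩ h
        obtain ⟨l, hl⟩ := QuotientGroup.eq.1 (congrArg Subtype.val h)
        change x ^ l = y⁻¹ * z at hl
        refine Subtype.ext ?_
        have hc : Commute y z := by
          have hyx : Commute y x := hcomm y (hy.of_dvd (orderOf_map_dvd (QuotientGroup.mk' N) y))
          rw [show z = y * x ^ l by rw [hl]; group]
          exact (Commute.refl y).mul_right (hyx.zpow_right l)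
        have h1 : (y⁻¹ * z) ^ (orderOf y * orderOf z) = 1 := by
          rw [hc.inv_left.mul_pow, inv_pow, pow_mul, pow_orderOf_eq_one, pow_mul',
            pow_orderOf_eq_one]
          simp
        have h2 : (y⁻¹ * z) ^ p = 1 := by
          rw [← hl, ← zpow_natCast, ← zpow_mul, mul_comm, zpow_mul, zpow_natCast, ← hx,
            pow_orderOf_eq_one, one_zpow]
        have h3 := pow_gcd_eq_one.2 ⟨h1, h2⟩
        rw [Nat.coprime_iff_gcd_eq_one.1 (hbigp (hy.mul hz)), pow_one, inv_mul_eq_one] at h3
        exact h3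
      · rintro ⟨z, hz⟩
        obtain ⟨y, rfl⟩ := QuotientGroup.mk'_surjective N z
        obtain ⟨u, hu⟩ := exists_pow_eq_self_of_coprime (x := (y : G ⧸ N)) (hbigp hz).symm
        refine ⟨⟨(y ^ p) ^ u, hz.of_dvd (orderOf_dvd_of_pow_eq_one ?_)⟩, ?_⟩
        · have hyo : y ^ orderOf (y : G ⧸ N) ∈ N := (QuotientGroup.eq_one_iff _).1 (by
            rw [QuotientGroup.mk_pow, pow_orderOf_eq_one])
          obtain ⟨l, hl⟩ := hyo
          change x ^ l = y ^ orderOf (y : G ⧸ N) at hl
          change ((y ^ p) ^ u) ^ orderOf (y : G ⧸ N) = 1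
          have hx1 : x ^ (p : ℤ) = 1 := by rw [zpow_natCast, ← hx, pow_orderOf_eq_one]
          rw [pow_right_comm, pow_right_comm y, ← hl, ← zpow_natCast (x ^ l) p, ← zpow_mul, mul_comm,
            zpow_mul, hx1, one_zpow, one_pow]
        · exact Subtype.ext (by simpa using hu)
    have hce := Nat.card_eq_of_bijective _ hbij
    refine ⟨b * p, ?_, hce ▸ h2, fun r hr h => (hr.dvd_mul.1 h).elim (h3 r hr) fun h => ?_⟩
    · rw [hQc, h1, hce]; ring
    · rw [Nat.prime_dvd_prime_iff_eq hr hp] at h; omega

theorem isSolvable_of_bigCount (n : ℕ) : ∀ (H : Type u) [Group H] [Finite H], Nat.card H ≤ n →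
    BigCount H → Group.IsSolvable H := by
  classical
  induction n with
  | zero => intro H _ _ h; exact absurd h (by simpa using Nat.card_pos (α := H).ne')
  | succ n ih =>
    intro H _ _ hn hH
    rcases subsingleton_or_nontrivial H with hs | hnt
    · exact Group.isSolvable_of_comm fun a b => Subsingleton.elim _ _
    have hne : (Nat.card H).primeFactors.Nonempty := Nat.nonempty_primeFactors.2
      (Finite.one_lt_card)
    set q := (Nat.card H).primeFactors.max' hne
    have hq : q.Prime := Nat.prime_of_mem_primeFactors (Finset.max'_mem _ hne)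
    have hqd : q ∣ Nat.card H := Nat.dvd_of_mem_primeFactors (Finset.max'_mem _ hne)
    have hmax : ∀ r : ℕ, r.Prime → r ∣ Nat.card H → r ≤ q := fun r hr h =>
      Finset.le_max' _ r (Nat.mem_primeFactors.2 ⟨hr, h, Nat.card_pos.ne'⟩)
    have : Fact q.Prime := ⟨hq⟩
    let P : Sylow q H := default
    obtain ⟨b, h1, h2, h3⟩ := hH (q - 1)
    have hPset : ((P : Subgroup H) : Set H) = {x : H | Big (q - 1) (orderOf x)} := by
      refine Set.eq_of_subset_of_ncard_le (fun x hx r hr hrx => ?_) ?_ (Set.toFinite _)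
      · obtain ⟨e, he⟩ := (IsPGroup.iff_orderOf.1 P.isPGroup') ⟨x, hx⟩
        rw [Subgroup.orderOf_mk] at he
        rw [he] at hrx
        have := (Nat.prime_dvd_prime_iff_eq hr hq).1 (hr.dvd_of_dvd_pow hrx)
        have := hq.pos
        omega
      · rw [← Nat.card_coe_set_eq, ← Nat.card_coe_set_eq]
        have : Nonempty {x : H | Big (q - 1) (orderOf x)} := ⟨⟨1, by simp [big_one]⟩⟩
        refine Nat.le_of_dvd Nat.card_pos ?_
        have hqe := Nat.eq_prime_pow_of_unique_prime_dvd (p := q) (n := Nat.card {x : H | Big (q - 1) (orderOf x)})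
          Nat.card_pos.ne' fun {r} hr hrd => le_antisymm (hmax r hr (hrd.trans ⟨b, h1⟩))
            (by have := h2 r hr hrd; omega)
        change Nat.card {x : H | Big (q - 1) (orderOf x)} ∣ Nat.card (P : Subgroup H)
        rw [hqe]
        refine P.pow_dvd_card_of_pow_dvd_card ?_
        rw [← hqe]
        exact ⟨b, h1⟩
    have hPn : (P : Subgroup H).Normal := ⟨fun x hx g => by
      rw [← SetLike.mem_coe] at hx ⊢
      rw [hPset, Set.mem_ofPred_eq] at hx ⊢
      rwa [show orderOf (g * x * g⁻¹) = orderOf x from (MulAut.conj g).orderOf_eq x]⟩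
    have : Group.IsNilpotent (P : Subgroup H) := P.isPGroup'.isNilpotent
    have : Group.IsSolvable (P : Subgroup H) := IsNilpotent.to_isSolvable
    have hQc := Subgroup.card_eq_card_quotient_mul_card_subgroup (P : Subgroup H)
    have : Group.IsSolvable (H ⧸ (P : Subgroup H)) := by
      refine ih _ ?_ fun k => ?_
      · have h2 : 2 ≤ Nat.card (P : Subgroup H) := hq.two_le.trans
          (Nat.le_of_dvd Nat.card_pos (P.dvd_card_of_dvd_card hqd))
        have h3 : Nat.card (H ⧸ (P : Subgroup H)) * 2 ≤ Nat.card H :=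
          hQc ▸ Nat.mul_le_mul_left _ h2
        have := Nat.card_pos (α := H ⧸ (P : Subgroup H))
        omega
      · obtain ⟨e, he⟩ := IsPGroup.iff_card.1 P.isPGroup'
        rcases lt_or_ge k q with hkq | hkq
        · have hPb : Big k (Nat.card (P : Subgroup H)) := fun r hr h => by
            rw [he] at h
            have := (Nat.prime_dvd_prime_iff_eq hr hq).1 (hr.dvd_of_dvd_pow h)
            omega
          obtain ⟨b, h1, h2, h3⟩ := hH k
          rw [card_big_mul (P : Subgroup H) hPb] at h1 h2
          refine ⟨b, Nat.eq_of_mul_eq_mul_right (Nat.card_pos (α := (P : Subgroup H))) ?_,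
            h2.of_dvd (dvd_mul_right _ _), h3⟩
          rw [← hQc, h1]; ring
        · have h1 : ∀ y : H ⧸ (P : Subgroup H), Big k (orderOf y) ↔ y = 1 := fun y =>
            ⟨fun hy => orderOf_eq_one_iff.1 (Nat.eq_one_iff_not_exists_prime_dvd.2 fun r hr h => by
              have := hy r hr h
              have := hmax r hr (h.trans ((orderOf_dvd_natCard y).trans
                (Subgroup.index_dvd_card _)))
              omega), fun hy => by simpa [hy] using big_one k⟩
          have hc : Nat.card {y : H ⧸ (P : Subgroup H) // Big k (orderOf y)} = 1 := by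
            rw [Nat.card_congr (Equiv.subtypeEquivRight h1)]; simp
          refine ⟨Nat.card (H ⧸ (P : Subgroup H)), by simp [hc], hc ▸ big_one k,
            fun r hr h => (hmax r hr (h.trans (Subgroup.index_dvd_card _))).trans hkq⟩
    exact (Group.isSolvable_iff_subgroup_quotient (P : Subgroup H)).2 ⟨‹_›, ‹_›⟩

end CfsgLib.OrderType
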