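import Mathlib.GroupTheory.Sylow
import Mathlib.GroupTheory.SpecificGroups.Cyclic
import Mathlib.GroupTheory.SpecificGroups.Dihedral
import Mathlib.NumberTheory.Multiplicity
import Mathlib.GroupTheory.Transfer
import Mathlib.Tactic
import Cfsg.Agent.Classical.PSLTwoTorus

/-!
# Groups with a normal cyclic Sylow subgroup and cyclic quotient
-/

set_option autoImplicit false
set_option linter.unusedSectionVars false
set_option linter.style.haveILetI false

namespace CfsgLib.PByCyclic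

open Subgroup
open scoped commutatorElement

variable {X : Type*} [Group X]

/-- An element acting coprimely on a cyclic `p`-group and fixing an element of order `p` centralizes it. -/
theorem commute_of_fix {p : ℕ} [hp : Fact p.Prime] {g y : X} {m : ℕ} (hg : orderOf g = p ^ (m + 1))
    (hy : (orderOf y).Coprime p) (hconj : y * g * y⁻¹ ∈ zpowers g) (hfix : Commute y (g ^ p ^ m)) :
    Commute y g := by
  have hgfin : IsOfFinOrder g := by rw [← orderOf_pos_iff, hg]; exact pow_pos hp.out.pos _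
  obtain ⟨r, hr⟩ := (hgfin.mem_powers_iff_mem_zpowers).2 hconj
  have hr : g ^ r = y * g * y⁻¹ := hr
  have hiter : ∀ t : ℕ, y ^ t * g * (y ^ t)⁻¹ = g ^ (r ^ t) := by
    intro t
    induction t with
    | zero => simp
    | succ t ih =>
      calc y ^ (t + 1) * g * (y ^ (t + 1))⁻¹ = y * (y ^ t * g * (y ^ t)⁻¹) * y⁻¹ := by group
        _ = (y * g * y⁻¹) ^ (r ^ t) := by rw [ih, conj_pow]
        _ = g ^ (r ^ (t + 1)) := by rw [← hr, ← pow_mul, pow_succ']
  have h1 : ((p : ℤ)) ∣ (r : ℤ) - 1 := by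
    have e : g ^ (p ^ m * r) = g ^ (p ^ m * 1) := by
      rw [mul_comm (p ^ m) r, pow_mul, hr, conj_pow, mul_one]
      exact mul_inv_eq_iff_eq_mul.2 hfix
    rw [pow_eq_pow_iff_modEq, hg] at e
    have e' := Nat.modEq_iff_dvd.1 e.symm
    push_cast at e'
    rw [pow_succ, mul_one] at e'
    have e'' : ((p : ℤ) ^ m * p) ∣ (p : ℤ) ^ m * ((r : ℤ) - 1) := by rw [mul_sub, mul_one]; exact e'
    exact (mul_dvd_mul_iff_left (pow_ne_zero m (Int.natCast_ne_zero.2 hp.out.ne_zero))).1 e''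
  have h2 : r ^ p ^ m ≡ 1 [MOD orderOf g] := by
    have := dvd_sub_pow_of_dvd_sub h1 m
    rw [one_pow] at this
    rw [hg]
    refine (Nat.modEq_iff_dvd.2 ?_).symm
    push_cast
    exact this
  have hb : Commute (y ^ p ^ m) g := by
    have h3 : y ^ p ^ m * g * (y ^ p ^ m)⁻¹ = g := by
      rw [hiter, pow_eq_pow_iff_modEq.2 h2 |>.trans (pow_one g)]
    exact mul_inv_eq_iff_eq_mul.1 h3
  obtain ⟨k, hk⟩ := exists_pow_eq_self_of_coprime (x := y) (Nat.Coprime.pow_left m hy.symm)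
  rw [← hk]
  exact hb.pow_left k

theorem mem_zpowers_of_cyclic {S : Subgroup X} [Finite S] (hc : IsCyclic S) {p : ℕ} [hp : Fact p.Prime] {u v : X}
    (hu : u ∈ S) (hv : v ∈ S) (hup : orderOf u = p) (hvp : v ^ p = 1) : v ∈ zpowers u := by
  classical
  haveI := hc
  haveI := Fintype.ofFinite S
  have hle := IsCyclic.card_pow_eq_one_le (α := S) hp.out.pos
  have hsub : (Finset.univ.image fun j : Fin p => (⟨u, hu⟩ : S) ^ (j : ℕ)) ⊆
      Finset.univ.filter fun a : S => a ^ p = 1 := by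
    intro a ha
    obtain ⟨j, -, rfl⟩ := Finset.mem_image.1 ha
    refine Finset.mem_filter.2 ⟨Finset.mem_univ _, Subtype.ext ?_⟩
    show (u ^ (j : ℕ)) ^ p = 1
    rw [← pow_mul, mul_comm, pow_mul, orderOf_dvd_iff_pow_eq_one.1 (dvd_of_eq hup), one_pow]
  have hcard : (Finset.univ.image fun j : Fin p => (⟨u, hu⟩ : S) ^ (j : ℕ)).card = p := by
    rw [Finset.card_image_of_injective _ fun i j e => ?_, Finset.card_univ, Fintype.card_fin]
    refine Fin.ext (pow_injOn_Iio_orderOf (x := u) ?_ ?_ (congrArg Subtype.val e))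
    · rw [hup]; exact i.2
    · rw [hup]; exact j.2
  have heq := Finset.eq_of_subset_of_card_le hsub (by rw [hcard]; exact hle)
  have hmem : (⟨v, hv⟩ : S) ∈ Finset.univ.image fun j : Fin p => (⟨u, hu⟩ : S) ^ (j : ℕ) :=
    heq ▸ Finset.mem_filter.2 ⟨Finset.mem_univ _, Subtype.ext hvp⟩
  obtain ⟨j, -, e⟩ := Finset.mem_image.1 hmem
  exact mem_zpowers_iff.2 ⟨(j : ℕ), by rw [zpow_natCast]; exact congrArg Subtype.val e⟩

variable [Finite X] {p : ℕ} [hp : Fact p.Prime]

theorem orderOf_map_coprime (S : Sylow p X) [(S : Subgroup X).Normal] (x : X) :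
    (orderOf (QuotientGroup.mk' (S : Subgroup X) x)).Coprime p := by
  refine Nat.Coprime.coprime_dvd_left (orderOf_dvd_natCard _) ?_
  rw [← Subgroup.index_eq_card]
  exact (hp.out.coprime_iff_not_dvd.2 S.not_dvd_index).symm

/-- The cyclic case. -/
theorem isCyclic_of_fix (S : Sylow p X) [(S : Subgroup X).Normal] (hS : IsCyclic (S : Subgroup X))
    (hQ : IsCyclic (X ⧸ (S : Subgroup X)))
    (hfix : ∀ u ∈ (S : Subgroup X), orderOf u = p → ∀ y : X, Commute y u) : IsCyclic X := by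
  obtain ⟨⟨g, hgS⟩, hg⟩ := hS.exists_generator
  obtain ⟨yb, hyb⟩ := hQ.exists_generator
  obtain ⟨y, rfl⟩ := QuotientGroup.mk'_surjective (S : Subgroup X) yb
  obtain ⟨t, ht⟩ := IsPGroup.iff_card.1 S.2
  set o := orderOf (QuotientGroup.mk' (S : Subgroup X) y)
  have ho : o.Coprime p := orderOf_map_coprime S y
  set y' := y ^ p ^ t
  have hy' : (orderOf y').Coprime p := by
    refine Nat.Coprime.coprime_dvd_left (orderOf_dvd_of_pow_eq_one (n := o) ?_) ho
    rw [← pow_mul, mul_comm, pow_mul]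
    have h1 : y ^ o ∈ (S : Subgroup X) :=
      (QuotientGroup.eq_one_iff _).1 (pow_orderOf_eq_one (QuotientGroup.mk' (S : Subgroup X) y))
    have h2 := pow_card_eq_one' (x := (⟨_, h1⟩ : (S : Subgroup X)))
    rw [ht] at h2
    exact congrArg Subtype.val h2
  have hgo : ∃ m, orderOf g = p ^ m := by
    obtain ⟨k, hk⟩ := S.2 ⟨g, hgS⟩
    obtain ⟨j, -, hj⟩ := (Nat.dvd_prime_pow hp.out).1
      (orderOf_dvd_of_pow_eq_one (congrArg Subtype.val hk : g ^ p ^ k = 1))
    exact ⟨j, hj⟩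
  have hgz : ∀ s ∈ (S : Subgroup X), s ∈ zpowers g := fun s hs => by
    obtain ⟨i, hi⟩ := mem_zpowers_iff.1 (hg ⟨s, hs⟩)
    exact mem_zpowers_iff.2 ⟨i, congrArg Subtype.val hi⟩
  obtain ⟨m, hm⟩ := hgo
  have hcomm : Commute y' g := by
    rcases m with _ | m
    · rw [pow_zero, orderOf_eq_one_iff] at hm
      rw [hm]; exact Commute.one_right _
    refine commute_of_fix hm hy' (hgz _ ((inferInstance : (S : Subgroup X).Normal).conj_mem g hgS y')) ?_
    refine hfix _ (pow_mem hgS _) ?_ y'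
    rw [orderOf_pow' g (pow_ne_zero _ hp.out.ne_zero), hm,
      Nat.gcd_eq_right (pow_dvd_pow p (Nat.le_succ m)), pow_succ, Nat.mul_div_cancel_left _ (pow_pos hp.out.pos _)]
  have hc : (orderOf g).Coprime (orderOf y') := by rw [hm]; exact (hy'.symm).pow_left m
  refine ⟨⟨g * y', fun x => ?_⟩⟩
  have hmem : ∀ (a b : X), Commute a b → (orderOf a).Coprime (orderOf b) → a ∈ zpowers (a * b) := by
    intro a b hab hcop
    have e : (a * b) ^ orderOf b = a ^ orderOf b := by rw [hab.mul_pow, pow_orderOf_eq_one, mul_one]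
    obtain ⟨k, hk⟩ := exists_pow_eq_self_of_coprime (x := a) hcop.symm
    have h1 : ((a * b) ^ orderOf b) ^ k ∈ zpowers (a * b) := pow_mem (pow_mem (mem_zpowers (a * b)) _) _
    rwa [e, hk] at h1
  have hg' := hmem g y' hcomm.symm hc
  have hy'' : y' ∈ zpowers (g * y') := by
    simpa using mul_mem (inv_mem hg') (mem_zpowers (g * y'))
  obtain ⟨k, hk⟩ := exists_pow_eq_self_of_coprime (x := QuotientGroup.mk' (S : Subgroup X) y)
    (Nat.Coprime.pow_left t ho.symm)
  obtain ⟨i, hi⟩ := mem_zpowers_iff.1 (hyb (QuotientGroup.mk' (S : Subgroup X) x))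
  set x' := (y' ^ k) ^ i
  have h1 : x'⁻¹ * x ∈ (S : Subgroup X) := by
    refine (QuotientGroup.eq_one_iff _).1 ?_
    show QuotientGroup.mk' (S : Subgroup X) (x'⁻¹ * x) = 1
    rw [map_mul, map_inv, map_zpow, map_pow, map_pow, hk, hi, inv_mul_cancel]
  have h2 : x'⁻¹ * x ∈ zpowers (g * y') := (zpowers_le.2 hg') (hgz _ h1)
  show x ∈ zpowers (g * y')
  simpa using mul_mem (show x' ∈ zpowers (g * y') from zpow_mem (pow_mem hy'' k) i) h2

/-- The dihedral case. -/
theorem dihedral_of_invert (S : Sylow p X) [(S : Subgroup X).Normal] (hp2 : p ≠ 2) (hS : IsCyclic (S : Subgroup X))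
    (hQ : IsCyclic (X ⧸ (S : Subgroup X))) (C : Subgroup X) (hSC : (S : Subgroup X) ≤ C) {x : X} (hx : x ∉ C)
    (hall : ∀ z : X, z ∉ C → orderOf z = 2 ∧ ∀ c ∈ C, z * c * z⁻¹ = c⁻¹) :
    ∃ n : ℕ, Nonempty (X ≃* DihedralGroup (p ^ n)) := by
  classical
  haveI := hQ
  set π := QuotientGroup.mk' (S : Subgroup X)
  letI : CommGroup (X ⧸ (S : Subgroup X)) := IsCyclic.commGroup
  have hinv : ∀ z, π z ^ 2 = 1 → π z = 1 ∨ π z = π x := by
    intro z hz
    have hx2 : π x ^ 2 = 1 := by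
      rw [← map_pow, show x ^ 2 = 1 by rw [← (hall x hx).1]; exact pow_orderOf_eq_one x, map_one]
    have hx1 : π x ≠ 1 := fun e => hx (hSC ((QuotientGroup.eq_one_iff x).1 e))
    have ho : orderOf (π x) = 2 := orderOf_eq_prime hx2 hx1
    obtain ⟨i, hi⟩ := mem_zpowers_iff.1 (mem_zpowers_of_cyclic (S := (⊤ : Subgroup (X ⧸ (S : Subgroup X))))
      (hc := isCyclic_of_surjective Subgroup.topEquiv.symm.toMonoidHom Subgroup.topEquiv.symm.surjective)
      (p := 2) (mem_top (π x)) (mem_top (π z)) ho hz)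
    rw [← hi, ← zpow_mod_orderOf, ho]
    rcases Int.emod_two_eq i with e | e <;> rw [show (i % ((2 : ℕ) : ℤ)) = _ from e]
    · exact Or.inl (zpow_zero _)
    · exact Or.inr (zpow_one _)
  have hCS : C = (S : Subgroup X) := by
    refine le_antisymm (fun c hc => ?_) hSC
    have e1 : π c = (π c)⁻¹ := by
      have := congrArg π ((hall x hx).2 c hc)
      rwa [map_mul, map_mul, map_inv, map_inv, mul_right_comm, mul_inv_cancel, one_mul] at this
    rcases hinv c (by rw [pow_two]; exact mul_eq_one_iff_eq_inv.2 e1) with h | h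
    · exact (QuotientGroup.eq_one_iff c).1 h
    · exact absurd (by
        have h' : c⁻¹ * x ∈ (S : Subgroup X) := QuotientGroup.eq.1 h
        simpa using mul_mem hc (hSC h')) hx
  subst hCS
  obtain ⟨⟨g, hgS⟩, hg⟩ := hS.exists_generator
  obtain ⟨m, hm⟩ : ∃ m, orderOf g = p ^ m := by
    obtain ⟨k, hk⟩ := S.2 ⟨g, hgS⟩
    obtain ⟨j, -, hj⟩ := (Nat.dvd_prime_pow hp.out).1
      (orderOf_dvd_of_pow_eq_one (congrArg Subtype.val hk : g ^ p ^ k = 1))
    exact ⟨j, hj⟩
  have hx2 : x * x = 1 := by rw [← pow_two, ← (hall x hx).1]; exact pow_orderOf_eq_one x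
  obtain ⟨D, hgD, hxD, hD, ⟨e⟩⟩ := CfsgLib.Linear.PSLTwo.exists_dihedral g x hx2 ((hall x hx).2 g hgS)
    fun h => hx ((zpowers_le.2 hgS) h)
  have hSD : (S : Subgroup X) ≤ D := fun s hs => by
    obtain ⟨i, hi⟩ := mem_zpowers_iff.1 (hg ⟨s, hs⟩)
    rw [← show g ^ i = s from congrArg Subtype.val hi]
    exact zpow_mem hgD i
  have htop : D = ⊤ := eq_top_iff.2 fun z _ => by
    by_cases hz : z ∈ (S : Subgroup X)
    · exact hSD hz
    rcases hinv z (by rw [← map_pow, show z ^ 2 = 1 by rw [← (hall z hz).1]; exact pow_orderOf_eq_one z, map_one]) with h | h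
    · exact absurd ((QuotientGroup.eq_one_iff z).1 h) hz
    · have h' : z⁻¹ * x ∈ D := hSD (QuotientGroup.eq.1 h)
      simpa using mul_mem hxD (inv_mem h')
  exact ⟨m, ⟨(Subgroup.topEquiv.symm.trans (MulEquiv.subgroupCongr htop.symm)).trans (hm ▸ e)⟩⟩

/-- A `p`-group extended by one element qualifies. -/
theorem qualifies {G : Type*} [Group G] [Finite G] (A : Subgroup G) (hA : IsPGroup p A) (y : G)
    (hy : y ∈ normalizer (A : Set G)) :
    (∀ T : Sylow p ↥(A ⊔ zpowers y), (T : Subgroup ↥(A ⊔ zpowers y)).Normal) ∧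
    ∀ (T : Sylow p ↥(A ⊔ zpowers y)) [(T : Subgroup ↥(A ⊔ zpowers y)).Normal],
      IsCyclic (↥(A ⊔ zpowers y) ⧸ (T : Subgroup ↥(A ⊔ zpowers y))) := by
  set H := A ⊔ zpowers y
  have hAH : A ≤ H := le_sup_left
  haveI : (A.subgroupOf H).Normal := normal_subgroupOf_of_le_normalizer
    (sup_le le_normalizer (zpowers_le.2 hy))
  haveI : (comap H.subtype A).Normal := normal_subgroupOf_of_le_normalizer
    (sup_le le_normalizer (zpowers_le.2 hy))
  set π := QuotientGroup.mk' (A.subgroupOf H)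
  set yH : H := ⟨y, mem_sup_right (mem_zpowers y)⟩
  have hgen : ∀ q, q ∈ zpowers (π yH) := by
    intro q
    obtain ⟨h, rfl⟩ := QuotientGroup.mk'_surjective (A.subgroupOf H) q
    have hle : H ≤ ((zpowers (π yH)).comap π).map H.subtype := by
      refine sup_le (fun a ha => ?_) (zpowers_le.2 ⟨yH, mem_comap.2 (mem_zpowers _), rfl⟩)
      refine ⟨⟨a, hAH ha⟩, mem_comap.2 ?_, rfl⟩
      rw [show π ⟨a, hAH ha⟩ = 1 from (QuotientGroup.eq_one_iff _).2 (by exact ha)]
      exact one_mem _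
    obtain ⟨h', hh', e⟩ := hle h.2
    rw [← H.subtype_injective e]
    exact hh'
  haveI hcycA : IsCyclic (H ⧸ A.subgroupOf H) := ⟨⟨π yH, hgen⟩⟩
  have hAT : ∀ T : Sylow p H, A.subgroupOf H ≤ (T : Subgroup H) := fun T =>
    le_sup_left.trans (le_of_eq (T.3 ((hA.comap_of_injective H.subtype H.subtype_injective).to_sup_of_normal_left T.2) le_sup_right))
  have hn : ∀ T : Sylow p H, (T : Subgroup H).Normal := by
    intro T
    letI : CommGroup (H ⧸ A.subgroupOf H) := IsCyclic.commGroup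
    rw [← sup_of_le_left (hAT T), ← QuotientGroup.ker_mk' (A.subgroupOf H), ← comap_map_eq]
    exact Normal.comap inferInstance _
  refine ⟨hn, fun T => ?_⟩
  intro hT
  exact isCyclic_of_surjective (QuotientGroup.map (A.subgroupOf H) (T : Subgroup H) (MonoidHom.id H) (hAT T))
    (fun q => by
      obtain ⟨h, rfl⟩ := QuotientGroup.mk'_surjective (T : Subgroup H) q
      exact ⟨π h, rfl⟩)

end CfsgLib.PByCyclic
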