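import Cfsg.Agent.FGSB.SylowContaining

/-!
# Transporting counts along a chain of normal subgroups with `p` or `p'` factors
-/

set_option autoImplicit false
set_option linter.unusedSectionVars false
set_option linter.style.haveILetI false

namespace CfsgLib.SubnormalCount

open Subgroup

theorem telescope : ∀ (n : ℕ) (s : Fin (n + 1) → ℕ) (c : Fin n → ℕ),
    (∀ i : Fin n, s i.castSucc = c i * s i.succ) → s 0 = (∏ i, c i) * s (Fin.last n) := by
  intro n
  induction n with
  | zero => intro s c _; simp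
  | succ n ih =>
    intro s c h
    have h1 := ih (fun i => s i.succ) (fun i => c i.succ) fun i => by
      have h2 := h i.succ
      rw [← Fin.succ_castSucc] at h2
      exact h2
    rw [Fin.prod_univ_succ, mul_assoc, ← Fin.succ_last]
    have h0 := h 0
    rw [Fin.castSucc_zero] at h0
    rw [h0, show s (Fin.succ 0) = _ from h1]

variable {G : Type*} [Group G]

/-- The map between the quotients by two comparable normal subgroups. -/
def step (A B : Subgroup G) [A.Normal] [B.Normal] (h : A ≤ B) : G ⧸ A →* G ⧸ B :=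
  QuotientGroup.map A B (MonoidHom.id G) h

theorem step_mk (A B : Subgroup G) [A.Normal] [B.Normal] (h : A ≤ B) (g : G) :
    step A B h (QuotientGroup.mk' A g) = QuotientGroup.mk' B g := rfl

theorem step_surjective (A B : Subgroup G) [A.Normal] [B.Normal] (h : A ≤ B) :
    Function.Surjective (step A B h) := by
  intro y
  obtain ⟨g, rfl⟩ := QuotientGroup.mk'_surjective B y
  exact ⟨QuotientGroup.mk' A g, rfl⟩

theorem map_step (A B : Subgroup G) [A.Normal] [B.Normal] (h : A ≤ B) (H : Subgroup G) :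
    (H.map (QuotientGroup.mk' A)).map (step A B h) = H.map (QuotientGroup.mk' B) := by
  rw [Subgroup.map_map]; rfl

theorem ker_step (A B : Subgroup G) [A.Normal] [B.Normal] (h : A ≤ B) :
    (step A B h).ker = B.map (QuotientGroup.mk' A) := by
  ext x
  obtain ⟨g, rfl⟩ := QuotientGroup.mk'_surjective A x
  rw [MonoidHom.mem_ker, step_mk, QuotientGroup.mk'_apply, QuotientGroup.eq_one_iff]
  refine ⟨fun hg => ⟨g, hg, rfl⟩, fun ⟨u, hu, e⟩ => ?_⟩
  have : u⁻¹ * g ∈ A := (QuotientGroup.eq (s := A)).1 e
  simpa using mul_mem hu (h this)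

variable [Finite G]

theorem card_ker_step (A B : Subgroup G) [A.Normal] [B.Normal] (h : A ≤ B) :
    Nat.card (step A B h).ker = A.relIndex B := by
  rw [ker_step, ← relIndex_bot_left]
  rw [show (⊥ : Subgroup (G ⧸ A)) = A.map (QuotientGroup.mk' A) from
    (map_eq_bot_iff A).2 (by rw [QuotientGroup.ker_mk'])|>.symm]
  rw [relIndex_map_map, QuotientGroup.ker_mk', sup_idem, sup_of_le_left h]

theorem card_ker_step_centralizer (A B : Subgroup G) [A.Normal] [B.Normal] (h : A ≤ B) (H : Subgroup G) :
    Nat.card ↥((step A B h).ker ⊓ centralizer ((H.map (QuotientGroup.mk' A) : Subgroup (G ⧸ A)) : Set (G ⧸ A))) =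
      Nat.card {u : G // u ∈ B ∧ ∀ x ∈ H, x * u * x⁻¹ * u⁻¹ ∈ A} / Nat.card A := by
  set K := (step A B h).ker ⊓ centralizer ((H.map (QuotientGroup.mk' A) : Subgroup (G ⧸ A)) : Set (G ⧸ A))
  have e : Nat.card {u : G // u ∈ B ∧ ∀ x ∈ H, x * u * x⁻¹ * u⁻¹ ∈ A} = Nat.card (K.comap (QuotientGroup.mk' A)) := by
    refine Nat.card_congr (Equiv.subtypeEquivRight fun u => ?_)
    rw [mem_comap, Subgroup.mem_inf, MonoidHom.mem_ker, step_mk, QuotientGroup.mk'_apply, QuotientGroup.eq_one_iff,
      mem_centralizer_iff]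
    refine and_congr Iff.rfl ⟨fun hu y hy => ?_, fun hu x hx => ?_⟩
    · obtain ⟨x, hx, rfl⟩ := hy
      have := (QuotientGroup.eq_one_iff (N := A) (x * u * x⁻¹ * u⁻¹)).2 (hu x hx)
      rwa [← QuotientGroup.mk'_apply, map_mul, map_mul, map_mul, map_inv, map_inv, mul_inv_eq_one,
        mul_inv_eq_iff_eq_mul] at this
    · rw [← QuotientGroup.eq_one_iff (N := A), ← QuotientGroup.mk'_apply, map_mul, map_mul, map_mul, map_inv,
        map_inv, mul_inv_eq_one, mul_inv_eq_iff_eq_mul]
      exact hu _ ⟨x, hx, rfl⟩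
  rw [e, card_comap _ (QuotientGroup.mk'_surjective A), QuotientGroup.ker_mk', Nat.mul_div_cancel_left _ Nat.card_pos]

end CfsgLib.SubnormalCount

namespace CfsgLib.SubnormalCount

open Subgroup

/-- The index of a chain. -/
theorem prod_relIndex {G : Type*} [Group G] (n : ℕ) (M : Fin (n + 1) → Subgroup G) (h0 : M 0 = ⊥)
    (hn : M (Fin.last n) = ⊤) (hmono : Monotone M) :
    Nat.card G = ∏ i : Fin n, (M i.castSucc).relIndex (M i.succ) := by
  have h := telescope n (fun i => (M i).index) (fun i => (M i.castSucc).relIndex (M i.succ))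
    fun i => (relIndex_mul_index (hmono (Fin.castSucc_le_succ i))).symm
  simp only [h0, hn, index_top, mul_one, index_bot] at h
  exact h

/-- The order of a Sylow subgroup along a chain. -/
theorem card_sylow_chain {G : Type*} [Group G] [Finite G] {p : ℕ} [hp : Fact p.Prime] (P : Sylow p G) (n : ℕ)
    (M : Fin (n + 1) → Subgroup G) (h0 : M 0 = ⊥) (hn : M (Fin.last n) = ⊤) (hmono : Monotone M)
    (hfac : ∀ i : Fin n, (∃ m : ℕ, (M i.castSucc).relIndex (M i.succ) = p ^ m) ∨
      ((M i.castSucc).relIndex (M i.succ)).Coprime p) :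
    Nat.card (P : Subgroup G) =
      ∏ i : Fin n, (if ((M i.castSucc).relIndex (M i.succ)).Coprime p then 1 else (M i.castSucc).relIndex (M i.succ)) := by
  set r := fun i : Fin n => (M i.castSucc).relIndex (M i.succ)
  have hr : ∀ i, r i ≠ 0 := fun i => index_ne_zero_of_finite
  have hc := prod_relIndex n M h0 hn hmono
  have hsplit : ∏ i, r i = (∏ i, if (r i).Coprime p then 1 else r i) * ∏ i, if (r i).Coprime p then r i else 1 := by
    rw [← Finset.prod_mul_distrib]
    exact Finset.prod_congr rfl fun i _ => by split <;> simp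
  obtain ⟨k, hk⟩ : ∃ k, ∏ i, (if (r i).Coprime p then 1 else r i) = p ^ k := by
    refine Finset.prod_induction _ (fun a => ∃ k, a = p ^ k) ?_ ⟨0, by simp⟩ fun i _ => ?_
    · rintro _ _ ⟨a, rfl⟩ ⟨b, rfl⟩
      exact ⟨a + b, (pow_add p a b).symm⟩
    · by_cases hi : (r i).Coprime p
      · exact ⟨0, by simp [hi]⟩
      · obtain ⟨m, hm⟩ := (hfac i).resolve_right hi
        exact ⟨m, by rw [if_neg hi]; exact hm⟩
  have hcop : (∏ i, if (r i).Coprime p then r i else 1).Coprime p :=
    Nat.Coprime.prod_left fun i _ => by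
      split
      · assumption
      · exact Nat.coprime_one_left p
  rw [P.card_eq_multiplicity, hc, hsplit]
  show p ^ ((_ : ℕ) * _).factorization p = _
  rw [hk, Nat.factorization_mul (pow_ne_zero _ hp.out.ne_zero) (by
      refine Finset.prod_ne_zero_iff.2 fun i _ => ?_
      split <;> simp [hr i]),
    Finsupp.add_apply, Nat.Prime.factorization_pow hp.out, Finsupp.single_eq_same,
    Nat.factorization_eq_zero_of_not_dvd (hp.out.coprime_iff_not_dvd.1 hcop.symm), add_zero]

end CfsgLib.SubnormalCount
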