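import Mathlib.GroupTheory.Sylow
import Mathlib.GroupTheory.SchurZassenhaus
import Cfsg.Agent.FGSB.TwoSizes
import Cfsg.Agent.Solvable.Glauberman

/-!
Groups whose π-elements form a subgroup: closure under extensions when normalisers of π'-subgroups
induce π'-groups.
-/

set_option autoImplicit false
set_option linter.style.haveILetI false

namespace CfsgLib.PiClosed

open Subgroup

variable {G : Type*} [Group G]

/-- `x` is a π-element. -/
def IsPiElt (π : Set ℕ) (x : G) : Prop := ∀ p : ℕ, p.Prime → p ∣ orderOf x → p ∈ π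

/-- The π-elements form a subgroup. -/
def Closed (π : Set ℕ) (G : Type*) [Group G] : Prop :=
  ∃ K : Subgroup G, ∀ x : G, x ∈ K ↔ IsPiElt π x

/-- π-elements normalising a π'-subgroup centralise it. -/
def Hom' (π : Set ℕ) (G : Type*) [Group G] : Prop :=
  ∀ H : Subgroup G, (∀ p : ℕ, p.Prime → p ∣ Nat.card H → p ∉ π) →
    ∀ x ∈ normalizer (H : Set G), IsPiElt π x → x ∈ centralizer (H : Set G)

theorem IsPiElt.of_dvd {π : Set ℕ} {x : G} {d : ℕ} (hx : orderOf x ∣ d)
    (hd : ∀ p : ℕ, p.Prime → p ∣ d → p ∈ π) : IsPiElt π x :=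
  fun p hp h => hd p hp (h.trans hx)

theorem coprime_of {π : Set ℕ} {a b : ℕ} (ha : ∀ p : ℕ, p.Prime → p ∣ a → p ∈ π)
    (hb : ∀ p : ℕ, p.Prime → p ∣ b → p ∉ π) : a.Coprime b :=
  Nat.coprime_of_dvd fun p hp h1 h2 => hb p hp h2 (ha p hp h1)

theorem IsPiElt.map {π : Set ℕ} {x : G} {H : Type*} [Group H] (f : G →* H) (hx : IsPiElt π x) :
    IsPiElt π (f x) := fun p hp h => hx p hp (h.trans (orderOf_map_dvd f x))

theorem isPiElt_iff_of_injective {π : Set ℕ} {H : Type*} [Group H] (f : G →* H)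
    (hf : Function.Injective f) (x : G) : IsPiElt π (f x) ↔ IsPiElt π x := by
  unfold IsPiElt
  rw [orderOf_injective f hf x]

/-- The hypothesis on normalisers passes to subgroups. -/
theorem Hom'.subgroup {π : Set ℕ} (h : Hom' π G) (M : Subgroup G) : Hom' π M := by
  intro H hH x hx hxπ
  have hc : ∀ p : ℕ, p.Prime → p ∣ Nat.card (H.map M.subtype) → p ∉ π := fun p hp hd =>
    hH p hp (by rwa [← Nat.card_congr (H.equivMapOfInjective _ M.subtype_injective).toEquiv] at hd)
  have hn : (x : G) ∈ normalizer ((H.map M.subtype : Subgroup G) : Set G) := by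
    refine mem_normalizer_iff.2 fun y => ?_
    constructor
    · rintro ⟨z, hz, rfl⟩
      exact ⟨x * z * x⁻¹, (mem_normalizer_iff.1 hx z).1 hz, by simp⟩
    · rintro ⟨z, hz, e⟩
      refine ⟨x⁻¹ * z * x, (mem_normalizer_iff.1 hx _).2 (by simpa [mul_assoc] using hz), ?_⟩
      simp only [map_mul, map_inv]
      rw [e]
      simp [mul_assoc]
  have := h _ hc x hn ((isPiElt_iff_of_injective M.subtype M.subtype_injective x).2 hxπ)
  exact mem_centralizer_iff.2 fun y hy => Subtype.ext
    (mem_centralizer_iff.1 this y ⟨y, hy, rfl⟩)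

/-- Coprime action, Sylow subgroup by Sylow subgroup. -/
theorem centralizes [Finite G] (K : Subgroup G) [K.Normal] (x : G)
    (hcop : (orderOf x).Coprime (Nat.card K))
    (hS : ∀ q : ℕ, q.Prime → q ∣ Nat.card K → ∃ S : Subgroup G, S ≤ K ∧
      q ^ (Nat.card K).factorization q ∣ Nat.card S ∧
      ∃ k ∈ K, k * x ∈ centralizer (S : Set G)) : x ∈ centralizer (K : Set G) := by
  set D := K ⊓ centralizer ({x} : Set G)
  have hdvd : Nat.card K ∣ Nat.card D := by
    rw [← Nat.factorization_le_iff_dvd Nat.card_pos.ne' Nat.card_pos.ne']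
    intro q
    by_cases hq : q.Prime ∧ q ∣ Nat.card K
    · obtain ⟨hqp, hqd⟩ := hq
      obtain ⟨S, hSK, hScard, k, hk, hc⟩ := hS q hqp hqd
      set c := k * x with hcdef
      rw [← hqp.pow_dvd_iff_le_factorization Nat.card_pos.ne']
      have himg : (c : G ⧸ K) = (x : G ⧸ K) := by
        rw [hcdef, QuotientGroup.mk_mul, (QuotientGroup.eq_one_iff k).2 hk, one_mul]
      have hordimg : orderOf (x : G ⧸ K) = orderOf x := by
        refine Nat.dvd_antisymm (orderOf_map_dvd (QuotientGroup.mk' K) x) (orderOf_dvd_of_pow_eq_one ?_)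
        have h1 : x ^ orderOf (x : G ⧸ K) ∈ K := by
          rw [← QuotientGroup.eq_one_iff, QuotientGroup.mk_pow, pow_orderOf_eq_one]
        have h2 : orderOf (x ^ orderOf (x : G ⧸ K)) ∣ Nat.card K := Subgroup.orderOf_dvd_natCard K h1
        exact orderOf_eq_one_iff.1 (Nat.eq_one_of_dvd_coprimes hcop (orderOf_pow_dvd _) h2)
      have hcd : c ^ orderOf x ∈ K := by
        rw [← QuotientGroup.eq_one_iff, QuotientGroup.mk_pow, himg, ← hordimg, pow_orderOf_eq_one]
      obtain ⟨t, ht⟩ : ∃ t : ℕ, Nat.card K * t ≡ 1 [MOD orderOf x] := by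
        rcases Nat.eq_or_lt_of_le (show 1 ≤ orderOf x from orderOf_pos x) with h1 | h1
        · exact ⟨0, by rw [← h1]; exact Nat.modEq_one⟩
        · obtain ⟨t, -, ht⟩ := Nat.exists_mul_mod_eq_one_of_coprime hcop.symm h1
          exact ⟨t, by rw [Nat.ModEq, ht, Nat.mod_eq_of_lt h1]⟩
      set c' := c ^ (Nat.card K * t) with hc'
      have hc'img : (c' : G ⧸ K) = (x : G ⧸ K) := by
        rw [hc', QuotientGroup.mk_pow, himg]
        conv_rhs => rw [← pow_one (x : G ⧸ K)]
        exact pow_eq_pow_iff_modEq.2 (hordimg.symm ▸ ht)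
      have hc'ord : orderOf c' = orderOf x := by
        refine Nat.dvd_antisymm (orderOf_dvd_of_pow_eq_one ?_) ?_
        · rw [hc', ← pow_mul, Nat.mul_comm, pow_mul, pow_mul]
          rw [orderOf_dvd_iff_pow_eq_one.1 (Subgroup.orderOf_dvd_natCard K hcd), one_pow]
        · rw [← hordimg, ← hc'img]
          exact orderOf_map_dvd (QuotientGroup.mk' K) c'
      have hAK : zpowers x ≤ normalizer (K : Set G) := normalizer_eq_top K ▸ le_top
      have hB : zpowers c' ≤ zpowers x ⊔ K := by
        rw [zpowers_le]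
        obtain ⟨m, hm, e⟩ : ∃ m ∈ K, c' = x * m := ⟨x⁻¹ * c', QuotientGroup.eq.1 hc'img.symm, by group⟩
        exact e ▸ mul_mem (mem_sup_left (mem_zpowers x)) (mem_sup_right hm)
      obtain ⟨j, hj, e⟩ := CfsgLib.SZ.conj_rel hAK (by rwa [Nat.card_zpowers])
        (Or.inl (Group.isSolvable_of_comm fun a b => (IsCyclic.commGroup (α := zpowers x)).mul_comm a b)) hB (by rw [Nat.card_zpowers, Nat.card_zpowers, hc'ord])
      have hxB : j * x * j⁻¹ ∈ zpowers c' := e ▸ ⟨x, mem_zpowers x, rfl⟩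
      have hc'S : zpowers c' ≤ centralizer (S : Set G) := zpowers_le.2 (pow_mem hc _)
      have hsub : S.map (MulAut.conj j⁻¹).toMonoidHom ≤ D := by
        rintro _ ⟨s, hs, rfl⟩
        refine ⟨?_, ?_⟩
        · simpa using Normal.conj_mem inferInstance s (hSK hs) j⁻¹
        · refine mem_centralizer_singleton_iff.2 ?_
          have := mem_centralizer_iff.1 (hc'S hxB) s hs
          simp only [MulEquiv.coe_toMonoidHom, MulAut.conj_apply, inv_inv]
          calc j⁻¹ * s * j * x = j⁻¹ * (s * (j * x * j⁻¹)) * j := by group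
            _ = x * (j⁻¹ * s * j) := by rw [this]; group
      refine hScard.trans ?_
      rw [Nat.card_congr (S.equivMapOfInjective (MulAut.conj j⁻¹).toMonoidHom (MulAut.conj j⁻¹).injective).toEquiv]
      exact card_dvd_of_le hsub
    · have : (Nat.card K).factorization q = 0 := by
        rcases not_and_or.1 hq with h' | h'
        · exact Nat.factorization_eq_zero_of_not_prime _ h'
        · exact Nat.factorization_eq_zero_of_not_dvd h'
      omega
  have hDK : D = K := eq_of_le_of_card_ge inf_le_left (Nat.le_of_dvd Nat.card_pos hdvd)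
  exact mem_centralizer_iff.2 fun k hk => mem_centralizer_singleton_iff.1 ((hDK.ge hk).2)

/-- Closure under extensions. -/
theorem closed_extension [Finite G] {π : Set ℕ} (hhom : Hom' π G) (K : Subgroup G) [K.Normal]
    (hK : Closed π K) (hQ : Closed π (G ⧸ K)) : Closed π G := by
  classical
  obtain ⟨L₀, hL₀⟩ := hK
  obtain ⟨T₀, hT₀⟩ := hQ
  set L := L₀.map K.subtype
  have hLmem : ∀ x : G, x ∈ L ↔ x ∈ K ∧ IsPiElt π x := by
    intro x
    constructor
    · rintro ⟨y, hy, rfl⟩
      exact ⟨y.2, (isPiElt_iff_of_injective K.subtype K.subtype_injective y).2 ((hL₀ y).1 hy)⟩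
    · rintro ⟨hxK, hx⟩
      exact ⟨⟨x, hxK⟩, (hL₀ _).2 ((isPiElt_iff_of_injective K.subtype K.subtype_injective ⟨x, hxK⟩).1 hx), rfl⟩
  haveI : L.Normal := ⟨fun y hy g => by
    rw [hLmem] at hy ⊢
    refine ⟨Normal.conj_mem inferInstance y hy.1 g, ?_⟩
    exact (MulAut.conj g).toMonoidHom |> fun f => hy.2.map f⟩
  have hLK : L ≤ K := fun x hx => ((hLmem x).1 hx).1
  have hLcard : ∀ p : ℕ, p.Prime → p ∣ Nat.card L → p ∈ π := by
    intro p hp hd
    haveI := Fact.mk hp
    obtain ⟨y, hy⟩ := exists_prime_orderOf_dvd_card' p hd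
    exact ((hLmem y).1 y.2).2 p hp (by rw [Subgroup.orderOf_coe, hy])
  set f := QuotientGroup.mk' L with hf
  set Kb := K.map f
  haveI : Kb.Normal := Normal.map inferInstance f (QuotientGroup.mk'_surjective L)
  have hKb : Nat.card Kb * Nat.card L = Nat.card K := by
    have h1 := Subgroup.relIndex_mul_relIndex (⊥ : Subgroup G) L K bot_le hLK
    rw [relIndex_bot_left, relIndex_bot_left] at h1
    rw [← relIndex_ker, hf, QuotientGroup.ker_mk', Nat.mul_comm, h1]
  have hKbπ : ∀ q : ℕ, q.Prime → q ∣ Nat.card Kb → q ∉ π := by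
    intro q hq hd hqπ
    haveI := Fact.mk hq
    obtain ⟨Q⟩ : Nonempty (Sylow q K) := inferInstance
    have hQL : (Q : Subgroup K).map K.subtype ≤ L := by
      rintro _ ⟨y, hy, rfl⟩
      refine (hLmem _).2 ⟨y.2, fun p hp hdp => ?_⟩
      obtain ⟨j, hj⟩ := IsPGroup.iff_orderOf.1 Q.2 ⟨y, hy⟩
      rw [Subgroup.orderOf_mk] at hj
      rw [orderOf_injective K.subtype K.subtype_injective, hj] at hdp
      exact (Nat.prime_dvd_prime_iff_eq hp hq).1 (hp.dvd_of_dvd_pow hdp) ▸ hqπ
    have h1 := card_dvd_of_le hQL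
    rw [← Nat.card_congr ((Q : Subgroup K).equivMapOfInjective _ K.subtype_injective).toEquiv,
      Q.card_eq_multiplicity] at h1
    have h2 : q ^ ((Nat.card K).factorization q + 1) ∣ Nat.card K := by
      rw [pow_succ']
      exact (mul_dvd_mul hd h1).trans hKb.dvd
    exact Nat.pow_succ_factorization_not_dvd Nat.card_pos.ne' hq h2
  -- π-elements centralise K modulo L
  have hcen : ∀ x : G, IsPiElt π x → f x ∈ centralizer (Kb : Set (G ⧸ L)) := by
    intro x hx
    refine centralizes Kb (f x) (coprime_of (hx.map f) hKbπ) fun q hq hd => ?_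
    haveI := Fact.mk hq
    obtain ⟨Q⟩ : Nonempty (Sylow q K) := inferInstance
    set Q' := (Q : Subgroup K).map K.subtype with hQ'
    have hQ'K : Q' ≤ K := map_subtype_le _
    have hQ'c : Nat.card Q' = q ^ (Nat.card K).factorization q := by
      rw [hQ', ← Q.card_eq_multiplicity]
      exact Nat.card_congr ((Q : Subgroup K).equivMapOfInjective _ K.subtype_injective).symm.toEquiv
    have hQ'π : ∀ p : ℕ, p.Prime → p ∣ Nat.card Q' → p ∉ π := by
      intro p hp hdp
      rw [hQ'c] at hdp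
      exact (Nat.prime_dvd_prime_iff_eq hp hq).1 (hp.dvd_of_dvd_pow hdp) ▸ hKbπ q hq hd
    refine ⟨Q'.map f, map_mono hQ'K, ?_, ?_⟩
    · have h1 : Nat.card (Q'.map f) = L.relIndex Q' := by
        rw [← relIndex_ker, hf, QuotientGroup.ker_mk']
      have h2 : L.relIndex Q' = Nat.card Q' := by
        rw [← inf_relIndex_right, ← relIndex_bot_left Q']
        congr 1
        refine (eq_bot_iff_forall _).2 fun y hy => ?_
        rw [← orderOf_eq_one_iff]
        exact Nat.eq_one_of_dvd_coprimes (coprime_of hLcard hQ'π)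
          (Subgroup.orderOf_dvd_natCard L hy.1) (Subgroup.orderOf_dvd_natCard Q' hy.2)
      rw [h1, h2, hQ'c]
      refine pow_dvd_pow q ?_
      exact (Nat.factorization_le_iff_dvd Nat.card_pos.ne' Nat.card_pos.ne').2
        (Dvd.intro _ hKb) q
    · have hx' : x ∈ K ⊔ centralizer (Q' : Set G) := by
        have hxn : x ∈ normalizer (Q' : Set G) ⊔ K := by
          rw [Sylow.normalizer_sup_eq_top Q]; exact mem_top x
        rw [sup_comm, mem_sup_of_normal_left] at hxn
        obtain ⟨k, hk, n, hn, rfl⟩ := hxn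
        refine mul_mem (mem_sup_left hk) (CfsgLib.TwoSizes.mem_of_parts _ n fun p hp => ?_)
        by_cases hpπ : p ∈ π
        · refine mem_sup_right (hhom Q' hQ'π _ (pow_mem hn _) fun r hr hdr => ?_)
          obtain ⟨j, hj⟩ := CfsgLib.TwoSizes.part_order n hp
          rw [hj] at hdr
          exact (Nat.prime_dvd_prime_iff_eq hr hp).1 (hr.dvd_of_dvd_pow hdr) ▸ hpπ
        · refine mem_sup_left ((QuotientGroup.eq_one_iff _).1 ?_)
          obtain ⟨j, hj⟩ := CfsgLib.TwoSizes.part_order n hp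
          have h1 := orderOf_map_dvd (QuotientGroup.mk' K) (n ^ (orderOf n / p ^ (orderOf n).factorization p))
          rw [hj] at h1
          have himg : (n : G ⧸ K) = ((k * n : G) : G ⧸ K) := by
            rw [QuotientGroup.mk_mul, (QuotientGroup.eq_one_iff k).2 hk, one_mul]
          rw [← orderOf_eq_one_iff]
          have h2 : orderOf (((n ^ (orderOf n / p ^ (orderOf n).factorization p) : G)) : G ⧸ K) ∣
              orderOf (k * n) := by
            rw [QuotientGroup.mk_pow, himg]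
            exact (orderOf_pow_dvd _).trans (orderOf_map_dvd (QuotientGroup.mk' K) (k * n))
          exact Nat.eq_one_of_dvd_coprimes
            (coprime_of hx fun r hr hdr =>
              (Nat.prime_dvd_prime_iff_eq hr hp).1 (hr.dvd_of_dvd_pow hdr) ▸ hpπ) h2 h1
      rw [mem_sup_of_normal_left] at hx'
      obtain ⟨k, hk, c, hc, rfl⟩ := hx'
      refine ⟨(f k)⁻¹, inv_mem (mem_map_of_mem f hk), ?_⟩
      rw [map_mul, inv_mul_cancel_left]
      refine mem_centralizer_iff.2 ?_
      rintro _ ⟨y, hy, rfl⟩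
      rw [← map_mul, ← map_mul, mem_centralizer_iff.1 hc y hy]
  -- the subgroup E
  have hMπ : ∀ {x : G}, IsPiElt π x → (x : G ⧸ K) ∈ T₀ := fun hx =>
    (hT₀ _).2 (hx.map (QuotientGroup.mk' K))
  set M := (T₀.comap (QuotientGroup.mk' K))
  set E := centralizer (Kb : Set (G ⧸ L)) ⊓ M.map f
  set Z := Kb.subgroupOf E
  have hZcard : ∀ p : ℕ, p.Prime → p ∣ Nat.card Z → p ∉ π := by
    intro p hp hd
    refine hKbπ p hp (hd.trans ?_)
    rw [Nat.card_congr (Z.equivMapOfInjective _ E.subtype_injective).toEquiv, subgroupOf_map_subtype]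
    exact card_dvd_of_le inf_le_left
  have hZidx : ∀ p : ℕ, p.Prime → p ∣ Z.index → p ∈ π := by
    intro p hp hd
    haveI := Fact.mk hp
    rw [index_eq_card] at hd
    obtain ⟨e, he⟩ := exists_prime_orderOf_dvd_card' p hd
    obtain ⟨⟨e, heE⟩, rfl⟩ := QuotientGroup.mk_surjective e
    obtain ⟨m, hm, rfl⟩ := heE.2
    have hmπ := (hT₀ (m : G ⧸ K)).1 hm
    refine hmπ p hp ?_
    rw [← he]
    refine orderOf_dvd_of_pow_eq_one ?_
    rw [← QuotientGroup.mk_pow, QuotientGroup.eq_one_iff, mem_subgroupOf, SubmonoidClass.coe_pow]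
    show f m ^ orderOf (m : G ⧸ K) ∈ Kb
    rw [← map_pow]
    refine mem_map_of_mem f ((QuotientGroup.eq_one_iff _).1 ?_)
    rw [QuotientGroup.mk_pow, pow_orderOf_eq_one]
  obtain ⟨T, hT⟩ := exists_right_complement'_of_coprime (N := Z)
    (coprime_of hZidx hZcard).symm
  have hTcard : Nat.card T = Z.index := hT.symm.index_eq_card.symm
  have hinT : ∀ e : E, IsPiElt π e → e ∈ T := by
    intro e he
    obtain ⟨z, hz, t, ht, rfl⟩ : ∃ z ∈ Z, ∃ t ∈ T, z * t = e := by
      obtain ⟨⟨z, t⟩, hzt⟩ := hT.2 e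
      exact ⟨z, z.2, t, t.2, hzt⟩
    have hzt : Commute z t := Subtype.ext (mem_centralizer_iff.1 t.2.1 z hz)
    have h1 : t ^ Z.index = 1 := by
      rw [← hTcard]
      exact orderOf_dvd_iff_pow_eq_one.1 (Subgroup.orderOf_dvd_natCard T ht)
    have h2 : orderOf (z ^ Z.index) ∣ orderOf (z * t) := by
      have : (z * t) ^ Z.index = z ^ Z.index := by rw [hzt.mul_pow, h1, mul_one]
      rw [← this]
      exact orderOf_pow_dvd _
    have hzc : orderOf z ∣ Nat.card Z := Subgroup.orderOf_dvd_natCard Z hz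
    have h3 := Nat.eq_one_of_dvd_coprimes (coprime_of he hZcard) h2 ((orderOf_pow_dvd _).trans hzc)
    rw [orderOf_eq_one_iff, ← orderOf_dvd_iff_pow_eq_one] at h3
    have h4 := Nat.eq_one_of_dvd_coprimes (coprime_of hZidx hZcard) h3 hzc
    rw [orderOf_eq_one_iff] at h4
    rwa [h4, one_mul]
  have hback : ∀ z : G, IsPiElt π (f z) → IsPiElt π z := by
    intro z hz
    refine IsPiElt.of_dvd (d := orderOf (f z) * Nat.card L) (orderOf_dvd_of_pow_eq_one ?_) ?_
    · rw [pow_mul]
      refine orderOf_dvd_iff_pow_eq_one.1 (Subgroup.orderOf_dvd_natCard L ?_)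
      rw [← QuotientGroup.eq_one_iff, QuotientGroup.mk_pow]
      exact pow_orderOf_eq_one _
    · intro p hp hd
      exact ((Nat.Prime.dvd_mul hp).1 hd).elim (hz p hp) (hLcard p hp)
  refine ⟨{ carrier := {x | IsPiElt π x}
            one_mem' := fun p hp hd => absurd (orderOf_one (G := G) ▸ hd) hp.not_dvd_one
            inv_mem' := fun {x} hx => by
              show IsPiElt π x⁻¹
              intro p hp hd
              exact hx p hp (orderOf_inv x ▸ hd)
            mul_mem' := fun {x y} hx hy => ?_ }, fun x => Iff.rfl⟩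
  refine hback _ ?_
  have hmemE : ∀ {u : G}, IsPiElt π u → f u ∈ E := fun hu =>
    ⟨hcen _ hu, mem_map_of_mem f (hMπ hu)⟩
  set ex : E := ⟨f x, hmemE hx⟩
  set ey : E := ⟨f y, hmemE hy⟩
  have hexy : ex * ey ∈ T := mul_mem
    (hinT ex ((isPiElt_iff_of_injective E.subtype E.subtype_injective ex).1 (hx.map f)))
    (hinT ey ((isPiElt_iff_of_injective E.subtype E.subtype_injective ey).1 (hy.map f)))
  have : IsPiElt π (ex * ey) :=
    IsPiElt.of_dvd (Subgroup.orderOf_dvd_natCard T hexy) (hTcard ▸ hZidx)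
  have h' := (isPiElt_iff_of_injective E.subtype E.subtype_injective (ex * ey)).2 this
  simpa [ex, ey] using h'

/-- The hypothesis on indices of centralisers gives the one on elements. -/
theorem hom'_of_relIndex [Finite G] {π : Set ℕ}
    (h : ∀ H : Subgroup G, H ≠ ⊥ → (∀ p : ℕ, p.Prime → p ∣ Nat.card H → p ∉ π) →
      ∀ p : ℕ, p.Prime → p ∣ (centralizer (H : Set G)).relIndex (normalizer (H : Set G)) → p ∉ π) :
    Hom' π G := by
  intro H hH x hx hxπ
  rcases eq_or_ne H ⊥ with rfl | hne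
  · exact mem_centralizer_iff.2 fun y hy => by rw [mem_bot.1 hy, one_mul, mul_one]
  set N := normalizer (H : Set G)
  haveI : ((centralizer (H : Set G)).subgroupOf N).Normal := ⟨fun c hc g => by
    rw [mem_subgroupOf] at hc ⊢
    refine mem_centralizer_iff.2 fun y hy => ?_
    have h1 := mem_centralizer_iff.1 hc _ ((mem_normalizer_iff''.1 g.2 y).1 hy)
    calc y * ((g : G) * c * (g : G)⁻¹) = (g : G) * (((g : G)⁻¹ * y * g) * c) * (g : G)⁻¹ := by group
      _ = ((g : G) * c * (g : G)⁻¹) * y := by rw [h1]; group⟩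
  set q : N ⧸ (centralizer (H : Set G)).subgroupOf N := QuotientGroup.mk (⟨x, hx⟩ : N)
  have h1 : orderOf q ∣ orderOf (⟨x, hx⟩ : N) := orderOf_map_dvd (QuotientGroup.mk' _) _
  rw [Subgroup.orderOf_mk] at h1
  have h2 : orderOf q ∣ (centralizer (H : Set G)).relIndex N := by
    rw [relIndex, index_eq_card]
    exact orderOf_dvd_natCard q
  have h3 := Nat.eq_one_of_dvd_coprimes (coprime_of hxπ (h H hne hH)) h1 h2
  rw [orderOf_eq_one_iff, QuotientGroup.eq_one_iff] at h3
  exact h3

end CfsgLib.PiClosed
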