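import Cfsg.Agent.FGSB.Small
import Cfsg.Agent.Transfer.Basic
import Cfsg.Agent.Solvable.Fitting

/-!
# Real elements and Sylow 2-subgroups
-/

set_option autoImplicit false

namespace CfsgLib.RealOdd

open Subgroup Pointwise CfsgLib.Solvable

variable {G : Type*} [Group G] [Finite G]

/-- A real element is inverted by a 2-element. -/
theorem exists_two_inverter {x : G} (h : IsConj x x⁻¹) :
    ∃ g : G, (∃ k, orderOf g = 2 ^ k) ∧ g * x * g⁻¹ = x⁻¹ := by
  obtain ⟨c, hc⟩ := isConj_iff.1 h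
  obtain ⟨e, m, hm, hord⟩ := Nat.exists_eq_pow_mul_and_not_dvd (orderOf_pos c).ne' 2 (by norm_num)
  have hmodd : Odd m := Nat.not_even_iff_odd.1 fun he => hm (even_iff_two_dvd.1 he)
  refine ⟨c ^ m, ?_, ?_⟩
  · have hd : orderOf (c ^ m) ∣ 2 ^ e := orderOf_dvd_of_pow_eq_one (by
      rw [← pow_mul, mul_comm, ← hord, pow_orderOf_eq_one])
    obtain ⟨k, -, hk⟩ := (Nat.dvd_prime_pow Nat.prime_two).1 hd
    exact ⟨k, hk⟩
  · obtain ⟨t, rfl⟩ := hmodd
    have h2 : Commute (c ^ 2) x := by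
      apply mul_inv_eq_iff_eq_mul.1
      calc c ^ 2 * x * (c ^ 2)⁻¹ = c * (c * x * c⁻¹) * c⁻¹ := by rw [pow_two]; group
        _ = c * x⁻¹ * c⁻¹ := by rw [hc]
        _ = (c * x * c⁻¹)⁻¹ := by group
        _ = x := by rw [hc, inv_inv]
    have h3 : Commute (c ^ (2 * t)) x := by rw [pow_mul]; exact h2.pow_left t
    calc c ^ (2 * t + 1) * x * (c ^ (2 * t + 1))⁻¹ = c * (c ^ (2 * t) * x * (c ^ (2 * t))⁻¹) * c⁻¹ := by
          rw [pow_succ']; group
      _ = x⁻¹ := by rw [h3.eq, mul_inv_cancel_right, hc]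

/-- A real element of odd order centralising a Sylow 2-subgroup is trivial. -/
theorem eq_one_of_centralizes (S : Sylow 2 G) {x : G}
    (hx : x ∈ centralizer ((S : Subgroup G) : Set G)) (hodd : Odd (orderOf x))
    (hreal : IsConj x x⁻¹) : x = 1 := by
  have : Fact (Nat.Prime 2) := ⟨Nat.prime_two⟩
  obtain ⟨g, ⟨k, hk⟩, hg⟩ := exists_two_inverter hreal
  set C := centralizer ({x} : Set G)
  have hSC : (S : Subgroup G) ≤ C := fun s hs =>
    mem_centralizer_singleton_iff.2 (mem_centralizer_iff.1 hx s hs)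
  have hN : zpowers g ≤ normalizer (C : Set G) := by
    rw [zpowers_le, mem_normalizer_iff_map_conj_eq]
    refine Subgroup.eq_of_le_of_card_ge ?_ (card_map_of_injective (MulEquiv.injective _)).ge
    rintro _ ⟨y, hy, rfl⟩
    rw [SetLike.mem_coe, mem_centralizer_singleton_iff] at hy
    have hy' : Commute (g * y * g⁻¹) x⁻¹ := by
      show g * y * g⁻¹ * x⁻¹ = x⁻¹ * (g * y * g⁻¹)
      rw [← hg]
      calc g * y * g⁻¹ * (g * x * g⁻¹) = g * (y * x) * g⁻¹ := by group
        _ = g * (x * y) * g⁻¹ := by rw [hy]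
        _ = g * x * g⁻¹ * (g * y * g⁻¹) := by group
    show g * y * g⁻¹ ∈ C
    exact mem_centralizer_singleton_iff.2 (by simpa using hy'.inv_right.eq)
  have hgC : g ∈ C := by
    set Y := zpowers g ⊔ C with hY
    have hd : Nat.card Y ∣ Nat.card (zpowers g) * Nat.card C := card_sup_dvd hN
    have hidx : ¬ 2 ∣ C.relIndex Y := fun h =>
      S.not_dvd_index ((h.trans (relIndex_dvd_index_of_le le_sup_right)).trans
        (index_dvd_of_le hSC))
    have hmul : Nat.card C * C.relIndex Y = Nat.card Y := by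
      rw [← relIndex_bot_left, ← relIndex_bot_left]
      exact relIndex_mul_relIndex ⊥ C Y bot_le le_sup_right
    have h1 : C.relIndex Y ∣ 2 ^ k := by
      refine Nat.dvd_of_mul_dvd_mul_left (Nat.card_pos (α := C)) ?_
      rw [hmul, mul_comm (Nat.card C)]
      rwa [Nat.card_zpowers, hk] at hd
    have h2 : C.relIndex Y = 1 := by
      obtain ⟨j, -, hj⟩ := (Nat.dvd_prime_pow Nat.prime_two).1 h1
      rcases j with _ | j
      · rw [hj, pow_zero]
      · exact absurd (hj ▸ dvd_pow_self 2 (by omega)) hidx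
    exact (relIndex_eq_one.1 h2) (mem_sup_left (mem_zpowers g))
  rw [mem_centralizer_singleton_iff.1 hgC, mul_inv_cancel_right] at hg
  have h2 : orderOf x ∣ 2 := orderOf_dvd_of_pow_eq_one (by rw [pow_two]; exact eq_inv_iff_mul_eq_one.1 hg)
  rcases (Nat.dvd_prime Nat.prime_two).1 h2 with h | h
  · exact orderOf_eq_one_iff.1 h
  · exact absurd (h ▸ dvd_rfl) hodd.not_two_dvd_nat

/-- In a solvable group a real element of odd order normalising a Sylow 2-subgroup is trivial. -/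
theorem eq_one_of_normalizes_aux (n : ℕ) : ∀ (H : Type*) [Group H] [Finite H],
    Nat.card H = n → Group.IsSolvable H → ∀ (S : Sylow 2 H) (x : H),
    x ∈ normalizer ((S : Subgroup H) : Set H) → Odd (orderOf x) → IsConj x x⁻¹ → x = 1 := by
  induction n using Nat.strong_induction_on with | _ n ih => ?_
  intro H _ _ hn hsol S x hx hodd hreal
  have : Fact (Nat.Prime 2) := ⟨Nat.prime_two⟩
  by_contra hx1
  have htriv : (⊤ : Subgroup H) ≠ ⊥ := fun h => hx1 (mem_bot.1 (h ▸ mem_top x))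
  obtain ⟨M, hM, hM1, -, -, -, q, hq, -, hMq⟩ :=
    exists_normal_elementary_le htriv (Group.isSolvable_of_isSolvable_injective (subtype_injective _))
  have hxM : x ∈ M := by
    rw [← QuotientGroup.eq_one_iff]
    refine ih _ (hn ▸ card_quotient_lt hM1) (H ⧸ M) rfl inferInstance
      (S.mapSurjective (QuotientGroup.mk'_surjective M)) _ ?_
      (hodd.of_dvd_nat (orderOf_map_dvd (QuotientGroup.mk' M) x)) ?_
    · rw [Sylow.coe_mapSurjective]
      exact le_normalizer_map (QuotientGroup.mk' M) (mem_map_of_mem _ hx)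
    · simpa using (QuotientGroup.mk' M).map_isConj hreal
  have hMcop : ∀ y, y ∈ (S : Subgroup H) → y ∈ M → y = 1 := by
    intro y hyS hyM
    obtain ⟨a, ha⟩ := IsPGroup.iff_orderOf.1 S.isPGroup' ⟨y, hyS⟩
    have : Fact q.Prime := ⟨hq⟩
    obtain ⟨b, hb⟩ := IsPGroup.iff_orderOf.1 hMq ⟨y, hyM⟩
    rw [Subgroup.orderOf_mk] at ha hb
    have hq2 : q ≠ 2 := fun h => by
      subst h
      obtain ⟨c, hc⟩ := IsPGroup.iff_orderOf.1 hMq ⟨x, hxM⟩
      rw [Subgroup.orderOf_mk] at hc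
      rcases c with _ | c
      · rw [pow_zero, orderOf_eq_one_iff] at hc; exact hx1 hc
      · exact hodd.not_two_dvd_nat (hc ▸ dvd_pow_self 2 (by omega))
    rw [← orderOf_eq_one_iff]
    exact Nat.eq_one_of_dvd_coprimes
      (((Nat.coprime_primes Nat.prime_two hq).2 hq2.symm).pow a b) (ha ▸ dvd_rfl) (hb ▸ dvd_rfl)
  refine hx1 (eq_one_of_centralizes S ?_ hodd hreal)
  rw [mem_centralizer_iff]
  intro s hs
  have h1 : x * s * x⁻¹ * s⁻¹ = 1 := by
    refine hMcop _ ((S : Subgroup H).mul_mem ((mem_normalizer_iff.1 hx s).1 hs) (inv_mem hs)) ?_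
    rw [show x * s * x⁻¹ * s⁻¹ = x * (s * x⁻¹ * s⁻¹) by group]
    exact M.mul_mem hxM (hM.conj_mem _ (inv_mem hxM) s)
  rw [mul_inv_eq_one, mul_inv_eq_iff_eq_mul] at h1
  exact h1.symm

end CfsgLib.RealOdd
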