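import Cfsg.Agent.InvChar.UniqueInvolution
import Cfsg.Agent.Solvable.Basics
import Mathlib.GroupTheory.Sylow
import Mathlib.GroupTheory.Nilpotent
import Mathlib.Tactic.Group

/-!
Finite p-groups in which subgroups of equal order are isomorphic.
-/

set_option autoImplicit false
set_option linter.unusedSectionVars false

namespace CfsgLib.SameOrder

open Subgroup
open scoped commutatorElement

variable {P : Type*} [Group P] [Finite P] {p : ℕ} [hp : Fact p.Prime]

theorem card_sup_le_mul {A K : Subgroup P} (h : A ≤ normalizer (K : Set P)) :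
    Nat.card (A ⊔ K : Subgroup P) ≤ Nat.card A * Nat.card K := by
  rw [← Nat.card_prod]
  refine Nat.card_le_card_of_surjective
    (fun t : A × K => (⟨t.1 * t.2, mul_mem_sup t.1.2 t.2.2⟩ : (A ⊔ K : Subgroup P))) ?_
  rintro ⟨x, hx⟩
  obtain ⟨a, ha, k, hk, rfl⟩ := (CfsgLib.Solvable.mem_sup_of_le_normalizer h).1 hx
  exact ⟨(⟨a, ha⟩, ⟨k, hk⟩), rfl⟩

/-- the subgroup generated by commuting elements is commutative -/
theorem comm_closure {S : Set P} (h : ∀ x ∈ S, ∀ y ∈ S, x * y = y * x) :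
    ∀ x ∈ closure S, ∀ y ∈ closure S, x * y = y * x := by
  intro x hx y hy
  have h1 : closure S ≤ centralizer (S : Set P) := by
    rw [closure_le]; exact fun x hx => mem_centralizer_iff.2 fun y hy => h y hy x hx
  have h2 : closure S ≤ centralizer ({x} : Set P) := by
    rw [closure_le]
    exact fun y hy => mem_centralizer_singleton_iff.2 (mem_centralizer_iff.1 (h1 hx) y hy)
  exact (mem_centralizer_singleton_iff.1 (h2 hy)).symm

theorem card_zpowers_le (hexp : ∀ x : P, x ^ p = 1) (a : P) : Nat.card (zpowers a) ≤ p := by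
  rw [Nat.card_zpowers]
  exact Nat.le_of_dvd hp.out.pos (orderOf_dvd_of_pow_eq_one (hexp a))

theorem card_of_le_three (hP : IsPGroup p P) (hexp : ∀ x : P, x ^ p = 1)
    (hiso : ∀ H K : Subgroup P, Nat.card H = Nat.card K → Nonempty (H ≃* K))
    (hna : ¬ IsMulCommutative P) : Nat.card P = p ^ 3 := by
  classical
  haveI := hP.isNilpotent
  obtain ⟨n, hn⟩ := IsPGroup.iff_card.1 hP
  have hsmall : ∀ (H : Subgroup P), Nat.card H ≤ p ^ 2 → ∀ x ∈ H, ∀ y ∈ H, x * y = y * x := by
    intro H hH x hx y hy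
    obtain ⟨i, hi⟩ := IsPGroup.iff_card.1 (hP.to_subgroup H)
    have hi2 : i ≤ 2 := (Nat.pow_le_pow_iff_right hp.out.one_lt).1 (hi ▸ hH)
    interval_cases i
    · haveI := (Nat.card_eq_one_iff_unique.1 (hi.trans (pow_zero p))).1
      exact congrArg Subtype.val (Subsingleton.elim (⟨x, hx⟩ * ⟨y, hy⟩ : H) (⟨y, hy⟩ * ⟨x, hx⟩))
    · haveI := isCyclic_of_prime_card (hi.trans (pow_one p))
      exact congrArg Subtype.val ((IsCyclic.commGroup (α := H)).mul_comm ⟨x, hx⟩ ⟨y, hy⟩)
    · exact congrArg Subtype.val (IsPGroup.commutative_of_card_eq_prime_sq hi ⟨x, hx⟩ ⟨y, hy⟩)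
  -- a nonabelian subgroup of order at most `p ^ 3`
  obtain ⟨a, ha, b, hab, hcab⟩ : ∃ a : P, a ∉ center P ∧ ∃ b : P, a * b ≠ b * a ∧
      ⁅a, b⁆ ∈ center P := by
    have hne : center P ≠ ⊤ := fun h =>
      hna ⟨⟨fun u v => mem_center_iff.1 (h ▸ mem_top v) u⟩⟩
    haveI : Nontrivial (P ⧸ center P) := QuotientGroup.nontrivial_iff.2 hne
    obtain ⟨⟨q, hq⟩, hq1⟩ := (nontrivial_iff_exists_ne (1 : center (P ⧸ center P))).1
      (hP.to_quotient _).center_nontrivial
    obtain ⟨a, rfl⟩ := QuotientGroup.mk_surjective q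
    have ha : a ∉ center P := fun h => hq1 (Subtype.ext ((QuotientGroup.eq_one_iff a).2 h))
    refine ⟨a, ha, ?_⟩
    rw [mem_center_iff] at ha
    push Not at ha
    obtain ⟨b, hb⟩ := ha
    refine ⟨b, fun h => hb h.symm, ?_⟩
    rw [← QuotientGroup.eq_one_iff]
    show QuotientGroup.mk' (center P) ⁅a, b⁆ = 1
    rw [map_commutatorElement, commutatorElement_eq_one_iff_mul_comm]
    exact (mem_center_iff.1 hq _).symm
  have hc : ∀ t, Commute ⁅a, b⁆ t := fun t => (mem_center_iff.1 hcab t).symm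
  obtain ⟨H, hHdef⟩ : ∃ H : Subgroup P, H = zpowers b ⊔ (zpowers a ⊔ zpowers ⁅a, b⁆) := ⟨_, rfl⟩
  have haK : zpowers a ≤ normalizer ((zpowers ⁅a, b⁆ : Subgroup P) : Set P) := by
    rw [zpowers_le, mem_normalizer_iff]
    intro x
    constructor
    · intro hx
      have : Commute x a := by
        obtain ⟨i, rfl⟩ := hx
        exact (hc a).zpow_left i
      rwa [← this.eq, mul_inv_cancel_right]
    · intro hx
      have : Commute (a * x * a⁻¹) a := by
        obtain ⟨i, hi⟩ := hx
        simp only at hi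
        rw [← hi]
        exact (hc a).zpow_left i
      have h2 : x = a * x * a⁻¹ := by
        calc x = a⁻¹ * (a * x * a⁻¹ * a) := by group
          _ = a⁻¹ * (a * (a * x * a⁻¹)) := by rw [this.eq]
          _ = _ := by group
      rwa [h2]
  have hbK : zpowers b ≤ normalizer ((zpowers a ⊔ zpowers ⁅a, b⁆ : Subgroup P) : Set P) := by
    rw [zpowers_le, Subgroup.mem_normalizer_iff_map_conj_eq]
    refine Subgroup.eq_of_le_of_card_ge ?_ ?_
    · rw [Subgroup.map_sup, MonoidHom.map_zpowers, MonoidHom.map_zpowers, sup_le_iff, zpowers_le, zpowers_le]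
      refine ⟨?_, ?_⟩
      · show b * a * b⁻¹ ∈ _
        rw [show b * a * b⁻¹ = ⁅a, b⁆⁻¹ * a by
          rw [commutatorElement_def]; group]
        exact mul_mem (inv_mem (mem_sup_right (mem_zpowers _))) (mem_sup_left (mem_zpowers _))
      · show b * ⁅a, b⁆ * b⁻¹ ∈ _
        rw [← (hc b).eq, mul_inv_cancel_right]
        exact mem_sup_right (mem_zpowers _)
    · rw [Subgroup.card_map_of_injective (MulEquiv.injective _)]
  have hHle : Nat.card H ≤ p ^ 3 := by
    rw [hHdef]
    refine (card_sup_le_mul hbK).trans ?_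
    rw [pow_succ']
    refine Nat.mul_le_mul (card_zpowers_le hexp b) ((card_sup_le_mul haK).trans ?_)
    rw [pow_two]
    exact Nat.mul_le_mul (card_zpowers_le hexp _) (card_zpowers_le hexp _)
  have haH : a ∈ H := hHdef ▸ mem_sup_right (mem_sup_left (mem_zpowers a))
  have hbH : b ∈ H := hHdef ▸ mem_sup_left (mem_zpowers b)
  obtain ⟨i, hi⟩ := IsPGroup.iff_card.1 (hP.to_subgroup H)
  have hi3 : i ≤ 3 := (Nat.pow_le_pow_iff_right hp.out.one_lt).1 (hi ▸ hHle)
  have hi3' : i = 3 := by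
    by_contra h
    exact hab (hsmall H (hi ▸ Nat.pow_le_pow_right hp.out.pos (by omega)) a haH b hbH)
  subst hi3'
  have hn3 : 3 ≤ n := (Nat.pow_le_pow_iff_right hp.out.one_lt).1 (by
    rw [← hi, ← hn]; exact Subgroup.card_le_card_group H)
  by_contra hne
  have hn4 : 4 ≤ n := by
    rcases Nat.lt_or_ge n 4 with h | h
    · exact absurd (show n = 3 by omega) (fun e => hne (hn.trans (by rw [e])))
    · exact h
  -- an abelian subgroup of order `p ^ 3`
  obtain ⟨z, hz, hzo⟩ : ∃ z ∈ center P, orderOf z = p := by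
    haveI : Nontrivial P := by
      by_contra h
      rw [not_nontrivial_iff_subsingleton] at h
      exact hab (Subsingleton.elim _ _)
    obtain ⟨⟨z, hz⟩, hz1⟩ := (nontrivial_iff_exists_ne (1 : center P)).1 hP.center_nontrivial
    exact ⟨z, hz, orderOf_eq_prime (hexp z) fun h => hz1 (Subtype.ext h)⟩
  haveI hZn : (zpowers z).Normal := ⟨fun x hx g => by
    have hxc : x ∈ center P := zpowers_le.2 hz hx
    rwa [mem_center_iff.1 hxc g, mul_inv_cancel_right]⟩
  have hZtop : zpowers z ≠ ⊤ := fun h => by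
    have h' := congrArg (fun K : Subgroup P => Nat.card K) h
    simp only [Nat.card_zpowers, hzo, Subgroup.card_top, hn] at h'
    have : n = 1 := Nat.pow_right_injective hp.out.two_le (show p ^ n = p ^ 1 by rw [pow_one]; exact h'.symm)
    omega
  haveI : Nontrivial (P ⧸ zpowers z) := QuotientGroup.nontrivial_iff.2 hZtop
  obtain ⟨⟨q, hq⟩, hq1⟩ := (nontrivial_iff_exists_ne (1 : center (P ⧸ zpowers z))).1
    (hP.to_quotient _).center_nontrivial
  obtain ⟨u, rfl⟩ := QuotientGroup.mk_surjective q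
  have huz : u ∉ zpowers z := fun h => hq1 (Subtype.ext ((QuotientGroup.eq_one_iff u).2 h))
  have hcu : ∀ t, t * u * t⁻¹ * u⁻¹ ∈ zpowers z := fun t => by
    rw [← QuotientGroup.eq_one_iff]
    show QuotientGroup.mk' _ _ = 1
    have := mem_center_iff.1 hq (QuotientGroup.mk' _ t)
    simp only [map_mul, map_inv]
    change QuotientGroup.mk' _ t * QuotientGroup.mk' _ u = QuotientGroup.mk' _ u * QuotientGroup.mk' _ t at this
    rw [this]; group
  let φ : P →* zpowers z :=
    { toFun := fun t => ⟨t * u * t⁻¹ * u⁻¹, hcu t⟩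
      map_one' := by ext; simp
      map_mul' := fun s t => by
        apply Subtype.ext
        have hcc : Commute (t * u * t⁻¹ * u⁻¹) (u * s⁻¹) :=
          (mem_center_iff.1 (zpowers_le.2 hz (hcu t)) _).symm
        show s * t * u * (s * t)⁻¹ * u⁻¹ = s * u * s⁻¹ * u⁻¹ * (t * u * t⁻¹ * u⁻¹)
        calc s * t * u * (s * t)⁻¹ * u⁻¹ = s * ((t * u * t⁻¹ * u⁻¹) * (u * s⁻¹)) * u⁻¹ := by group
          _ = s * ((u * s⁻¹) * (t * u * t⁻¹ * u⁻¹)) * u⁻¹ := by rw [hcc.eq]
          _ = s * u * s⁻¹ * ((t * u * t⁻¹ * u⁻¹) * u⁻¹) := by group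
          _ = s * u * s⁻¹ * (u⁻¹ * (t * u * t⁻¹ * u⁻¹)) := by
              rw [mem_center_iff.1 (zpowers_le.2 hz (hcu t)) u⁻¹]
          _ = _ := by group }
  have hker : ∀ t ∈ φ.ker, t * u = u * t := fun t ht => by
    have h : t * u * t⁻¹ * u⁻¹ = 1 := congrArg Subtype.val (MonoidHom.mem_ker.1 ht)
    rwa [mul_inv_eq_one, mul_inv_eq_iff_eq_mul] at h
  have hzu : zpowers u ≤ normalizer ((zpowers z : Subgroup P) : Set P) := by
    rw [normalizer_eq_top_iff.2 hZn]; exact le_top
  obtain ⟨v, hv, hvA⟩ : ∃ v ∈ φ.ker, v ∉ zpowers u ⊔ zpowers z := by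
    by_contra h
    push Not at h
    have h1 : Nat.card φ.ker ≤ p ^ 2 := (Subgroup.card_le_of_le h).trans
      ((card_sup_le_mul hzu).trans (by
        rw [pow_two]; exact Nat.mul_le_mul (card_zpowers_le hexp u) (card_zpowers_le hexp z)))
    have h2 := Subgroup.card_mul_index φ.ker
    rw [Subgroup.index_ker, hn] at h2
    have h3 : Nat.card φ.range ≤ p := (Subgroup.card_le_card_group _).trans (by rw [Nat.card_zpowers, hzo])
    have h4 : p ^ n ≤ p ^ 3 := by
      rw [← h2, pow_succ p 2]; exact Nat.mul_le_mul h1 h3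
    have := (Nat.pow_le_pow_iff_right hp.out.one_lt).1 h4
    omega
  obtain ⟨A, hAdef⟩ : ∃ A : Subgroup P, A = zpowers v ⊔ (zpowers u ⊔ zpowers z) := ⟨_, rfl⟩
  have hAeq : A = closure ({v, u, z} : Set P) := by
    rw [hAdef, zpowers_eq_closure, zpowers_eq_closure, zpowers_eq_closure, ← Subgroup.closure_union,
      ← Subgroup.closure_union]
    rfl
  have hAc : ∀ x ∈ A, ∀ y ∈ A, x * y = y * x := by
    rw [hAeq]
    refine comm_closure ?_
    have hzc : ∀ t, z * t = t * z := fun t => (mem_center_iff.1 hz t).symm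
    rintro x (rfl | rfl | rfl) y (rfl | rfl | rfl) <;>
      first | rfl | exact hker _ hv | exact (hker _ hv).symm | exact hzc _ | exact (hzc _).symm
  have hAle : Nat.card A ≤ p ^ 3 := by
    rw [hAdef]
    refine (card_sup_le_mul ?_).trans ?_
    · refine le_trans ?_ (centralizer_le_normalizer _)
      rw [zpowers_le, mem_centralizer_iff]
      intro t ht
      exact hAc t (hAdef ▸ mem_sup_right ht) v (hAdef ▸ mem_sup_left (mem_zpowers v))
    · rw [pow_succ']
      refine Nat.mul_le_mul (card_zpowers_le hexp v) ((card_sup_le_mul hzu).trans ?_)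
      rw [pow_two]; exact Nat.mul_le_mul (card_zpowers_le hexp u) (card_zpowers_le hexp z)
  obtain ⟨j, hj⟩ := IsPGroup.iff_card.1 (hP.to_subgroup A)
  obtain ⟨k, hk⟩ := IsPGroup.iff_card.1 (hP.to_subgroup (zpowers u ⊔ zpowers z))
  have hk1 : zpowers z < zpowers u ⊔ zpowers z := lt_of_le_of_ne le_sup_right fun h =>
    huz (h.symm ▸ mem_sup_left (mem_zpowers u))
  have hk2 : zpowers u ⊔ zpowers z < A := lt_of_le_of_ne (hAdef ▸ le_sup_right) fun h =>
    hvA (h.symm ▸ hAdef ▸ mem_sup_left (mem_zpowers v))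
  have hcl : ∀ {X Y : Subgroup P}, X < Y → Nat.card X < Nat.card Y := fun {X Y} h => by
    by_contra hle
    exact h.ne (Subgroup.eq_of_le_of_card_ge h.le (not_lt.1 hle))
  have h1k : 1 < k := by
    have := hcl hk1
    rw [Nat.card_zpowers, hzo, hk] at this
    exact (Nat.pow_lt_pow_iff_right hp.out.one_lt).1 (by rwa [pow_one])
  have hkj : k < j := by
    have := hcl hk2
    rw [hk, hj] at this
    exact (Nat.pow_lt_pow_iff_right hp.out.one_lt).1 this
  have hj3 : j = 3 := le_antisymm ((Nat.pow_le_pow_iff_right hp.out.one_lt).1 (hj ▸ hAle)) (by omega)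
  obtain ⟨e⟩ := hiso H A (by rw [hi, hj, hj3])
  refine hab ?_
  have h := congrArg e.symm (Subtype.ext (hAc _ (e ⟨a, haH⟩).2 _ (e ⟨b, hbH⟩).2) :
    e ⟨a, haH⟩ * e ⟨b, hbH⟩ = e ⟨b, hbH⟩ * e ⟨a, haH⟩)
  rw [map_mul, map_mul, MulEquiv.symm_apply_apply, MulEquiv.symm_apply_apply] at h
  exact congrArg Subtype.val h

theorem main (hP : IsPGroup p P)
    (hiso : ∀ H K : Subgroup P, Nat.card H = Nat.card K → Nonempty (H ≃* K)) :
    IsCyclic P ∨ (IsMulCommutative P ∧ ∀ x : P, x ^ p = 1) ∨
      (p = 2 ∧ Nonempty (P ≃* QuaternionGroup 2)) ∨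
      (p ≠ 2 ∧ ¬ IsMulCommutative P ∧ Nat.card P = p ^ 3 ∧ Monoid.exponent P = p) := by
  classical
  have hcyc : ∀ (H K : Subgroup P), Nat.card H = Nat.card K → IsCyclic H → IsCyclic K := by
    intro H K h hH
    obtain ⟨e⟩ := hiso H K h
    exact isCyclic_of_surjective e.toMonoidHom e.surjective
  by_cases hu : ∀ x y : P, orderOf x = p → orderOf y = p → y ∈ zpowers x
  · rcases CfsgLib.UniqueInvol.cyclic_or_quaternion hP hu with h | ⟨rfl, n, hn, ⟨e⟩⟩
    · exact Or.inl h
    · right; right; left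
      refine ⟨rfl, ?_⟩
      rcases Nat.lt_or_ge n 2 with h2 | h2
      · obtain rfl : n = 1 := by omega
        exact ⟨e⟩
      exfalso
      haveI : NeZero (2 ^ n) := ⟨by positivity⟩
      obtain ⟨m, rfl⟩ : ∃ m, n = m + 2 := ⟨n - 2, by omega⟩
      -- an element of order eight and a subgroup of order eight containing `xa 0`
      let y := e.symm (QuaternionGroup.xa 0)
      let x := e.symm ((QuaternionGroup.a 1) ^ (2 ^ m))
      have hy : orderOf y = 4 := by rw [MulEquiv.orderOf_eq, QuaternionGroup.orderOf_xa]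
      have hx : orderOf x = 8 := by
        rw [MulEquiv.orderOf_eq, orderOf_pow_of_dvd (pow_ne_zero _ two_ne_zero)
          (by rw [QuaternionGroup.orderOf_a_one]; exact ⟨8, by ring⟩), QuaternionGroup.orderOf_a_one,
          show 2 * 2 ^ (m + 2) = 2 ^ m * 8 by ring, Nat.mul_div_cancel_left _ (by positivity)]
      have hdvd : 2 ^ 3 ∣ Nat.card P := by
        rw [Nat.card_congr e.toEquiv, Nat.card_eq_fintype_card, QuaternionGroup.card]
        exact ⟨2 ^ (m + 1), by ring⟩
      obtain ⟨K, hK, hle⟩ := Sylow.exists_subgroup_card_pow_prime_le 2 (n := 2) (m := 3) hdvd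
        (zpowers y) (by rw [Nat.card_zpowers, hy]; rfl) (by omega)
      haveI := hcyc (zpowers x) K (by rw [Nat.card_zpowers, hx, hK]; rfl)
        (by exact Subgroup.isCyclic_zpowers x)
      obtain ⟨k, hk⟩ := IsCyclic.exists_generator (α := K)
      have hk8 : orderOf (k : P) = 8 := by
        rw [Subgroup.orderOf_coe, orderOf_eq_card_of_forall_mem_zpowers hk, hK]; rfl
      have hyk : y ∈ zpowers (k : P) := by
        obtain ⟨i, hi⟩ := hk ⟨y, hle (mem_zpowers y)⟩
        exact ⟨i, congrArg Subtype.val hi⟩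
      obtain ⟨i, hi⟩ := (Submonoid.mem_powers_iff _ _).1 (mem_powers_iff_mem_zpowers.2 hyk)
      have hek : ∃ j, e (k : P) = QuaternionGroup.a j := by
        rcases h : e (k : P) with j | j
        · exact ⟨j, rfl⟩
        · exfalso
          rw [← e.orderOf_eq, h, QuaternionGroup.orderOf_xa] at hk8
          omega
      obtain ⟨j, hj⟩ := hek
      have := congrArg e hi
      rw [map_pow, hj, e.apply_symm_apply] at this
      have hpow : ∀ i : ℕ, ∃ l, (QuaternionGroup.a j) ^ i = QuaternionGroup.a l := fun i => by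
        induction i with
        | zero => exact ⟨0, by rw [pow_zero]; rfl⟩
        | succ i ih =>
          obtain ⟨l, hl⟩ := ih
          exact ⟨l + j, (pow_succ _ i).trans (by rw [hl, QuaternionGroup.a_mul_a])⟩
      obtain ⟨l, hl⟩ := hpow i
      rw [hl] at this
      cases this
  push Not at hu
  obtain ⟨x, y, hx, hy, hxy⟩ := hu
  haveI : Nontrivial P := ⟨⟨x, 1, fun h => hp.out.ne_one (by rw [← hx, h, orderOf_one])⟩⟩
  obtain ⟨z, hz, hzo⟩ : ∃ z ∈ center P, orderOf z = p := by
    haveI := hP.center_nontrivial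
    obtain ⟨k, hk⟩ := IsPGroup.iff_card.1 (hP.to_subgroup (center P))
    have hk0 : k ≠ 0 := by
      rintro rfl
      have := Finite.one_lt_card (α := center P)
      rw [hk, pow_zero] at this
      exact lt_irrefl _ this
    obtain ⟨z, hz⟩ := exists_prime_orderOf_dvd_card' (G := center P) p (hk ▸ dvd_pow_self p hk0)
    exact ⟨z, z.2, by rw [Subgroup.orderOf_coe, hz]⟩
  obtain ⟨w, hwo, hwz⟩ : ∃ w, orderOf w = p ∧ w ∉ zpowers z := by
    by_contra h
    push Not at h
    have hxz := h x hx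
    have heq : zpowers x = zpowers z := Subgroup.eq_of_le_of_card_ge (zpowers_le.2 hxz)
      (by rw [Nat.card_zpowers, Nat.card_zpowers, hx, hzo])
    exact hxy (heq ▸ h y hy)
  have hexp : ∀ g : P, g ^ p = 1 := by
    intro g
    by_contra hg
    obtain ⟨k, hk⟩ := (IsPGroup.iff_orderOf.1 hP) g
    have hk2 : 2 ≤ k := by
      by_contra hlt
      refine hg (orderOf_dvd_iff_pow_eq_one.1 ?_)
      rw [hk]
      exact (pow_dvd_pow p (by omega : k ≤ 1)).trans (by rw [pow_one])
    have hgo : orderOf (g ^ p ^ (k - 2)) = p ^ 2 := by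
      rw [orderOf_pow_of_dvd (pow_ne_zero _ hp.out.ne_zero) (hk ▸ pow_dvd_pow p (by omega)), hk,
        Nat.pow_div (by omega) hp.out.pos, show k - (k - 2) = 2 by omega]
    have hdisj : zpowers z ⊓ zpowers w = ⊥ := by
      rw [← Subgroup.card_eq_one]
      have h1 := Subgroup.card_dvd_of_le (inf_le_right : zpowers z ⊓ zpowers w ≤ zpowers w)
      rw [Nat.card_zpowers, hwo] at h1
      refine (hp.out.eq_one_or_self_of_dvd _ h1).resolve_right fun h => hwz ?_
      have h2 := Subgroup.eq_of_le_of_card_ge (inf_le_right : zpowers z ⊓ zpowers w ≤ zpowers w)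
        (by rw [h, Nat.card_zpowers, hwo])
      exact (inf_eq_right.1 h2) (mem_zpowers w)
    have hnorm : zpowers w ≤ normalizer ((zpowers z : Subgroup P) : Set P) := by
      refine le_trans ?_ (centralizer_le_normalizer _)
      rw [zpowers_le, mem_centralizer_iff]
      intro t ht
      exact (mem_center_iff.1 (zpowers_le.2 hz ht) w).symm
    have hcard := CfsgLib.Solvable.card_sup_mul_card_inf hnorm
    rw [inf_comm, hdisj, Subgroup.card_bot, mul_one, Nat.card_zpowers, Nat.card_zpowers, hwo, hzo,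
      ← pow_two] at hcard
    haveI := hcyc (zpowers (g ^ p ^ (k - 2))) (zpowers w ⊔ zpowers z)
      (by rw [Nat.card_zpowers, hgo, hcard]) (Subgroup.isCyclic_zpowers _)
    obtain ⟨c, hc⟩ := IsCyclic.exists_generator (α := ↥(zpowers w ⊔ zpowers z))
    have hc2 : orderOf c = p ^ 2 := by rw [orderOf_eq_card_of_forall_mem_zpowers hc, hcard]
    have hzc : ∀ t ∈ zpowers w ⊔ zpowers z, t ^ p = 1 := by
      intro t ht
      obtain ⟨a, ha, b, hb, rfl⟩ := (CfsgLib.Solvable.mem_sup_of_le_normalizer hnorm).1 ht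
      rw [Commute.mul_pow (mem_center_iff.1 (zpowers_le.2 hz hb) a)]
      have ha' : a ^ p = 1 := orderOf_dvd_iff_pow_eq_one.1 (hwo ▸ orderOf_dvd_of_mem_zpowers ha)
      have hb' : b ^ p = 1 := orderOf_dvd_iff_pow_eq_one.1 (hzo ▸ orderOf_dvd_of_mem_zpowers hb)
      rw [ha', hb', mul_one]
    have : orderOf c ∣ p := orderOf_dvd_of_pow_eq_one (Subtype.ext (hzc c c.2))
    rw [hc2] at this
    have := Nat.le_of_dvd hp.out.pos this
    nlinarith [hp.out.two_le]
  by_cases hab : IsMulCommutative P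
  · exact Or.inr (Or.inl ⟨hab, hexp⟩)
  have hp2 : p ≠ 2 := by
    rintro rfl
    refine hab ⟨⟨fun u v => ?_⟩⟩
    have inv : ∀ t : P, t⁻¹ = t := fun t => inv_eq_of_mul_eq_one_right (by rw [← pow_two]; exact hexp t)
    calc u * v = (u * v)⁻¹ := (inv _).symm
      _ = v * u := by rw [mul_inv_rev, inv, inv]
  refine Or.inr (Or.inr (Or.inr ⟨hp2, hab, card_of_le_three hP hexp hiso hab, ?_⟩))
  refine Nat.dvd_antisymm (Monoid.exponent_dvd_of_forall_pow_eq_one hexp) ?_
  rw [← hx]
  exact Monoid.order_dvd_exponent x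

end CfsgLib.SameOrder

namespace CfsgLib.SameOrder

theorem sylow_types {G : Type*} [Group G] [Finite G] {p : ℕ} [Fact p.Prime]
    (hC : ∀ H K : Subgroup G, IsPGroup p H → IsPGroup p K → Nat.card H = Nat.card K →
      ∃ g : G, K = H.map (MulAut.conj g).toMonoidHom) (P : Sylow p G) :
    IsCyclic P ∨ (IsMulCommutative P ∧ ∀ x ∈ (P : Subgroup G), x ^ p = 1) ∨
      (p = 2 ∧ Nonempty ((P : Subgroup G) ≃* QuaternionGroup 2)) ∨
      (p ≠ 2 ∧ ¬ IsMulCommutative P ∧ Nat.card P = p ^ 3 ∧ Monoid.exponent P = p) := by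
  refine (main (P := (P : Subgroup G)) P.2 fun H K h => ?_).imp_right
    (Or.imp_left (And.imp_right fun h x hx => congrArg Subtype.val (h ⟨x, hx⟩)))
  have hi := (P : Subgroup G).subtype_injective
  obtain ⟨g, hg⟩ := hC (H.map (P : Subgroup G).subtype) (K.map (P : Subgroup G).subtype)
    ((P.2.to_subgroup H).map _) ((P.2.to_subgroup K).map _)
    (by rw [Subgroup.card_map_of_injective hi, Subgroup.card_map_of_injective hi, h])
  exact ⟨(H.equivMapOfInjective _ hi).trans
    (((H.map (P : Subgroup G).subtype).equivMapOfInjective _ (MulAut.conj g).injective).trans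
      ((MulEquiv.subgroupCongr hg.symm).trans (K.equivMapOfInjective _ hi).symm))⟩

end CfsgLib.SameOrder
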