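import Mathlib.GroupTheory.Nilpotent
import Mathlib.GroupTheory.PGroup
import Mathlib.GroupTheory.QuotientGroup.Basic
import Mathlib.GroupTheory.Sylow
import Mathlib.Algebra.Order.BigOperators.Group.Finset
import Mathlib.Tactic.Group

/-!
`p`-groups with a small self-centralizing subgroup have maximal class.
-/

set_option autoImplicit false
set_option linter.unusedSectionVars false
set_option linter.style.haveILetI false

namespace CfsgLib.SelfCentralizing

open Subgroup

universe u

/-- An element with centralizer of order at most `p ^ 2`. -/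
theorem class_of_small_centralizer {p : ℕ} (hp : p.Prime) : ∀ (m : ℕ) (Y : Type u) [Group Y] [Finite Y]
    [Group.IsNilpotent Y],
    2 ≤ m → Nat.card Y = p ^ m → ∀ x : Y, Nat.card (centralizer ({x} : Set Y)) ≤ p ^ 2 →
      Group.nilpotencyClass Y = m - 1 := by
  haveI := Fact.mk hp
  intro m
  induction m with
  | zero => intro Y _ _ _ h; omega
  | succ m ih =>
    intro Y _ _ _ hm hY x hx
    have hP : IsPGroup p Y := IsPGroup.of_card hY
    haveI : Nontrivial Y := Finite.one_lt_card_iff_nontrivial.1 (by
      rw [hY]; exact Nat.one_lt_pow (by omega) hp.one_lt)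
    rcases Nat.lt_or_ge m 2 with hm2 | hm2
    · -- order `p ^ 2`
      have hcard : Nat.card Y = p ^ 2 := by rw [hY]; congr 1; omega
      letI := IsPGroup.commGroupOfCardEqPrimeSq hcard
      have h1 : Group.nilpotencyClass Y ≤ 1 := CommGroup.nilpotencyClass_le_one
      have h2 : Group.nilpotencyClass Y ≠ 0 := by
        intro h
        haveI := Group.nilpotencyClass_zero_iff_subsingleton.1 h
        exact not_subsingleton Y inferInstance
      omega
    have hZC : center Y ≤ centralizer ({x} : Set Y) := Subgroup.center_le_centralizer _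
    obtain ⟨k, hk⟩ := IsPGroup.iff_card.1 (hP.to_subgroup (center Y))
    have hk1 : 1 ≤ k := by
      by_contra hlt
      haveI := hP.center_nontrivial
      have := Finite.one_lt_card_iff_nontrivial.2 (inferInstance : Nontrivial (center Y))
      rw [hk, show k = 0 by omega, pow_zero] at this
      exact lt_irrefl 1 this
    have hxZ : x ∉ center Y := by
      intro h
      have htop : centralizer ({x} : Set Y) = ⊤ := by
        rw [eq_top_iff]
        intro y _
        exact mem_centralizer_singleton_iff.2 (Subgroup.mem_center_iff.1 h y)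
      rw [htop, Subgroup.card_top, hY] at hx
      have := (Nat.pow_le_pow_iff_right hp.one_lt).1 hx
      omega
    have hZ : Nat.card (center Y) = p := by
      have hlt : center Y < centralizer ({x} : Set Y) :=
        lt_of_le_of_ne hZC fun h => hxZ (h ▸ mem_centralizer_singleton_iff.2 rfl)
      have hc : Nat.card (center Y) < p ^ 2 := by
        refine lt_of_lt_of_le ?_ hx
        exact lt_of_le_of_ne (Subgroup.card_le_of_le hlt.le) fun h =>
          hlt.ne (Subgroup.eq_of_le_of_card_ge hlt.le h.ge)
      rw [hk] at hc ⊢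
      have := (Nat.pow_lt_pow_iff_right hp.one_lt).1 hc
      rw [show k = 1 by omega, pow_one]
    have hq : Nat.card (Y ⧸ center Y) = p ^ m := by
      refine Nat.eq_of_mul_eq_mul_right (Nat.card_pos (α := center Y)) ?_
      rw [← Subgroup.card_eq_card_quotient_mul_card_subgroup, hY, hZ, pow_succ]
    set π := QuotientGroup.mk' (center Y) with hπ
    have hker : π.ker = center Y := QuotientGroup.ker_mk' _
    obtain ⟨D, hD⟩ : ∃ D, D = (centralizer ({π x} : Set (Y ⧸ center Y))).comap π := ⟨_, rfl⟩
    have hDc : Nat.card D = Nat.card (centralizer ({π x} : Set (Y ⧸ center Y))) * p := by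
      have h := Subgroup.card_mul_index D
      have hidx : D.index = (centralizer ({π x} : Set (Y ⧸ center Y))).index :=
        hD ▸ index_comap_of_surjective _ (QuotientGroup.mk'_surjective _)
      refine Nat.eq_of_mul_eq_mul_right (Nat.pos_of_ne_zero (Subgroup.index_ne_zero_of_finite (H := D))) ?_
      rw [h, hY, hidx, mul_right_comm, Subgroup.card_mul_index, hq, pow_succ]
    have hmemD : ∀ y, y ∈ D → y * x * y⁻¹ * x⁻¹ ∈ center Y := by
      intro y hy
      rw [hD, mem_comap, mem_centralizer_singleton_iff] at hy
      rw [← hker, MonoidHom.mem_ker]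
      simp only [map_mul, map_inv]
      rw [hy]
      group
    classical
    haveI := Fintype.ofFinite Y
    have hDle : Nat.card D ≤ p * p ^ 2 := by
      have h := Finset.card_le_mul_card_image (f := fun y : D => (y : Y) * x * (y : Y)⁻¹ * x⁻¹)
        (Finset.univ : Finset D) (p ^ 2) ?_
      · rw [Finset.card_univ, ← Nat.card_eq_fintype_card] at h
        refine h.trans ?_
        rw [mul_comm]
        refine Nat.mul_le_mul_right _ ?_
        rw [← hZ, Nat.card_eq_fintype_card (α := center Y), ← Fintype.card_coe]
        refine Fintype.card_le_of_injective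
          (fun z => (⟨z.1, by
            obtain ⟨y, -, hy⟩ := Finset.mem_image.1 z.2
            exact hy ▸ hmemD _ y.2⟩ : center Y)) fun a b hab => Subtype.ext (congrArg Subtype.val hab :)
      · intro z hz
        obtain ⟨y0, -, hy0⟩ := Finset.mem_image.1 hz
        refine le_trans ?_ hx
        rw [← Fintype.card_coe, ← Nat.card_eq_fintype_card]
        refine Nat.card_le_card_of_injective (fun y => (⟨(y0 : Y)⁻¹ * (y.1 : Y), ?_⟩ : centralizer ({x} : Set Y))) ?_
        · have he : (y.1 : Y) * x * (y.1 : Y)⁻¹ = (y0 : Y) * x * (y0 : Y)⁻¹ :=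
            mul_right_cancel ((Finset.mem_filter.1 y.2).2.trans hy0.symm)
          rw [mem_centralizer_singleton_iff]
          calc (y0 : Y)⁻¹ * y.1 * x = (y0 : Y)⁻¹ * ((y.1 : Y) * x * (y.1 : Y)⁻¹) * y.1 := by group
            _ = x * ((y0 : Y)⁻¹ * y.1) := by rw [he]; group
        · intro a b hab
          exact Subtype.ext (Subtype.ext (mul_left_cancel (congrArg Subtype.val hab)))
    have hcent : Nat.card (centralizer ({π x} : Set (Y ⧸ center Y))) ≤ p ^ 2 := by
      rw [hDc, mul_comm p] at hDle
      exact Nat.le_of_mul_le_mul_right hDle hp.pos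
    have h := ih (Y ⧸ center Y) hm2 hq (π x) hcent
    rw [Group.nilpotencyClass_quotient_center] at h
    omega

/-- A self-centralizing nonabelian subgroup of order `p ^ 3`. -/
theorem class_of_self_centralizing {X : Type u} [Group X] [Finite X] {p : ℕ} [Fact p.Prime] (n : ℕ)
    (hX : Nat.card X = p ^ n) (B : Subgroup X) (hB : Nat.card B = p ^ 3) (hBna : ¬ IsMulCommutative B)
    (hC : centralizer (B : Set X) ≤ B) : Group.nilpotencyClass X = n - 1 := by
  classical
  have hp := (Fact.out : p.Prime)
  have hP : IsPGroup p X := IsPGroup.of_card hX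
  haveI := hP.isNilpotent
  have hn : 3 ≤ n := (Nat.pow_le_pow_iff_right hp.one_lt).1 (hX ▸ hB ▸ Subgroup.card_le_card_group B)
  haveI : Nontrivial X := Finite.one_lt_card_iff_nontrivial.1 (by
    rw [hX]; exact Nat.one_lt_pow (by omega) hp.one_lt)
  obtain ⟨c, d, hc, hd, hcd⟩ : ∃ c d, c ∈ B ∧ d ∈ B ∧ c * d ≠ d * c := by
    by_contra h
    push Not at h
    exact hBna ⟨⟨fun a b => Subtype.ext (h a b a.2 b.2)⟩⟩
  have hgen : B ≤ closure ({c, d} : Set X) := by
    set S := closure ({c, d} : Set X) with hS
    have hle : S ≤ B := (closure_le _).2 (by rintro z (rfl | rfl) <;> assumption)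
    obtain ⟨i, hi, hSi⟩ := (Nat.dvd_prime_pow hp).1 (hB ▸ Subgroup.card_dvd_of_le hle)
    rcases Nat.lt_or_ge i 3 with h3 | h3
    · exfalso
      refine hcd ?_
      have hcS : c ∈ S := subset_closure (by simp)
      have hdS : d ∈ S := subset_closure (by simp)
      interval_cases i
      · rw [pow_zero, Subgroup.card_eq_one] at hSi
        rw [hSi, mem_bot] at hcS
        rw [hcS, one_mul, mul_one]
      · rw [pow_one] at hSi
        haveI := isCyclic_of_prime_card hSi
        exact congrArg Subtype.val ((IsCyclic.commGroup (α := S)).mul_comm ⟨c, hcS⟩ ⟨d, hdS⟩)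
      · exact congrArg Subtype.val
          ((IsPGroup.commGroupOfCardEqPrimeSq hSi).mul_comm ⟨c, hcS⟩ ⟨d, hdS⟩)
    · exact (Subgroup.eq_of_le_of_card_ge hle (hB ▸ hSi ▸ Nat.pow_le_pow_right hp.pos h3)).ge
  have hcomm : ∀ g, g * c = c * g → g * d = d * g → g ∈ centralizer (B : Set X) := by
    intro g h1 h2
    refine mem_centralizer_iff.2 fun b hb => (?_ : g * b = b * g).symm
    have hle : closure ({c, d} : Set X) ≤ centralizer ({g} : Set X) := by
      rw [closure_le]
      rintro z (rfl | rfl)
      · exact mem_centralizer_singleton_iff.2 h1.symm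
      · exact mem_centralizer_singleton_iff.2 h2.symm
    exact (mem_centralizer_singleton_iff.1 (hle (hgen hb))).symm
  have hZB : center X ≤ centralizer (B : Set X) := center_le_centralizer _
  have hCBp : Nat.card (centralizer (B : Set X)) = p := by
    obtain ⟨i, hi, hZi⟩ := (Nat.dvd_prime_pow hp).1 (hB ▸ Subgroup.card_dvd_of_le hC)
    have hi0 : i ≠ 0 := by
      rintro rfl
      haveI := hP.center_nontrivial
      have h1 := Finite.one_lt_card_iff_nontrivial.2 (inferInstance : Nontrivial (center X))
      have := Subgroup.card_le_of_le hZB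
      rw [hZi, pow_zero] at this
      omega
    have hi2 : i < 2 := by
      by_contra hlt
      set Z := centralizer (B : Set X) with hZdef
      have hZc : ∀ z ∈ Z, z * c = c * z := fun z hz => (mem_centralizer_iff.1 hz c hc).symm
      set T := Z ⊔ zpowers c with hT
      have hTB : T ≤ B := sup_le hC (zpowers_le.2 hc)
      have hlt' : Z < T := lt_of_le_of_ne le_sup_left fun h => hcd (by
        have hc' : c ∈ Z := h ▸ mem_sup_right (mem_zpowers c)
        exact (mem_centralizer_iff.1 hc' d hd).symm)
      obtain ⟨j, hj, hTj⟩ := (Nat.dvd_prime_pow hp).1 (hB ▸ Subgroup.card_dvd_of_le hTB)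
      have hij : p ^ i < p ^ j := by
        rw [← hZi, ← hTj]
        exact lt_of_le_of_ne (Subgroup.card_le_of_le hlt'.le) fun h =>
          hlt'.ne (Subgroup.eq_of_le_of_card_ge hlt'.le h.ge)
      have := (Nat.pow_lt_pow_iff_right hp.one_lt).1 hij
      have hTeq : T = B := Subgroup.eq_of_le_of_card_ge hTB (by
        rw [hB, hTj]; exact Nat.pow_le_pow_right hp.pos (by omega))
      refine hcd ?_
      have hle : T ≤ centralizer ({c} : Set X) := sup_le
        (fun z hz => mem_centralizer_singleton_iff.2 (hZc z hz))
        (zpowers_le.2 (mem_centralizer_singleton_iff.2 rfl))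
      exact (mem_centralizer_singleton_iff.1 (hle (hTeq.symm ▸ hd : d ∈ T))).symm
    rw [hZi, show i = 1 by omega, pow_one]
  have hcenB : center X = centralizer (B : Set X) := by
    refine Subgroup.eq_of_le_of_card_ge hZB ?_
    rw [hCBp]
    haveI := hP.center_nontrivial
    obtain ⟨k, hk⟩ := IsPGroup.iff_card.1 (hP.to_subgroup (center X))
    have := Finite.one_lt_card_iff_nontrivial.2 (inferInstance : Nontrivial (center X))
    rcases Nat.eq_zero_or_pos k with h0 | h0
    · rw [hk, h0, pow_zero] at this; omega
    · rw [hk]; exact Nat.le_self_pow h0.ne' p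
  have hZcard : Nat.card (center X) = p := hcenB ▸ hCBp
  have hq : Nat.card (X ⧸ center X) = p ^ (n - 1) := by
    refine Nat.eq_of_mul_eq_mul_right (Nat.card_pos (α := center X)) ?_
    rw [← Subgroup.card_eq_card_quotient_mul_card_subgroup, hX, hZcard, ← pow_succ,
      Nat.sub_add_cancel (by omega)]
  set π := QuotientGroup.mk' (center X) with hπ
  have hker : π.ker = center X := QuotientGroup.ker_mk' _
  obtain ⟨Bb, hBb⟩ : ∃ Bb, Bb = B.map π := ⟨_, rfl⟩
  have hBbc : Nat.card Bb = p ^ 2 := by
    have h := Subgroup.card_mul_index (π.comp B.subtype).ker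
    have hr : (π.comp B.subtype).range = Bb := by
      rw [MonoidHom.range_comp, Subgroup.range_subtype, hBb]
    have hk : Nat.card (π.comp B.subtype).ker = p := by
      rw [← MonoidHom.comap_ker, hker, ← hZcard]
      exact Nat.card_congr (subgroupOfEquivOfLe (hcenB.le.trans hC)).toEquiv
    rw [Subgroup.index_ker, hr, hk, hB, pow_succ'] at h
    exact Nat.eq_of_mul_eq_mul_left hp.pos h
  have hBbC : centralizer (Bb : Set (X ⧸ center X)) ≤ Bb := by
    obtain ⟨D, hD⟩ : ∃ D, D = (centralizer (Bb : Set (X ⧸ center X))).comap π := ⟨_, rfl⟩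
    have hmem : ∀ y ∈ D, ∀ b ∈ B, y * b * y⁻¹ * b⁻¹ ∈ center X := by
      intro y hy b hb
      rw [hD, mem_comap, mem_centralizer_iff] at hy
      rw [← hker, MonoidHom.mem_ker]
      simp only [map_mul, map_inv]
      rw [← hy (π b) (hBb ▸ mem_map_of_mem π hb)]
      group
    haveI := Fintype.ofFinite X
    have hDle : Nat.card D ≤ p * (p * p) := by
      have h := Finset.card_le_mul_card_image
        (f := fun y : D => ((y : X) * c * (y : X)⁻¹ * c⁻¹, (y : X) * d * (y : X)⁻¹ * d⁻¹))
        (Finset.univ : Finset D) p ?_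
      · rw [Finset.card_univ, ← Nat.card_eq_fintype_card] at h
        refine h.trans (Nat.mul_le_mul_left _ ?_)
        rw [← hZcard, ← Nat.card_prod, Nat.card_eq_fintype_card (α := center X × center X),
          ← Fintype.card_coe]
        refine Fintype.card_le_of_injective
          (fun z => ((⟨z.1.1, by
            obtain ⟨y, -, hy⟩ := Finset.mem_image.1 z.2
            exact hy ▸ hmem _ y.2 c hc⟩ : center X), (⟨z.1.2, by
            obtain ⟨y, -, hy⟩ := Finset.mem_image.1 z.2
            exact hy ▸ hmem _ y.2 d hd⟩ : center X))) fun a b hab => ?_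
        simp only [Prod.mk.injEq, Subtype.mk.injEq] at hab
        exact Subtype.ext (Prod.ext hab.1 hab.2)
      · intro z hz
        obtain ⟨y0, -, hy0⟩ := Finset.mem_image.1 hz
        rw [← Fintype.card_coe, ← Nat.card_eq_fintype_card]
        refine le_trans ?_ hCBp.le
        refine Nat.card_le_card_of_injective
          (fun y => (⟨(y0 : X)⁻¹ * (y.1 : X), ?_⟩ : centralizer (B : Set X))) ?_
        · have he := (Finset.mem_filter.1 y.2).2.trans hy0.symm
          simp only [Prod.mk.injEq] at he
          have e1 := mul_right_cancel he.1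
          have e2 := mul_right_cancel he.2
          refine hcomm _ ?_ ?_
          · calc (y0 : X)⁻¹ * y.1 * c = (y0 : X)⁻¹ * ((y.1 : X) * c * (y.1 : X)⁻¹) * y.1 := by group
              _ = c * ((y0 : X)⁻¹ * y.1) := by rw [e1]; group
          · calc (y0 : X)⁻¹ * y.1 * d = (y0 : X)⁻¹ * ((y.1 : X) * d * (y.1 : X)⁻¹) * y.1 := by group
              _ = d * ((y0 : X)⁻¹ * y.1) := by rw [e2]; group
        · intro a b hab
          exact Subtype.ext (Subtype.ext (mul_left_cancel (congrArg Subtype.val hab)))
    have hBD : B ≤ D := by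
      intro b hb
      rw [hD, mem_comap, mem_centralizer_iff]
      intro z hz
      exact congrArg Subtype.val
        ((IsPGroup.commGroupOfCardEqPrimeSq hBbc).mul_comm ⟨z, hz⟩ ⟨π b, hBb ▸ mem_map_of_mem π hb⟩)
    have hBeq : B = D := Subgroup.eq_of_le_of_card_ge hBD (by rw [hB]; exact hDle.trans (le_of_eq (by ring)))
    intro z hz
    obtain ⟨y, rfl⟩ := QuotientGroup.mk'_surjective _ z
    rw [hBb]
    exact mem_map_of_mem π (hBeq.ge (show y ∈ D by rw [hD]; exact hz))
  haveI : Group.IsNilpotent (X ⧸ center X) := inferInstance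
  obtain ⟨x, hx⟩ : ∃ x : X ⧸ center X, Nat.card (centralizer ({x} : Set (X ⧸ center X))) ≤ p ^ 2 := by
    by_cases hB' : Bb ≤ center (X ⧸ center X)
    · have htop : centralizer (Bb : Set (X ⧸ center X)) = ⊤ := by
        rw [eq_top_iff]
        intro y _
        exact mem_centralizer_iff.2 fun b hb => (Subgroup.mem_center_iff.1 (hB' hb) y).symm
      rw [htop] at hBbC
      refine ⟨1, le_trans (Subgroup.card_le_card_group _) (le_of_eq ?_)⟩
      rw [← hBbc, top_le_iff.1 hBbC, Subgroup.card_top]
    obtain ⟨x, hx, hxZ⟩ := SetLike.not_le_iff_exists.1 hB'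
    have hC' : centralizer ({x} : Set (X ⧸ center X)) ≤ Bb := by
      intro y hy
      refine hBbC (mem_centralizer_iff.2 fun b hb => (?_ : y * b = b * y).symm)
      have hZle : center (X ⧸ center X) ≤ Bb := (center_le_centralizer _).trans hBbC
      have hT : center (X ⧸ center X) ⊔ zpowers x = Bb := by
        have hle : center (X ⧸ center X) ⊔ zpowers x ≤ Bb := sup_le hZle (zpowers_le.2 hx)
        refine Subgroup.eq_of_le_of_card_ge hle ?_
        obtain ⟨j, hj, hTj⟩ := (Nat.dvd_prime_pow hp).1 (hBbc ▸ Subgroup.card_dvd_of_le hle)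
        rw [hBbc, hTj]
        refine Nat.pow_le_pow_right hp.pos ?_
        haveI : Nontrivial (X ⧸ center X) := Finite.one_lt_card_iff_nontrivial.1 (by
          rw [hq]; exact Nat.one_lt_pow (by omega) hp.one_lt)
        haveI := (hP.to_quotient (center X)).center_nontrivial
        have h1 := Finite.one_lt_card_iff_nontrivial.2
          (inferInstance : Nontrivial (center (X ⧸ center X)))
        have hlt : Nat.card (center (X ⧸ center X)) < p ^ j := by
          rw [← hTj]
          exact lt_of_le_of_ne (Subgroup.card_le_of_le le_sup_left) fun h => hxZ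
            ((Subgroup.eq_of_le_of_card_ge le_sup_left h.ge).ge (mem_sup_right (mem_zpowers x)))
        obtain ⟨k, hk⟩ := IsPGroup.iff_card.1 ((hP.to_quotient (center X)).to_subgroup (center (X ⧸ center X)))
        rw [hk] at h1 hlt
        have := (Nat.pow_lt_pow_iff_right hp.one_lt).1 hlt
        have : k ≠ 0 := fun h => by rw [h, pow_zero] at h1; omega
        omega
      have hb' : b ∈ center (X ⧸ center X) ⊔ zpowers x := hT.symm ▸ hb
      have hle : center (X ⧸ center X) ⊔ zpowers x ≤ centralizer ({y} : Set (X ⧸ center X)) :=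
        sup_le (center_le_centralizer _) (zpowers_le.2 (mem_centralizer_singleton_iff.2
          (mem_centralizer_singleton_iff.1 hy).symm))
      exact (mem_centralizer_singleton_iff.1 (hle hb')).symm
    exact ⟨x, hBbc ▸ Subgroup.card_le_of_le hC'⟩
  have h := class_of_small_centralizer hp (n - 1) (X ⧸ center X) (by omega) hq x hx
  rw [Group.nilpotencyClass_quotient_center] at h
  omega

end CfsgLib.SelfCentralizing
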