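import Cfsg.Agent.Transfer.Basic
import Mathlib.GroupTheory.Solvable
import Mathlib.GroupTheory.Nilpotent
import Mathlib.GroupTheory.IndexNormal
import Mathlib.GroupTheory.SpecificGroups.Cyclic
import Mathlib.GroupTheory.Subgroup.Simple
import Mathlib.Tactic.Group

/-!
A finite group in which every nonabelian subgroup is self-normalizing is solvable or simple.
-/

set_option autoImplicit false
set_option linter.unusedSectionVars false
set_option linter.style.haveILetI false
set_option linter.deprecated false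

namespace CfsgLib.SelfNormNonabelian

open Subgroup
open scoped commutatorElement

universe u

variable {G : Type u} [Group G] [Finite G]

theorem not_complement_of_perfect (hperf : commutator G = ⊤) {p : ℕ} [Fact p.Prime] (P : Sylow p G)
    (hab : IsMulCommutative (P : Subgroup G)) (hne : (P : Subgroup G) ≠ ⊥)
    (hN : normalizer ((P : Subgroup G) : Set G) = P) : False := by
  obtain ⟨Q, N, hNn, hNQ⟩ := CfsgLib.TransferBasic.hasNormalPComplement_of_le_centralizer P
    (hN.le.trans (CfsgLib.TransferBasic.le_centralizer_self (P := P) hab))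
  haveI := hNn
  have hle : commutator G ≤ N := by
    haveI := hab
    haveI : IsMulCommutative (Q : Subgroup G) := by
      refine ⟨⟨fun a b => ?_⟩⟩
      apply (Q.equiv P).injective
      rw [map_mul, map_mul]
      exact hab.is_comm.comm _ _
    rw [commutator_def, commutator_le]
    intro a _ b _
    rw [← QuotientGroup.eq_one_iff]
    have hsurj : ∀ x : G ⧸ N, ∃ q : (Q : Subgroup G), QuotientGroup.mk' N (q : G) = x := by
      intro x
      obtain ⟨g, rfl⟩ := QuotientGroup.mk'_surjective N x
      obtain ⟨⟨n, q⟩, hnq⟩ := (hNQ.existsUnique g).exists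
      refine ⟨q, ?_⟩
      rw [← hnq]
      simp
    obtain ⟨x, hx⟩ := hsurj (QuotientGroup.mk' N a)
    obtain ⟨y, hy⟩ := hsurj (QuotientGroup.mk' N b)
    show QuotientGroup.mk' N ⁅a, b⁆ = 1
    rw [map_commutatorElement, ← hx, ← hy, ← map_commutatorElement,
      commutatorElement_eq_one_iff_mul_comm.2
        (congrArg Subtype.val ((inferInstance : IsMulCommutative (Q : Subgroup G)).is_comm.comm x y)),
      map_one]
  rw [hperf, top_le_iff] at hle
  refine hne ?_
  have h := hNQ.card_mul
  rw [hle, Subgroup.card_top] at h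
  have h1 : Nat.card (Q : Subgroup G) = 1 := Nat.eq_of_mul_eq_mul_left Nat.card_pos (h.trans (mul_one _).symm)
  rw [Nat.card_congr (Q.equiv P).toEquiv] at h1
  exact Subgroup.card_eq_one.1 h1

theorem perfect_quotient (hperf : commutator G = ⊤) (K : Subgroup G) [K.Normal] :
    commutator (G ⧸ K) = ⊤ := by
  have h := Subgroup.map_commutator (⊤ : Subgroup G) ⊤ (QuotientGroup.mk' K)
  rw [← commutator_def, hperf, Subgroup.map_top_of_surjective _ (QuotientGroup.mk'_surjective K)] at h
  rw [commutator_def]; exact h.symm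

/-- The central case. -/
theorem central_case (hperf : commutator G = ⊤)
    (hS : ∀ H : Subgroup G, ¬ IsMulCommutative H → normalizer (H : Set G) = H)
    {z : G} (hz : z ∈ center G) (hz1 : z ≠ 1) : False := by
  classical
  obtain ⟨p, hp, hpd⟩ := Nat.exists_prime_and_dvd (fun h => hz1 (orderOf_eq_one_iff.1 h))
  haveI := Fact.mk hp
  obtain ⟨w, hw, hwo⟩ : ∃ w ∈ center G, orderOf w = p := by
    refine ⟨z ^ (orderOf z / p), pow_mem hz _, ?_⟩
    rw [orderOf_pow_orderOf_div (orderOf_pos z).ne' hpd]
  obtain ⟨P⟩ : Nonempty (Sylow p G) := inferInstance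
  have hWn : (zpowers w).Normal := ⟨fun x hx g => by
    have hxc : x ∈ center G := zpowers_le.2 hw hx
    rwa [Subgroup.mem_center_iff.1 hxc g, mul_inv_cancel_right]⟩
  have hwP : w ∈ (P : Subgroup G) := by
    have hW : IsPGroup p (zpowers w) := IsPGroup.of_card (n := 1) (by rw [Nat.card_zpowers, hwo, pow_one])
    obtain ⟨S, hS'⟩ := hW.exists_le_sylow
    obtain ⟨g, rfl⟩ := MulAction.exists_smul_eq G P S
    have h := hS' (mem_zpowers w)
    rw [Sylow.coe_subgroup_smul, mem_pointwise_smul_iff_inv_smul_mem, ← map_inv] at h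
    have h' : g⁻¹ * w * g⁻¹⁻¹ ∈ (P : Subgroup G) := h
    rwa [Subgroup.mem_center_iff.1 hw g⁻¹, mul_inv_cancel_right] at h'
  have hw1 : w ≠ 1 := fun h => hp.ne_one (by rw [← hwo, h, orderOf_one])
  have hna : ¬ IsMulCommutative (P : Subgroup G) := by
    intro hab
    have h := CfsgLib.TransferBasic.inf_center_inf_commutator_eq_bot (P := P) hab
    rw [hperf] at h
    exact hw1 (Subgroup.mem_bot.1 (h ▸ ⟨⟨hwP, Subgroup.mem_top w⟩, hw⟩))
  have hN := hS _ hna
  have hsub : ∀ M : Subgroup G, M < (P : Subgroup G) → IsMulCommutative M := by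
    intro M hM
    by_contra hMna
    haveI := P.2.isNilpotent
    have hlt : M.subgroupOf (P : Subgroup G) < ⊤ :=
      lt_top_iff_ne_top.2 fun h => hM.not_ge (subgroupOf_eq_top.1 h)
    obtain ⟨x, hx, hxM⟩ := SetLike.exists_of_lt (Group.normalizerCondition_of_isNilpotent _ hlt)
    refine hxM (mem_subgroupOf.2 ?_)
    rw [← hS M hMna, mem_normalizer_iff]
    intro g
    constructor
    · intro hg
      exact (mem_normalizer_iff.1 hx ⟨g, hM.le hg⟩).1 hg
    · intro hg
      have hgP : g ∈ (P : Subgroup G) := by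
        simpa [mul_assoc] using mul_mem (mul_mem (inv_mem x.2) (hM.le hg)) x.2
      exact (mem_normalizer_iff.1 hx ⟨g, hgP⟩).2 hg
  obtain ⟨a, b, hab⟩ : ∃ a b : (P : Subgroup G), a * b ≠ b * a := by
    by_contra h
    push Not at h
    exact hna ⟨⟨h⟩⟩
  have hgen : closure ({a, b} : Set (P : Subgroup G)) = ⊤ := by
    by_contra hne
    have hlt : (closure ({a, b} : Set (P : Subgroup G))).map (P : Subgroup G).subtype < P := by
      refine lt_of_le_of_ne (map_subtype_le _) fun h => hne ?_
      apply map_injective (P : Subgroup G).subtype_injective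
      rw [h, ← MonoidHom.range_eq_map, range_subtype]
    have hc := hsub _ hlt
    have ha' : (a : G) ∈ (closure ({a, b} : Set (P : Subgroup G))).map (P : Subgroup G).subtype :=
      ⟨a, subset_closure (Set.mem_insert _ _), rfl⟩
    have hb' : (b : G) ∈ (closure ({a, b} : Set (P : Subgroup G))).map (P : Subgroup G).subtype :=
      ⟨b, subset_closure (Set.mem_insert_of_mem _ rfl), rfl⟩
    have h2 := congrArg Subtype.val (hc.is_comm.comm ⟨_, ha'⟩ ⟨_, hb'⟩)
    exact hab (Subtype.ext h2)
  -- maximal subgroups through `a` and `b`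
  have hmax : ∀ x : (P : Subgroup G), ∃ M : Subgroup (P : Subgroup G), x ∈ M ∧ M.Normal ∧
      M.index = p ∧ IsMulCommutative M := by
    intro x
    obtain ⟨n, hn⟩ := IsPGroup.iff_card.1 P.2
    have hne : zpowers x ≠ ⊤ := fun h => by
      haveI : IsCyclic (P : Subgroup G) := isCyclic_iff_exists_zpowers_eq_top.2 ⟨x, h⟩
      exact hab ((IsCyclic.commGroup (α := (P : Subgroup G))).mul_comm a b)
    have hn0 : n ≠ 0 := by
      rintro rfl
      rw [pow_zero] at hn
      haveI := (Nat.card_eq_one_iff_unique.1 hn).1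
      exact hab (Subsingleton.elim _ _)
    obtain ⟨i, hi⟩ := IsPGroup.iff_card.1 (P.2.to_subgroup (zpowers x))
    have hin : i ≤ n - 1 := by
      by_contra hlt
      refine hne (Subgroup.eq_top_of_le_card _ ?_)
      rw [hn, hi]
      exact Nat.pow_le_pow_right hp.pos (by omega)
    obtain ⟨M, hM, hle⟩ := Sylow.exists_subgroup_card_pow_prime_le p (n := i) (m := n - 1)
      (hn ▸ pow_dvd_pow p (by omega)) (zpowers x) hi hin
    have hidx : M.index = p := by
      refine Nat.eq_of_mul_eq_mul_left (pow_pos hp.pos (n - 1)) ?_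
      rw [← hM, Subgroup.card_mul_index, hn, hM, ← pow_succ, Nat.sub_add_cancel (by omega)]
    refine ⟨M, hle (mem_zpowers x), ?_, hidx, ?_⟩
    · refine Subgroup.normal_of_index_eq_minFac_card ?_
      rw [hidx, hn, Nat.pow_minFac hn0, hp.minFac_eq]
    · have hlt : M.map (P : Subgroup G).subtype < P := by
        refine lt_of_le_of_ne (map_subtype_le _) fun h => ?_
        have : M = ⊤ := by
          apply map_injective (P : Subgroup G).subtype_injective
          rw [h, ← MonoidHom.range_eq_map, range_subtype]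
        rw [this, index_top] at hidx
        exact hp.ne_one hidx.symm
      have hc := hsub _ hlt
      exact ⟨⟨fun u v => Subtype.ext (Subtype.ext (congrArg Subtype.val
        (hc.is_comm.comm ⟨_, mem_map_of_mem _ u.2⟩ ⟨_, mem_map_of_mem _ v.2⟩) :))⟩⟩
  obtain ⟨M₁, ha₁, hM₁n, hM₁i, hM₁c⟩ := hmax a
  obtain ⟨M₂, hb₂, hM₂n, hM₂i, hM₂c⟩ := hmax b
  haveI := hM₁n
  haveI := hM₂n
  have hcom : ∀ (M : Subgroup (P : Subgroup G)), IsMulCommutative M → ∀ u ∈ M, ∀ v ∈ M, u * v = v * u :=
    fun M hM u hu v hv => congrArg Subtype.val (hM.is_comm.comm ⟨u, hu⟩ ⟨v, hv⟩)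
  have hcent : ∀ w, w ∈ M₁ → w ∈ M₂ → w ∈ center (P : Subgroup G) := by
    intro w h1 h2
    have hle : closure ({a, b} : Set (P : Subgroup G)) ≤ centralizer ({w} : Set (P : Subgroup G)) := by
      rw [closure_le]
      rintro u (rfl | rfl)
      · exact mem_centralizer_singleton_iff.2 (hcom M₁ hM₁c _ ha₁ _ h1)
      · exact mem_centralizer_singleton_iff.2 (hcom M₂ hM₂c _ hb₂ _ h2)
    rw [Subgroup.mem_center_iff]
    intro u
    exact mem_centralizer_singleton_iff.1 (hle (hgen ▸ Subgroup.mem_top u))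
  obtain ⟨c, hcdef⟩ : ∃ c, c = ⁅a, b⁆ := ⟨_, rfl⟩
  have hc1 : c ∈ M₁ := by
    rw [hcdef, commutatorElement_def, mul_assoc, mul_assoc, ← mul_assoc b]
    exact mul_mem ha₁ (hM₁n.conj_mem _ (inv_mem ha₁) b)
  have hc2 : c ∈ M₂ := by
    rw [hcdef, commutatorElement_def]
    exact mul_mem (hM₂n.conj_mem _ hb₂ a) (inv_mem hb₂)
  have hcc := hcent c hc1 hc2
  have hconj : ∀ i : ℕ, a ^ i * b * (a ^ i)⁻¹ = c ^ i * b := by
    intro i
    induction i with
    | zero => simp
    | succ i ih =>
      calc a ^ (i + 1) * b * (a ^ (i + 1))⁻¹ = a * (a ^ i * b * (a ^ i)⁻¹) * a⁻¹ := by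
            rw [pow_succ']; group
        _ = a * c ^ i * b * a⁻¹ := by rw [ih, ← mul_assoc a]
        _ = c ^ i * (a * b * a⁻¹) := by
            rw [(show Commute a (c ^ i) from (Subgroup.mem_center_iff.1 (pow_mem hcc i) a))]
            simp only [mul_assoc]
        _ = c ^ i * (c * b) := by rw [hcdef, commutatorElement_def]; group
        _ = c ^ (i + 1) * b := by rw [← mul_assoc, ← pow_succ]
  have hcp : c ^ p = 1 := by
    have hap : a ^ p ∈ center (P : Subgroup G) :=
      hcent _ (pow_mem ha₁ p) (by have h := Subgroup.pow_index_mem M₂ a; rwa [hM₂i] at h)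
    have h := hconj p
    rw [← Subgroup.mem_center_iff.1 hap b, mul_inv_cancel_right, eq_comm, mul_eq_right] at h
    exact h
  have hcN : (zpowers c).Normal := ⟨fun x hx g => by
    have hxc : x ∈ center (P : Subgroup G) := zpowers_le.2 hcc hx
    rwa [Subgroup.mem_center_iff.1 hxc g, mul_inv_cancel_right]⟩
  have hderP : ∀ u v : (P : Subgroup G), ⁅u, v⁆ ∈ zpowers c := by
    haveI := hcN
    intro u v
    rw [← QuotientGroup.eq_one_iff]
    show QuotientGroup.mk' (zpowers c) ⁅u, v⁆ = 1
    rw [map_commutatorElement, commutatorElement_eq_one_iff_mul_comm]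
    have hgen' : closure ({QuotientGroup.mk' (zpowers c) a, QuotientGroup.mk' (zpowers c) b} : Set _) = ⊤ := by
      rw [← Set.image_pair, ← MonoidHom.map_closure, hgen,
        Subgroup.map_top_of_surjective _ (QuotientGroup.mk'_surjective _)]
    have hab' : Commute (QuotientGroup.mk' (zpowers c) a) (QuotientGroup.mk' (zpowers c) b) := by
      rw [commute_iff_eq, ← commutatorElement_eq_one_iff_mul_comm, ← map_commutatorElement, ← hcdef]
      exact (QuotientGroup.eq_one_iff c).2 (mem_zpowers c)
    have key : ∀ x ∈ ({QuotientGroup.mk' (zpowers c) a, QuotientGroup.mk' (zpowers c) b} : Set _), ∀ y,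
        Commute x y := by
      intro x hx y
      have hle : closure ({QuotientGroup.mk' (zpowers c) a, QuotientGroup.mk' (zpowers c) b} : Set _) ≤
          centralizer ({x} : Set _) := by
        rw [closure_le]
        intro y hy
        refine mem_centralizer_singleton_iff.2 ?_
        rcases hx with rfl | rfl <;> rcases hy with rfl | rfl
        exacts [rfl, hab'.symm.eq, hab'.eq, rfl]
      exact (mem_centralizer_singleton_iff.1 (hle (hgen' ▸ Subgroup.mem_top y))).symm
    have hle2 : closure ({QuotientGroup.mk' (zpowers c) a, QuotientGroup.mk' (zpowers c) b} : Set _) ≤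
        centralizer ({QuotientGroup.mk' (zpowers c) v} : Set _) := by
      rw [closure_le]
      intro y hy
      exact mem_centralizer_singleton_iff.2 (key y hy _).eq
    exact mem_centralizer_singleton_iff.1 (hle2 (hgen' ▸ Subgroup.mem_top _))
  -- transfer
  have hwc : (⟨w, hwP⟩ : (P : Subgroup G)) ∈ zpowers c := by
    haveI := hcN
    letI : CommGroup ((P : Subgroup G) ⧸ zpowers c) :=
      { (inferInstance : Group ((P : Subgroup G) ⧸ zpowers c)) with
        mul_comm := fun x y => by
          obtain ⟨u, rfl⟩ := QuotientGroup.mk_surjective x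
          obtain ⟨v, rfl⟩ := QuotientGroup.mk_surjective y
          show QuotientGroup.mk' (zpowers c) u * QuotientGroup.mk' (zpowers c) v =
            QuotientGroup.mk' (zpowers c) v * QuotientGroup.mk' (zpowers c) u
          rw [← commutatorElement_eq_one_iff_mul_comm, ← map_commutatorElement]
          exact (QuotientGroup.eq_one_iff _).2 (hderP u v) }
    set τ := MonoidHom.transfer (QuotientGroup.mk' (zpowers c)) with hτ
    have hker : τ w = 1 := by
      have h1 : commutator G ≤ τ.ker := Abelianization.commutator_subset_ker τ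
      rw [hperf] at h1
      exact h1 (Subgroup.mem_top w)
    have key : ∀ (k : ℕ) (g₀ : G), g₀⁻¹ * w ^ k * g₀ ∈ (P : Subgroup G) → g₀⁻¹ * w ^ k * g₀ = w ^ k := by
      intro k g₀ _
      rw [Subgroup.mem_center_iff.1 (pow_mem hw k) g₀⁻¹, inv_mul_cancel_right]
    rw [hτ, MonoidHom.transfer_eq_pow _ _ key] at hker
    have h2 : (QuotientGroup.mk' (zpowers c) ⟨w, hwP⟩) ^ (P : Subgroup G).index = 1 := by
      rw [← map_pow]
      exact hker
    have h3 : (QuotientGroup.mk' (zpowers c) ⟨w, hwP⟩) ^ p = 1 := by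
      rw [← map_pow]
      refine (congrArg _ (Subtype.ext ?_)).trans (map_one _)
      show w ^ p = 1
      rw [← hwo, pow_orderOf_eq_one]
    have h4 := pow_gcd_eq_one.2 ⟨h2, h3⟩
    rw [Nat.coprime_comm.1 (hp.coprime_iff_not_dvd.2 (P.not_dvd_index' Subgroup.index_ne_zero_of_finite)),
      pow_one] at h4
    exact (QuotientGroup.eq_one_iff _).1 h4
  have hzw : ∀ u v : (P : Subgroup G), ((⁅u, v⁆ : (P : Subgroup G)) : G) ∈ zpowers w := by
    intro u v
    have hle : zpowers (⟨w, hwP⟩ : (P : Subgroup G)) = zpowers c := by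
      refine Subgroup.eq_of_le_of_card_ge (zpowers_le.2 hwc) ?_
      rw [Nat.card_zpowers, Nat.card_zpowers]
      have : orderOf (⟨w, hwP⟩ : (P : Subgroup G)) = p := by
        exact ((orderOf_injective (P : Subgroup G).subtype (P : Subgroup G).subtype_injective _).symm).trans hwo
      rw [this]
      exact Nat.le_of_dvd hp.pos (orderOf_dvd_of_pow_eq_one hcp)
    obtain ⟨i, hi⟩ := hle.ge (hderP u v)
    refine ⟨i, ?_⟩
    have := congrArg Subtype.val hi
    simpa using this
  haveI := hWn
  obtain ⟨π, hπ⟩ : ∃ π, π = QuotientGroup.mk' (zpowers w) := ⟨_, rfl⟩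
  have hπs : Function.Surjective π := hπ ▸ QuotientGroup.mk'_surjective _
  have hπk : π.ker = zpowers w := hπ ▸ QuotientGroup.ker_mk' _
  let Q : Sylow p (G ⧸ zpowers w) := P.mapSurjective hπs
  have hQ : (Q : Subgroup (G ⧸ zpowers w)) = (P : Subgroup G).map π := rfl
  refine not_complement_of_perfect (perfect_quotient hperf _) Q ?_ ?_ ?_
  · refine ⟨⟨?_⟩⟩
    rintro ⟨x, hx⟩ ⟨y, hy⟩
    rw [hQ] at hx hy
    obtain ⟨u, hu, rfl⟩ := hx
    obtain ⟨v, hv, rfl⟩ := hy
    apply Subtype.ext
    show π u * π v = π v * π u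
    rw [← commutatorElement_eq_one_iff_mul_comm, ← map_commutatorElement, ← MonoidHom.mem_ker, hπk]
    exact hzw ⟨u, hu⟩ ⟨v, hv⟩
  · rw [hQ]
    intro h
    rw [Subgroup.map_eq_bot_iff, hπk] at h
    exact hna ⟨⟨fun u v => Subtype.ext (by
      have hu := zpowers_le.2 hw (h u.2)
      exact (Subgroup.mem_center_iff.1 hu v).symm)⟩⟩
  · rw [hQ]
    refine le_antisymm (fun x hx => ?_) le_normalizer
    obtain ⟨g, rfl⟩ := hπs x
    refine mem_map_of_mem π ?_
    rw [← hN, mem_normalizer_iff]
    intro y
    have hyiff : ∀ y, π y ∈ (P : Subgroup G).map π ↔ y ∈ (P : Subgroup G) := fun y => by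
      refine ⟨fun ⟨u, hu, he⟩ => ?_, fun h => mem_map_of_mem π h⟩
      have : u⁻¹ * y ∈ zpowers w := by
        rw [← hπk, MonoidHom.mem_ker, map_mul, map_inv, he, inv_mul_cancel]
      simpa using mul_mem hu (zpowers_le.2 hwP this)
    rw [← hyiff y, ← hyiff (g * y * g⁻¹), map_mul, map_mul, map_inv]
    exact mem_normalizer_iff.1 hx (π y)

theorem main (hS : ∀ H : Subgroup G, ¬ IsMulCommutative H → normalizer (H : Set G) = H) :
    Group.IsSolvable G ∨ IsSimpleGroup G := by
  classical
  by_cases hsolv : Group.IsSolvable G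
  · exact Or.inl hsolv
  refine Or.inr ?_
  haveI : Nontrivial G := by
    by_contra h
    rw [not_nontrivial_iff_subsingleton] at h
    exact hsolv inferInstance
  have habelian : ∀ K : Subgroup G, K.Normal → K ≠ ⊤ → IsMulCommutative K := by
    intro K hK hne
    by_contra hKna
    exact hne ((hS K hKna).symm.trans (Subgroup.normalizer_eq_top_iff.2 hK))
  have hperf : commutator G = ⊤ := by
    by_contra hne
    refine hsolv ?_
    haveI := habelian _ inferInstance hne
    haveI : Group.IsSolvable (commutator G) := isSolvable_of_comm fun a b => IsMulCommutative.is_comm.comm a b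
    haveI : Group.IsSolvable (G ⧸ commutator G) :=
      isSolvable_of_comm fun a b => (inferInstance : CommGroup (Abelianization G)).mul_comm a b
    exact solvable_of_ker_le_range (commutator G).subtype (QuotientGroup.mk' (commutator G)) (by simp)
  refine ⟨fun K hK => ?_⟩
  by_contra hcon
  push Not at hcon
  haveI := Fintype.ofFinite (Subgroup G)
  let T := Finset.univ.filter fun M : Subgroup G => M.Normal ∧ M ≠ ⊤
  obtain ⟨N, hN, hmax⟩ := T.exists_max_image (fun M => Nat.card M) ⟨K, by simp [T, hK, hcon.2]⟩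
  simp only [T, Finset.mem_filter, Finset.mem_univ, true_and] at hN hmax
  obtain ⟨hNn, hNt⟩ := hN
  haveI := hNn
  have hN1 : N ≠ ⊥ := fun h => by
    have := hmax K ⟨hK, hcon.2⟩
    rw [h, Subgroup.card_bot] at this
    exact hcon.1 (Subgroup.card_eq_one.1 (le_antisymm this Nat.card_pos))
  have hNab := habelian N hNn hNt
  by_cases hC : centralizer (N : Set G) = ⊤
  · obtain ⟨⟨z, hz⟩, hz1⟩ := Subgroup.ne_bot_iff_exists_ne_one.1 hN1
    refine central_case hperf hS (z := z) ?_ fun h => hz1 (Subtype.ext h)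
    rw [Subgroup.mem_center_iff]
    intro g
    have hg : g ∈ centralizer (N : Set G) := hC ▸ Subgroup.mem_top g
    exact (mem_centralizer_iff.1 hg z hz).symm
  have hCN : centralizer (N : Set G) = N := by
    have hle : N ≤ centralizer (N : Set G) := fun x hx =>
      mem_centralizer_iff.2 fun y hy => congrArg Subtype.val (hNab.is_comm.comm ⟨y, hy⟩ ⟨x, hx⟩)
    exact (Subgroup.eq_of_le_of_card_ge hle (hmax _ ⟨inferInstance, hC⟩)).symm
  -- the quotient
  obtain ⟨π, hπ⟩ : ∃ π, π = QuotientGroup.mk' N := ⟨_, rfl⟩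
  have hπs : Function.Surjective π := hπ ▸ QuotientGroup.mk'_surjective _
  have hπk : π.ker = N := hπ ▸ QuotientGroup.ker_mk' _
  have hself : ∀ X : Subgroup (G ⧸ N), X ≠ ⊥ → normalizer (X : Set (G ⧸ N)) = X := by
    intro X hX
    have hna : ¬ IsMulCommutative (X.comap π) := by
      intro hab
      refine hX (eq_bot_iff.2 fun x hx => ?_)
      obtain ⟨g, rfl⟩ := hπs x
      have hg : g ∈ centralizer (N : Set G) := mem_centralizer_iff.2 fun y hy => by
        have hy' : y ∈ X.comap π := by
          rw [mem_comap, show π y = 1 from MonoidHom.mem_ker.1 (by rw [hπk]; exact hy)]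
          exact one_mem _
        exact congrArg Subtype.val (hab.is_comm.comm ⟨y, hy'⟩ ⟨g, hx⟩)
      rw [hCN, ← hπk, MonoidHom.mem_ker] at hg
      rw [hg]; exact one_mem _
    have h := hS _ hna
    refine le_antisymm (fun x hx => ?_) le_normalizer
    obtain ⟨g, rfl⟩ := hπs x
    have hg : g ∈ normalizer ((X.comap π : Subgroup G) : Set G) := mem_normalizer_iff.2 fun y => by
      simp only [mem_comap, map_mul, map_inv]
      exact mem_normalizer_iff.1 hx (π y)
    rw [h] at hg
    exact hg
  have hq1 : Nat.card (G ⧸ N) ≠ 1 := fun h => hNt (Subgroup.index_eq_one.1 (by rw [Subgroup.index_eq_card]; exact h))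
  obtain ⟨p, hp, hpd⟩ := Nat.exists_prime_and_dvd hq1
  haveI := Fact.mk hp
  obtain ⟨x, hx⟩ := exists_prime_orderOf_dvd_card' p hpd
  have hx1 : zpowers x ≠ ⊥ := fun h => by
    rw [Subgroup.zpowers_eq_bot] at h
    rw [h, orderOf_one] at hx
    exact hp.ne_one hx.symm
  obtain ⟨Q, hQ⟩ := (IsPGroup.of_card (n := 1) (by rw [Nat.card_zpowers, hx, pow_one]) :
    IsPGroup p (zpowers x)).exists_le_sylow
  have hQeq : (Q : Subgroup (G ⧸ N)) = zpowers x := by
    refine le_antisymm ?_ hQ
    by_contra hne
    haveI := Q.2.isNilpotent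
    have hlt : (zpowers x).subgroupOf (Q : Subgroup (G ⧸ N)) < ⊤ :=
      lt_top_iff_ne_top.2 fun h => hne (subgroupOf_eq_top.1 h)
    obtain ⟨y, hy, hyx⟩ := SetLike.exists_of_lt (Group.normalizerCondition_of_isNilpotent _ hlt)
    refine hyx (mem_subgroupOf.2 ?_)
    rw [← hself _ hx1, mem_normalizer_iff]
    intro g
    constructor
    · intro hg
      exact (mem_normalizer_iff.1 hy ⟨g, hQ hg⟩).1 hg
    · intro hg
      have hgQ : g ∈ (Q : Subgroup (G ⧸ N)) := by
        simpa [mul_assoc] using mul_mem (mul_mem (inv_mem y.2) (hQ hg)) y.2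
      exact (mem_normalizer_iff.1 hy ⟨g, hgQ⟩).2 hg
  refine not_complement_of_perfect (perfect_quotient hperf N) Q ?_ (hQeq ▸ hx1) (by rw [hQeq]; exact hself _ hx1)
  rw [hQeq]
  haveI := isCyclic_of_prime_card ((Nat.card_zpowers x).trans hx)
  exact inferInstance

end CfsgLib.SelfNormNonabelian
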