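import Cfsg.Agent.Transfer.Basic
import Cfsg.Agent.Transfer.Frobenius
import Mathlib.GroupTheory.Schreier
import Mathlib.Algebra.Group.Subgroup.Finite
import Mathlib.GroupTheory.QuotientGroup.Basic
import Mathlib.Tactic.Group
import Mathlib.Tactic.NormNum.Prime

/-!
Normal `p`-complements from abelian Sylow subgroups with few generators, and for `2`-groups with a
cyclic subgroup of index two; the solvability criterion that follows.
-/

set_option autoImplicit false
set_option linter.unusedSectionVars false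
set_option linter.style.haveILetI false
set_option linter.deprecated false

namespace CfsgLib.SmallRank

universe u

theorem eq_one_of_prime_parts {M : Type*} [Group M] [Finite M] (β : M) (r : ℕ) (hr : β ^ r = 1)
    (h : ∀ q, q.Prime → q ∣ r → ∀ α : M, α ^ q = 1 → α = 1) : β = 1 := by
  by_contra hne
  have ho : orderOf β ≠ 1 := fun e => hne (orderOf_eq_one_iff.1 e)
  obtain ⟨q, hq, hqd⟩ := Nat.exists_prime_and_dvd ho
  have h1 := h q hq (hqd.trans (orderOf_dvd_of_pow_eq_one hr)) (β ^ (orderOf β / q))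
    (by rw [← pow_mul, Nat.div_mul_cancel hqd, pow_orderOf_eq_one])
  have h2 := orderOf_dvd_of_pow_eq_one h1
  have hpos : 0 < orderOf β / q := Nat.div_pos (Nat.le_of_dvd (orderOf_pos β) hqd) hq.pos
  exact absurd (Nat.le_of_dvd hpos h2) (not_le.2 (Nat.div_lt_self (orderOf_pos β) hq.one_lt))

theorem card_ker_pow_eq_index {P : Type*} [CommGroup P] [Finite P] (p : ℕ) :
    Nat.card (powMonoidHom p : P →* P).ker = (powMonoidHom p : P →* P).range.index := by
  refine Nat.eq_of_mul_eq_mul_left (Nat.card_pos (α := (powMonoidHom p : P →* P).range)) ?_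
  rw [Subgroup.card_mul_index, ← Subgroup.card_mul_index (powMonoidHom p : P →* P).ker,
    Subgroup.index_ker, mul_comm]

/-- At most `p ^ rank` elements of exponent `p`. -/
theorem card_ker_pow_le {P : Type*} [CommGroup P] [Finite P] {p : ℕ} (hp : 0 < p) :
    Nat.card (powMonoidHom p : P →* P).ker ≤ p ^ Group.rank P := by
  rw [card_ker_pow_eq_index, Subgroup.index_eq_card]
  have h1 : Nat.card (P ⧸ (powMonoidHom p : P →* P).range) ∣
      p ^ Group.rank (P ⧸ (powMonoidHom p : P →* P).range) := by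
    refine card_dvd_exponent_pow_rank' _ fun g => ?_
    obtain ⟨g, rfl⟩ := QuotientGroup.mk_surjective g
    rw [← QuotientGroup.mk_pow]
    exact (QuotientGroup.eq_one_iff _).2 ⟨g, rfl⟩
  refine (Nat.le_of_dvd (pow_pos hp _) h1).trans (Nat.pow_le_pow_right hp ?_)
  exact Group.rank_le_of_surjective (QuotientGroup.mk' (powMonoidHom p : P →* P).range)
    (QuotientGroup.mk'_surjective _)

/-- Coprime automorphisms of prime order act trivially when the order is too large. -/
theorem aut_eq_one {p q d : ℕ} (hp : p.Prime) (hq : q.Prime) (hpq : q ≠ p)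
    (hqd : ∀ i, 1 ≤ i → i ≤ d → ¬ q ∣ p ^ i - 1) :
    ∀ (k : ℕ) (P : Type u) [CommGroup P] [Finite P], Nat.card P = k → IsPGroup p P →
      Nat.card (powMonoidHom p : P →* P).ker ≤ p ^ d → ∀ α : MulAut P, α ^ q = 1 → α = 1 := by
  haveI := Fact.mk hp
  haveI := Fact.mk hq
  intro k
  induction k using Nat.strong_induction_on with
  | _ k ih =>
  intro P _ _ hk hP hker α hα
  rcases subsingleton_or_nontrivial P with h | h
  · exact MulEquiv.ext fun x => Subsingleton.elim _ _
  set W := (powMonoidHom p : P →* P).ker with hW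
  obtain ⟨e, he⟩ := IsPGroup.iff_card.1 (hP.to_subgroup W)
  have he1 : 1 ≤ e := by
    by_contra hlt
    obtain ⟨n, hn⟩ := IsPGroup.iff_card.1 hP
    have hn0 : n ≠ 0 := by
      rintro rfl
      have := Finite.one_lt_card_iff_nontrivial.2 h
      rw [hn, pow_zero] at this
      exact lt_irrefl 1 this
    obtain ⟨x, hx⟩ := exists_prime_orderOf_dvd_card' (G := P) p (hn ▸ dvd_pow_self p hn0)
    have hxW : x ∈ W := by
      show x ^ p = 1
      rw [← hx, pow_orderOf_eq_one]
    rw [show e = 0 by omega, pow_zero, Subgroup.card_eq_one] at he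
    rw [he, Subgroup.mem_bot] at hxW
    rw [hxW, orderOf_one] at hx
    exact hp.ne_one hx.symm
  have hed : e ≤ d := (Nat.pow_le_pow_iff_right hp.one_lt).1 (he ▸ hker)
  obtain ⟨v, hv, hv1, hvfix⟩ : ∃ v ∈ W, v ≠ 1 ∧ α v = v := by
    by_contra hcon
    push Not at hcon
    have hQ : IsPGroup q (Subgroup.zpowers α) := fun g => ⟨1, by
      obtain ⟨z, hz⟩ := g.2
      have hz' : α ^ z = (g : MulAut P) := hz
      apply Subtype.ext
      rw [Subgroup.coe_pow, ← hz', ← zpow_natCast, zpow_comm, zpow_natCast, pow_one, hα, one_zpow]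
      rfl⟩
    letI : MulAction (Subgroup.zpowers α) W :=
      { smul := fun g x => ⟨(g : MulAut P) x.1, by
          show ((g : MulAut P) x.1) ^ p = 1
          rw [← map_pow, show x.1 ^ p = 1 from x.2, map_one]⟩
        one_smul := fun x => Subtype.ext rfl
        mul_smul := fun g g' x => Subtype.ext rfl }
    have hfix : MulAction.fixedPoints (Subgroup.zpowers α) W = {1} := by
      ext x
      simp only [Set.mem_singleton_iff, MulAction.mem_fixedPoints]
      constructor
      · intro hx
        by_contra hx1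
        exact hcon x.1 x.2 (fun e => hx1 (Subtype.ext e))
          (congrArg Subtype.val (hx ⟨α, Subgroup.mem_zpowers α⟩))
      · rintro rfl g
        exact Subtype.ext (map_one (g : MulAut P))
    have h1 := hQ.card_modEq_card_fixedPoints W
    rw [hfix, Nat.card_coe_set_eq ({1} : Set W), Set.ncard_singleton, he] at h1
    exact hqd e he1 hed ((Nat.modEq_iff_dvd' (Nat.one_le_pow _ _ hp.pos)).1 h1.symm)
  -- pass to the quotient
  set V := Subgroup.zpowers v with hV
  have hVfix : ∀ x ∈ V, α x = x := by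
    rintro x ⟨z, rfl⟩
    show α (v ^ z) = v ^ z
    rw [map_zpow, hvfix]
  have hmapV : ∀ β : MulAut P, β v = v → V.map β.toMonoidHom = V := fun β hβ => by
    rw [hV, MonoidHom.map_zpowers]
    show Subgroup.zpowers (β v) = _
    rw [hβ]
  let αq : MulAut (P ⧸ V) := QuotientGroup.congr V V α (hmapV α hvfix)
  have hαq : ∀ (i : ℕ) (x : P), (αq ^ i) (x : P ⧸ V) = ((α ^ i) x : P ⧸ V) := by
    intro i
    induction i with
    | zero => intro x; rfl
    | succ i hi =>
      intro x
      rw [pow_succ, pow_succ, MulAut.mul_apply, MulAut.mul_apply]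
      exact hi (α x)
  have hlt : Nat.card (P ⧸ V) < k := by
    rw [← hk, Subgroup.card_eq_card_quotient_mul_card_subgroup V]
    refine lt_mul_of_one_lt_right Nat.card_pos ?_
    rw [hV, Nat.card_zpowers]
    exact Nat.one_lt_iff_ne_zero_and_ne_one.2 ⟨(orderOf_pos v).ne', fun h => hv1 (orderOf_eq_one_iff.1 h)⟩
  have htriv := ih _ hlt (P ⧸ V) rfl (hP.to_quotient V) (by
    refine le_trans ?_ hker
    rw [card_ker_pow_eq_index, card_ker_pow_eq_index]
    refine Nat.le_of_dvd (Nat.pos_of_ne_zero Subgroup.index_ne_zero_of_finite) ?_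
    have hmap : (powMonoidHom p : P ⧸ V →* P ⧸ V).range =
        (powMonoidHom p : P →* P).range.map (QuotientGroup.mk' V) := by
      ext y
      constructor
      · rintro ⟨x, rfl⟩
        obtain ⟨x, rfl⟩ := QuotientGroup.mk_surjective x
        exact ⟨x ^ p, ⟨x, rfl⟩, rfl⟩
      · rintro ⟨-, ⟨x, rfl⟩, rfl⟩
        exact ⟨(x : P ⧸ V), rfl⟩
    rw [hmap]
    exact Subgroup.index_map_dvd _ (QuotientGroup.mk'_surjective V)) αq (by
      refine MulEquiv.ext fun x => ?_
      obtain ⟨x, rfl⟩ := QuotientGroup.mk_surjective x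
      rw [hαq, hα]
      rfl)
  refine MulEquiv.ext fun x => ?_
  show α x = x
  have ha : x⁻¹ * α x ∈ V := by
    refine QuotientGroup.eq.1 ?_
    have := hαq 1 x
    rw [pow_one, pow_one, htriv] at this
    exact this
  have hiter : ∀ i : ℕ, (α ^ i) x = x * (x⁻¹ * α x) ^ i := by
    intro i
    induction i with
    | zero => simp
    | succ i hi =>
      rw [pow_succ', MulAut.mul_apply, hi, map_mul, map_pow, hVfix _ ha, pow_succ' (x⁻¹ * α x),
        ← mul_assoc x, mul_inv_cancel_left]
  have h1 := hiter q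
  rw [hα, MulAut.one_apply, left_eq_mul] at h1
  obtain ⟨j, hj⟩ := (hP.to_subgroup V) ⟨_, ha⟩
  have hj' : (x⁻¹ * α x) ^ p ^ j = 1 := by simpa using congrArg Subtype.val hj
  have h2 := pow_gcd_eq_one.2 ⟨h1, hj'⟩
  rw [(Nat.Coprime.pow_right j ((Nat.coprime_primes hq hp).2 hpq)).gcd_eq_one, pow_one,
    inv_mul_eq_one] at h2
  exact h2.symm

variable {G : Type u} [Group G] [Finite G] {p : ℕ} [Fact p.Prime]

/-- The normal complement. -/
theorem hasNormalPComplement_of_small (P : Sylow p G) (hab : IsMulCommutative (P : Subgroup G))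
    (d : ℕ) (hd : Nat.card {x : (P : Subgroup G) // x ^ p = 1} ≤ p ^ d)
    (hq : ∀ q, q.Prime → q ≠ p → q ∣ Nat.card G → ∀ i, 1 ≤ i → i ≤ d → ¬ q ∣ p ^ i - 1) :
    Cfsg.HasNormalPComplement p G := by
  refine CfsgLib.TransferBasic.hasNormalPComplement_of_abelian (P := P) hab fun g hg hgp => ?_
  letI : CommGroup (P : Subgroup G) :=
    { (inferInstance : Group (P : Subgroup G)) with mul_comm := fun a b => hab.is_comm.comm a b }
  obtain ⟨φ, hφ⟩ : ∃ φ, φ = Subgroup.normalizerMonoidHom (P : Subgroup G) := ⟨_, rfl⟩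
  have h1 : φ ⟨g, hg⟩ = 1 := by
    refine eq_one_of_prime_parts _ (orderOf g) ?_ fun q hq' hqg α hα => ?_
    · rw [← map_pow]
      have : (⟨g, hg⟩ : Subgroup.normalizer ((P : Subgroup G) : Set G)) ^ orderOf g = 1 :=
        Subtype.ext (by simp [pow_orderOf_eq_one])
      rw [this, map_one]
    · have hqp : q ≠ p := fun h => hq'.not_dvd_one (hgp ▸ Nat.dvd_gcd hqg (h ▸ dvd_rfl))
      exact aut_eq_one (d := d) (Fact.out : p.Prime) hq' hqp
        (hq q hq' hqp (hqg.trans (orderOf_dvd_natCard g))) _ _ rfl P.2 hd α hα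
  rw [hφ, ← MonoidHom.mem_ker, Subgroup.normalizerMonoidHom_ker] at h1
  exact h1

theorem small_of_rank (P : Sylow p G) (hab : IsMulCommutative (P : Subgroup G)) :
    Nat.card {x : (P : Subgroup G) // x ^ p = 1} ≤ p ^ Group.rank (P : Subgroup G) := by
  letI : CommGroup (P : Subgroup G) :=
    { (inferInstance : Group (P : Subgroup G)) with mul_comm := fun a b => hab.is_comm.comm a b }
  exact card_ker_pow_le (Fact.out : p.Prime).pos

omit [Fact p.Prime] in
theorem isSolvable_aux : ∀ (k : ℕ) (G : Type u) [Group G] [Finite G], Nat.card G = k →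
    (∀ p : ℕ, p.Prime → p ∣ Nat.card G → (∃ q : ℕ, q.Prime ∧ q ∣ Nat.card G ∧ p < q) →
      ∀ P : Sylow p G, IsMulCommutative (P : Subgroup G) ∧
        Nat.card {x : (P : Subgroup G) // x ^ p = 1} ≤ p ^ 2) →
    ¬ 12 ∣ Nat.card G → Group.IsSolvable G := by
  intro k
  induction k using Nat.strong_induction_on with
  | _ k ih =>
  intro G _ _ hk h h12
  by_cases h1 : Nat.card G = 1
  · haveI := (Nat.card_eq_one_iff_unique.1 h1).1
    infer_instance
  obtain ⟨p, hp⟩ : ∃ p, p = (Nat.card G).minFac := ⟨_, rfl⟩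
  have hpp : p.Prime := hp ▸ Nat.minFac_prime h1
  haveI := Fact.mk hpp
  have hpG : p ∣ Nat.card G := hp ▸ Nat.minFac_dvd _
  have hmin : ∀ q, q.Prime → q ∣ Nat.card G → p ≤ q := fun q hq hqG =>
    hp ▸ Nat.minFac_le_of_dvd hq.two_le hqG
  obtain ⟨P⟩ : Nonempty (Sylow p G) := inferInstance
  by_cases hlarge : ∃ q : ℕ, q.Prime ∧ q ∣ Nat.card G ∧ p < q
  swap
  · push Not at hlarge
    have hG : IsPGroup p G := IsPGroup.of_card
      (Nat.eq_prime_pow_of_unique_prime_dvd Nat.card_pos.ne' fun {q} hq hqG =>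
        le_antisymm (hlarge q hq hqG) (hmin q hq hqG))
    haveI := hG.isNilpotent
    infer_instance
  obtain ⟨hab, hcard⟩ := h p hpp hpG hlarge P
  have hN : Cfsg.HasNormalPComplement p G := by
    have key : ∀ q, q.Prime → q ≠ p → q ∣ Nat.card G → ¬ q ∣ p - 1 := fun q hq hqp hqG hd => by
      have := Nat.le_of_dvd (by have := hpp.two_le; omega) hd
      have := hmin q hq hqG
      omega
    by_cases h23 : p = 2 ∧ 3 ∣ Nat.card G
    · refine hasNormalPComplement_of_small P hab 1 ?_ fun q hq hqp hqG i hi hi' => ?_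
      · rw [pow_one]
        refine (Nat.card_le_card_of_injective Subtype.val Subtype.val_injective).trans ?_
        have h4 : ¬ 4 ∣ Nat.card G := fun h4 => h12 ((show Nat.Coprime 4 3 by decide).mul_dvd_of_dvd_of_dvd h4 h23.2)
        obtain ⟨n, hn⟩ := IsPGroup.iff_card.1 P.2
        rw [hn, h23.1]
        have hn1 : n ≤ 1 := by
          by_contra hlt
          refine h4 (((?_ : 4 ∣ p ^ n)).trans (hn ▸ Subgroup.card_subgroup_dvd_card _))
          rw [h23.1]
          exact (Nat.pow_dvd_pow 2 (by omega : 2 ≤ n))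
        exact (Nat.pow_le_pow_right (by norm_num) hn1).trans (by norm_num)
      · rw [show i = 1 by omega, pow_one]
        exact key q hq hqp hqG
    · refine hasNormalPComplement_of_small P hab 2 hcard fun q hq hqp hqG i hi hi' => ?_
      interval_cases i
      · rw [pow_one]; exact key q hq hqp hqG
      · intro hd
        have e : p ^ 2 - 1 = (p + 1) * (p - 1) := by
          rw [show (1 : ℕ) = 1 ^ 2 by norm_num, Nat.sq_sub_sq]; simp
        rcases hq.dvd_mul.1 (e ▸ hd) with h' | h'
        · have hle := Nat.le_of_dvd (Nat.succ_pos p) h'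
          have := hmin q hq hqG
          have hq1 : q = p + 1 := by omega
          rcases hpp.eq_two_or_odd' with h2 | h2
          · refine h23 ⟨h2, ?_⟩
            rw [show (3 : ℕ) = q by omega]
            exact hqG
          · rcases hq.eq_two_or_odd' with hq2 | hq2
            · have := hpp.two_le; omega
            · obtain ⟨a, ha⟩ := h2
              obtain ⟨b, hb⟩ := hq2
              omega
        · exact key q hq hqp hqG h'
  obtain ⟨P', N, hNn, hNP⟩ := hN
  haveI := hNn
  have hlt : Nat.card N < k := by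
    rw [← hk, ← hNP.card_mul]
    refine lt_mul_of_one_lt_right Nat.card_pos ?_
    exact lt_of_lt_of_le hpp.one_lt (Nat.le_of_dvd Nat.card_pos (P'.dvd_card_of_dvd_card hpG))
  haveI : Group.IsSolvable N := by
    refine ih _ hlt N rfl (fun r hr hrN hr' R => ?_)
      fun h12' => h12 (h12'.trans (Subgroup.card_subgroup_dvd_card N))
    haveI := Fact.mk hr
    obtain ⟨q, hq, hqN, hrq⟩ := hr'
    obtain ⟨S, hS⟩ := (R.2.map N.subtype).exists_le_sylow
    obtain ⟨hSab, hScard⟩ := h r hr (hrN.trans (Subgroup.card_subgroup_dvd_card N))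
      ⟨q, hq, hqN.trans (Subgroup.card_subgroup_dvd_card N), hrq⟩ S
    let f : ↥(R : Subgroup N) → ↥(S : Subgroup G) := fun x => ⟨((x : N) : G), hS ⟨x, x.2, rfl⟩⟩
    have hf : Function.Injective f := fun a b hab' =>
      Subtype.ext (Subtype.ext (congrArg (fun z : (S : Subgroup G) => (z : G)) hab'))
    refine ⟨⟨⟨fun a b => hf (hSab.is_comm.comm (f a) (f b))⟩⟩, le_trans ?_ hScard⟩
    refine Nat.card_le_card_of_injective (fun x => ⟨f x.1, ?_⟩) fun a b hab' =>
      Subtype.ext (hf (congrArg Subtype.val hab'))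
    refine Subtype.ext ?_
    have := congrArg (fun z : (R : Subgroup N) => (((z : N)) : G)) x.2
    simpa [f] using this
  haveI : Group.IsSolvable (G ⧸ N) := by
    have hP' : IsPGroup p (G ⧸ N) := by
      obtain ⟨n, hn⟩ := IsPGroup.iff_card.1 P'.2
      refine IsPGroup.of_card (n := n) ?_
      rw [← Subgroup.index_eq_card, ← hn]
      exact hNP.symm.index_eq_card
    haveI := hP'.isNilpotent
    infer_instance
  exact solvable_of_ker_le_range N.subtype (QuotientGroup.mk' N) (by simp)

/-! ### Two-groups with a cyclic subgroup of index two -/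

omit [Fact p.Prime] in
theorem aut_eq_one_cyclic_two {q : ℕ} (hq : q.Prime) (hq5 : 5 ≤ q) :
    ∀ (k : ℕ) (U : Type u) [Group U] [Finite U], Nat.card U = k → IsPGroup 2 U →
      (∃ x : U, (Subgroup.zpowers x).index ≤ 2) → ∀ α : MulAut U, α ^ q = 1 → α = 1 := by
  haveI := Fact.mk hq
  intro k
  induction k using Nat.strong_induction_on with
  | _ k ih =>
  intro U _ _ hk hU hcyc α hα
  rcases subsingleton_or_nontrivial U with h | h
  · exact MulEquiv.ext fun x => Subsingleton.elim _ _
  obtain ⟨c, hc⟩ := hcyc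
  obtain ⟨n, hn⟩ := IsPGroup.iff_card.1 hU
  have hn0 : n ≠ 0 := by
    rintro rfl
    have := Finite.one_lt_card_iff_nontrivial.2 h
    rw [hn, pow_zero] at this
    exact lt_irrefl 1 this
  -- subgroups of index two
  let Mx := {M : Subgroup U // M.index = 2}
  obtain ⟨M0, hM0⟩ : ∃ M : Subgroup U, M.index = 2 := by
    obtain ⟨M, hM⟩ := Sylow.exists_subgroup_card_pow_prime 2 (G := U) (n := n - 1)
      (hn ▸ Nat.pow_dvd_pow 2 (by omega))
    refine ⟨M, Nat.eq_of_mul_eq_mul_left (Nat.card_pos (α := M)) ?_⟩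
    rw [Subgroup.card_mul_index, hn, hM, ← pow_succ, Nat.sub_add_cancel (by omega)]
  obtain ⟨d, hd⟩ : ∃ d : U, Subgroup.closure ({c, d} : Set U) = ⊤ := by
    by_cases htop : Subgroup.zpowers c = ⊤
    · exact ⟨1, top_le_iff.1 (htop.ge.trans (Subgroup.zpowers_le.2 (Subgroup.subset_closure (by simp))))⟩
    obtain ⟨d, hd⟩ : ∃ d, d ∉ Subgroup.zpowers c := by
      by_contra hall
      push Not at hall
      exact htop ((Subgroup.eq_top_iff' _).2 hall)
    have h2 : (Subgroup.zpowers c).index = 2 := by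
      have h0 : (Subgroup.zpowers c).index ≠ 0 := Subgroup.index_ne_zero_of_finite
      have h1 : (Subgroup.zpowers c).index ≠ 1 := fun e => htop (Subgroup.index_eq_one.1 e)
      omega
    refine ⟨d, (Subgroup.eq_top_iff' _).2 fun z => ?_⟩
    have hcC : Subgroup.zpowers c ≤ Subgroup.closure ({c, d} : Set U) :=
      Subgroup.zpowers_le.2 (Subgroup.subset_closure (by simp))
    by_cases hz : z ∈ Subgroup.zpowers c
    · exact hcC hz
    · have : d * z ∈ Subgroup.zpowers c :=
        (Subgroup.mul_mem_iff_of_index_two h2).2 (iff_of_false hd hz)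
      simpa using mul_mem (inv_mem (Subgroup.subset_closure (by simp) : d ∈ Subgroup.closure ({c, d} : Set U))) (hcC this)
  have hcard : Nat.card Mx ≤ 3 := by
    classical
    let f : Mx → {v : Bool × Bool // v ≠ (true, true)} := fun M =>
      ⟨(decide (c ∈ M.1), decide (d ∈ M.1)), fun e => by
        simp only [Prod.mk.injEq, decide_eq_true_eq] at e
        have hle : Subgroup.closure ({c, d} : Set U) ≤ M.1 := by
          rw [Subgroup.closure_le]
          rintro z (rfl | rfl)
          exacts [e.1, e.2]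
        rw [hd, top_le_iff] at hle
        have := M.2
        rw [hle, Subgroup.index_top] at this
        omega⟩
    refine le_trans (Nat.card_le_card_of_injective f ?_) (by rw [Nat.card_eq_fintype_card]; decide)
    intro A B hAB
    simp only [f, Subtype.mk.injEq, Prod.mk.injEq, decide_eq_decide] at hAB
    let K : Subgroup U :=
      { carrier := {z | z ∈ A.1 ↔ z ∈ B.1}
        one_mem' := iff_of_true (one_mem _) (one_mem _)
        mul_mem' := fun {x y} hx hy => by
          show x * y ∈ A.1 ↔ x * y ∈ B.1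
          rw [Subgroup.mul_mem_iff_of_index_two A.2, Subgroup.mul_mem_iff_of_index_two B.2]
          exact iff_congr hx hy
        inv_mem' := fun {x} hx => by
          show x⁻¹ ∈ A.1 ↔ x⁻¹ ∈ B.1
          rw [inv_mem_iff, inv_mem_iff]
          exact hx }
    have hK : Subgroup.closure ({c, d} : Set U) ≤ K := by
      rw [Subgroup.closure_le]
      rintro z (rfl | rfl)
      exacts [hAB.1, hAB.2]
    rw [hd] at hK
    exact Subtype.ext (Subgroup.ext fun z => hK (Subgroup.mem_top z))
  have hQ : IsPGroup q (Subgroup.zpowers α) := fun g => ⟨1, by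
    obtain ⟨z, hz⟩ := g.2
    have hz' : α ^ z = (g : MulAut U) := hz
    apply Subtype.ext
    rw [Subgroup.coe_pow, ← hz', ← zpow_natCast, zpow_comm, zpow_natCast, pow_one, hα, one_zpow]
    rfl⟩
  letI : MulAction (Subgroup.zpowers α) Mx :=
    { smul := fun g M => ⟨M.1.map (g : MulAut U).toMonoidHom, by
        exact (Subgroup.index_map_equiv _ (g : MulAut U)).trans M.2⟩
      one_smul := fun M => Subtype.ext (Subgroup.map_id _)
      mul_smul := fun g g' M => Subtype.ext (by
        show M.1.map ((g : MulAut U) * (g' : MulAut U)).toMonoidHom =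
          (M.1.map (g' : MulAut U).toMonoidHom).map (g : MulAut U).toMonoidHom
        rw [Subgroup.map_map]; rfl) }
  obtain ⟨M, hMfix⟩ : (MulAction.fixedPoints (Subgroup.zpowers α) Mx).Nonempty := by
    rw [Set.nonempty_iff_ne_empty]
    intro he
    have h1 := hQ.card_modEq_card_fixedPoints Mx
    rw [he, Nat.card_coe_set_eq (∅ : Set Mx), Set.ncard_empty, Nat.modEq_zero_iff_dvd] at h1
    haveI : Nonempty Mx := ⟨⟨M0, hM0⟩⟩
    have := Nat.le_of_dvd Nat.card_pos h1
    omega
  have hmapM : M.1.map α.toMonoidHom = M.1 := congrArg Subtype.val (hMfix ⟨α, Subgroup.mem_zpowers α⟩)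
  have hmemM : ∀ m : U, m ∈ M.1 → α m ∈ M.1 := fun m hm => hmapM.le ⟨m, hm, rfl⟩
  let αM : MulAut M.1 := MulEquiv.ofBijective
    ({ toFun := fun m => (⟨α (m : U), hmemM m m.2⟩ : M.1)
       map_one' := Subtype.ext (map_one α)
       map_mul' := fun a b => Subtype.ext (map_mul α (a : U) (b : U)) } : M.1 →* M.1)
    (Finite.injective_iff_bijective.1 fun a b hab => Subtype.ext (α.injective (congrArg Subtype.val hab)))
  have hαM : ∀ (i : ℕ) (m : M.1), (((αM ^ i) m : M.1) : U) = (α ^ i) m := by
    intro i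
    induction i with
    | zero => intro m; rfl
    | succ i hi =>
      intro m
      rw [pow_succ, pow_succ, MulAut.mul_apply, MulAut.mul_apply]
      exact hi (αM m)
  have hlt : Nat.card M.1 < k := by
    rw [← hk, ← Subgroup.card_mul_index M.1, M.2]
    have : 0 < Nat.card M.1 := Nat.card_pos
    omega
  have hMcyc : ∃ x : M.1, (Subgroup.zpowers x).index ≤ 2 := by
    obtain ⟨x, hx⟩ := isCyclic_iff_exists_zpowers_eq_top.1
      (isCyclic_of_injective (Subgroup.inclusion (inf_le_right : M.1 ⊓ Subgroup.zpowers c ≤ Subgroup.zpowers c))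
        (Subgroup.inclusion_injective _) : IsCyclic (M.1 ⊓ Subgroup.zpowers c : Subgroup U))
    refine ⟨⟨x.1, x.2.1⟩, ?_⟩
    have e : Subgroup.zpowers (⟨x.1, x.2.1⟩ : M.1) = (Subgroup.zpowers c).comap M.1.subtype := by
      ext z
      rw [Subgroup.mem_comap]
      constructor
      · rintro ⟨j, rfl⟩
        show ((⟨x.1, x.2.1⟩ : M.1) : U) ^ j ∈ Subgroup.zpowers c
        exact Subgroup.zpow_mem _ x.2.2 j
      · intro hz
        obtain ⟨j, hj⟩ := (hx.ge (Subgroup.mem_top (⟨z.1, z.2, hz⟩ : (M.1 ⊓ Subgroup.zpowers c : Subgroup U))))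
        refine ⟨j, Subtype.ext ?_⟩
        have := congrArg Subtype.val hj
        simpa using this
    rw [e, Subgroup.index_comap, Subgroup.range_subtype]
    refine (Subgroup.relIndex_le_of_le_right le_top Subgroup.index_ne_zero_of_finite).trans ?_
    rw [Subgroup.relIndex_top_right]
    exact hc
  have htriv := ih _ hlt M.1 rfl (hU.to_subgroup _) hMcyc αM (MulEquiv.ext fun m => Subtype.ext (by
    rw [hαM, hα]; rfl))
  have hfix : ∀ m ∈ M.1, α m = m := fun m hm => by
    have := hαM 1 ⟨m, hm⟩
    rw [pow_one, pow_one, htriv] at this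
    exact this.symm
  refine MulEquiv.ext fun x => ?_
  show α x = x
  by_cases hx : x ∈ M.1
  · exact hfix x hx
  have hαx : α x ∉ M.1 := by
    intro hmem
    obtain ⟨m, hm, hme⟩ := hmapM.ge hmem
    exact hx (α.injective hme ▸ hm)
  have ha : x⁻¹ * α x ∈ M.1 :=
    (Subgroup.mul_mem_iff_of_index_two M.2).2 (iff_of_false (fun h => hx (inv_mem_iff.1 h)) hαx)
  have hiter : ∀ i : ℕ, (α ^ i) x = x * (x⁻¹ * α x) ^ i := by
    intro i
    induction i with
    | zero => simp
    | succ i hi =>
      rw [pow_succ', MulAut.mul_apply, hi, map_mul, map_pow, hfix _ ha, pow_succ' (x⁻¹ * α x),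
        ← mul_assoc x, mul_inv_cancel_left]
  have h1 := hiter q
  rw [hα, MulAut.one_apply, left_eq_mul] at h1
  obtain ⟨j, hj⟩ := hU (x⁻¹ * α x)
  have h2 := pow_gcd_eq_one.2 ⟨h1, hj⟩
  rw [(Nat.Coprime.pow_right j ((Nat.coprime_primes hq Nat.prime_two).2 (by omega))).gcd_eq_one, pow_one,
    inv_mul_eq_one] at h2
  exact h2.symm

/-- A normal `2`-complement. -/
theorem exists_normal_of_cyclic_two {G : Type u} [Group G] [Finite G] {a n : ℕ}
    (hG : Nat.card G = 2 ^ a * n) (hn : Odd n) (h3 : ¬ 3 ∣ n) (hx : ∃ x : G, orderOf x = 2 ^ (a - 1)) :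
    ∃ N : Subgroup G, N.Normal ∧ Nat.card N = n := by
  haveI := Fact.mk Nat.prime_two
  obtain ⟨x, hx⟩ := hx
  obtain ⟨P, hP⟩ := (IsPGroup.of_card (G := Subgroup.zpowers x) (n := a - 1)
    (by rw [Nat.card_zpowers, hx]) : IsPGroup 2 (Subgroup.zpowers x)).exists_le_sylow
  obtain ⟨e, he⟩ := IsPGroup.iff_card.1 P.2
  have hea : e ≤ a := by
    have hd : 2 ^ e ∣ 2 ^ a * n := hG ▸ he ▸ Subgroup.card_subgroup_dvd_card _
    exact (Nat.pow_dvd_pow_iff_le_right one_lt_two).1
      ((Nat.Coprime.dvd_mul_right (Nat.Coprime.pow_left e (Nat.coprime_two_left.2 hn))).1 hd)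
  have hPidx : (Subgroup.zpowers x).relIndex (P : Subgroup G) ≤ 2 := by
    have h := Subgroup.relIndex_mul_relIndex ⊥ (Subgroup.zpowers x) (P : Subgroup G) bot_le hP
    rw [Subgroup.relIndex_bot_left, Subgroup.relIndex_bot_left, Nat.card_zpowers, hx, he] at h
    refine Nat.le_of_mul_le_mul_left ?_ (pow_pos two_pos (a - 1))
    rw [h, ← pow_succ]
    exact Nat.pow_le_pow_right two_pos (by omega)
  have hLC : CfsgLib.Fusion.LocalCondition 2 G := by
    intro Q hQ g hg hg2
    obtain ⟨S, hS⟩ := hQ.exists_le_sylow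
    obtain ⟨h, rfl⟩ := MulAction.exists_smul_eq G P S
    have hQcyc : ∃ z : Q, (Subgroup.zpowers z).index ≤ 2 := by
      let f : Q →* G := (MulAut.conj h⁻¹).toMonoidHom.comp Q.subtype
      have hfP : ∀ z, f z ∈ (P : Subgroup G) := fun z => by
        have hz := hS z.2
        rw [Sylow.coe_subgroup_smul, Subgroup.mem_pointwise_smul_iff_inv_smul_mem, ← map_inv] at hz
        exact hz
      have hfinj : Function.Injective f :=
        (MulAut.conj h⁻¹).injective.comp Q.subtype_injective
      haveI : IsCyclic ((Subgroup.zpowers x).comap f) :=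
        isCyclic_of_injective ((f.comp ((Subgroup.zpowers x).comap f).subtype).codRestrict
          (Subgroup.zpowers x) fun z => z.2)
          fun z w hzw => Subtype.ext (hfinj (congrArg Subtype.val hzw))
      obtain ⟨z, hz⟩ := isCyclic_iff_exists_zpowers_eq_top.1 (inferInstance : IsCyclic ((Subgroup.zpowers x).comap f))
      refine ⟨z.1, ?_⟩
      have hzeq : Subgroup.zpowers (z : Q) = (Subgroup.zpowers x).comap f := by
        have h' := MonoidHom.map_zpowers ((Subgroup.zpowers x).comap f).subtype z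
        rw [hz, ← MonoidHom.range_eq_map, Subgroup.range_subtype] at h'
        exact h'.symm
      rw [hzeq, Subgroup.index_comap]
      have hle : f.range ≤ (P : Subgroup G) := by rintro _ ⟨w, rfl⟩; exact hfP w
      refine le_trans ?_ hPidx
      exact Subgroup.relIndex_le_of_le_right hle Subgroup.index_ne_zero_of_finite
    obtain ⟨φ, hφ⟩ : ∃ φ, φ = Subgroup.normalizerMonoidHom Q := ⟨_, rfl⟩
    have h1 : φ ⟨g, hg⟩ = 1 := by
      refine eq_one_of_prime_parts _ (orderOf g) ?_ fun q hq' hqg α hα => ?_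
      · rw [← map_pow]
        have : (⟨g, hg⟩ : Subgroup.normalizer (Q : Set G)) ^ orderOf g = 1 :=
          Subtype.ext (by simp [pow_orderOf_eq_one])
        rw [this, map_one]
      · refine aut_eq_one_cyclic_two hq' ?_ _ Q rfl hQ hQcyc α hα
        have hq2 : q ≠ 2 := fun h => hq'.not_dvd_one (hg2 ▸ Nat.dvd_gcd hqg (h ▸ dvd_rfl))
        have hq3 : q ≠ 3 := by
          rintro rfl
          have := hqg.trans (orderOf_dvd_natCard g)
          rw [hG] at this
          exact h3 ((Nat.Coprime.dvd_mul_left (Nat.Coprime.pow_right a (by norm_num))).1 this)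
        have hq4 : q ≠ 4 := by rintro rfl; exact absurd hq' (by norm_num)
        have := hq'.two_le
        omega
    rw [hφ, ← MonoidHom.mem_ker, Subgroup.normalizerMonoidHom_ker] at h1
    exact h1
  obtain ⟨P', N, hN, hNP⟩ := CfsgLib.Fusion.hasNormalPComplement_of_localCondition hLC
  refine ⟨N, hN, ?_⟩
  have hcard : Nat.card (P' : Subgroup G) = 2 ^ a := by
    have hn0 : n ≠ 0 := fun h => by rw [h] at hn; exact absurd hn (by decide)
    rw [P'.card_eq_multiplicity, hG, Nat.factorization_mul (pow_ne_zero a two_ne_zero) hn0,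
      Finsupp.add_apply, Nat.Prime.factorization_pow Nat.prime_two, Finsupp.single_eq_same,
      Nat.factorization_eq_zero_of_not_dvd (fun h => (Nat.not_even_iff_odd.2 hn) (even_iff_two_dvd.2 h)),
      add_zero]
  refine Nat.eq_of_mul_eq_mul_right (pow_pos two_pos a) ?_
  rw [← hcard, hNP.card_mul, hG, hcard, mul_comm]

end CfsgLib.SmallRank
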