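import Cfsg.Prelude.Def_Transfer
import Cfsg.Prelude.Def_Solvable
import Cfsg.Agent.Transfer.Basic
import Cfsg.Agent.Transfer.PResidual
import Cfsg.Agent.FGSB.Small

/-!
Groups whose class sizes are not divisible by the square of a prime `p`: `p`-th powers and
commutators of a Sylow `p`-subgroup are central, and for the smallest prime there is a normal
`p`-complement.
-/

set_option autoImplicit false

namespace CfsgLib.SquarefreeClass

open Subgroup

variable {G : Type*} [Group G] [Finite G] {p : ℕ} [hp : Fact p.Prime]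

theorem exists_sylow_relIndex_dvd (x : G) (h : ¬ p ^ 2 ∣ (centralizer ({x} : Set G)).index) :
    ∃ (P : Sylow p G) (R : Subgroup G), R ≤ P ∧ R ≤ centralizer ({x} : Set G) ∧
      R.relIndex P ∣ p := by
  set C := centralizer ({x} : Set G)
  obtain ⟨R₀⟩ : Nonempty (Sylow p C) := inferInstance
  obtain ⟨P, hP⟩ := (R₀.2.map C.subtype).exists_le_sylow
  refine ⟨P, (R₀ : Subgroup C).map C.subtype, hP, map_subtype_le _, ?_⟩
  have h1 := relIndex_mul_index hP
  rw [index_map_subtype] at h1
  obtain ⟨a, ha⟩ := (IsPGroup.iff_card.1 P.2)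
  obtain ⟨b, hb, hr⟩ := (Nat.dvd_prime_pow hp.out).1
    (show ((R₀ : Subgroup C).map C.subtype).relIndex P ∣ p ^ a from ha ▸ relIndex_dvd_card _ _)
  rw [hr] at h1 ⊢
  have h2 : p ^ b ∣ C.index := by
    refine Nat.Coprime.dvd_of_dvd_mul_left ?_ (h1 ▸ dvd_mul_right (p ^ b) _)
    exact ((hp.out.coprime_iff_not_dvd.2 R₀.not_dvd_index).pow_left b)
  have hb1 : b ≤ 1 := by
    by_contra hb1
    exact h ((pow_dvd_pow p (by omega)).trans h2)
  exact (pow_dvd_pow p hb1).trans (by rw [pow_one])

theorem pow_and_commutator_mem {P : Sylow p G} {R : Subgroup G} (hR : R ≤ P)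
    (hi : R.relIndex P ∣ p) :
    (∀ u ∈ (P : Subgroup G), u ^ p ∈ R) ∧
      ∀ u ∈ (P : Subgroup G), ∀ v ∈ (P : Subgroup G), u * v * u⁻¹ * v⁻¹ ∈ R := by
  rcases (Nat.dvd_prime hp.out).1 hi with h1 | h1
  · have hle : (P : Subgroup G) ≤ R := relIndex_eq_one.1 h1
    exact ⟨fun u hu => pow_mem (hle hu) _, fun u hu v hv =>
      mul_mem (mul_mem (mul_mem (hle hu) (hle hv)) (inv_mem (hle hu))) (inv_mem (hle hv))⟩
  · set S : Subgroup (P : Subgroup G) := R.subgroupOf P
    have hS : S.index = p := h1
    obtain ⟨a, ha⟩ := IsPGroup.iff_card.1 P.2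
    have hn : S.Normal := by
      refine normal_of_index_eq_minFac_card ?_
      rw [hS, ha]
      rcases a with _ | a
      · exfalso
        have := S.index_dvd_card
        rw [hS, ha, pow_zero, Nat.dvd_one] at this
        exact hp.out.ne_one this
      · exact (Nat.pow_minFac (Nat.succ_ne_zero a)).symm ▸ hp.out.minFac_eq.symm
    have hc : IsCyclic ((P : Subgroup G) ⧸ S) :=
      isCyclic_of_prime_card (p := p) (by rw [← index_eq_card, hS])
    have hcard : Nat.card ((P : Subgroup G) ⧸ S) = p := by rw [← index_eq_card, hS]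
    refine ⟨fun u hu => ?_, fun u hu v hv => ?_⟩
    · have : (⟨u, hu⟩ : (P : Subgroup G)) ^ p ∈ S := by
        rw [← QuotientGroup.eq_one_iff, QuotientGroup.mk_pow]
        exact (congrArg (fun m : ℕ => (QuotientGroup.mk (⟨u, hu⟩ : (P : Subgroup G)) : (P : Subgroup G) ⧸ S) ^ m) hcard).symm.trans pow_card_eq_one'
      exact this
    · let _ : CommGroup ((P : Subgroup G) ⧸ S) := IsCyclic.commGroup
      have : (⟨u, hu⟩ * ⟨v, hv⟩ * ⟨u, hu⟩⁻¹ * ⟨v, hv⟩⁻¹ : (P : Subgroup G)) ∈ S := by
        rw [← QuotientGroup.eq_one_iff]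
        simp only [QuotientGroup.mk_mul, QuotientGroup.mk_inv]
        rw [mul_comm (QuotientGroup.mk _ : (P : Subgroup G) ⧸ S), mul_inv_cancel_right, mul_inv_cancel]
      exact this

theorem pow_and_commutator_mem_center (h : ∀ x : G, ¬ p ^ 2 ∣ (centralizer ({x} : Set G)).index)
    (P : Sylow p G) :
    (∀ u ∈ (P : Subgroup G), u ^ p ∈ center G) ∧
      ∀ u ∈ (P : Subgroup G), ∀ v ∈ (P : Subgroup G), u * v * u⁻¹ * v⁻¹ ∈ center G := by
  have key : ∀ (x : G), ∃ c : G, ∃ R : Subgroup G,
      R ≤ centralizer ({c⁻¹ * x * c} : Set G) ∧ R ≤ P ∧ R.relIndex P ∣ p := by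
    intro x
    obtain ⟨Q, R, hRQ, hRC, hi⟩ := exists_sylow_relIndex_dvd x (h x)
    obtain ⟨g, hg⟩ := MulAction.exists_smul_eq G P Q
    have hmap : (P : Subgroup G).map (MulAut.conj g).toMonoidHom = (Q : Subgroup G) := by
      rw [← hg]; rfl
    have hRrange : R ≤ (MulAut.conj g).toMonoidHom.range :=
      fun y _ => (MulAut.conj g).surjective y
    refine ⟨g, R.comap (MulAut.conj g).toMonoidHom, fun y hy => ?_, fun y hy => ?_, ?_⟩
    · have := mem_centralizer_singleton_iff.1 (hRC hy)
      simp only [MulEquiv.coe_toMonoidHom, MulAut.conj_apply] at this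
      rw [mem_centralizer_singleton_iff]
      calc y * (g⁻¹ * x * g) = g⁻¹ * (g * y * g⁻¹ * x) * g := by group
        _ = g⁻¹ * (x * (g * y * g⁻¹)) * g := by rw [this]
        _ = _ := by group
    · have h1 : (MulAut.conj g).toMonoidHom y ∈ (P : Subgroup G).map (MulAut.conj g).toMonoidHom :=
        hmap ▸ hRQ hy
      exact (mem_map_iff_mem (MulAut.conj g).injective).1 h1
    · rw [relIndex_comap, hmap]
      exact hi
  have hw : ∀ w : G, (∀ R : Subgroup G, R ≤ P → R.relIndex P ∣ p → w ∈ R) → w ∈ center G := by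
    intro w hw
    have htop : centralizer ({w} : Set G) = ⊤ := by
      refine CfsgLib.FGSBSmall.eq_top_of_conj_cover fun x => ?_
      obtain ⟨c, R, hR, hRP, hi⟩ := key x
      exact ⟨c, mem_centralizer_singleton_iff.2
        (mem_centralizer_singleton_iff.1 (hR (hw R hRP hi))).symm⟩
    refine mem_center_iff.2 fun g => ?_
    exact mem_centralizer_singleton_iff.1 (htop ▸ mem_top g)
  exact ⟨fun u hu => hw _ fun R hR hi => (pow_and_commutator_mem hR hi).1 u hu,
    fun u hu v hv => hw _ fun R hR hi => (pow_and_commutator_mem hR hi).2 u hu v hv⟩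

section Counting

theorem eq_one_of_dvd_of_coprime {d m : ℕ} (hd : d ∣ m) (h : d.Coprime m) : d = 1 :=
  Nat.eq_one_of_dvd_coprimes h dvd_rfl hd

/-- The counting argument: if the Sylow `p`-subgroup `P` is elementary abelian, `p` is the smallest
prime divisor and every element commutes with a subgroup of index at most `p` of some Sylow
`p`-subgroup, then the normalizer of `P` centralizes `P`. -/
theorem normalizer_le_centralizer (hmin : ∀ q : ℕ, q.Prime → q ∣ Nat.card G → p ≤ q)
    (P : Sylow p G) (hcomm : ∀ u ∈ (P : Subgroup G), ∀ v ∈ (P : Subgroup G), u * v = v * u)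
    (hexp : ∀ u ∈ (P : Subgroup G), u ^ p = 1)
    (hC : ∀ x : G, ∃ (Q : Sylow p G) (R : Subgroup G), R ≤ Q ∧ R ≤ centralizer ({x} : Set G) ∧
      R.relIndex Q ∣ p) :
    normalizer ((P : Subgroup G) : Set G) ≤ centralizer ((P : Subgroup G) : Set G) := by
  classical
  set N := normalizer ((P : Subgroup G) : Set G) with hN
  set F := (P : Subgroup G) ⊓ centralizer (N : Set G) with hF
  by_cases hFi : F.relIndex P ∣ p
  · -- `N` centralizes a subgroup of index at most `p` of `P`
    rcases (Nat.dvd_prime hp.out).1 hFi with h1 | h1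
    · intro g hg
      refine mem_centralizer_iff.2 fun u hu => ?_
      exact (mem_centralizer_iff.1 (mem_inf.1 (relIndex_eq_one.1 h1 hu)).2 g hg).symm
    · set S : Subgroup (P : Subgroup G) := F.subgroupOf P
      have hS : S.index = p := h1
      have hSn : S.Normal := ⟨fun a ha b => by
        have : b * a * b⁻¹ = a := Subtype.ext (by
          simp only [coe_mul, InvMemClass.coe_inv]
          rw [hcomm _ b.2 _ a.2, mul_inv_cancel_right])
        rwa [this]⟩
      have hcard : Nat.card ((P : Subgroup G) ⧸ S) = p := by rw [← index_eq_card, hS]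
      obtain ⟨v, hv⟩ : ∃ v : (P : Subgroup G), v ∉ S := by
        by_contra hall
        push Not at hall
        have : S = ⊤ := eq_top_iff.2 fun a _ => hall a
        rw [this, index_top] at hS
        exact hp.out.ne_one hS.symm
      intro g hg
      let τ : ↥(P : Subgroup G) → ↥(P : Subgroup G) := fun a =>
        ⟨g * a * g⁻¹, (mem_normalizer_iff.1 hg a).1 a.2⟩
      have hgen : ∀ a : (P : Subgroup G), ∃ i : ℕ, a * (v ^ i)⁻¹ ∈ S := by
        intro a
        have hne : (v : (P : Subgroup G) ⧸ S) ≠ 1 := fun h => hv ((QuotientGroup.eq_one_iff v).1 h)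
        obtain ⟨i, hi⟩ := mem_powers_of_prime_card hcard (g := (v : (P : Subgroup G) ⧸ S))
          (g' := (a : (P : Subgroup G) ⧸ S)) hne
        refine ⟨i, (QuotientGroup.eq_one_iff _).1 ?_⟩
        simp only at hi
        rw [QuotientGroup.mk_mul, QuotientGroup.mk_inv, QuotientGroup.mk_pow, hi, mul_inv_cancel]
      have hfix : ∀ n ∈ N, ∀ a : (P : Subgroup G), a ∈ S → n * (a : G) * n⁻¹ = a := by
        intro n hn a ha
        have := mem_centralizer_iff.1 (mem_inf.1 (show (a : G) ∈ F from ha)).2 n hn
        rw [this, mul_inv_cancel_right]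
      obtain ⟨i, hi⟩ := hgen (τ v)
      -- iterate
      have hit : ∀ m : ℕ, ∃ f : (P : Subgroup G), f ∈ S ∧
          g ^ m * (v : G) * (g ^ m)⁻¹ = (f : G) * (v : G) ^ i ^ m := by
        intro m
        induction m with
        | zero => exact ⟨1, one_mem _, by simp⟩
        | succ m ih =>
          obtain ⟨f, hf, he⟩ := ih
          set f₁ := τ v * (v ^ i)⁻¹ with hf₁
          have h2 : g * (v : G) * g⁻¹ = (f₁ : G) * (v : G) ^ i := by
            rw [hf₁]
            simp [τ]
          refine ⟨f * f₁ ^ i ^ m, mul_mem hf (pow_mem hi _), ?_⟩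
          have hc : Commute (f₁ : G) ((v : G) ^ i) := hcomm _ f₁.2 _ (pow_mem v.2 i)
          calc g ^ (m + 1) * (v : G) * (g ^ (m + 1))⁻¹
              = g * (g ^ m * (v : G) * (g ^ m)⁻¹) * g⁻¹ := by rw [pow_succ' g m]; group
            _ = (g * (f : G) * g⁻¹) * (g * (v : G) * g⁻¹) ^ i ^ m := by
                rw [he, conj_pow]; group
            _ = (f : G) * ((f₁ : G) ^ i ^ m * ((v : G) ^ i) ^ i ^ m) := by
                rw [hfix g hg f hf, h2, hc.mul_pow]
            _ = _ := by
                rw [← pow_mul, ← pow_succ', ← mul_assoc]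
                simp
      have hip : (i : ZMod p) ≠ 0 := by
        intro h
        rw [ZMod.natCast_eq_zero_iff] at h
        obtain ⟨j, rfl⟩ := h
        have hv1 : (v : G) ^ (p * j) = 1 := by rw [pow_mul, hexp _ v.2, one_pow]
        have hmem : τ v ∈ S := by
          have : v ^ (p * j) = 1 := Subtype.ext (by simpa using hv1)
          rwa [this, inv_one, mul_one] at hi
        have := hfix g⁻¹ (inv_mem hg) (τ v) hmem
        simp [τ, mul_assoc] at this
        exact hv (by
          have h' : τ v = v := Subtype.ext (by simp [τ, mul_assoc]; exact this.symm)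
          rwa [h'] at hmem)
      obtain ⟨f, hf, he⟩ := hit (p - 1)
      have h3 : (v : G) ^ i ^ (p - 1) = v := by
        have h4 : i ^ (p - 1) ≡ 1 [MOD p] := by
          rw [← ZMod.natCast_eq_natCast_iff]
          push_cast
          exact ZMod.pow_card_sub_one_eq_one hip
        have h5 : orderOf (v : G) ∣ p := orderOf_dvd_of_pow_eq_one (hexp _ v.2)
        conv_rhs => rw [← pow_one (v : G)]
        exact pow_eq_pow_iff_modEq.2 (h4.of_dvd h5)
      rw [h3] at he
      -- `g ^ ((p - 1) * p)` centralizes `v`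
      have h6 : ∀ m : ℕ, (g ^ (p - 1)) ^ m * (v : G) * ((g ^ (p - 1)) ^ m)⁻¹ = (f : G) ^ m * v := by
        intro m
        induction m with
        | zero => simp
        | succ m ih =>
          calc (g ^ (p - 1)) ^ (m + 1) * (v : G) * ((g ^ (p - 1)) ^ (m + 1))⁻¹
              = g ^ (p - 1) * ((g ^ (p - 1)) ^ m * (v : G) * ((g ^ (p - 1)) ^ m)⁻¹) * (g ^ (p - 1))⁻¹ := by
                rw [pow_succ' (g ^ (p - 1)) m]; group
            _ = (g ^ (p - 1) * (f : G) * (g ^ (p - 1))⁻¹) ^ m * (g ^ (p - 1) * v * (g ^ (p - 1))⁻¹) := by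
                rw [ih, conj_pow]; group
            _ = _ := by rw [hfix _ (pow_mem hg _) f hf, he, pow_succ]; group
      set K := (centralizer ((P : Subgroup G) : Set G)).subgroupOf N
      have hgK : (⟨g, hg⟩ : N) ^ ((p - 1) * p) ∈ K := by
        rw [mem_subgroupOf]
        refine mem_centralizer_iff.2 fun u hu => ?_
        obtain ⟨j, hj⟩ := hgen ⟨u, hu⟩
        have h7 := hfix (g ^ ((p - 1) * p)) (pow_mem hg _) _ hj
        have h8 := h6 p
        rw [hexp _ f.2, one_mul, ← pow_mul] at h8
        have hu' : u = u * ((v : G) ^ j)⁻¹ * (v : G) ^ j := by group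
        push_cast at h7 ⊢
        have h9 : g ^ ((p - 1) * p) * u * (g ^ ((p - 1) * p))⁻¹ = u := by
          conv_lhs => rw [hu']
          calc g ^ ((p - 1) * p) * (u * ((v : G) ^ j)⁻¹ * (v : G) ^ j) * (g ^ ((p - 1) * p))⁻¹
              = (g ^ ((p - 1) * p) * (u * ((v : G) ^ j)⁻¹) * (g ^ ((p - 1) * p))⁻¹) *
                (g ^ ((p - 1) * p) * (v : G) * (g ^ ((p - 1) * p))⁻¹) ^ j := by rw [conj_pow]; group
            _ = u * ((v : G) ^ j)⁻¹ * (v : G) ^ j := by rw [h7, h8]
            _ = u := by group
        exact (mul_inv_eq_iff_eq_mul.1 h9).symm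
      have hKn : K.Normal := ⟨fun a ha b => by
        rw [mem_subgroupOf] at ha ⊢
        refine mem_centralizer_iff.2 fun u hu => ?_
        have h1 : (b : G)⁻¹ * u * b ∈ (P : Subgroup G) := by
          simpa using (mem_normalizer_iff.1 (inv_mem b.2) u).1 hu
        have h2 := mem_centralizer_iff.1 ha _ h1
        push_cast
        calc u * ((b : G) * a * (b : G)⁻¹) = b * (((b : G)⁻¹ * u * b) * a) * (b : G)⁻¹ := by group
          _ = b * ((a : G) * ((b : G)⁻¹ * u * b)) * (b : G)⁻¹ := by rw [h2]
          _ = _ := by group⟩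
      have hPK : (P : Subgroup G).subgroupOf N ≤ K := fun a ha =>
        mem_centralizer_iff.2 fun u hu => hcomm u hu _ ha
      have hKi : K.index.Coprime ((p - 1) * p) := by
        refine Nat.coprime_of_dvd fun r hr hrd hrm => ?_
        have hrP : r ∣ (P : Subgroup G).relIndex N := hrd.trans (index_dvd_of_le hPK)
        have hrP' : r ∣ (P : Subgroup G).index :=
          hrP.trans (Dvd.intro _ (relIndex_mul_index (le_normalizer (H := (P : Subgroup G)))))
        have := hp.out.two_le
        rcases hr.dvd_mul.1 hrm with h | h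
        · have := hmin r hr (hrP'.trans (index_dvd_card _))
          have := Nat.le_of_dvd (by have := hp.out.two_le; omega) h
          omega
        · rw [(Nat.prime_dvd_prime_iff_eq hr hp.out).1 h] at hrP'
          exact P.not_dvd_index hrP'
      have hgi : (⟨g, hg⟩ : N) ^ K.index ∈ K := Subgroup.pow_index_mem K _
      have hg1 : (⟨g, hg⟩ : N) ∈ K := by
        rw [← QuotientGroup.eq_one_iff, QuotientGroup.mk_pow] at hgK hgi
        rw [← QuotientGroup.eq_one_iff]
        exact orderOf_eq_one_iff.1 (Nat.eq_one_of_dvd_coprimes hKi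
          (orderOf_dvd_of_pow_eq_one hgi) (orderOf_dvd_of_pow_eq_one hgK))
      exact hg1
  · exfalso
    -- otherwise count commuting pairs
    have := Fintype.ofFinite G
    let X := {y : G // orderOf y = p}
    let _ : MulAction G X :=
      { smul := fun g y => ⟨g * y.1 * g⁻¹, by
          rw [← MulAut.conj_apply, MulEquiv.orderOf_eq]; exact y.2⟩
        one_smul := fun y => Subtype.ext (show (1 : G) * y.1 * 1⁻¹ = y.1 by group)
        mul_smul := fun a b y => Subtype.ext
          (show a * b * y.1 * (a * b)⁻¹ = a * (b * y.1 * b⁻¹) * a⁻¹ by group) }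
    let Ω := MulAction.orbitRel.Quotient G X
    have := Fintype.ofFinite Ω
    have := fun g : G => Fintype.ofFinite (MulAction.fixedBy X g)
    have hsum := MulAction.sum_card_fixedBy_eq_card_orbits_mul_card_group G X
    have hPpos : 0 < Nat.card (P : Subgroup G) := Nat.card_pos
    have hlow : ∀ g : G, Nat.card (P : Subgroup G) ≤ p * (Fintype.card (MulAction.fixedBy X g) + 1) := by
      intro g
      obtain ⟨Q, R, hRQ, hRC, hi⟩ := hC g
      have hQP : Nat.card (Q : Subgroup G) = Nat.card (P : Subgroup G) := by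
        rw [Q.card_eq_multiplicity, P.card_eq_multiplicity]
      have hQexp : ∀ u ∈ (Q : Subgroup G), u ^ p = 1 := by
        intro u hu
        obtain ⟨c, hc⟩ := MulAction.exists_smul_eq G P Q
        rw [← hc] at hu
        obtain ⟨w, hw, rfl⟩ := hu
        show (MulAut.conj c w) ^ p = 1
        rw [← map_pow, hexp w hw, map_one]
      have h1 : Nat.card R * R.relIndex Q = Nat.card (Q : Subgroup G) := by
        rw [relIndex, ← Nat.card_congr (subgroupOfEquivOfLe hRQ).toEquiv, card_mul_index]
      have h2 : Nat.card R ≤ Fintype.card (MulAction.fixedBy X g) + 1 := by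
        let f : R → Option (MulAction.fixedBy X g) := fun u =>
          if hu : (u : G) = 1 then none
          else some ⟨⟨u, orderOf_eq_prime (hQexp _ (hRQ u.2)) hu⟩, Subtype.ext (by
            show g * (u : G) * g⁻¹ = u
            rw [← mem_centralizer_singleton_iff.1 (hRC u.2), mul_inv_cancel_right])⟩
        have hf : Function.Injective f := by
          intro a b hab
          by_cases ha : (a : G) = 1 <;> by_cases hb : (b : G) = 1
          · exact Subtype.ext (ha.trans hb.symm)
          · dsimp only [f] at hab; rw [dif_pos ha, dif_neg hb] at hab; simp at hab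
          · dsimp only [f] at hab; rw [dif_neg ha, dif_pos hb] at hab; simp at hab
          · dsimp only [f] at hab; rw [dif_neg ha, dif_neg hb] at hab
            exact Subtype.ext (congrArg (fun z : MulAction.fixedBy X _ => ((z : X) : G)) (Option.some.inj hab))
        have := Fintype.ofFinite R
        have := Fintype.card_le_of_injective f hf
        rw [Fintype.card_option] at this
        rwa [Nat.card_eq_fintype_card]
      rw [← hQP, ← h1, mul_comm]
      exact Nat.mul_le_mul (Nat.le_of_dvd hp.out.pos hi) h2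
    -- strict at the identity
    have h1X : Nat.card (P : Subgroup G) ≤ Fintype.card (MulAction.fixedBy X (1 : G)) + 1 := by
      let f : ↥(P : Subgroup G) → Option (MulAction.fixedBy X (1 : G)) := fun u =>
        if hu : (u : G) = 1 then none
        else some ⟨⟨u, orderOf_eq_prime (hexp _ u.2) hu⟩, one_smul G _⟩
      have hf : Function.Injective f := by
        intro a b hab
        by_cases ha : (a : G) = 1 <;> by_cases hb : (b : G) = 1
        · exact Subtype.ext (ha.trans hb.symm)
        · dsimp only [f] at hab; rw [dif_pos ha, dif_neg hb] at hab; simp at hab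
        · dsimp only [f] at hab; rw [dif_neg ha, dif_pos hb] at hab; simp at hab
        · dsimp only [f] at hab; rw [dif_neg ha, dif_neg hb] at hab
          exact Subtype.ext (congrArg (fun z : MulAction.fixedBy X _ => ((z : X) : G)) (Option.some.inj hab))
      have := Fintype.ofFinite (P : Subgroup G)
      have := Fintype.card_le_of_injective f hf
      rw [Fintype.card_option] at this
      rwa [Nat.card_eq_fintype_card]
    set k := Fintype.card Ω
    set n := Nat.card (P : Subgroup G)
    -- `P` is nontrivial and `F` has index at least `p ^ 2`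
    obtain ⟨a, ha⟩ := IsPGroup.iff_card.1 P.2
    obtain ⟨b, hb, hFb⟩ := (Nat.dvd_prime_pow hp.out).1
      (show F.relIndex P ∣ p ^ a from ha ▸ relIndex_dvd_card _ _)
    have hb2 : 2 ≤ b := by
      by_contra hb2
      exact hFi (hFb ▸ (pow_dvd_pow p (show b ≤ 1 by omega)).trans (by rw [pow_one]))
    have hFcard : Nat.card F * p ^ b = n := by
      rw [← hFb, relIndex, ← Nat.card_congr (subgroupOfEquivOfLe (inf_le_left (a := (P : Subgroup G)))).toEquiv]
      exact card_mul_index _
    have hF2 : p * p * Nat.card F ≤ n := by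
      rw [← hFcard, mul_comm (Nat.card F)]
      refine Nat.mul_le_mul_right _ ?_
      rw [← sq]
      exact Nat.pow_le_pow_right hp.out.pos hb2
    have hk : n ≤ p * k := by
      by_contra hk
      push Not at hk
      have hlt : ∑ _g : G, p * k < ∑ g : G, p * Fintype.card (MulAction.fixedBy X g) := by
        have hF1 : 1 ≤ Nat.card F := Nat.card_pos
        have hpn : p * p ≤ n := le_trans (Nat.le_mul_of_pos_right _ hF1) hF2
        have hdvd : p ∣ n := by
          rw [show n = p ^ a from ha]
          exact dvd_pow_self p (by omega)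
        obtain ⟨n', hn'⟩ := hdvd
        rw [hn'] at hk
        have hk' : k < n' := Nat.lt_of_mul_lt_mul_left hk
        refine Finset.sum_lt_sum (fun g _ => ?_) ⟨1, Finset.mem_univ _, ?_⟩
        · have h' := hlow g
          rw [hn'] at h'
          have h'' : n' ≤ Fintype.card (MulAction.fixedBy X g) + 1 :=
            Nat.le_of_mul_le_mul_left h' hp.out.pos
          exact Nat.mul_le_mul_left _ (by omega)
        · refine Nat.mul_lt_mul_of_pos_left ?_ hp.out.pos
          have : 2 * n' ≤ n := hn' ▸ Nat.mul_le_mul_right _ hp.out.two_le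
          omega
      rw [← Finset.mul_sum, ← Finset.mul_sum, hsum, Finset.sum_const, Finset.card_univ, smul_eq_mul,
        mul_comm (Fintype.card G)] at hlt
      exact lt_irrefl _ hlt
    -- fibres
    let S := {u : (P : Subgroup G) // (u : G) ≠ 1}
    have := Fintype.ofFinite S
    let φ : S → Ω := fun u => Quotient.mk'' ⟨(u.1 : G), orderOf_eq_prime (hexp _ u.1.2) u.2⟩
    have hfib : ∀ ω : Ω, p + 1 ≤ (Finset.univ.filter fun u => φ u = ω).card +
        p * (Finset.univ.filter fun u => φ u = ω ∧ ((u.1 : G) ∈ F)).card := by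
      intro ω
      induction ω using Quotient.inductionOn' with | h y => ?_
      obtain ⟨Q, hQ⟩ := (IsPGroup.of_card (n := 1) (G := zpowers y.1)
        (by rw [Nat.card_zpowers, y.2, pow_one])).exists_le_sylow
      obtain ⟨c, hc⟩ := MulAction.exists_smul_eq G Q P
      have hyP : c * y.1 * c⁻¹ ∈ (P : Subgroup G) := by
        rw [← hc]
        exact ⟨y.1, hQ (mem_zpowers y.1), rfl⟩
      have hy1 : c * y.1 * c⁻¹ ≠ 1 := by
        intro h
        have h' : y.1 = 1 := by simpa using h
        have := y.2
        rw [h', orderOf_one] at this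
        exact hp.out.ne_one this.symm
      set u₀ : S := ⟨⟨_, hyP⟩, hy1⟩
      have hu₀ : φ u₀ = Quotient.mk'' y := Quotient.eq''.2 ⟨c, rfl⟩
      have hpos : 0 < (Finset.univ.filter fun u => φ u = Quotient.mk'' y).card :=
        Finset.card_pos.2 ⟨u₀, by simp [hu₀]⟩
      by_cases huF : (u₀.1 : G) ∈ F
      · have h1 : 0 < (Finset.univ.filter fun u => φ u = Quotient.mk'' y ∧ ((u.1 : G) ∈ F)).card :=
          Finset.card_pos.2 ⟨u₀, by simp [hu₀, huF]⟩
        have := Nat.le_mul_of_pos_right p h1
        omega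
      refine le_trans ?_ (Nat.le_add_right _ _)
      set w : G := (u₀.1 : G)
      set C := (centralizer ({w} : Set G)).subgroupOf N
      let emb : N ⧸ C → {u : S // φ u = Quotient.mk'' y} := fun q =>
        ⟨⟨⟨(q.out : G) * w * (q.out : G)⁻¹, (mem_normalizer_iff.1 q.out.2 w).1 u₀.1.2⟩, fun h =>
          u₀.2 (conj_eq_one_iff.1 h)⟩, by
          rw [← hu₀]
          exact Quotient.eq''.2 ⟨(q.out : G), rfl⟩⟩
      have hinj : Function.Injective emb := by
        intro a b hab
        have h1 : (a.out : G) * w * (a.out : G)⁻¹ = (b.out : G) * w * (b.out : G)⁻¹ :=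
          congrArg (fun z : {u : S // φ u = Quotient.mk'' y} => (z.1.1 : G)) hab
        rw [← QuotientGroup.out_eq' a, ← QuotientGroup.out_eq' b, QuotientGroup.eq, mem_subgroupOf,
          mem_centralizer_singleton_iff]
        push_cast
        calc (a.out : G)⁻¹ * (b.out : G) * w
            = (a.out : G)⁻¹ * ((b.out : G) * w * (b.out : G)⁻¹) * (b.out : G) := by group
          _ = (a.out : G)⁻¹ * ((a.out : G) * w * (a.out : G)⁻¹) * (b.out : G) := by rw [h1]
          _ = w * ((a.out : G)⁻¹ * (b.out : G)) := by group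
      have hcard : C.index ≤ (Finset.univ.filter fun u => φ u = Quotient.mk'' y).card := by
        rw [index_eq_card, ← Fintype.card_subtype, ← Nat.card_eq_fintype_card]
        exact Nat.card_le_card_of_injective emb hinj
      refine le_trans ?_ hcard
      have hPC : (P : Subgroup G).subgroupOf N ≤ C := fun a ha =>
        mem_centralizer_singleton_iff.2 (hcomm _ ha _ u₀.1.2)
      have hdvd : C.index ∣ (P : Subgroup G).index :=
        (index_dvd_of_le hPC).trans (Dvd.intro _ (relIndex_mul_index le_normalizer))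
      have hne : C.index ≠ 1 := by
        intro h
        refine huF (mem_inf.2 ⟨u₀.1.2, mem_centralizer_iff.2 fun g hg => ?_⟩)
        exact mem_centralizer_singleton_iff.1
          ((index_eq_one.1 h ▸ mem_top (⟨g, hg⟩ : N) : (⟨g, hg⟩ : N) ∈ C))
      have hr := Nat.minFac_prime hne
      have hrd := Nat.minFac_dvd C.index
      have h1 := hmin _ hr ((hrd.trans hdvd).trans (index_dvd_card _))
      have h2 : C.index.minFac ≠ p := fun e => P.not_dvd_index ((dvd_of_eq e.symm).trans (hrd.trans hdvd))
      have h3 := Nat.le_of_dvd (Nat.pos_of_ne_zero index_ne_zero_of_finite) hrd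
      omega
    have htot := Finset.sum_le_sum fun ω (_ : ω ∈ (Finset.univ : Finset Ω)) => hfib ω
    rw [Finset.sum_const, Finset.card_univ, smul_eq_mul, Finset.sum_add_distrib,
      ← Finset.card_eq_sum_card_fiberwise (fun _ _ => Finset.mem_univ _), ← Finset.mul_sum] at htot
    have hSF : ∑ ω : Ω, (Finset.univ.filter fun u => φ u = ω ∧ ((u.1 : G) ∈ F)).card =
        (Finset.univ.filter fun u : S => ((u.1 : G) ∈ F)).card := by
      rw [Finset.card_eq_sum_card_fiberwise (f := φ) (t := Finset.univ) fun _ _ => Finset.mem_univ _]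
      refine Finset.sum_congr rfl fun ω _ => ?_
      rw [Finset.filter_filter]
      simp only [and_comm]
    have hS1 : Fintype.card S + 1 ≤ n := by
      have := Fintype.ofFinite (P : Subgroup G)
      show _ ≤ Nat.card (P : Subgroup G)
      rw [Nat.card_eq_fintype_card]
      exact Fintype.card_lt_of_injective_of_notMem (fun u : S => u.1) Subtype.val_injective (b := 1)
        (fun h => by obtain ⟨u, hu⟩ := h; exact u.2 (congrArg Subtype.val hu))
    have hSF' : (Finset.univ.filter fun u : S => ((u.1 : G) ∈ F)).card + 1 ≤ Nat.card F := by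
      have := Fintype.ofFinite F
      rw [← Fintype.card_subtype, Nat.card_eq_fintype_card]
      exact Fintype.card_lt_of_injective_of_notMem
        (fun u : {u : S // (u.1 : G) ∈ F} => (⟨(u.1.1 : G), u.2⟩ : F))
        (fun a b h => Subtype.ext (Subtype.ext (Subtype.ext (congrArg (fun z : F => (z : G)) h))))
        (b := 1) (fun h => by obtain ⟨u, hu⟩ := h; exact u.1.2 (congrArg Subtype.val hu))
    rw [hSF, Finset.card_univ] at htot
    have h4 := Nat.mul_le_mul_left p hSF'
    rw [Nat.mul_add, mul_one] at h4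
    have h5 := Nat.mul_le_mul_left p htot
    have h6 : n * (p + 1) ≤ p * k * (p + 1) := Nat.mul_le_mul_right _ hk
    have h7 := Nat.mul_le_mul_left p h4
    have h8 := Nat.mul_le_mul_left p hS1
    nlinarith [hp.out.pos, h5, h6, h7, h8, hF2]

end Counting

/-- If `p` is the smallest prime divisor and `p ^ 2` divides no class size, then there is a normal
`p`-complement. -/
theorem hasNormalPComplement (hmin : ∀ q : ℕ, q.Prime → q ∣ Nat.card G → p ≤ q)
    (h : ∀ x : G, ¬ p ^ 2 ∣ (centralizer ({x} : Set G)).index) :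
    Cfsg.HasNormalPComplement p G := by
  obtain ⟨P⟩ : Nonempty (Sylow p G) := inferInstance
  have hPc := pow_and_commutator_mem_center h P
  set π := QuotientGroup.mk' (center G)
  have hπs : Function.Surjective π := QuotientGroup.mk'_surjective _
  let Pb : Sylow p (G ⧸ center G) := P.mapSurjective hπs
  have hPb : (Pb : Subgroup (G ⧸ center G)) = (P : Subgroup G).map π := Sylow.coe_mapSurjective hπs P
  have hcomm : ∀ u ∈ (Pb : Subgroup (G ⧸ center G)), ∀ v ∈ (Pb : Subgroup (G ⧸ center G)), u * v = v * u := by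
    rw [hPb]
    rintro _ ⟨u, hu, rfl⟩ _ ⟨v, hv, rfl⟩
    rw [← mul_inv_eq_one, mul_inv_rev, ← map_mul, ← map_inv, ← map_inv, ← map_mul, ← map_mul]
    refine (QuotientGroup.eq_one_iff _).2 ?_
    simpa [mul_assoc] using hPc.2 u hu v hv
  have hexp : ∀ u ∈ (Pb : Subgroup (G ⧸ center G)), u ^ p = 1 := by
    rw [hPb]
    rintro _ ⟨u, hu, rfl⟩
    rw [← map_pow]
    exact (QuotientGroup.eq_one_iff _).2 (hPc.1 u hu)
  have hC : ∀ x : G ⧸ center G, ∃ (Q : Sylow p (G ⧸ center G)) (R : Subgroup (G ⧸ center G)),
      R ≤ Q ∧ R ≤ centralizer ({x} : Set (G ⧸ center G)) ∧ R.relIndex Q ∣ p := by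
    intro x
    obtain ⟨g, rfl⟩ := hπs x
    obtain ⟨Q, R, h1, h2, h3⟩ := exists_sylow_relIndex_dvd g (h g)
    refine ⟨Q.mapSurjective hπs, R.map π, ?_, ?_, ?_⟩
    · rw [Sylow.coe_mapSurjective]; exact map_mono h1
    · rintro _ ⟨r, hr, rfl⟩
      rw [mem_centralizer_singleton_iff, ← map_mul, ← map_mul, mem_centralizer_singleton_iff.1 (h2 hr)]
    · rw [Sylow.coe_mapSurjective]
      refine dvd_trans ?_ h3
      have hsurj : Function.Surjective (π.subgroupMap (Q : Subgroup G)) := π.subgroupMap_surjective _
      have hle : (R.subgroupOf (Q : Subgroup G)).map (π.subgroupMap (Q : Subgroup G)) ≤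
          (R.map π).subgroupOf ((Q : Subgroup G).map π) := by
        rintro _ ⟨x, hx, rfl⟩
        exact ⟨x.1, hx, rfl⟩
      exact (index_dvd_of_le hle).trans (index_map_dvd _ hsurj)
  have hmin' : ∀ q : ℕ, q.Prime → q ∣ Nat.card (G ⧸ center G) → p ≤ q := fun q hq hd =>
    hmin q hq (hd.trans (card_quotient_dvd_card _))
  have hnpc : Cfsg.HasNormalPComplement p (G ⧸ center G) :=
    CfsgLib.TransferBasic.hasNormalPComplement_of_le_centralizer Pb
      (normalizer_le_centralizer hmin' Pb hcomm hexp hC)
  rw [CfsgLib.PResidual.hasNormalPComplement_iff] at hnpc ⊢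
  set R := Cfsg.pResidual p G
  obtain ⟨S⟩ : Nonempty (Sylow p R) := inferInstance
  have hSZ : ∀ s : R, s ∈ (S : Subgroup R) → (s : G) ∈ center G := by
    intro s hs
    rw [← QuotientGroup.eq_one_iff (N := center G), ← orderOf_eq_one_iff]
    obtain ⟨j, hj⟩ := IsPGroup.iff_orderOf.1 S.2 ⟨s, hs⟩
    refine Nat.eq_one_of_dvd_coprimes (a := p ^ j) (b := Nat.card (Cfsg.pResidual p (G ⧸ center G)))
      (hnpc.symm.pow_left j) ?_ ?_
    · rw [← hj, ← Subgroup.orderOf_coe, ← Subgroup.orderOf_coe]
      exact orderOf_map_dvd π (s : G)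
    · exact orderOf_dvd_natCard _ (CfsgLib.PResidual.map_pResidual_le π ⟨s, s.2, rfl⟩)
  have hle : normalizer ((S : Subgroup R) : Set R) ≤ centralizer ((S : Subgroup R) : Set R) :=
    fun g _ => mem_centralizer_iff.2 fun s hs => Subtype.ext (mem_center_iff.1 (hSZ s hs) (g : G)).symm
  have hR := CfsgLib.TransferBasic.hasNormalPComplement_of_le_centralizer S hle
  rw [CfsgLib.PResidual.hasNormalPComplement_iff] at hR
  suffices htop : Cfsg.pResidual p R = ⊤ by
    rwa [htop, card_top] at hR
  refine eq_top_iff.2 ?_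
  rintro ⟨y, hy⟩ -
  induction hy using closure_induction with
  | mem y hy =>
    refine CfsgLib.PResidual.mem_pResidual p ?_
    rw [← Subgroup.orderOf_coe]
    exact hy
  | one => exact one_mem _
  | mul a b ha hb iha ihb => exact mul_mem iha ihb
  | inv a ha iha => exact inv_mem iha

end CfsgLib.SquarefreeClass

namespace CfsgLib.SquarefreeClass

open Subgroup

universe u

variable {G : Type u} [Group G] [Finite G]

/-- Class sizes in a homomorphic image divide class sizes. -/
theorem index_centralizer_map_dvd {H : Type*} [Group H] (f : G →* H) (hf : Function.Surjective f) (x : G) :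
    (centralizer ({f x} : Set H)).index ∣ (centralizer ({x} : Set G)).index := by
  refine (index_dvd_of_le (show (centralizer ({x} : Set G)).map f ≤ centralizer ({f x} : Set H) from ?_)).trans
    (index_map_dvd _ hf)
  rintro _ ⟨y, hy, rfl⟩
  rw [mem_centralizer_singleton_iff, ← map_mul, ← map_mul, mem_centralizer_singleton_iff.1 hy]

/-- Class sizes in a normal subgroup divide class sizes. -/
theorem index_centralizer_normal_dvd (N : Subgroup G) [N.Normal] (x : N) :
    (centralizer ({x} : Set N)).index ∣ (centralizer ({(x : G)} : Set G)).index := by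
  have h : (centralizer ({(x : G)} : Set G)).subgroupOf N = centralizer ({x} : Set N) := by
    ext y
    simp only [mem_subgroupOf, mem_centralizer_singleton_iff, Subtype.ext_iff, coe_mul]
  rw [← h]
  show (centralizer ({(x : G)} : Set G)).relIndex N ∣ _
  set C := centralizer ({(x : G)} : Set G)
  obtain ⟨t, ht⟩ := relIndex_dvd_index_of_normal N C
  have h1 := relIndex_mul_index (inf_le_left : C ⊓ N ≤ C)
  have h2 := relIndex_mul_index (inf_le_right : C ⊓ N ≤ N)
  rw [inf_relIndex_left] at h1
  rw [inf_relIndex_right, ht, ← h1] at h2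
  refine Dvd.intro t (Nat.eq_of_mul_eq_mul_left (Nat.pos_of_ne_zero (index_ne_zero_of_finite : N.relIndex C ≠ 0)) ?_)
  show N.relIndex C * _ = N.relIndex C * _
  rw [← h2]
  ring

theorem isSolvable_aux (n : ℕ) : ∀ (G : Type u) [Group G] [Finite G], Nat.card G = n →
    (∀ x : G, Squarefree (centralizer ({x} : Set G)).index) → Group.IsSolvable G := by
  induction n using Nat.strongRecOn with | ind n ih => ?_
  rintro G _ _ rfl h
  by_cases h1 : Nat.card G = 1
  · have := (Nat.card_eq_one_iff_unique.1 h1).1
    infer_instance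
  · have hp := Nat.minFac_prime h1
    have := Fact.mk hp
    set p := (Nat.card G).minFac
    have hmin : ∀ q : ℕ, q.Prime → q ∣ Nat.card G → p ≤ q := fun q hq hd => Nat.minFac_le_of_dvd hq.two_le hd
    have hnp : Cfsg.HasNormalPComplement p G :=
      hasNormalPComplement hmin fun x hd => hp.ne_one (Nat.isUnit_iff.1 (h x p (by rwa [← sq])))
    obtain ⟨P, N, hN, hNP⟩ := hnp
    have hlt : Nat.card N < Nat.card G := by
      refine lt_of_le_of_ne (card_le_card_group N) fun he => ?_
      have := (CfsgLib.PResidual.card_coprime_of_isComplement' P hNP).1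
      rw [he] at this
      exact hp.coprime_iff_not_dvd.1 this.symm (Nat.minFac_dvd _)
    have hNs : Group.IsSolvable N := ih _ hlt N rfl fun x =>
      (h (x : G)).squarefree_of_dvd (index_centralizer_normal_dvd N x)
    obtain ⟨-, k, hk⟩ := CfsgLib.PResidual.card_coprime_of_isComplement' P hNP
    have : Group.IsNilpotent (G ⧸ N) := (IsPGroup.of_card (p := p) (n := k)
      (by rw [← index_eq_card, hk])).isNilpotent
    refine Group.isSolvable_of_ker_le_range N.subtype (QuotientGroup.mk' N) ?_
    rw [QuotientGroup.ker_mk', range_subtype]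

/-- Groups with square-free class sizes are solvable. -/
theorem isSolvable (h : ∀ x : G, Squarefree (centralizer ({x} : Set G)).index) : Group.IsSolvable G :=
  isSolvable_aux _ G rfl h

end CfsgLib.SquarefreeClass
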