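import Cfsg.Agent.FGSB.UnipotentRank
import Cfsg.Agent.Solvable.PGroupPower
import Cfsg.Agent.Solvable.PGroupRank
import Mathlib.GroupTheory.Frattini

/-!
# Generators of subgroups of a `p`-group with small normal abelian subgroups, `p` odd
-/

set_option autoImplicit false
set_option linter.unusedSectionVars false
set_option linter.style.haveILetI false

namespace CfsgLib.SubgroupRankBound

open Subgroup
open scoped commutatorElement

universe u

variable {p : ℕ} [hp : Fact p.Prime]

theorem mul_pow_of_central {G : Type u} [Group G] {a b : G} (hc : ∀ g, Commute ⁅b, a⁆ g) (n : ℕ) :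
    (a * b) ^ n = a ^ n * b ^ n * ⁅b, a⁆ ^ (n.choose 2) := by
  induction n with
  | zero => simp
  | succ n ih =>
    set c := ⁅b, a⁆ with hcdef
    have hba : ∀ m : ℕ, b ^ m * a = a * b ^ m * c ^ m := by
      intro m
      induction m with
      | zero => simp
      | succ m ihm =>
        have e1 : b * a = c * (a * b) := by rw [hcdef, commutatorElement_def]; group
        calc b ^ (m + 1) * a = b ^ m * (b * a) := by rw [pow_succ, mul_assoc]
          _ = b ^ m * a * b * c := by rw [e1, (hc _).eq]; simp only [mul_assoc]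
          _ = a * b ^ m * (c ^ m * b) * c := by rw [ihm]; simp only [mul_assoc]
          _ = a * b ^ (m + 1) * c ^ (m + 1) := by
            rw [((hc b).pow_left m).eq, pow_succ, pow_succ]; simp only [mul_assoc]
    calc (a * b) ^ (n + 1) = a ^ n * b ^ n * (c ^ n.choose 2 * a) * b := by
          rw [pow_succ, ih]; simp only [mul_assoc]
      _ = a ^ n * (b ^ n * a) * (c ^ n.choose 2 * b) := by
          rw [((hc a).pow_left _).eq]; simp only [mul_assoc]
      _ = a ^ (n + 1) * (b ^ n * b) * (c ^ n * c ^ n.choose 2) := by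
          rw [hba, pow_succ, ((hc b).pow_left _).eq]
          simp only [mul_assoc]
          congr 3
          rw [← mul_assoc, ((hc b).pow_left n).eq, mul_assoc]
      _ = a ^ (n + 1) * b ^ (n + 1) * c ^ (n + 1).choose 2 := by
          rw [← pow_succ, ← pow_add, Nat.choose_succ_succ', Nat.choose_one_right]

/-- In a `p`-central group (`p` odd) elements with equal central `p`-th powers of order at most `p`
differ by an element of order at most `p`. -/
theorem quot_pow_eq_one (hp2 : p ≠ 2) : ∀ (n : ℕ) (G : Type u) [Group G] [Finite G], Nat.card G = n →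
    IsPGroup p G → (∀ x : G, x ^ p = 1 → ∀ g, Commute x g) →
    ∀ a b : G, a ^ p = b ^ p → a ^ (p * p) = 1 → (a⁻¹ * b) ^ p = 1 := by
  intro n
  induction n using Nat.strong_induction_on with
  | _ n ih =>
  intro G _ _ hn hG hcen
  classical
  have hodd : p ∣ p.choose 2 := hp.out.dvd_choose_self two_ne_zero (lt_of_le_of_ne hp.out.two_le (Ne.symm hp2))
  have key : ∀ a g : G, a ^ (p * p) = 1 → ⁅g, a⁆ ^ p = 1 := by
    intro a g ha
    by_cases hz : zpowers a ⊔ frattini G = ⊤
    · have h1 : zpowers a = ⊤ := frattini_nongenerating hz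
      obtain ⟨i, rfl⟩ := mem_zpowers_iff.1 (h1 ▸ mem_top g : g ∈ zpowers a)
      rw [commutatorElement_eq_one_iff_mul_comm.2 ((Commute.refl a).zpow_left i).eq, one_pow]
    set H := zpowers a ⊔ frattini G
    have hc := (CfsgLib.PGroupBasic.commutator_pow_le_frattini (p := p) hG).1
    have hga : g * a * g⁻¹ ∈ H := by
      have h1 : ⁅g, a⁆ ∈ H := mem_sup_right (hc (commutator_mem_commutator (mem_top g) (mem_top a)))
      have h2 := mul_mem h1 (mem_sup_left (mem_zpowers a) : a ∈ H)
      rwa [commutatorElement_def, inv_mul_cancel_right] at h2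
    have hap : a ^ p = (g * a * g⁻¹) ^ p := by
      rw [conj_pow, ← (hcen (a ^ p) (by rw [← pow_mul, ha]) g).eq, mul_inv_cancel_right]
    have hlt : Nat.card H < n := hn ▸ lt_of_le_of_ne (Subgroup.card_le_card_group H)
      fun e => hz (Subgroup.eq_top_of_card_eq H e)
    have h3 := ih _ hlt H rfl (hG.to_subgroup H)
      (fun x hx y => Subtype.ext (hcen (x : G) (congrArg Subtype.val hx) y).eq)
      ⟨a, mem_sup_left (mem_zpowers a)⟩ ⟨g * a * g⁻¹, hga⟩ (Subtype.ext hap) (Subtype.ext ha)
    have h4 : (a⁻¹ * (g * a * g⁻¹)) ^ p = 1 := congrArg Subtype.val h3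
    have h5 : ⁅g, a⁆ = a * (a⁻¹ * (g * a * g⁻¹)) * a⁻¹ := by rw [commutatorElement_def]; group
    rw [h5, conj_pow, h4, mul_one, mul_inv_cancel]
  intro a b hab ha
  have hb : b ^ (p * p) = 1 := by rw [pow_mul, ← hab, ← pow_mul, ha]
  have hc1 : ⁅b, a⁻¹⁆ ^ p = 1 := key a⁻¹ b (by rw [inv_pow, ha, inv_one])
  obtain ⟨t, ht⟩ := hodd
  rw [mul_pow_of_central (hcen _ hc1) p, inv_pow, hab, inv_mul_cancel, one_mul, ht, pow_mul, hc1, one_pow]

/-- The elements of order at most `p` of a `p`-central group. -/
def omega (G : Type u) [Group G] (hcen : ∀ x : G, x ^ p = 1 → ∀ g, Commute x g) : Subgroup G where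
  carrier := {x | x ^ p = 1}
  one_mem' := one_pow _
  inv_mem' {x} hx := show x⁻¹ ^ p = 1 by rw [inv_pow, show x ^ p = 1 from hx, inv_one]
  mul_mem' {x y} hx hy := show (x * y) ^ p = 1 by
    rw [(hcen x hx y).mul_pow, show x ^ p = 1 from hx, show y ^ p = 1 from hy, one_mul]

/-- A `p`-central group (`p` odd) with at most `p ^ m` elements of order dividing `p` is generated by
`m` elements. -/
theorem exists_generators_of_central (hp2 : p ≠ 2) : ∀ (n : ℕ) (G : Type u) [Group G] [Finite G], Nat.card G = n →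
    IsPGroup p G → (∀ x : G, x ^ p = 1 → ∀ g, Commute x g) → ∀ m, Nat.card {x : G // x ^ p = 1} ≤ p ^ m →
    ∃ S : Finset G, S.card ≤ m ∧ Subgroup.closure (S : Set G) = ⊤ := by
  intro n
  induction n using Nat.strong_induction_on with
  | _ n ih =>
  intro G _ _ hn hG hcen m hm
  classical
  rcases subsingleton_or_nontrivial G with hs | hnt
  · exact ⟨∅, by simp, Subsingleton.elim _ _⟩
  set Ω := omega G hcen
  obtain ⟨x, hx⟩ : ∃ x : G, orderOf x = p := by
    refine exists_prime_orderOf_dvd_card' p ?_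
    obtain ⟨k, hk⟩ := IsPGroup.iff_card.1 hG
    rw [hk]
    refine dvd_pow_self p fun e => ?_
    rw [e, pow_zero] at hk
    exact absurd hk (Finite.one_lt_card (α := G)).ne'
  have hxp : x ^ p = 1 := orderOf_dvd_iff_pow_eq_one.1 (dvd_of_eq hx)
  have hx1 : x ≠ 1 := fun e => hp.out.one_lt.ne (by rw [← hx, e, orderOf_one])
  haveI : Ω.Normal := ⟨fun y hy g => by
    rw [← (hcen y hy g).eq, mul_inv_cancel_right]; exact hy⟩
  by_cases hfr : Ω ≤ frattini G
  · set q := QuotientGroup.mk' Ω
    have hq : Function.Surjective q := QuotientGroup.mk'_surjective Ω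
    have hmemq : ∀ y : G, q y = 1 ↔ y ^ p = 1 := fun y => QuotientGroup.eq_one_iff y
    have hdiff : ∀ a b : G, a ^ p = b ^ p → a ^ (p * p) = 1 → q a = q b := fun a b h1 h2 => by
      refine QuotientGroup.eq.2 ?_
      exact quot_pow_eq_one hp2 _ G rfl hG hcen a b h1 h2
    have hlift : ∀ a : G, q a ^ p = 1 → a ^ (p * p) = 1 := fun a h => by
      rw [← map_pow, hmemq, ← pow_mul] at h; exact h
    have hcenQ : ∀ X : G ⧸ Ω, X ^ p = 1 → ∀ Y, Commute X Y := by
      intro X hX Y
      obtain ⟨a, rfl⟩ := hq X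
      obtain ⟨g, rfl⟩ := hq Y
      have ha := hlift a hX
      have e : a ^ p = (g * a * g⁻¹) ^ p := by
        rw [conj_pow, ← (hcen (a ^ p) (by rw [← pow_mul, ha]) g).eq, mul_inv_cancel_right]
      have h1 := hdiff a _ e ha
      rw [map_mul, map_mul, map_inv, eq_mul_inv_iff_mul_eq] at h1
      exact h1
    have hcardQ : Nat.card {X : G ⧸ Ω // X ^ p = 1} ≤ p ^ m := by
      refine le_trans ?_ hm
      choose r hr using fun X : {X : G ⧸ Ω // X ^ p = 1} => hq X.1
      have hr2 : ∀ X, r X ^ (p * p) = 1 := fun X => hlift _ (by rw [hr]; exact X.2)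
      refine Nat.card_le_card_of_injective (fun X => (⟨r X ^ p, by rw [← pow_mul, hr2]⟩ : {x : G // x ^ p = 1}))
        fun X Y e => Subtype.ext ?_
      rw [← hr, ← hr, hdiff _ _ (congrArg Subtype.val e) (hr2 X)]
    have hlt : Nat.card (G ⧸ Ω) < n := by
      rw [← hn, Subgroup.card_eq_card_quotient_mul_card_subgroup Ω]
      refine lt_mul_of_one_lt_right Nat.card_pos ?_
      haveI : Nontrivial Ω := ⟨⟨1, one_mem _⟩, ⟨x, hxp⟩, fun e => hx1 (congrArg Subtype.val e).symm⟩
      exact Finite.one_lt_card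
    obtain ⟨S, hS, hgen⟩ := ih _ hlt (G ⧸ Ω) rfl (hG.to_quotient Ω) hcenQ m hcardQ
    refine ⟨S.image (Function.surjInv hq), Finset.card_image_le.trans hS, frattini_nongenerating ?_⟩
    refine eq_top_iff.2 fun y _ => ?_
    set T := Subgroup.closure ((S.image (Function.surjInv hq) : Finset G) : Set G)
    have h1 : T.map q = ⊤ := by
      rw [MonoidHom.map_closure, eq_top_iff, ← hgen]
      refine Subgroup.closure_mono fun X hX => ⟨Function.surjInv hq X, ?_, Function.surjInv_eq hq X⟩
      simpa using ⟨X, hX, rfl⟩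
    obtain ⟨t, ht, hty⟩ : q y ∈ T.map q := h1 ▸ mem_top _
    have h2 := QuotientGroup.eq.1 hty
    rw [← mul_inv_cancel_left t y]
    exact mul_mem (mem_sup_left ht) (mem_sup_right (hfr h2))
  · obtain ⟨z, hz, hzf⟩ := SetLike.not_le_iff_exists.1 hfr
    obtain ⟨M, hM, hzM⟩ : ∃ M : Subgroup G, IsCoatom M ∧ z ∉ M := by
      by_contra hcon
      push Not at hcon
      exact hzf (by
        simp only [frattini, Order.radical, Subgroup.mem_iInf]
        exact fun M hM => hcon M hM)
    have hlt : Nat.card M < n := hn ▸ lt_of_le_of_ne (Subgroup.card_le_card_group M)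
      fun e => hM.1 (Subgroup.eq_top_of_card_eq M e)
    have hzo : orderOf z = p := orderOf_eq_prime hz fun e => hzM (e ▸ one_mem M)
    cases m with
    | zero =>
      have h1 : 1 < Nat.card {x : G // x ^ p = 1} := by
        haveI : Nontrivial {x : G // x ^ p = 1} :=
          ⟨⟨1, one_pow _⟩, ⟨x, hxp⟩, fun e => hx1 (congrArg Subtype.val e).symm⟩
        exact Finite.one_lt_card
      rw [pow_zero] at hm
      omega
    | succ m =>
      have hcardM : Nat.card {x : M // x ^ p = 1} ≤ p ^ m := by
        have h1 : Nat.card ({x : M // x ^ p = 1} × Fin p) ≤ Nat.card {x : G // x ^ p = 1} := by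
          refine Nat.card_le_card_of_injective (fun y => (⟨(y.1.1 : G) * z ^ (y.2 : ℕ), by
            rw [(hcen (y.1.1 : G) (congrArg Subtype.val y.1.2) _).mul_pow,
              show (y.1.1 : G) ^ p = 1 from congrArg Subtype.val y.1.2, ← pow_mul, mul_comm, pow_mul,
              show z ^ p = 1 from hz, one_pow, one_mul]⟩ : {x : G // x ^ p = 1})) ?_
          rintro ⟨⟨⟨a, ha⟩, ha'⟩, i⟩ ⟨⟨⟨b, hb⟩, hb'⟩, j⟩ e
          have e1 : a * z ^ (i : ℕ) = b * z ^ (j : ℕ) := congrArg Subtype.val e
          have e2 : z ^ (i : ℕ) * (z ^ (j : ℕ))⁻¹ ∈ M := by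
            rw [show z ^ (i : ℕ) * (z ^ (j : ℕ))⁻¹ = a⁻¹ * b by
              rw [eq_inv_mul_iff_mul_eq, ← mul_assoc, e1, mul_inv_cancel_right]]
            exact mul_mem (inv_mem ha) hb
          have e3 : (i : ℕ) = j := by
            by_contra hne
            refine hzM ?_
            have e4 : z ^ ((i : ℤ) - j) ∈ M := by simpa [zpow_sub] using e2
            have hcop : Int.gcd ((i : ℤ) - j) p = 1 := by
              rw [Int.gcd_comm]
              refine (Nat.Prime.coprime_iff_not_dvd hp.out).2 ?_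
              intro hd
              have h4 : (p : ℤ) ∣ (i : ℤ) - j := Int.natCast_dvd.2 hd
              have h5 := Int.eq_zero_of_abs_lt_dvd h4 (by
                rw [abs_lt]; have := i.2; have := j.2; omega)
              omega
            have h6 := Int.gcd_eq_gcd_ab ((i : ℤ) - j) p
            rw [hcop, Nat.cast_one] at h6
            rw [← zpow_one z, h6, zpow_add, zpow_mul, zpow_mul, zpow_natCast, show z ^ p = 1 from hz,
              one_zpow, mul_one]
            exact zpow_mem e4 _
          obtain rfl : i = j := Fin.ext e3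
          obtain rfl : a = b := mul_right_cancel e1
          rfl
        rw [Nat.card_prod, Nat.card_fin] at h1
        have h2 := h1.trans hm
        rw [pow_succ] at h2
        exact Nat.le_of_mul_le_mul_right h2 hp.out.pos
      obtain ⟨S, hS, hgen⟩ := ih _ hlt M rfl (hG.to_subgroup M)
        (fun y hy w => Subtype.ext (hcen (y : G) (congrArg Subtype.val hy) w).eq) m hcardM
      refine ⟨insert z (S.image Subtype.val), (Finset.card_insert_le _ _).trans
        (Nat.succ_le_succ (Finset.card_image_le.trans hS)), hM.2 _ ?_⟩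
      have h1 : M ≤ Subgroup.closure (((S.image Subtype.val : Finset G)) : Set G) := by
        rw [Finset.coe_image, show (Subtype.val : M → G) = M.subtype from rfl, ← MonoidHom.map_closure, hgen,
          ← MonoidHom.range_eq_map, M.range_subtype]
      refine lt_of_le_of_ne (h1.trans (Subgroup.closure_mono (by simp))) fun e => hzM ?_
      exact e.ge (Subgroup.subset_closure (by simp))

/-- The order of an abelian subgroup of exponent `p` generated by `k` elements. -/
theorem card_le_of_closure {P : Type u} [Group P] [Finite P] {A : Subgroup P} (hA : IsMulCommutative A)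
    (he : ∀ a ∈ A, a ^ p = 1) {S : Finset P} (hS : Subgroup.closure (S : Set P) = A) :
    Nat.card A ≤ p ^ S.card := by
  classical
  letI : CommGroup A := { (inferInstance : Group A) with mul_comm := hA.is_comm.comm }
  haveI : Fintype A := Fintype.ofFinite A
  have hmem : ∀ s : S, (s : P) ∈ A := fun s => hS ▸ Subgroup.subset_closure s.2
  let f : (S → Fin p) → A := fun e => ∏ s : S, (⟨(s : P), hmem s⟩ : A) ^ (e s : ℕ)
  have hap : ∀ a : A, a ^ p = 1 := fun a => Subtype.ext (he a a.2)
  have hsurj : Function.Surjective f := by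
    let R : Subgroup A :=
      { carrier := Set.range f
        one_mem' := ⟨fun _ => ⟨0, hp.out.pos⟩, Finset.prod_eq_one fun s _ => pow_zero _⟩
        mul_mem' := by
          rintro _ _ ⟨c, rfl⟩ ⟨d, rfl⟩
          refine ⟨fun s => ⟨((c s : ℕ) + d s) % p, Nat.mod_lt _ hp.out.pos⟩, ?_⟩
          simp only [f, ← Finset.prod_mul_distrib, ← pow_add]
          exact Finset.prod_congr rfl fun s _ => (pow_eq_pow_mod _ (hap _)).symm
        inv_mem' := by
          rintro _ ⟨c, rfl⟩
          refine ⟨fun s => ⟨(p - c s) % p, Nat.mod_lt _ hp.out.pos⟩, ?_⟩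
          simp only [f, ← Finset.prod_inv_distrib]
          refine Finset.prod_congr rfl fun s _ => ?_
          rw [← pow_eq_pow_mod _ (hap _)]
          refine eq_inv_of_mul_eq_one_left ?_
          rw [← pow_add, Nat.sub_add_cancel (c s).2.le, hap] }
    intro a
    have h1 : A ≤ R.map A.subtype := by
      conv_lhs => rw [← hS]
      rw [Subgroup.closure_le]
      intro s hs
      refine ⟨⟨s, hmem ⟨s, hs⟩⟩, ⟨fun t => if t = ⟨s, hs⟩ then ⟨1, hp.out.one_lt⟩ else ⟨0, hp.out.pos⟩, ?_⟩, rfl⟩
      simp only [f]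
      rw [Finset.prod_eq_single (⟨s, hs⟩ : S) (fun b _ hb => by rw [if_neg hb, pow_zero]) (by simp)]
      simp
    obtain ⟨r, hr, hra⟩ := h1 a.2
    obtain rfl : r = a := Subtype.ext hra
    exact hr
  have := Nat.card_le_card_of_surjective f hsurj
  rwa [Nat.card_fun, Nat.card_fin, Nat.card_eq_fintype_card (α := S), Fintype.card_coe] at this

/-- Generators of a `p`-group modulo its action on an elementary abelian group. -/
theorem exists_generators_of_action {H : Type u} [Group H] [Finite H] (hH : IsPGroup p H) {V : Type u}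
    [CommGroup V] [Finite V] (hV : ∀ v : V, v ^ p = 1) {k : ℕ} (hk : Nat.card V ≤ p ^ k) (c : H →* MulAut V) :
    ∃ S : Finset H, S.card ≤ k ^ 2 / 4 ∧ ∀ h, ∃ t ∈ Subgroup.closure (S : Set H), c t = c h := by
  have h0 : ∀ a : Additive V, p • a = 0 := fun a => Additive.toMul.injective (by simpa using hV (Additive.toMul a))
  letI : Module (ZMod p) (Additive V) := AddCommGroup.zmodModule (n := p) h0
  haveI : Finite (Additive V) := inferInstanceAs (Finite V)
  haveI : FiniteDimensional (ZMod p) (Additive V) := Module.Finite.of_finite (R := ZMod p) (M := Additive V)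
  have hdim : Module.finrank (ZMod p) (Additive V) ≤ k := by
    refine (Nat.pow_le_pow_iff_right hp.out.one_lt).1 ?_
    have h1 := Module.natCard_eq_pow_finrank (K := ZMod p) (V := Additive V)
    rw [Nat.card_zmod] at h1
    rw [← h1]
    exact hk
  let ρ : H →* Module.End (ZMod p) (Additive V) :=
    { toFun := fun h => (MonoidHom.toAdditive (c h).toMonoidHom).toZModLinearMap p
      map_one' := LinearMap.ext fun e => congrArg Additive.ofMul
        (show c 1 (Additive.toMul e) = Additive.toMul e by rw [map_one]; rfl)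
      map_mul' := fun a b => LinearMap.ext fun e => congrArg Additive.ofMul
        (show c (a * b) (Additive.toMul e) = c a (c b (Additive.toMul e)) by rw [map_mul]; rfl) }
  obtain ⟨S, hS, hgen⟩ := CfsgLib.UnipotentRank.exists_generators_of_isPGroup hH ρ
  refine ⟨S, hS.trans (Nat.div_le_div_right (Nat.pow_le_pow_left hdim 2)), fun h => ?_⟩
  obtain ⟨t, ht, e⟩ := hgen h
  exact ⟨t, ht, MulEquiv.ext fun v => Additive.ofMul.injective
    (show ρ t (Additive.ofMul v) = ρ h (Additive.ofMul v) by rw [e])⟩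

theorem main {P : Type u} [Group P] [Finite P] (hp2 : p ≠ 2) (hP : IsPGroup p P) (k : ℕ)
    (hab : ∀ A : Subgroup P, A.Normal → IsMulCommutative A →
      ∃ S : Finset P, S.card ≤ k ∧ Subgroup.closure (S : Set P) = A)
    (H : Subgroup P) : ∃ S : Finset P, S.card ≤ k * (k + 4) / 4 ∧ Subgroup.closure (S : Set P) = H := by
  classical
  obtain ⟨E, ⟨hEn, hEc, hEe⟩, hmax⟩ := Set.Finite.exists_maximal
    (s := {X : Subgroup P | X.Normal ∧ IsMulCommutative X ∧ ∀ a ∈ X, a ^ p = 1})
    (Set.toFinite _) ⟨⊥, inferInstance, ⟨⟨fun a b => Subsingleton.elim _ _⟩⟩,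
      fun a ha => by rw [mem_bot.1 ha, one_pow]⟩
  haveI := hEn
  obtain ⟨S₀, hS₀, hS₀E⟩ := hab E hEn hEc
  have hEk : Nat.card E ≤ p ^ k := (card_le_of_closure hEc hEe hS₀E).trans (Nat.pow_le_pow_right hp.out.pos hS₀)
  have halp : ∀ x ∈ centralizer (E : Set P), x ^ p = 1 → x ∈ E := fun x hx hxp =>
    CfsgLib.PGroupPower.alperin hP 1 (by rw [pow_one]; exact hp2) E hEc
      (fun a ha => by rw [pow_one]; exact hEe a ha)
      (fun B hB hBc hBe hle => le_antisymm (hmax ⟨hB, hBc, fun b hb => by simpa using hBe b hb⟩ hle) hle)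
      x hx (by rw [pow_one]; exact hxp)
  letI : CommGroup E := { (inferInstance : Group E) with mul_comm := hEc.is_comm.comm }
  obtain ⟨S₁, hS₁, hgen₁⟩ := exists_generators_of_action (hP.to_subgroup H) (V := E)
    (fun v => Subtype.ext (hEe v v.2)) hEk ((MulAut.conjNormal (H := E)).comp H.subtype)
  set K := H ⊓ centralizer (E : Set P)
  have hcenK : ∀ x : K, x ^ p = 1 → ∀ g, Commute x g := fun x hx g => Subtype.ext
    (mem_centralizer_iff.1 (mem_inf.1 g.2).2 _ (halp x (mem_inf.1 x.2).2 (congrArg Subtype.val hx)))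
  have hcardK : Nat.card {x : K // x ^ p = 1} ≤ p ^ k :=
    (Nat.card_le_card_of_injective
      (fun x : {x : K // x ^ p = 1} => (⟨(x.1 : P), halp _ (mem_inf.1 x.1.2).2 (congrArg Subtype.val x.2)⟩ : E))
      fun x y e => Subtype.ext (Subtype.ext (congrArg (fun z : E => (z : P)) e))).trans hEk
  obtain ⟨S₂, hS₂, hgen₂⟩ := exists_generators_of_central hp2 _ K rfl (hP.to_subgroup K) hcenK k hcardK
  refine ⟨S₁.image Subtype.val ∪ S₂.image Subtype.val, ?_, le_antisymm ?_ fun h hh => ?_⟩
  · have h1 : (S₁.image (Subtype.val : H → P) ∪ S₂.image (Subtype.val : K → P)).card ≤ k ^ 2 / 4 + k :=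
      (Finset.card_union_le _ _).trans (Nat.add_le_add (Finset.card_image_le.trans hS₁)
        (Finset.card_image_le.trans hS₂))
    refine h1.trans ?_
    rw [show k * (k + 4) = k ^ 2 + k * 4 by ring, Nat.add_mul_div_right _ _ four_pos]
  · rw [Subgroup.closure_le]
    intro x hx
    simp only [Finset.coe_union, Finset.coe_image, Set.mem_union, Set.mem_image] at hx
    rcases hx with ⟨y, -, rfl⟩ | ⟨y, -, rfl⟩
    · exact y.2
    · exact y.2.1
  · obtain ⟨t, ht, htρ⟩ := hgen₁ ⟨h, hh⟩
    have h1 : (t : P)⁻¹ * h ∈ K := by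
      refine mem_inf.2 ⟨mul_mem (inv_mem t.2) hh, mem_centralizer_iff.2 fun e he => ?_⟩
      have h2 : ((t : P) * e * (t : P)⁻¹) = h * e * h⁻¹ :=
        congrArg (fun f : MulAut E => ((f ⟨e, he⟩ : E) : P)) htρ
      calc e * ((t : P)⁻¹ * h) = (t : P)⁻¹ * (((t : P) * e * (t : P)⁻¹) * h) := by group
        _ = (t : P)⁻¹ * h * e := by rw [h2]; group
    have h3 : (t : P) ∈ Subgroup.closure ((S₁.image (Subtype.val : H → P) : Finset P) : Set P) := by
      rw [Finset.coe_image, show (Subtype.val : H → P) = H.subtype from rfl, ← MonoidHom.map_closure]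
      exact mem_map_of_mem _ ht
    have h4 : (t : P)⁻¹ * h ∈ Subgroup.closure ((S₂.image (Subtype.val : K → P) : Finset P) : Set P) := by
      rw [Finset.coe_image, show (Subtype.val : K → P) = K.subtype from rfl, ← MonoidHom.map_closure, hgen₂,
        ← MonoidHom.range_eq_map, K.range_subtype]
      exact h1
    rw [← mul_inv_cancel_left (t : P) h]
    exact mul_mem (Subgroup.closure_mono (by simp) h3) (Subgroup.closure_mono (by simp) h4)

end CfsgLib.SubgroupRankBound
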