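import Cfsg.Prelude.Def_Local
import Cfsg.Agent.CharP.Subnormal
import Cfsg.Agent.CharP.FrakH
import Mathlib.GroupTheory.Sylow
import Mathlib.Tactic

/-!
# Counting the elements over which a `p`-subgroup is subnormal in a `p`-solvable group
-/

set_option autoImplicit false
set_option linter.unusedSectionVars false
set_option linter.style.haveILetI false

namespace CfsgLib.SubnormalCount

open Subgroup
open scoped Pointwise

variable {X Y : Type*} [Group X] [Group Y]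

/-- The subgroup generated by the conjugates of `H` under the powers of `g`. -/
def Wc (H : Subgroup X) (g : X) : Subgroup X :=
  ⨆ i : ℤ, H.map (MulAut.conj (g ^ i)).toMonoidHom

theorem le_Wc (H : Subgroup X) (g : X) : H ≤ Wc H g := by
  refine le_trans ?_ (le_iSup _ (0 : ℤ))
  intro x hx
  exact ⟨x, hx, by simp⟩

theorem Wc_le {H K : Subgroup X} {g : X} (hH : H ≤ K) (hg : g ∈ normalizer (K : Set X)) :
    Wc H g ≤ K := by
  refine iSup_le fun i => ?_
  rintro _ ⟨x, hx, rfl⟩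
  exact (mem_normalizer_iff.1 (zpow_mem hg i) x).1 (hH hx)

theorem mem_normalizer_Wc (H : Subgroup X) (g : X) : g ∈ normalizer (Wc H g : Set X) := by
  have key : (Wc H g).map (MulAut.conj g).toMonoidHom = Wc H g := by
    rw [Wc, Subgroup.map_iSup, ← (Equiv.addLeft (1 : ℤ)).iSup_comp (g := fun i : ℤ => H.map (MulAut.conj (g ^ i)).toMonoidHom)]
    refine iSup_congr fun i => ?_
    rw [Subgroup.map_map]
    congr 1
    ext x
    simp [zpow_add, zpow_one, mul_assoc]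
  refine mem_normalizer_iff.2 fun x => ⟨fun hx => key ▸ ⟨x, hx, rfl⟩, fun hx => ?_⟩
  rw [← key] at hx
  obtain ⟨y, hy, e⟩ := hx
  rwa [← (MulAut.conj g).injective e]

theorem map_Wc (f : X →* Y) (H : Subgroup X) (g : X) : (Wc H g).map f = Wc (H.map f) (f g) := by
  rw [Wc, Wc, Subgroup.map_iSup]
  refine iSup_congr fun i => ?_
  rw [Subgroup.map_map, Subgroup.map_map]
  congr 1
  ext x
  show f (g ^ i * x * (g ^ i)⁻¹) = f g ^ i * f x * (f g ^ i)⁻¹
  rw [map_mul, map_mul, map_inv, map_zpow]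

/-- `H` is subnormal over `g`. -/
def Good (p : ℕ) (H : Subgroup X) (g : X) : Prop := IsPGroup p (Wc H g)

theorem good_iff_isSubnormal [Finite X] {p : ℕ} [Fact p.Prime] {H : Subgroup X} (hH : IsPGroup p H) (g : X) :
    (H.subgroupOf (H ⊔ zpowers g)).IsSubnormal ↔ Good p H g := by
  set L := H ⊔ zpowers g
  have hgL : g ∈ L := mem_sup_right (mem_zpowers g)
  constructor
  · intro hs
    have h1 := CfsgLib.CharP.subnormal_pGroup_le_pCore hs (hH.comap_of_injective L.subtype L.subtype_injective)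
    refine IsPGroup.to_le ((CfsgLib.Solvable.isPGroup_pCore p (G := L)).map L.subtype) (Wc_le ?_ ?_)
    · intro x hx
      exact ⟨⟨x, mem_sup_left hx⟩, h1 hx, rfl⟩
    · exact (le_normalizer_map L.subtype) ⟨⟨g, hgL⟩, by
        rw [normalizer_eq_top_iff.2 (CfsgLib.Solvable.pCore_normal p)]; exact mem_top _, rfl⟩
  · intro hW
    set W := Wc H g
    have hWL : W ≤ L := Wc_le le_sup_left (le_normalizer hgL)
    have hn : (W.subgroupOf L).Normal := by
      rw [normal_subgroupOf_iff_le_normalizer hWL]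
      exact sup_le ((le_Wc H g).trans le_normalizer) (zpowers_le.2 (mem_normalizer_Wc H g))
    haveI : Group.IsNilpotent (W.subgroupOf L) :=
      (hW.comap_of_injective L.subtype L.subtype_injective : IsPGroup p (W.subgroupOf L)).isNilpotent
    refine Subgroup.IsSubnormal.trans (fun x hx => le_Wc H g hx) ?_ hn.isSubnormal
    exact CfsgLib.FrakM.isSubnormal_of_nilpotent _

section Step

variable [Finite X] {p : ℕ} [hp : Fact p.Prime] (f : X →* Y) (hf : Function.Surjective f)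

theorem good_map {H : Subgroup X} {g : X} (h : Good p H g) : Good p (H.map f) (f g) := by
  rw [Good, ← map_Wc]
  exact IsPGroup.map h f

theorem good_iff_of_pGroup_ker (hker : IsPGroup p f.ker) {H : Subgroup X} {g : X} :
    Good p H g ↔ Good p (H.map f) (f g) := by
  refine ⟨good_map f, fun h => IsPGroup.to_le (IsPGroup.comap_of_ker_isPGroup h f hker) ?_⟩
  rw [← map_Wc]
  exact le_comap_map f _

include hf in
theorem count_pGroup (hker : IsPGroup p f.ker) (H : Subgroup X) :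
    Nat.card {g : X // Good p H g} = Nat.card f.ker * Nat.card {y : Y // Good p (H.map f) y} := by
  rw [mul_comm, ← Nat.card_prod]
  set sec := Function.surjInv hf
  have hsec : ∀ y, f (sec y) = y := Function.surjInv_eq hf
  refine Nat.card_congr
    { toFun := fun g => (⟨f g.1, (good_iff_of_pGroup_ker f hker).1 g.2⟩,
        ⟨(sec (f g.1))⁻¹ * g.1, by rw [MonoidHom.mem_ker, map_mul, map_inv, hsec, inv_mul_cancel]⟩)
      invFun := fun a => ⟨sec a.1.1 * a.2.1, (good_iff_of_pGroup_ker f hker).2 (by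
        rw [map_mul, hsec, MonoidHom.mem_ker.1 a.2.2, mul_one]; exact a.1.2)⟩
      left_inv := fun g => Subtype.ext (mul_inv_cancel_left _ _)
      right_inv := fun a => ?_ }
  have e : f (sec a.1.1 * a.2.1) = a.1.1 := by
    rw [map_mul, hsec, MonoidHom.mem_ker.1 a.2.2, mul_one]
  refine Prod.ext (Subtype.ext e) (Subtype.ext ?_)
  show (sec (f (sec a.1.1 * a.2.1)))⁻¹ * (sec a.1.1 * a.2.1) = a.2.1
  rw [e, inv_mul_cancel_left]

variable (hcop : (Nat.card f.ker).Coprime p)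
include hcop

theorem inf_ker {Q : Subgroup X} (hQ : IsPGroup p Q) {x : X} (hx : x ∈ Q) (hf1 : f x = 1) : x = 1 := by
  obtain ⟨k, hk⟩ := hQ ⟨x, hx⟩
  exact orderOf_eq_one_iff.1 (Nat.eq_one_of_dvd_coprimes (hcop.pow_right k)
    (by rw [← Subgroup.orderOf_mk x (MonoidHom.mem_ker.2 hf1)]; exact _root_.orderOf_dvd_natCard _)
    (orderOf_dvd_iff_pow_eq_one.2 (congrArg Subtype.val hk)))

theorem card_map_eq {Q : Subgroup X} (hQ : IsPGroup p Q) : Nat.card (Q.map f) = Nat.card Q := by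
  refine (Nat.card_eq_of_bijective (fun x : Q => (⟨f x, x, x.2, rfl⟩ : Q.map f)) ⟨fun a b e => ?_, ?_⟩).symm
  · refine Subtype.ext (inv_mul_eq_one.1 (inf_ker f hcop hQ (mul_mem (inv_mem a.2) b.2) ?_))
    rw [map_mul, map_inv, show f a.1 = f b.1 from congrArg Subtype.val e, inv_mul_cancel]
  · rintro ⟨_, x, hx, rfl⟩
    exact ⟨⟨x, hx⟩, rfl⟩

theorem eq_of_le {Q Q' : Subgroup X} (hQ : IsPGroup p Q) (h : Q' ≤ Q) (he : Q.map f ≤ Q'.map f) : Q' = Q := by
  refine le_antisymm h fun x hx => ?_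
  obtain ⟨y, hy, e⟩ := he ⟨x, hx, rfl⟩
  have : y⁻¹ * x = 1 := inf_ker f hcop hQ (mul_mem (inv_mem (h hy)) hx) (by rw [map_mul, map_inv, e, inv_mul_cancel])
  rwa [← inv_mul_eq_one.1 this]

/-- Two `p`-subgroups with the same image are conjugate under the kernel. -/
theorem exists_conj {Q Q' : Subgroup X} (hQ : IsPGroup p Q) (hQ' : IsPGroup p Q')
    (h : Q'.map f = Q.map f) : ∃ n ∈ f.ker, ∀ x, x ∈ Q' ↔ n⁻¹ * x * n ∈ Q := by
  set R := (Q.map f).comap f
  have hQR : Q ≤ R := le_comap_map f Q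
  have hQ'R : Q' ≤ R := by rw [← map_le_iff_le_comap]; exact h.le
  have hker : f.ker ≤ R := ker_le_comap f _
  have hcompl : IsComplement' (Q.subgroupOf R) (f.ker.subgroupOf R) := by
    refine isComplement'_of_disjoint_and_mul_eq_univ ?_ ?_
    · rw [disjoint_iff_inf_le]
      intro x hx
      exact mem_bot.2 (Subtype.ext (inf_ker f hcop hQ hx.1 (MonoidHom.mem_ker.1 hx.2)))
    · refine Set.eq_univ_iff_forall.2 fun x => ?_
      obtain ⟨q, hq, e⟩ := mem_comap.1 x.2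
      refine Set.mem_mul.2 ⟨⟨q, hQR hq⟩, hq, ⟨q⁻¹ * x.1, mul_mem (inv_mem (hQR hq)) x.2⟩, ?_, Subtype.ext (mul_inv_cancel_left _ _)⟩
      show q⁻¹ * x.1 ∈ f.ker
      rw [MonoidHom.mem_ker, map_mul, map_inv, e, inv_mul_cancel]
  have hQs : IsPGroup p (Q.subgroupOf R) := hQ.comap_of_injective R.subtype R.subtype_injective
  have hQ's : IsPGroup p (Q'.subgroupOf R) := hQ'.comap_of_injective R.subtype R.subtype_injective
  have hidx : ¬ p ∣ (Q.subgroupOf R).index := by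
    rw [hcompl.symm.index_eq_card, Nat.card_congr (subgroupOfEquivOfLe hker).toEquiv]
    exact hp.out.coprime_iff_not_dvd.1 hcop.symm
  obtain ⟨S, hS⟩ := hQ's.exists_le_sylow
  obtain ⟨r, hr⟩ := MulAction.exists_smul_eq R (hQs.toSylow hidx) S
  obtain ⟨q, hq, eq'⟩ := mem_comap.1 r.2
  refine ⟨r.1 * q⁻¹, by rw [MonoidHom.mem_ker, map_mul, map_inv, eq', mul_inv_cancel], fun x => ?_⟩
  have hS' : ∀ z : R, z ∈ (S : Subgroup R) ↔ r.1⁻¹ * z.1 * r.1 ∈ Q := by
    intro z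
    rw [← hr, Sylow.coe_subgroup_smul, Subgroup.mem_pointwise_smul_iff_inv_smul_mem, IsPGroup.toSylow_coe,
      mem_subgroupOf]
    simp [MulAut.smul_def, mul_assoc]
  have hqQ : ∀ z : X, (r.1 * q⁻¹)⁻¹ * z * (r.1 * q⁻¹) ∈ Q ↔ r.1⁻¹ * z * r.1 ∈ Q := fun z => by
    rw [show (r.1 * q⁻¹)⁻¹ * z * (r.1 * q⁻¹) = q * (r.1⁻¹ * z * r.1) * q⁻¹ by group]
    rw [mul_mem_cancel_right (inv_mem hq), mul_mem_cancel_left hq]
  have hle : ∀ y : X, y ∈ Q' → r.1⁻¹ * y * r.1 ∈ Q := fun y hy => (hS' ⟨y, hQ'R hy⟩).1 (hS hy)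
  rw [hqQ]
  refine ⟨hle x, fun hx => ?_⟩
  have key : Q'.map (MulAut.conj r.1⁻¹).toMonoidHom = Q := by
    refine eq_of_le f hcop hQ ?_ ?_
    · rintro _ ⟨y, hy, rfl⟩
      simpa using hle y hy
    · rintro _ ⟨y, hy, rfl⟩
      have h1 : f (r.1 * y * r.1⁻¹) ∈ Q'.map f := by
        rw [h, map_mul, map_mul, map_inv]
        exact mul_mem (mul_mem (mem_comap.1 r.2) ⟨y, hy, rfl⟩) (inv_mem (mem_comap.1 r.2))
      obtain ⟨z, hz, e⟩ := h1
      refine ⟨r.1⁻¹ * z * r.1, ⟨z, hz, by simp⟩, ?_⟩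
      simp [map_mul, map_inv, e, mul_assoc]
  rw [← key] at hx
  obtain ⟨y, hy, e⟩ := hx
  rwa [show x = y from mul_left_cancel (mul_right_cancel (show r.1⁻¹ * y * r.1 = r.1⁻¹ * x * r.1 by simpa using e)).symm]

include hf in
theorem fibre_card {H : Subgroup X} (hH : IsPGroup p H) {y : Y} (hy : Good p (H.map f) y) {g₀ : X}
    (hg₀ : f g₀ = y) :
    Nat.card {g : X // f g = y ∧ Good p H g} = Nat.card ↥(f.ker ⊓ centralizer (H : Set X)) := by
  classical
  set W := Wc (H.map f) y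
  set R := W.comap f
  have hHR : H ≤ R := fun x hx => mem_comap.2 (le_Wc _ y ⟨x, hx, rfl⟩)
  obtain ⟨S, hS⟩ := (hH.comap_of_injective R.subtype R.subtype_injective : IsPGroup p (H.subgroupOf R)).exists_le_sylow
  set Q₀ := (S : Subgroup R).map R.subtype
  have hQ₀ : IsPGroup p Q₀ := S.2.map _
  have hHQ₀ : H ≤ Q₀ := fun x hx => ⟨⟨x, hHR hx⟩, hS hx, rfl⟩
  have hmap : Q₀.map f = W := by
    let φ : R →* W := (f.comp R.subtype).codRestrict W fun x => mem_comap.1 x.2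
    have hφ : Function.Surjective φ := fun w => by
      obtain ⟨x, hx⟩ := hf w.1
      exact ⟨⟨x, mem_comap.2 (hx ▸ w.2)⟩, Subtype.ext hx⟩
    have h2 := (S.mapSurjective hφ).3 ((show IsPGroup p W from hy).of_equiv Subgroup.topEquiv.symm) le_top
    refine le_antisymm ?_ fun w hw => ?_
    · rintro _ ⟨_, ⟨x, -, rfl⟩, rfl⟩
      exact mem_comap.1 x.2
    · have h3 : (⟨w, hw⟩ : W) ∈ ((S.mapSurjective hφ : Sylow p W) : Subgroup W) := h2 ▸ mem_top _
      rw [Sylow.coe_mapSurjective] at h3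
      obtain ⟨x, hx, e⟩ := h3
      exact ⟨x, ⟨x, hx, rfl⟩, congrArg Subtype.val e⟩
  have hyW : y ∈ normalizer (W : Set Y) := mem_normalizer_Wc _ y
  -- a normalising element in the fibre
  obtain ⟨g₁, hg₁, hg₁n⟩ : ∃ g₁, f g₁ = y ∧ g₁ ∈ normalizer (Q₀ : Set X) := by
    obtain ⟨n, hn, hn'⟩ := exists_conj f hcop hQ₀ (hQ₀.map (MulAut.conj g₀).toMonoidHom) (by
      rw [hmap, Subgroup.map_map]
      have : f.comp (MulAut.conj g₀).toMonoidHom = (MulAut.conj y).toMonoidHom.comp f := by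
        ext x; simp [hg₀]
      rw [this, ← Subgroup.map_map, hmap]
      refine le_antisymm ?_ fun w hw => ?_
      · rintro _ ⟨w, hw, rfl⟩
        exact (mem_normalizer_iff.1 hyW w).1 hw
      · exact ⟨y⁻¹ * w * y, (mem_normalizer_iff.1 hyW _).2 (by simpa [mul_assoc] using hw), by simp [mul_assoc]⟩)
    refine ⟨n⁻¹ * g₀, by rw [map_mul, map_inv, MonoidHom.mem_ker.1 hn, inv_one, one_mul, hg₀],
      mem_normalizer_iff.2 fun x => ?_⟩
    rw [show n⁻¹ * g₀ * x * (n⁻¹ * g₀)⁻¹ = n⁻¹ * (g₀ * x * g₀⁻¹) * n by group, ← hn']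
    exact ⟨fun hx => ⟨x, hx, rfl⟩, fun ⟨z, hz, e⟩ => (MulAut.conj g₀).injective e ▸ hz⟩
  set C := f.ker ⊓ centralizer (H : Set X)
  set D := f.ker ⊓ normalizer (Q₀ : Set X)
  have hDC : D ≤ C := by
    intro d hd
    refine mem_inf.2 ⟨(mem_inf.1 hd).1, mem_centralizer_iff.2 fun h hh => ?_⟩
    have h1 : d * h * d⁻¹ * h⁻¹ = 1 := inf_ker f hcop hQ₀
      (mul_mem ((mem_normalizer_iff.1 (mem_inf.1 hd).2 h).1 (hHQ₀ hh)) (inv_mem (hHQ₀ hh)))
      (by simp [MonoidHom.mem_ker.1 (mem_inf.1 hd).1])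
    exact (mul_inv_eq_iff_eq_mul.1 (mul_inv_eq_one.1 h1)).symm
  -- conjugating elements
  have hc : ∀ g : {g : X // f g = y ∧ Good p H g}, ∃ c ∈ C, ∀ x, x ∈ Wc H g.1 ↔ c⁻¹ * x * c ∈ Q₀ := by
    intro g
    obtain ⟨c, hc, hc'⟩ := exists_conj f hcop hQ₀ g.2.2 (by rw [hmap, map_Wc, g.2.1])
    refine ⟨c, mem_inf.2 ⟨hc, mem_centralizer_iff.2 fun h hh => ?_⟩, hc'⟩
    have h1 : c⁻¹ * h * c * h⁻¹ = 1 := inf_ker f hcop hQ₀
      (mul_mem ((hc' h).1 (le_Wc H _ hh)) (inv_mem (hHQ₀ hh))) (by simp [MonoidHom.mem_ker.1 hc])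
    rw [mul_inv_eq_one, mul_assoc, inv_mul_eq_iff_eq_mul] at h1
    exact h1
  choose c hcC hcx using hc
  have hgood : ∀ (z : C) (d : D), f (z.1 * (g₁ * d.1) * z.1⁻¹) = y ∧ Good p H (z.1 * (g₁ * d.1) * z.1⁻¹) := by
    intro z d
    refine ⟨by simp [MonoidHom.mem_ker.1 (mem_inf.1 z.2).1, MonoidHom.mem_ker.1 (mem_inf.1 d.2).1, hg₁], ?_⟩
    refine IsPGroup.to_le (hQ₀.map (MulAut.conj z.1).toMonoidHom) (Wc_le ?_ ?_)
    · intro h hh
      refine ⟨h, hHQ₀ hh, ?_⟩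
      show z.1 * h * z.1⁻¹ = h
      rw [← mem_centralizer_iff.1 (mem_inf.1 z.2).2 h hh, mul_inv_cancel_right]
    · exact le_normalizer_map _ ⟨g₁ * d.1, mul_mem hg₁n (mem_inf.1 d.2).2, rfl⟩
  let T : C × D → {g : X // f g = y ∧ Good p H g} := fun a => ⟨_, hgood a.1 a.2⟩
  -- the generated subgroup
  have hT : ∀ a x, x ∈ Wc H (T a).1 ↔ a.1.1⁻¹ * x * a.1.1 ∈ Q₀ := by
    intro a x
    have e : Wc H (T a).1 = Q₀.map (MulAut.conj a.1.1).toMonoidHom := by
      refine eq_of_le f hcop (hQ₀.map _) ?_ ?_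
      · refine Wc_le (fun h hh => ⟨h, hHQ₀ hh, ?_⟩) (le_normalizer_map _ ⟨g₁ * a.2.1, mul_mem hg₁n (mem_inf.1 a.2.2).2, rfl⟩)
        show a.1.1 * h * a.1.1⁻¹ = h
        rw [← mem_centralizer_iff.1 (mem_inf.1 a.1.2).2 h hh, mul_inv_cancel_right]
      · rw [map_Wc, (T a).2.1, Subgroup.map_map]
        rintro _ ⟨q, hq, rfl⟩
        simp only [MonoidHom.coe_comp, Function.comp_apply, MulEquiv.coe_toMonoidHom, MulAut.conj_apply, map_mul,
          map_inv, MonoidHom.mem_ker.1 (mem_inf.1 a.1.2).1, one_mul, inv_one, mul_one]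
        exact (show f q ∈ W from hmap ▸ mem_map_of_mem f hq)
    rw [e]
    exact ⟨fun ⟨q, hq, e⟩ => by simpa [← e, mul_assoc] using hq, fun hx => ⟨_, hx, by simp [mul_assoc]⟩⟩
  have hnorm : ∀ g, (c g)⁻¹ * g.1 * c g ∈ normalizer (Q₀ : Set X) := by
    intro g
    refine mem_normalizer_iff.2 fun q => ?_
    have e1 := hcx g (c g * q * (c g)⁻¹)
    have e2 := hcx g (g.1 * (c g * q * (c g)⁻¹) * g.1⁻¹)
    rw [show (c g)⁻¹ * (c g * q * (c g)⁻¹) * c g = q by group] at e1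
    rw [← e1, mem_normalizer_iff.1 (mem_normalizer_Wc H g.1), e2]
    rw [show (c g)⁻¹ * (g.1 * (c g * q * (c g)⁻¹) * g.1⁻¹) * c g =
      (c g)⁻¹ * g.1 * c g * q * ((c g)⁻¹ * g.1 * c g)⁻¹ by group]
  have hCD : Nat.card (C × D) = Nat.card ({g : X // f g = y ∧ Good p H g} × D) := by
    refine Nat.card_eq_of_bijective (fun a => (T a, (⟨(c (T a))⁻¹ * a.1.1, mem_inf.2 ⟨?_, ?_⟩⟩ : D))) ⟨?_, ?_⟩
    · exact mul_mem (inv_mem (mem_inf.1 (hcC _)).1) (mem_inf.1 a.1.2).1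
    · refine mem_normalizer_iff.2 fun q => ?_
      have e1 := hcx (T a) (a.1.1 * q * a.1.1⁻¹)
      rw [hT a, show a.1.1⁻¹ * (a.1.1 * q * a.1.1⁻¹) * a.1.1 = q by group] at e1
      rw [e1, show (c (T a))⁻¹ * a.1.1 * q * ((c (T a))⁻¹ * a.1.1)⁻¹ =
        (c (T a))⁻¹ * (a.1.1 * q * a.1.1⁻¹) * c (T a) by group]
    · rintro ⟨z, d⟩ ⟨z', d'⟩ e
      obtain ⟨e1, e2⟩ := Prod.ext_iff.1 e
      have e2' : (c (T (z, d)))⁻¹ * z.1 = (c (T (z', d')))⁻¹ * z'.1 := congrArg Subtype.val e2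
      rw [show T (z, d) = T (z', d') from e1] at e2'
      have e3 : z = z' := Subtype.ext (mul_left_cancel e2')
      subst e3
      refine Prod.ext rfl (Subtype.ext ?_)
      simpa [T] using e1
    · rintro ⟨g, e⟩
      let z : C := ⟨c g * e.1, mul_mem (hcC g) (hDC e.2)⟩
      let d : D := ⟨g₁⁻¹ * (z.1⁻¹ * g.1 * z.1), by
        refine mem_inf.2 ⟨?_, mul_mem (inv_mem hg₁n) ?_⟩
        · rw [MonoidHom.mem_ker]
          simp [z, hg₁, g.2.1, MonoidHom.mem_ker.1 (mem_inf.1 (hcC g)).1, MonoidHom.mem_ker.1 (mem_inf.1 e.2).1]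
        · have he := (mem_inf.1 e.2).2
          rw [show z.1⁻¹ * g.1 * z.1 = e.1⁻¹ * ((c g)⁻¹ * g.1 * c g) * e.1 by simp [z, mul_assoc]]
          exact mul_mem (mul_mem (inv_mem he) (hnorm g)) he⟩
      have hTg : T (z, d) = g := Subtype.ext (by simp [T, d, mul_assoc])
      refine ⟨(z, d), Prod.ext hTg (Subtype.ext ?_)⟩
      show (c (T (z, d)))⁻¹ * z.1 = e.1
      rw [hTg]
      exact inv_mul_cancel_left _ _
  rw [Nat.card_prod, Nat.card_prod] at hCD
  exact (Nat.eq_of_mul_eq_mul_right Nat.card_pos hCD).symm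

include hf in
theorem count_coprime {H : Subgroup X} (hH : IsPGroup p H) :
    Nat.card {g : X // Good p H g} =
      Nat.card ↥(f.ker ⊓ centralizer (H : Set X)) * Nat.card {y : Y // Good p (H.map f) y} := by
  classical
  haveI : Finite Y := Finite.of_surjective f hf
  let e : {g : X // Good p H g} ≃ Σ y : {y : Y // Good p (H.map f) y}, {g : X // f g = y.1 ∧ Good p H g} :=
    { toFun := fun g => ⟨⟨f g.1, good_map f g.2⟩, ⟨g.1, rfl, g.2⟩⟩
      invFun := fun a => ⟨a.2.1, a.2.2.2⟩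
      left_inv := fun g => rfl
      right_inv := fun ⟨⟨y, hy⟩, ⟨g, hg, hg'⟩⟩ => by
        change f g = y at hg
        subst hg; rfl }
  haveI := Fintype.ofFinite {y : Y // Good p (H.map f) y}
  rw [Nat.card_congr e, Nat.card_sigma, Finset.sum_congr rfl fun y _ =>
    fibre_card f hf hcop hH y.2 (Function.surjInv_eq hf y.1)]
  rw [Finset.sum_const, Finset.card_univ, ← Nat.card_eq_fintype_card, smul_eq_mul, mul_comm]

end Step

end CfsgLib.SubnormalCount
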