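import Cfsg.Agent.PLocal.SubnormalJoin
import Cfsg.Agent.Solvable.Basics
import Mathlib.GroupTheory.IsSubnormal
import Mathlib.GroupTheory.Sylow
import Mathlib.GroupTheory.Nilpotent
import Mathlib.Tactic.Group

/-!
The subnormalizer of a `p`-subgroup and radical `p`-subgroups.
-/

set_option autoImplicit false
set_option linter.unusedSectionVars false
set_option linter.style.haveILetI false

namespace CfsgLib.Subnormalizer

open Subgroup

variable {G : Type*} [Group G] [Finite G] {p : ℕ} [Fact p.Prime]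

theorem le_normalizer_map {K : Subgroup G} (N : Subgroup K) [N.Normal] :
    K ≤ normalizer ((N.map K.subtype : Subgroup G) : Set G) := by
  intro x hx
  rw [mem_normalizer_iff]
  intro y
  constructor
  · rintro ⟨n, hn, rfl⟩
    exact ⟨⟨x, hx⟩ * n * ⟨x, hx⟩⁻¹, (inferInstance : N.Normal).conj_mem n hn _, rfl⟩
  · rintro ⟨n, hn, hne⟩
    refine ⟨⟨x, hx⟩⁻¹ * n * ⟨x, hx⟩⁻¹⁻¹, (inferInstance : N.Normal).conj_mem n hn _, ?_⟩
    have hne' : (n : G) = x * y * x⁻¹ := hne
    simp [hne', mul_assoc]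

/-- `O_p(N(R))`, as a subgroup of `G`. -/
def core (p : ℕ) (R : Subgroup G) : Subgroup G :=
  (Cfsg.pCore p (normalizer (R : Set G))).map (normalizer (R : Set G)).subtype

theorem le_core {R : Subgroup G} (hR : IsPGroup p R) : R ≤ core p R := by
  intro x hx
  exact ⟨⟨x, le_normalizer hx⟩, Solvable.le_pCore (p := p) normal_in_normalizer
    (hR.of_equiv (subgroupOfEquivOfLe le_normalizer).symm) hx, rfl⟩

theorem isPGroup_core (R : Subgroup G) : IsPGroup p (core p R) :=
  (Solvable.isPGroup_pCore p).map _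

theorem normalizer_le_core (R : Subgroup G) :
    normalizer (R : Set G) ≤ normalizer (core p R : Set G) :=
  le_normalizer_map _

theorem subnormal_of_le {H R : Subgroup G} (hHR : H ≤ R) (hR : IsPGroup p R) {g : G}
    (hg : g ∈ normalizer (R : Set G)) : (H.subgroupOf (H ⊔ zpowers g)).IsSubnormal := by
  set K := H ⊔ zpowers g with hK
  have hKN : K ≤ normalizer (R : Set G) :=
    sup_le (hHR.trans le_normalizer) (zpowers_le.2 hg)
  haveI hn : (R.subgroupOf K).Normal :=
    ⟨fun _ ha k => mem_subgroupOf.2 ((mem_normalizer_iff.1 (hKN k.2) _).1 (mem_subgroupOf.1 ha))⟩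
  have hRp : IsPGroup p (R.subgroupOf K) :=
    hR.comap_subtype
  have hsn : ∀ (X : Type _) [Group X] [Finite X], IsPGroup p X → ∀ Y : Subgroup X, Y.IsSubnormal := by
    intro X _ _ hX Y
    induction hn : Y.index using Nat.strong_induction_on generalizing Y with
    | _ i ih =>
      by_cases htop : Y = ⊤
      · subst htop; exact IsSubnormal.top
      haveI := hX.isNilpotent
      have hlt := Group.normalizerCondition_of_isNilpotent Y (lt_top_iff_ne_top.2 htop)
      exact IsSubnormal.step Y _ le_normalizer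
        (ih _ (hn ▸ index_strictAnti hlt) _ rfl) normal_in_normalizer
  exact IsSubnormal.trans (show H.subgroupOf K ≤ R.subgroupOf K from fun x hx => hHR hx)
    (hsn _ hRp _) hn.isSubnormal

theorem exists_radical {H : Subgroup G} (hH : IsPGroup p H) {g : G}
    (h : (H.subgroupOf (H ⊔ zpowers g)).IsSubnormal) :
    ∃ R : Subgroup G, H ≤ R ∧ core p R = R ∧ g ∈ normalizer (R : Set G) := by
  classical
  set K := H ⊔ zpowers g with hK
  obtain ⟨R0, hR0⟩ : ∃ R0, R0 = (Cfsg.pCore p K).map K.subtype := ⟨_, rfl⟩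
  have hHR0 : H ≤ R0 := by
    have hle := SubnormalJoin.le_pCore_of_isSubnormal (p := p) h
      (hH.of_equiv (subgroupOfEquivOfLe le_sup_left).symm)
    intro x hx
    exact hR0 ▸ ⟨⟨x, mem_sup_left hx⟩, hle hx, rfl⟩
  have hgR0 : g ∈ normalizer (R0 : Set G) :=
    hR0 ▸ le_normalizer_map (Cfsg.pCore p K) (mem_sup_right (mem_zpowers g))
  haveI := Fintype.ofFinite (Subgroup G)
  let S := Finset.univ.filter fun R : Subgroup G => IsPGroup p R ∧ H ≤ R ∧ g ∈ normalizer (R : Set G)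
  have hS : S.Nonempty := ⟨R0, by
    simp only [S, Finset.mem_filter, Finset.mem_univ, true_and]
    exact ⟨hR0 ▸ (Solvable.isPGroup_pCore p).map _, hHR0, hgR0⟩⟩
  obtain ⟨R, hR, hmax⟩ := S.exists_max_image (fun R => Nat.card R) hS
  simp only [S, Finset.mem_filter, Finset.mem_univ, true_and] at hR hmax
  refine ⟨R, hR.2.1, (Subgroup.eq_of_le_of_card_ge (le_core hR.1) ?_).symm, hR.2.2⟩
  exact hmax _ ⟨isPGroup_core R, hR.2.1.trans (le_core hR.1), normalizer_le_core R hR.2.2⟩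

theorem iff_exists {H : Subgroup G} (hH : IsPGroup p H) (g : G) :
    (H.subgroupOf (H ⊔ zpowers g)).IsSubnormal ↔
      ∃ R : Subgroup G, H ≤ R ∧ core p R = R ∧ g ∈ normalizer (R : Set G) :=
  ⟨exists_radical hH, fun ⟨R, hHR, hR, hg⟩ => subnormal_of_le hHR (hR ▸ isPGroup_core R) hg⟩

/-- A radical subgroup contains the intersection of the Sylow subgroups above it. -/
theorem sInf_sylow_le {R : Subgroup G} (hR : core p R = R) :
    sInf {K : Subgroup G | ∃ Q : Sylow p G, R ≤ (Q : Subgroup G) ∧ K = (Q : Subgroup G)} ≤ R := by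
  set I := sInf {K : Subgroup G | ∃ Q : Sylow p G, R ≤ (Q : Subgroup G) ∧ K = (Q : Subgroup G)} with hI
  have hRp : IsPGroup p R := hR ▸ isPGroup_core R
  obtain ⟨Q0, hQ0⟩ := hRp.exists_le_sylow
  have hIp : IsPGroup p I := Q0.2.to_le (sInf_le ⟨Q0, hQ0, rfl⟩)
  have hRI : R ≤ I := le_sInf fun K ⟨Q, hQ, hK⟩ => hK ▸ hQ
  by_contra hne
  haveI := hIp.isNilpotent
  have hlt : R.subgroupOf I < ⊤ := lt_top_iff_ne_top.2 fun h => hne (subgroupOf_eq_top.1 h)
  obtain ⟨x, hx, hxR⟩ := SetLike.exists_of_lt (Group.normalizerCondition_of_isNilpotent _ hlt)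
  refine hxR (mem_subgroupOf.2 ?_)
  have hxN : (x : G) ∈ normalizer (R : Set G) := by
    rw [mem_normalizer_iff]
    intro g
    constructor
    · intro hg
      exact (mem_normalizer_iff.1 hx ⟨g, hRI hg⟩).1 hg
    · intro hg
      have hgI : g ∈ I := by simpa [mul_assoc] using mul_mem (mul_mem (inv_mem x.2) (hRI hg)) x.2
      exact (mem_normalizer_iff.1 hx ⟨g, hgI⟩).2 hg
  -- `I ∩ N(R)` is normalised by `N(R)`
  have hnorm : normalizer (R : Set G) ≤ normalizer (I : Set G) := by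
    have key : ∀ g ∈ normalizer (R : Set G), ∀ y ∈ I, g * y * g⁻¹ ∈ I := by
      intro g hg y hy
      rw [hI, mem_sInf]
      rintro K ⟨Q, hQ, rfl⟩
      have hle : R ≤ ((g⁻¹ • Q : Sylow p G) : Subgroup G) := by
        intro r hr
        rw [Sylow.coe_subgroup_smul, mem_pointwise_smul_iff_inv_smul_mem, ← map_inv, inv_inv]
        exact hQ ((mem_normalizer_iff.1 hg r).1 hr)
      have hy' : y ∈ ((g⁻¹ • Q : Sylow p G) : Subgroup G) :=
        mem_sInf.1 hy ((g⁻¹ • Q : Sylow p G) : Subgroup G) ⟨g⁻¹ • Q, hle, rfl⟩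
      rw [Sylow.coe_subgroup_smul, mem_pointwise_smul_iff_inv_smul_mem, ← map_inv, inv_inv] at hy'
      exact hy'
    intro g hg
    rw [mem_normalizer_iff]
    refine fun y => ⟨key g hg y, fun h => ?_⟩
    have := key g⁻¹ (inv_mem hg) _ h
    simpa [mul_assoc] using this
  have hle : (I ⊓ normalizer (R : Set G)) ≤ core p R := by
    intro z hz
    haveI : (I.subgroupOf (normalizer (R : Set G))).Normal :=
      ⟨fun _ ha k => mem_subgroupOf.2 ((mem_normalizer_iff.1 (hnorm k.2) _).1 (mem_subgroupOf.1 ha))⟩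
    exact ⟨⟨z, hz.2⟩, Solvable.le_pCore (p := p) (N := I.subgroupOf (normalizer (R : Set G)))
      inferInstance hIp.comap_subtype hz.1, rfl⟩
  exact hR ▸ hle ⟨x.2, hxN⟩

theorem main {H : Subgroup G} (hH : IsPGroup p H) :
    {g : G | (H.subgroupOf (H ⊔ zpowers g)).IsSubnormal} =
      {g : G | ∃ R : Subgroup G, H ≤ R ∧ core p R = R ∧ g ∈ normalizer (R : Set G)} ∧
    ∀ g : G, ((H.subgroupOf (H ⊔ zpowers g)).IsSubnormal ↔
      ((sInf {K : Subgroup G | ∃ Q : Sylow p G, H ≤ (Q : Subgroup G) ∧ K = (Q : Subgroup G)}).subgroupOf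
        (sInf {K : Subgroup G | ∃ Q : Sylow p G, H ≤ (Q : Subgroup G) ∧ K = (Q : Subgroup G)} ⊔
          zpowers g)).IsSubnormal) := by
  refine ⟨Set.ext fun g => iff_exists hH g, fun g => ?_⟩
  set I := sInf {K : Subgroup G | ∃ Q : Sylow p G, H ≤ (Q : Subgroup G) ∧ K = (Q : Subgroup G)} with hI
  obtain ⟨Q0, hQ0⟩ := hH.exists_le_sylow
  have hIp : IsPGroup p I := Q0.2.to_le (sInf_le ⟨Q0, hQ0, rfl⟩)
  have hHI : H ≤ I := le_sInf fun K ⟨Q, hQ, hK⟩ => hK ▸ hQ
  rw [iff_exists hH, iff_exists hIp]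
  constructor
  · rintro ⟨R, hHR, hR, hg⟩
    refine ⟨R, le_trans ?_ (sInf_sylow_le hR), hR, hg⟩
    exact le_sInf fun K ⟨Q, hQ, hK⟩ => sInf_le ⟨Q, hHR.trans hQ, hK⟩
  · rintro ⟨R, hIR, hR, hg⟩
    exact ⟨R, hHI.trans hIR, hR, hg⟩

end CfsgLib.Subnormalizer
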