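import Cfsg.Agent.FGSB.SubnormalCount
import Cfsg.Agent.FGSB.CoprimeFixedProd
import Mathlib.Analysis.MeanInequalities

/-!
# The Sylow subgroups containing the elements of a Sylow subgroup of a `p`-solvable group
-/

set_option autoImplicit false
set_option linter.unusedSectionVars false
set_option linter.style.haveILetI false

namespace CfsgLib.SubnormalCount

open Subgroup
open scoped Pointwise

/-- The number of Sylow subgroups containing `H`. -/
noncomputable def alpha (p : ℕ) {X : Type*} [Group X] (H : Subgroup X) : ℕ :=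
  Nat.card {S : Sylow p X // H ≤ (S : Subgroup X)}

theorem card_comap {X Y : Type*} [Group X] [Group Y] [Finite X] (f : X →* Y) (hf : Function.Surjective f)
    (K : Subgroup Y) : Nat.card (K.comap f) = Nat.card f.ker * Nat.card K := by
  let g : K.comap f →* K := (f.comp (K.comap f).subtype).codRestrict K fun x => x.2
  have hg : Function.Surjective g := fun k => by
    obtain ⟨x, hx⟩ := hf k.1
    exact ⟨⟨x, mem_comap.2 (hx ▸ k.2)⟩, Subtype.ext hx⟩
  rw [← g.ker.card_mul_index, index_ker, MonoidHom.range_eq_top.2 hg, card_top]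
  congr 1
  exact Nat.card_congr
    { toFun := fun x => ⟨x.1.1, congrArg Subtype.val x.2⟩
      invFun := fun x => ⟨⟨x.1, mem_comap.2 (by rw [MonoidHom.mem_ker.1 x.2]; exact one_mem _)⟩, Subtype.ext x.2⟩
      left_inv := fun x => rfl
      right_inv := fun x => rfl }

variable {X Y : Type*} [Group X] [Group Y] [Finite X] {p : ℕ} [hp : Fact p.Prime] (f : X →* Y)
  (hf : Function.Surjective f)

include hf in
theorem alpha_of_pGroup_ker (hker : IsPGroup p f.ker) (H : Subgroup X) :
    alpha p H = alpha p (H.map f) := by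
  haveI : Finite Y := Finite.of_surjective f hf
  have hle : ∀ S : Sylow p X, f.ker ≤ (S : Subgroup X) := fun S =>
    le_sup_left.trans (le_of_eq (S.3 (hker.to_sup_of_normal_left S.2) le_sup_right))
  have hback : ∀ S : Sylow p X, ((S : Subgroup X).map f).comap f = S := fun S => by
    rw [comap_map_eq, sup_of_le_left (hle S)]
  refine Nat.card_eq_of_bijective (fun S : {S : Sylow p X // H ≤ (S : Subgroup X)} =>
    (⟨S.1.mapSurjective hf, by rw [Sylow.coe_mapSurjective]; exact map_mono S.2⟩ :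
      {S : Sylow p Y // H.map f ≤ (S : Subgroup Y)})) ⟨fun S T e => ?_, fun T => ?_⟩
  · have e1 : (S.1 : Subgroup X).map f = (T.1 : Subgroup X).map f :=
      congrArg (fun S : {S : Sylow p Y // H.map f ≤ (S : Subgroup Y)} => (S.1 : Subgroup Y)) e
    exact Subtype.ext (Sylow.ext (by rw [← hback S.1, e1, hback]))
  · obtain ⟨S, hS⟩ := (T.1.2.comap_of_ker_isPGroup f hker).exists_le_sylow
    refine ⟨⟨S, (map_le_iff_le_comap.1 T.2).trans hS⟩, Subtype.ext (Sylow.ext ?_)⟩
    refine T.1.3 ((S.mapSurjective hf).2) ?_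
    rw [Sylow.coe_mapSurjective]
    exact le_trans (le_of_eq (map_comap_eq_self_of_surjective hf _).symm) (map_mono hS)

variable (hcop : (Nat.card f.ker).Coprime p)
include hcop

theorem normalizer_eq_centralizer {Q : Subgroup X} (hQ : IsPGroup p Q) :
    f.ker ⊓ normalizer (Q : Set X) = f.ker ⊓ centralizer (Q : Set X) := by
  refine le_antisymm (fun d hd => mem_inf.2 ⟨(mem_inf.1 hd).1, mem_centralizer_iff.2 fun h hh => ?_⟩)
    (inf_le_inf_left _ (centralizer_le_normalizer _))
  have h1 : d * h * d⁻¹ * h⁻¹ = 1 := inf_ker f hcop hQ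
    (mul_mem ((mem_normalizer_iff.1 (mem_inf.1 hd).2 h).1 hh) (inv_mem hh))
    (by simp [MonoidHom.mem_ker.1 (mem_inf.1 hd).1])
  exact (mul_inv_eq_iff_eq_mul.1 (mul_inv_eq_one.1 h1)).symm

include hf in
theorem sylow_fibre_card {H : Subgroup X} (P : Sylow p X) (T : Sylow p Y) (hT : H.map f ≤ (T : Subgroup Y))
    (hH : IsPGroup p H) :
    Nat.card {S : Sylow p X // H ≤ (S : Subgroup X) ∧ S.mapSurjective hf = T} *
        Nat.card ↥(f.ker ⊓ centralizer ((P : Subgroup X) : Set X)) =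
      Nat.card ↥(f.ker ⊓ centralizer (H : Set X)) := by
  classical
  haveI : Finite Y := Finite.of_surjective f hf
  set R := (T : Subgroup Y).comap f
  have hHR : H ≤ R := map_le_iff_le_comap.1 hT
  obtain ⟨S₀, hS₀⟩ : ∃ S₀ : Sylow p X, H ≤ (S₀ : Subgroup X) ∧ S₀.mapSurjective hf = T := by
    obtain ⟨S, hS⟩ := (hH.comap_of_injective R.subtype R.subtype_injective : IsPGroup p (H.subgroupOf R)).exists_le_sylow
    obtain ⟨S', hS'⟩ := (S.2.map R.subtype).exists_le_sylow
    refine ⟨S', fun x hx => hS' ⟨⟨x, hHR hx⟩, hS hx, rfl⟩, Sylow.ext ?_⟩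
    refine T.3 (S'.mapSurjective hf).2 ?_
    rw [Sylow.coe_mapSurjective]
    let φ : R →* (T : Subgroup Y) := (f.comp R.subtype).codRestrict _ fun x => mem_comap.1 x.2
    have hφ : Function.Surjective φ := fun w => by
      obtain ⟨x, hx⟩ := hf w.1
      exact ⟨⟨x, mem_comap.2 (hx ▸ w.2)⟩, Subtype.ext hx⟩
    intro w hw
    have h2 := (S.mapSurjective hφ).3 (T.2.of_equiv Subgroup.topEquiv.symm) le_top
    have h3 : (⟨w, hw⟩ : (T : Subgroup Y)) ∈ ((S.mapSurjective hφ : Sylow p _) : Subgroup (T : Subgroup Y)) :=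
      h2 ▸ mem_top _
    rw [Sylow.coe_mapSurjective] at h3
    obtain ⟨x, hx, e⟩ := h3
    exact ⟨x, hS' ⟨x, hx, rfl⟩, congrArg Subtype.val e⟩
  set C := f.ker ⊓ centralizer (H : Set X)
  have horb : MulAction.orbit C S₀ = {S : Sylow p X | H ≤ (S : Subgroup X) ∧ S.mapSurjective hf = T} := by
    ext S
    constructor
    · rintro ⟨⟨c, hc⟩, rfl⟩
      refine ⟨fun x hx => ?_, Sylow.ext ?_⟩
      · show x ∈ ((c • S₀ : Sylow p X) : Subgroup X)
        rw [Sylow.coe_subgroup_smul, mem_pointwise_smul_iff_inv_smul_mem]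
        have : c⁻¹ * x * c = x := by
          rw [mul_assoc, mem_centralizer_iff.1 (mem_inf.1 hc).2 x hx, inv_mul_cancel_left]
        simpa [MulAut.smul_def, this] using hS₀.1 hx
      · rw [← hS₀.2, Sylow.coe_mapSurjective, Sylow.coe_mapSurjective]
        show ((c • S₀ : Sylow p X) : Subgroup X).map f = _
        rw [Sylow.coe_subgroup_smul]
        refine le_antisymm ?_ ?_
        · rintro _ ⟨x, hx, rfl⟩
          rw [SetLike.mem_coe, mem_pointwise_smul_iff_inv_smul_mem] at hx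
          exact ⟨_, hx, by simp [MulAut.smul_def, MonoidHom.mem_ker.1 (mem_inf.1 hc).1]⟩
        · rintro _ ⟨x, hx, rfl⟩
          exact ⟨MulAut.conj c • x, smul_mem_pointwise_smul _ _ _ hx,
            by simp [MulAut.smul_def, MonoidHom.mem_ker.1 (mem_inf.1 hc).1]⟩
    · rintro ⟨hS, hST⟩
      obtain ⟨n, hn, hn'⟩ := exists_conj f hcop S₀.2 S.2 (by
        rw [← Sylow.coe_mapSurjective hf, ← Sylow.coe_mapSurjective hf, hST, hS₀.2])
      refine ⟨⟨n, mem_inf.2 ⟨hn, mem_centralizer_iff.2 fun h hh => ?_⟩⟩, Sylow.ext ?_⟩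
      · have h1 : n⁻¹ * h * n * h⁻¹ = 1 := inf_ker f hcop S₀.2
          (mul_mem ((hn' h).1 (hS hh)) (inv_mem (hS₀.1 hh))) (by simp [MonoidHom.mem_ker.1 hn])
        rw [mul_inv_eq_one, mul_assoc, inv_mul_eq_iff_eq_mul] at h1
        exact h1
      · show ((n • S₀ : Sylow p X) : Subgroup X) = S
        ext x
        rw [Sylow.coe_subgroup_smul, mem_pointwise_smul_iff_inv_smul_mem, hn']
        simp [MulAut.smul_def, mul_assoc]
  have hstab : Nat.card (MulAction.stabilizer C S₀) = Nat.card ↥(f.ker ⊓ normalizer ((S₀ : Subgroup X) : Set X)) := by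
    refine Nat.card_congr
      { toFun := fun c => ⟨c.1.1, mem_inf.2 ⟨(mem_inf.1 c.1.2).1, ?_⟩⟩
        invFun := fun d => ⟨⟨d.1, mem_inf.2 ⟨(mem_inf.1 d.2).1, ?_⟩⟩, ?_⟩
        left_inv := fun c => rfl
        right_inv := fun d => rfl }
    · exact Sylow.smul_eq_iff_mem_normalizer.1 (MulAction.mem_stabilizer_iff.1 c.2)
    · have hd : d.1 ∈ f.ker ⊓ centralizer ((S₀ : Subgroup X) : Set X) := normalizer_eq_centralizer f hcop S₀.2 ▸ d.2
      exact centralizer_le hS₀.1 (mem_inf.1 hd).2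
    · exact Sylow.smul_eq_iff_mem_normalizer.2 (mem_inf.1 d.2).2
  have hconst : Nat.card ↥(f.ker ⊓ normalizer ((S₀ : Subgroup X) : Set X)) =
      Nat.card ↥(f.ker ⊓ centralizer ((P : Subgroup X) : Set X)) := by
    rw [← normalizer_eq_centralizer f hcop P.2]
    obtain ⟨g, rfl⟩ := MulAction.exists_smul_eq X P S₀
    refine (Nat.card_eq_of_bijective (fun d : ↥(f.ker ⊓ normalizer ((P : Subgroup X) : Set X)) =>
      (⟨g * d.1 * g⁻¹, mem_inf.2 ⟨?_, ?_⟩⟩ : ↥(f.ker ⊓ normalizer (((g • P : Sylow p X) : Subgroup X) : Set X))))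
      ⟨fun a b e => Subtype.ext (mul_left_cancel (mul_right_cancel (congrArg Subtype.val e))), fun d => ?_⟩).symm
    · exact (f.normal_ker).conj_mem _ (mem_inf.1 d.2).1 g
    · refine Sylow.smul_eq_iff_mem_normalizer.1 ?_
      rw [mul_smul, mul_smul, inv_smul_smul,
        Sylow.smul_eq_iff_mem_normalizer.2 (mem_inf.1 d.2).2]
    · refine ⟨⟨g⁻¹ * d.1 * g, mem_inf.2 ⟨?_, ?_⟩⟩, Subtype.ext (by simp [mul_assoc])⟩
      · simpa using (f.normal_ker).conj_mem _ (mem_inf.1 d.2).1 g⁻¹
      · refine Sylow.smul_eq_iff_mem_normalizer.1 ?_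
        rw [mul_smul, mul_smul,
          Sylow.smul_eq_iff_mem_normalizer.2 (mem_inf.1 d.2).2, inv_smul_smul]
  rw [← hconst, ← hstab, ← index_mul_card (MulAction.stabilizer C S₀), MulAction.index_stabilizer, horb]
  rw [← Nat.card_coe_set_eq]
  rfl

include hf in
theorem alpha_mul {H : Subgroup X} (P : Sylow p X) (hH : IsPGroup p H) :
    alpha p H * Nat.card ↥(f.ker ⊓ centralizer ((P : Subgroup X) : Set X)) =
      alpha p (H.map f) * Nat.card ↥(f.ker ⊓ centralizer (H : Set X)) := by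
  classical
  haveI : Finite Y := Finite.of_surjective f hf
  haveI := Fintype.ofFinite {T : Sylow p Y // H.map f ≤ (T : Subgroup Y)}
  let e : {S : Sylow p X // H ≤ (S : Subgroup X)} ≃ Σ T : {T : Sylow p Y // H.map f ≤ (T : Subgroup Y)},
      {S : Sylow p X // H ≤ (S : Subgroup X) ∧ S.mapSurjective hf = T.1} :=
    { toFun := fun S => ⟨⟨S.1.mapSurjective hf, by rw [Sylow.coe_mapSurjective]; exact map_mono S.2⟩, ⟨S.1, S.2, rfl⟩⟩
      invFun := fun a => ⟨a.2.1, a.2.2.1⟩
      left_inv := fun S => rfl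
      right_inv := fun ⟨⟨T, hT⟩, ⟨S, hS, hST⟩⟩ => by
        change S.mapSurjective hf = T at hST
        subst hST; rfl }
  rw [alpha, Nat.card_congr e, Nat.card_sigma, Finset.sum_mul,
    Finset.sum_congr rfl fun T _ => sylow_fibre_card f hf hcop P T.1 T.2 hH,
    Finset.sum_const, Finset.card_univ, ← Nat.card_eq_fintype_card, smul_eq_mul]
  rfl

end CfsgLib.SubnormalCount
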