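import Cfsg.Agent.FGSB.PSolvableChain

/-!
# The number of `p`-elements of a `p`-solvable group
-/

set_option autoImplicit false
set_option linter.unusedSectionVars false
set_option linter.style.haveILetI false

namespace CfsgLib.SubnormalCount

open Subgroup
open scoped Pointwise

/-- The product bound for the numbers of Sylow subgroups containing the elements of a Sylow subgroup. -/
def SylowIneq (p : ℕ) {X : Type*} [Group X] (P : Subgroup X) [Fintype P] : Prop :=
  (∏ x : P, alpha p (zpowers (x : X))) ^ p ≤ Nat.card (Sylow p X) ^ Nat.card P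

theorem alpha_bot (p : ℕ) {X : Type*} [Group X] : alpha p (⊥ : Subgroup X) = Nat.card (Sylow p X) :=
  Nat.card_congr (Equiv.subtypeUnivEquiv fun _ => bot_le)

theorem ineq_lift {X Y : Type*} [Group X] [Group Y] [Finite X] {p : ℕ} [hp : Fact p.Prime] (f : X →* Y)
    (hf : Function.Surjective f) (hk : IsPGroup p f.ker ∨ (Nat.card f.ker).Coprime p) (P : Sylow p X)
    [Fintype (P : Subgroup X)] (T : Sylow p Y) (hT : (T : Subgroup Y) = (P : Subgroup X).map f)
    [Fintype (T : Subgroup Y)] (ih : SylowIneq p (T : Subgroup Y)) : SylowIneq p (P : Subgroup X) := by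
  classical
  haveI : Finite Y := Finite.of_surjective f hf
  let π : ↥(P : Subgroup X) → ↥(T : Subgroup Y) := fun x => ⟨f x.1, hT ▸ mem_map_of_mem f x.2⟩
  have hπ : Function.Surjective π := fun y => by
    obtain ⟨x, hx, e⟩ : y.1 ∈ (P : Subgroup X).map f := hT ▸ y.2
    exact ⟨⟨x, hx⟩, Subtype.ext e⟩
  have hmapz : ∀ x : X, (zpowers x).map f = zpowers (f x) := fun x => MonoidHom.map_zpowers f x
  rcases hk with hker | hcop
  · have hsame : ∀ H : Subgroup X, alpha p H = alpha p (H.map f) := alpha_of_pGroup_ker f hf hker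
    have hle : f.ker ≤ (P : Subgroup X) :=
      le_sup_left.trans (le_of_eq (P.3 (hker.to_sup_of_normal_left P.2) le_sup_right))
    have hfib : ∀ y : ↥(T : Subgroup Y), (Finset.univ.filter fun x => π x = y).card = Nat.card f.ker := by
      intro y
      obtain ⟨a, rfl⟩ := hπ y
      rw [← Fintype.card_subtype, ← Nat.card_eq_fintype_card]
      exact Nat.card_congr
        { toFun := fun b => ⟨a.1⁻¹ * b.1.1, by
            rw [MonoidHom.mem_ker, map_mul, map_inv, show f b.1.1 = f a.1 from congrArg Subtype.val b.2, inv_mul_cancel]⟩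
          invFun := fun b => ⟨⟨a.1 * b.1, mul_mem a.2 (hle b.2)⟩, Subtype.ext (by
            show f (a.1 * b.1) = f a.1
            rw [map_mul, MonoidHom.mem_ker.1 b.2, mul_one])⟩
          left_inv := fun b => Subtype.ext (Subtype.ext (mul_inv_cancel_left _ _))
          right_inv := fun b => Subtype.ext (inv_mul_cancel_left _ _) }
    have hprod : ∏ x : ↥(P : Subgroup X), alpha p (zpowers (x : X)) =
        (∏ y : ↥(T : Subgroup Y), alpha p (zpowers (y : Y))) ^ Nat.card f.ker := by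
      rw [← Finset.prod_pow, ← Finset.prod_fiberwise Finset.univ π]
      refine Finset.prod_congr rfl fun y _ => ?_
      rw [← hfib y, ← Finset.prod_const]
      refine Finset.prod_congr rfl fun x hx => ?_
      rw [hsame, hmapz, ← (Finset.mem_filter.1 hx).2]
    have hcardP : Nat.card (P : Subgroup X) = Nat.card (T : Subgroup Y) * Nat.card f.ker := by
      rw [mul_comm, ← card_comap f hf, hT, comap_map_eq, sup_of_le_left hle]
    have hn : Nat.card (Sylow p X) = Nat.card (Sylow p Y) := by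
      rw [← alpha_bot, hsame, Subgroup.map_bot, alpha_bot]
    rw [SylowIneq, hprod, hn, hcardP, pow_right_comm, pow_mul]
    exact Nat.pow_le_pow_left ih _
  · have hinj : Function.Injective π := fun a b e => Subtype.ext (inv_mul_eq_one.1 (inf_ker f hcop P.2
      (mul_mem (inv_mem a.2) b.2) (by
        rw [map_mul, map_inv, show f a.1 = f b.1 from congrArg Subtype.val e, inv_mul_cancel])))
    set N := Nat.card f.ker
    set D := Nat.card ↥(f.ker ⊓ centralizer ((P : Subgroup X) : Set X))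
    have hmul : ∀ H : Subgroup X, H ≤ (P : Subgroup X) →
        alpha p H * D = alpha p (H.map f) * Nat.card ↥(f.ker ⊓ centralizer (H : Set X)) :=
      fun H hH => alpha_mul f hf hcop P (P.2.to_le hH)
    have hn : Nat.card (Sylow p X) * D = Nat.card (Sylow p Y) * N := by
      rw [← alpha_bot, hmul ⊥ bot_le, Subgroup.map_bot, alpha_bot]
      congr 1
      rw [inf_of_le_left fun x _ => mem_centralizer_iff.2 fun h hh => by
        rw [Subgroup.mem_bot.1 hh, one_mul, mul_one]]
    have hcardP : Nat.card (P : Subgroup X) = Nat.card (T : Subgroup Y) := Nat.card_eq_of_bijective π ⟨hinj, hπ⟩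
    letI : MulDistribMulAction ↥(P : Subgroup X) f.ker :=
      MulDistribMulAction.compHom f.ker ((MulAut.conjNormal (H := f.ker)).comp (P : Subgroup X).subtype)
    have hb := CfsgLib.CoprimeFixedProd.bound (V := f.ker) P.2 hcop.symm
    have hfix : ∀ x : ↥(P : Subgroup X), Nat.card (CfsgLib.CoprimeFixedProd.fix f.ker x) =
        Nat.card ↥(f.ker ⊓ centralizer ((zpowers (x : X) : Subgroup X) : Set X)) := fun x => Nat.card_congr
      { toFun := fun v => ⟨v.1.1, mem_inf.2 ⟨v.1.2, mem_centralizer_iff.2 fun y hy => by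
          obtain ⟨i, rfl⟩ := mem_zpowers_iff.1 hy
          have h1 : Commute (x : X) v.1.1 := mul_inv_eq_iff_eq_mul.1 (congrArg Subtype.val v.2)
          exact (h1.zpow_left i).eq⟩⟩
        invFun := fun v => ⟨⟨v.1, (mem_inf.1 v.2).1⟩, Subtype.ext (mul_inv_eq_iff_eq_mul.2
          (mem_centralizer_iff.1 (mem_inf.1 v.2).2 x.1 (mem_zpowers _)))⟩
        left_inv := fun v => rfl
        right_inv := fun v => rfl }
    have hfixP : Nat.card (FixedPoints.subgroup ↥(P : Subgroup X) f.ker) = D := Nat.card_congr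
      { toFun := fun v => ⟨v.1.1, mem_inf.2 ⟨v.1.2, mem_centralizer_iff.2 fun y hy =>
          mul_inv_eq_iff_eq_mul.1 (congrArg Subtype.val (v.2 ⟨y, hy⟩))⟩⟩
        invFun := fun v => ⟨⟨v.1, (mem_inf.1 v.2).1⟩, fun y => Subtype.ext (mul_inv_eq_iff_eq_mul.2
          (mem_centralizer_iff.1 (mem_inf.1 v.2).2 y.1 y.2))⟩
        left_inv := fun v => rfl
        right_inv := fun v => rfl }
    rw [CfsgLib.CoprimeFixedProd.Bound, hfixP, Finset.prod_congr rfl fun x _ => hfix x, ← Nat.card_eq_fintype_card] at hb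
    have hle := Nat.le_of_dvd (Nat.mul_pos (pow_pos Nat.card_pos _) (pow_pos Nat.card_pos _)) hb
    have hprod : (∏ x : ↥(P : Subgroup X), alpha p (zpowers (x : X))) * D ^ Nat.card (P : Subgroup X) =
        (∏ y : ↥(T : Subgroup Y), alpha p (zpowers (y : Y))) *
          ∏ x : ↥(P : Subgroup X), Nat.card ↥(f.ker ⊓ centralizer ((zpowers (x : X) : Subgroup X) : Set X)) := by
      rw [Nat.card_eq_fintype_card, ← Finset.card_univ, ← Finset.prod_const, ← Finset.prod_mul_distrib,
        Finset.prod_congr rfl fun x _ => hmul _ (zpowers_le.2 x.2), Finset.prod_mul_distrib]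
      congr 1
      refine Fintype.prod_bijective π ⟨hinj, hπ⟩ _ _ fun x => ?_
      rw [hmapz]
    rw [SylowIneq]
    refine Nat.le_of_mul_le_mul_right ?_
      (pow_pos (Nat.card_pos (α := ↥(f.ker ⊓ centralizer ((P : Subgroup X) : Set X)))) (Nat.card (P : Subgroup X) * p))
    have hD : D ^ Nat.card (P : Subgroup X) * D ^ ((p - 1) * Nat.card (P : Subgroup X)) =
        D ^ (Nat.card (P : Subgroup X) * p) := by
      rw [← pow_add]
      congr 1
      have := hp.out.one_le
      obtain ⟨q, rfl⟩ : ∃ q, p = q + 1 := ⟨p - 1, by omega⟩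
      simp [mul_add, mul_comm, add_comm]
    rw [pow_mul, ← mul_pow, hprod, mul_pow, ← pow_mul]
    refine (Nat.mul_le_mul ih hle).trans (le_of_eq ?_)
    rw [← hcardP, ← hD, ← mul_assoc, ← mul_assoc, ← mul_pow, ← mul_pow, hn]

theorem alpha_conj {X : Type*} [Group X] (p : ℕ) (g x : X) :
    alpha p (zpowers (g * x * g⁻¹)) = alpha p (zpowers x) := by
  refine (Nat.card_congr ((MulAction.toPerm g).subtypeEquiv fun S => ?_)).symm
  show zpowers x ≤ (S : Subgroup X) ↔ zpowers (g * x * g⁻¹) ≤ ((g • S : Sylow p X) : Subgroup X)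
  rw [zpowers_le, zpowers_le, Sylow.coe_subgroup_smul, mem_pointwise_smul_iff_inv_smul_mem]
  simp [MulAut.smul_def, mul_assoc]

theorem count_pElements {G : Type*} [Group G] [Finite G] {p : ℕ} [hp : Fact p.Prime] (P : Sylow p G)
    [Fintype (P : Subgroup G)] :
    (Nat.card {g : G // ∃ k : ℕ, orderOf g = p ^ k} : ℝ) =
      Nat.card (Sylow p G) * ∑ x : ↥(P : Subgroup G), (alpha p (zpowers (x : G)) : ℝ)⁻¹ := by
  classical
  haveI := Fintype.ofFinite G
  haveI := Fintype.ofFinite (Sylow p G)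
  set U : Finset G := Finset.univ.filter fun g => ∃ k : ℕ, orderOf g = p ^ k
  have hU : Nat.card {g : G // ∃ k : ℕ, orderOf g = p ^ k} = U.card := by
    rw [Nat.card_eq_fintype_card, Fintype.card_subtype]
  have h1 : ∀ g ∈ U, ∑ S ∈ Finset.univ.filter (fun S : Sylow p G => g ∈ (S : Subgroup G)), (alpha p (zpowers g) : ℝ)⁻¹ = 1 := by
    intro g hg
    obtain ⟨k, hk⟩ := (Finset.mem_filter.1 hg).2
    obtain ⟨S, hS⟩ := (IsPGroup.of_card (p := p) (n := k) (by rw [Nat.card_zpowers, hk]) :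
      IsPGroup p (zpowers g)).exists_le_sylow
    have hc : (Finset.univ.filter (fun S : Sylow p G => g ∈ (S : Subgroup G))).card = alpha p (zpowers g) := by
      rw [alpha, Nat.card_eq_fintype_card, Fintype.card_subtype]
      simp only [zpowers_le]
    rw [Finset.sum_const, hc, nsmul_eq_mul, mul_inv_cancel₀]
    haveI : Nonempty {S : Sylow p G // zpowers g ≤ (S : Subgroup G)} := ⟨⟨S, hS⟩⟩
    exact Nat.cast_ne_zero.2 (Nat.card_pos.ne')
  have h2 : ∀ S : Sylow p G, ∑ g ∈ U, (if g ∈ (S : Subgroup G) then (alpha p (zpowers g) : ℝ)⁻¹ else 0) =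
      ∑ x : ↥(P : Subgroup G), (alpha p (zpowers (x : G)) : ℝ)⁻¹ := by
    intro S
    obtain ⟨c, rfl⟩ := MulAction.exists_smul_eq G P S
    rw [← Finset.sum_filter]
    refine (Finset.sum_bij (fun (x : ↥(P : Subgroup G)) _ => c * x.1 * c⁻¹) ?_ ?_ ?_ ?_).symm
    · intro x _
      refine Finset.mem_filter.2 ⟨Finset.mem_filter.2 ⟨Finset.mem_univ _, ?_⟩, ?_⟩
      · obtain ⟨k, hk⟩ := P.2 x
        obtain ⟨j, -, hj⟩ := (Nat.dvd_prime_pow hp.out).1
          (orderOf_dvd_of_pow_eq_one (congrArg Subtype.val hk : (x : G) ^ p ^ k = 1))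
        exact ⟨j, (MulEquiv.orderOf_eq (MulAut.conj c) x.1).trans hj⟩
      · rw [Sylow.coe_subgroup_smul, mem_pointwise_smul_iff_inv_smul_mem]
        simp [MulAut.smul_def, mul_assoc]
    · exact fun a _ b _ e => Subtype.ext (mul_left_cancel (mul_right_cancel e))
    · intro g hg
      have hg' := (Finset.mem_filter.1 hg).2
      rw [Sylow.coe_subgroup_smul, mem_pointwise_smul_iff_inv_smul_mem] at hg'
      exact ⟨⟨_, hg'⟩, Finset.mem_univ _, by simp [MulAut.smul_def, mul_assoc]⟩
    · intro x _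
      rw [alpha_conj]
  rw [hU, Nat.card_eq_fintype_card, Finset.card_eq_sum_ones, Nat.cast_sum]
  rw [Finset.sum_congr rfl fun g hg => show ((1 : ℕ) : ℝ) = _ from Nat.cast_one.trans (h1 g hg).symm]
  simp only [Finset.sum_filter]
  rw [Finset.sum_comm, Finset.sum_congr rfl fun S _ => h2 S, Finset.sum_const, Finset.card_univ, nsmul_eq_mul]

theorem main {G : Type*} [Group G] [Finite G] {p : ℕ} [hp : Fact p.Prime] (P : Sylow p G)
    [Fintype (P : Subgroup G)] (h : SylowIneq p (P : Subgroup G)) :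
    Nat.card (P : Subgroup G) ^ p * Nat.card (Sylow p G) ^ (p - 1) ≤
      Nat.card {g : G // ∃ k : ℕ, orderOf g = p ^ k} ^ p := by
  classical
  set N := Nat.card (P : Subgroup G) with hN
  set n := Nat.card (Sylow p G)
  set u := Nat.card {g : G // ∃ k : ℕ, orderOf g = p ^ k}
  set z : ↥(P : Subgroup G) → ℝ := fun x => (alpha p (zpowers (x : G)) : ℝ)⁻¹
  have hNpos : (0 : ℝ) < N := Nat.cast_pos.2 Nat.card_pos
  have hn : (0 : ℝ) < n := Nat.cast_pos.2 Nat.card_pos
  have hz : ∀ x, 0 ≤ z x := fun x => inv_nonneg.2 (Nat.cast_nonneg _)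
  have hN' : (N : ℕ) ≠ 0 := Nat.card_pos.ne'
  have hw : ∑ _x : ↥(P : Subgroup G), (N : ℝ)⁻¹ = 1 := by
    rw [Finset.sum_const, Finset.card_univ, ← Nat.card_eq_fintype_card, ← hN, nsmul_eq_mul, mul_inv_cancel₀ hNpos.ne']
  have hgm := Real.geom_mean_le_arith_mean_weighted Finset.univ (fun _ => (N : ℝ)⁻¹) z
    (fun _ _ => inv_nonneg.2 hNpos.le) hw (fun x _ => hz x)
  rw [← Finset.mul_sum] at hgm
  set S := ∑ x, z x
  have hS : (u : ℝ) = n * S := count_pElements P
  have hS0 : 0 ≤ S := Finset.sum_nonneg fun x _ => hz x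
  have hpow := pow_le_pow_left₀ (Finset.prod_nonneg fun x _ => Real.rpow_nonneg (hz x) _) hgm N
  rw [← Finset.prod_pow] at hpow
  simp only [Real.rpow_inv_natCast_pow (hz _) hN'] at hpow
  have hineq : (∏ x : ↥(P : Subgroup G), (alpha p (zpowers (x : G)) : ℝ)) ^ p ≤ (n : ℝ) ^ N := by
    exact_mod_cast h
  have hpos : 0 < ∏ x : ↥(P : Subgroup G), (alpha p (zpowers (x : G)) : ℝ) := by
    refine Finset.prod_pos fun x _ => Nat.cast_pos.2 ?_
    haveI : Nonempty {S : Sylow p G // zpowers (x : G) ≤ (S : Subgroup G)} := ⟨⟨P, zpowers_le.2 x.2⟩⟩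
    exact Nat.card_pos
  have e1 : ((n : ℝ)⁻¹) ^ N ≤ (((N : ℝ)⁻¹ * S) ^ p) ^ N := by
    rw [inv_pow, ← pow_mul, mul_comm p N, pow_mul]
    refine le_trans ?_ (pow_le_pow_left₀ (Finset.prod_nonneg fun x _ => hz x) hpow p)
    simp only [z, Finset.prod_inv_distrib, inv_pow]
    exact inv_anti₀ (pow_pos hpos p) hineq
  have e2 : (n : ℝ)⁻¹ ≤ ((N : ℝ)⁻¹ * S) ^ p :=
    le_of_pow_le_pow_left₀ hN' (pow_nonneg (mul_nonneg (inv_nonneg.2 hNpos.le) hS0) _) e1
  have e3 : (N : ℝ) ^ p * (n : ℝ) ^ (p - 1) ≤ (u : ℝ) ^ p := by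
    rw [hS, mul_pow]
    rw [mul_pow, inv_pow] at e2
    have hp1 : (n : ℝ) ^ p = (n : ℝ) ^ (p - 1) * n := by
      rw [← pow_succ, Nat.sub_add_cancel hp.out.one_le]
    rw [hp1, mul_assoc, mul_comm ((N : ℝ) ^ p)]
    refine mul_le_mul_of_nonneg_left ?_ (pow_nonneg hn.le _)
    have := mul_le_mul_of_nonneg_left e2 (mul_nonneg hn.le (pow_nonneg hNpos.le p))
    field_simp at this
    exact this
  exact_mod_cast e3

end CfsgLib.SubnormalCount
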