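import Mathlib.GroupTheory.QuotientGroup.Basic
import Mathlib.GroupTheory.Abelianization.Defs
import Mathlib.Tactic

/-!
A group of class two and exponent four on which the symmetric group of degree three acts with an
element of order three fixed-point-freely, in such a way that no element of order eight arises in
the semidirect product, has exponent two.
-/

set_option autoImplicit false
set_option linter.unusedSectionVars false

namespace CfsgLib.SymThreeExponent

open Subgroup
open scoped commutatorElement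

/-- Surjectivity of `g ↦ g⁻¹ σ g` and its consequence. -/
theorem norm_eq_one {N : Type*} [Group N] [Finite N] (σ : N ≃* N) (h3 : ∀ n, σ (σ (σ n)) = n)
    (hfpf : ∀ n, σ n = n → n = 1) (n : N) : n * σ n * σ (σ n) = 1 := by
  have hinj : Function.Injective (fun g : N => g⁻¹ * σ g) := by
    intro a b hab
    have e : σ (b * a⁻¹) = b * a⁻¹ := by
      have hab' : a⁻¹ * σ a = b⁻¹ * σ b := hab
      rw [map_mul, map_inv, show σ a = a * (b⁻¹ * σ b) by rw [← hab', mul_inv_cancel_left]]
      group
    exact (mul_inv_eq_one.1 (hfpf _ e)).symm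
  obtain ⟨g, rfl⟩ := (Finite.injective_iff_surjective.1 hinj) n
  simp only [map_mul, map_inv, h3]
  group

/-- The exponent two criterion. -/
theorem exp_two {N : Type*} [Group N] [Finite N] (σ τ : N ≃* N) (h3 : ∀ n, σ (σ (σ n)) = n)
    (hfpf : ∀ n, σ n = n → n = 1) (hrel : ∀ n, τ (σ n) = σ (σ (τ n))) (hcl : commutator N ≤ center N)
    (h4 : ∀ n : N, n ^ 4 = 1) (hu : ∀ n, (τ n * n) ^ 2 = 1) (hux : ∀ n, (τ (σ n) * n) ^ 2 = 1) (n : N) :
    n ^ 2 = 1 := by
  have hnorm := norm_eq_one σ h3 hfpf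
  -- squares are central
  have hsqD : ∀ m : N, m ^ 2 ∈ center N := by
    intro m
    refine hcl ((Abelianization.ker_of N).le ?_)
    set π : N →* Abelianization N := Abelianization.of
    rw [MonoidHom.mem_ker]
    have e1 := congrArg π (hux m)
    have e2 := congrArg π (hu (σ m))
    have e3 := congrArg π (hnorm m)
    simp only [map_mul, map_pow, map_one, mul_pow] at e1 e2 e3
    have e4 : π (σ m) ^ 2 = π m ^ 2 := mul_left_cancel (e2.trans e1.symm)
    have e5 := congrArg π (hux (σ m))
    have e6 := congrArg π (hu (σ (σ m)))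
    simp only [map_mul, map_pow, map_one, mul_pow] at e5 e6
    have e7 : π (σ (σ m)) ^ 2 = π (σ m) ^ 2 := mul_left_cancel (e6.trans e5.symm)
    have h8 : π m ^ 4 = 1 := by rw [← map_pow, h4, map_one]
    have e9 : π m ^ 2 * π (σ m) ^ 2 * π (σ (σ m)) ^ 2 = 1 := by
      rw [← mul_pow, ← mul_pow, e3, one_pow]
    rw [e7, e4, ← pow_add, ← pow_add, show 2 + 2 + 2 = 2 + 4 from rfl, pow_add, h8, mul_one] at e9
    rw [map_pow]
    exact e9
  let C : N → N → center N := fun a b =>
    ⟨⁅a, b⁆, hcl (commutator_mem_commutator (mem_top a) (mem_top b))⟩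
  have Cmul : ∀ a b c : N, C (a * b) c = C a c * C b c := fun a b c => Subtype.ext (by
    show ⁅a * b, c⁆ = ⁅a, c⁆ * ⁅b, c⁆
    have hb := mem_center_iff.1 (hcl (commutator_mem_commutator (mem_top b) (mem_top c))) a
    have ha := mem_center_iff.1 (hcl (commutator_mem_commutator (mem_top a) (mem_top c))) ⁅b, c⁆
    rw [← ha]
    simp only [commutatorElement_def] at hb ⊢
    calc a * b * c * (a * b)⁻¹ * c⁻¹ = (a * (b * c * b⁻¹ * c⁻¹)) * (c * a⁻¹ * c⁻¹) := by group
      _ = b * c * b⁻¹ * c⁻¹ * (a * c * a⁻¹ * c⁻¹) := by rw [hb]; group)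
  have Cone : ∀ c : N, C 1 c = 1 := fun c => Subtype.ext (by simp [C])
  have Cself : ∀ a : N, C a a = 1 := fun a => Subtype.ext (by simp [C])
  have Cswap : ∀ a b : N, C b a = (C a b)⁻¹ := fun a b => Subtype.ext (by simp [C, commutatorElement_inv])
  have Csq : ∀ a b : N, C a b * C a b = 1 := fun a b => by
    rw [← Cmul]
    refine Subtype.ext ?_
    show ⁅a * a, b⁆ = 1
    rw [← pow_two, commutatorElement_eq_one_iff_mul_comm]
    exact (mem_center_iff.1 (hsqD a) b).symm
  have Cinv : ∀ a b : N, (C a b)⁻¹ = C a b := fun a b => inv_eq_of_mul_eq_one_right (Csq a b)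
  have Csymm : ∀ a b : N, C b a = C a b := fun a b => by rw [Cswap, Cinv]
  have Cmul' : ∀ a b c : N, C a (b * c) = C a b * C a c := fun a b c => by
    rw [Csymm, Cmul, Csymm, Csymm c]
  have Cinv' : ∀ a b : N, C a b⁻¹ = C a b := fun a b => by
    have h : C a b * C a b⁻¹ = 1 := by rw [← Cmul', mul_inv_cancel, Csymm, Cone]
    rw [← Cinv a b]
    exact (inv_eq_of_mul_eq_one_right h).symm
  let S : center N → center N := fun z => ⟨σ z.1, mem_center_iff.2 fun g => by
    have h := congrArg σ (mem_center_iff.1 z.2 (σ.symm g))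
    rwa [map_mul, map_mul, σ.apply_symm_apply] at h⟩
  have SC : ∀ a b : N, S (C a b) = C (σ a) (σ b) := fun a b => Subtype.ext (map_commutatorElement σ a b)
  let q : N → center N := fun a => ⟨a ^ 2, hsqD a⟩
  have Sq : ∀ a : N, S (q a) = q (σ a) := fun a => Subtype.ext (map_pow σ a 2)
  have qmul : ∀ a b : N, q (a * b) = q a * q b * C a b := fun a b => by
    rw [Csymm b a]
    refine Subtype.ext ?_
    show (a * b) ^ 2 = a ^ 2 * b ^ 2 * ⁅b, a⁆
    have hc := mem_center_iff.1 (hcl (commutator_mem_commutator (mem_top b) (mem_top a)))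
    rw [mul_assoc, hc (b ^ 2), pow_two, pow_two, pow_two]
    calc a * b * (a * b) = a * (b * a * b⁻¹ * a⁻¹) * (a * b * b) := by group
      _ = a * ⁅b, a⁆ * (a * b * b) := by rw [commutatorElement_def]
      _ = a * a * (⁅b, a⁆ * (b * b)) := by
        rw [mul_assoc a, ← mul_assoc ⁅b, a⁆ (a * b), ← mul_assoc ⁅b, a⁆ a b, ← hc a]
        group
  -- the third term of a relation
  have hfix : ∀ z : center N, S z = z → z = 1 := fun z hz => Subtype.ext (hfpf _ (congrArg Subtype.val hz))
  have hnext : ∀ a : N, σ (σ a) = (a * σ a)⁻¹ := fun a => eq_inv_of_mul_eq_one_right (hnorm a)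
  have hself : ∀ a : N, C a (σ a) = 1 := fun a => hfix _ (by
    rw [SC, hnext a, Cinv', Cmul', Cself, mul_one, Csymm])
  have hlin : ∀ a b : N, C a (σ b) = C (σ a) b := by
    intro a b
    have h := hself (a * b)
    rw [map_mul, Cmul, Cmul', Cmul', hself, hself, one_mul, mul_one] at h
    rw [eq_inv_of_mul_eq_one_left h, Cinv, Csymm]
  have R : ∀ a : N, q (τ a) * q a * C (τ a) a = 1 := fun a => by
    rw [← qmul]; exact Subtype.ext (hu a)
  have R' : ∀ a : N, q (τ (σ a)) * q a * C (τ (σ a)) a = 1 := fun a => by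
    rw [← qmul]; exact Subtype.ext (hux a)
  have SS : ∀ z : center N, z * S z * S (S z) = 1 := fun z => Subtype.ext (hnorm z.1)
  have S3 : ∀ z : center N, S (S (S z)) = z := fun z => Subtype.ext (h3 z.1)
  have hQ : ∀ n : N, q n = C (τ n) n := by
    intro n
    set t := τ (σ n)
    have hsum : q (σ n) * C t (σ n) = q n * C t n :=
      mul_left_cancel (a := q t) (by rw [← mul_assoc, ← mul_assoc, R (σ n), R' n])
    have hee : C t (σ n) * C t n = S (S (C (τ n) n)) := by
      rw [← Cmul', SC, SC, ← hrel, hnext n, Cinv', Cmul', Cmul']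
      exact Subtype.ext (mem_center_iff.1 (C t n).2 (C t (σ n)).1)
    have hq : q n * q n = 1 := Subtype.ext (by
      show n ^ 2 * n ^ 2 = 1
      rw [← pow_add]; exact h4 n)
    have hk : q n * S (q n) = S (S (C (τ n) n)) := by
      rw [Sq, ← hee]
      calc q n * q (σ n) = q n * (q (σ n) * (C t (σ n) * C t (σ n))) := by rw [Csq, mul_one]
        _ = (q n * q n) * (C t (σ n) * C t n) := by rw [← mul_assoc (q (σ n)), hsum]; ac_rfl
        _ = _ := by rw [hq, one_mul]
    have h1 := SS (q n)
    rw [hk] at h1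
    have h2 : S (S (q n)) = S (S (C (τ n) n)) := by
      rw [eq_inv_of_mul_eq_one_right h1, SC, SC, Cinv]
    have h3' := congrArg S h2
    rwa [S3, S3] at h3'
  set t := τ n
  have k1 : C t (σ n) = 1 := by
    have h1 := hQ (σ n)
    rw [← Sq, hQ n, SC, hrel, hnext (τ n), Csymm _ (τ n * σ (τ n))⁻¹, Cinv', Cmul', Csymm (σ t) (σ n),
      Csymm t (σ n)] at h1
    have h2 := right_eq_mul.1 h1
    exact h2
  have k2 : C (σ n) t = 1 := by rw [Csymm]; exact k1
  have k3 : C n (σ t) = 1 := by rw [hlin, k2]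
  have h5 : C (n * σ n * σ (σ n)) (σ t) = 1 := by rw [hnorm, Cone]
  rw [Cmul, Cmul, k3, one_mul, ← SC (σ n) t, k2, ← SC] at h5
  have h6 : S (1 : center N) = 1 := Subtype.ext (map_one σ)
  rw [h6, mul_one, ← h6] at h5
  have h7 := congrArg (fun z => S (S z)) h5
  simp only [S3] at h7
  have h8 : q n = 1 := by rw [hQ, Csymm]; exact h7
  exact congrArg Subtype.val h8

end CfsgLib.SymThreeExponent
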