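import Cfsg.Prelude.Def_OddOrderLocal
import Mathlib.GroupTheory.Sylow
import Mathlib.GroupTheory.Nilpotent

/-!
Trivial-intersection Hall subgroups.
-/

set_option autoImplicit false
set_option linter.unusedSectionVars false

namespace CfsgLib.TIHall

open Subgroup
open scoped Pointwise

variable {G : Type*} [Group G] [Finite G] {H : Subgroup G}

theorem card_mul_relIndex {A B : Subgroup G} (h : A ≤ B) : Nat.card A * A.relIndex B = Nat.card B := by
  rw [← relIndex_bot_left, ← relIndex_bot_left, relIndex_mul_relIndex ⊥ A B bot_le h]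

theorem mem_normalizer_of_ti (hTI : Cfsg.IsTISubset (H : Set G)) {g x : G} (hx : x ∈ H) (hx1 : x ≠ 1)
    (hg : g * x * g⁻¹ ∈ H) : g ∈ normalizer (H : Set G) :=
  by_contra fun h => hx1 (hTI g h x hx hg)

/-- An element of the normalizer whose order only involves primes of a normal Hall subgroup lies in it. -/
theorem mem_of_pi_element (hHall : (Nat.card H).Coprime (H.subgroupOf (normalizer (H : Set G))).index)
    {k : G} (hk : k ∈ normalizer (H : Set G))
    (hpi : ∀ q : ℕ, q.Prime → q ∣ orderOf k → q ∣ Nat.card H) : k ∈ H := by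
  set N := normalizer (H : Set G)
  have hn : (H.subgroupOf N).Normal := Subgroup.normal_in_normalizer
  have h1 : orderOf (QuotientGroup.mk (⟨k, hk⟩ : N) : N ⧸ H.subgroupOf N) = 1 := by
    refine Nat.eq_one_iff_not_exists_prime_dvd.2 fun q hq hd => ?_
    have h2 : q ∣ orderOf k := by
      have := hd.trans (orderOf_map_dvd (QuotientGroup.mk' (H.subgroupOf N)) ⟨k, hk⟩)
      rwa [Subgroup.orderOf_mk] at this
    have h3 : q ∣ (H.subgroupOf N).index := by
      rw [Subgroup.index_eq_card]; exact hd.trans (orderOf_dvd_natCard _)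
    exact hq.ne_one (Nat.dvd_one.1 (hHall ▸ Nat.dvd_gcd (hpi q hq h2) h3))
  exact Subgroup.mem_subgroupOf.1 ((QuotientGroup.eq_one_iff _).1 (orderOf_eq_one_iff.1 h1))

/-- A TI subgroup with order prime to its index in its normalizer is a Hall subgroup. -/
theorem hall_of_ti (hTI : Cfsg.IsTISubset (H : Set G))
    (hHall : (Nat.card H).Coprime (H.subgroupOf (normalizer (H : Set G))).index) :
    (Nat.card H).Coprime H.index := by
  refine Nat.coprime_of_dvd fun r hr hrH hri => ?_
  have := Fact.mk hr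
  obtain ⟨S⟩ : Nonempty (Sylow r H) := inferInstance
  set S' := (S : Subgroup H).map H.subtype with hS'
  have hS'p : IsPGroup r S' := S.isPGroup'.map _
  obtain ⟨R, hR⟩ := hS'p.exists_le_sylow
  have hcard : Nat.card S' = Nat.card (S : Subgroup H) := card_map_of_injective H.subtype_injective
  have hne : S' ≠ (R : Subgroup G) := by
    intro h
    apply R.not_dvd_index
    rw [← h, hS', index_map_subtype]
    exact hri.mul_left _
  have hlt : S'.subgroupOf (R : Subgroup G) < ⊤ :=
    lt_top_iff_ne_top.2 fun h => hne (le_antisymm hR (Subgroup.subgroupOf_eq_top.1 h))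
  have := R.isPGroup'.isNilpotent
  obtain ⟨g, hg, hgS⟩ := SetLike.exists_of_lt
    (Group.normalizerCondition_of_isNilpotent (G := (R : Subgroup G)) _ hlt)
  have hS'1 : S' ≠ ⊥ := by
    intro h
    rw [hS', Subgroup.map_eq_bot_iff_of_injective _ H.subtype_injective] at h
    exact S.ne_bot_of_dvd_card hrH h
  obtain ⟨x, hx, hx1⟩ := S'.bot_or_exists_ne_one.resolve_left hS'1
  have hgN : (g : G) ∈ normalizer (H : Set G) := by
    refine mem_normalizer_of_ti hTI (map_subtype_le _ hx) hx1 ?_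
    exact map_subtype_le _ ((mem_normalizer_iff.1 hg ⟨x, hR hx⟩).1 hx)
  have hgH : (g : G) ∈ H := by
    refine mem_of_pi_element hHall hgN fun q hq hd => ?_
    obtain ⟨k, hk⟩ := IsPGroup.iff_orderOf.1 R.isPGroup' g
    rw [Subgroup.orderOf_coe, hk] at hd
    rw [(Nat.prime_dvd_prime_iff_eq hq hr).1 (hq.dvd_of_dvd_pow hd)]
    exact hrH
  -- so `⟨S', g⟩` is a `r`-subgroup of `H` larger than `S`
  have hp : IsPGroup r ((R : Subgroup G).subgroupOf H) := R.isPGroup'.comap_subtype
  have hle : (S : Subgroup H) ≤ (R : Subgroup G).subgroupOf H := fun s hs =>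
    hR (mem_map_of_mem _ hs)
  have := S.3 hp hle
  apply hgS
  refine ⟨⟨g, hgH⟩, ?_, rfl⟩
  rw [← this]
  exact g.2

theorem ti_conj (hTI : Cfsg.IsTISubset (H : Set G)) {g₁ g₂ x : G} (hx1 : x ≠ 1)
    (h1 : g₁⁻¹ * x * g₁ ∈ H) (h2 : g₂⁻¹ * x * g₂ ∈ H) :
    ∀ y : G, g₁⁻¹ * y * g₁ ∈ H ↔ g₂⁻¹ * y * g₂ ∈ H := by
  have hn : g₂⁻¹ * g₁ ∈ normalizer (H : Set G) := by
    refine mem_normalizer_of_ti hTI h1 (fun h => hx1 ?_) ?_
    · calc x = g₁ * (g₁⁻¹ * x * g₁) * g₁⁻¹ := by group
        _ = 1 := by rw [h]; group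
    · convert h2 using 1; group
  intro y
  rw [show g₂⁻¹ * y * g₂ = (g₂⁻¹ * g₁) * (g₁⁻¹ * y * g₁) * (g₂⁻¹ * g₁)⁻¹ by group]
  exact mem_normalizer_iff.1 hn _

theorem card_union_bound {K : Type*} [Group K] [Finite K] (D₁ D₂ : Subgroup K) (h1 : 2 ≤ Nat.card D₁)
    (h2 : 2 ≤ Nat.card D₂)
    (hD1 : ∀ k : K, k ∉ D₁ → ∀ d ∈ D₁, k * d * k⁻¹ ∈ D₁ → d = 1)
    (hD2 : ∀ k : K, k ∉ D₂ → ∀ d ∈ D₂, k * d * k⁻¹ ∈ D₂ → d = 1)
    (h12 : ∀ k : K, ∀ d ∈ D₁, k * d * k⁻¹ ∈ D₂ → d = 1) : False := by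
  classical
  let f : ((K ⧸ D₁) × {d : D₁ // d ≠ 1}) ⊕ ((K ⧸ D₂) × {d : D₂ // d ≠ 1}) → {k : K // k ≠ 1} :=
    Sum.elim (fun z => ⟨z.1.out * z.2.1 * z.1.out⁻¹, fun h => z.2.2 (Subtype.ext (conj_eq_one_iff.1 h))⟩)
      (fun z => ⟨z.1.out * z.2.1 * z.1.out⁻¹, fun h => z.2.2 (Subtype.ext (conj_eq_one_iff.1 h))⟩)
  have key : ∀ (D : Subgroup K), (∀ k : K, k ∉ D → ∀ d ∈ D, k * d * k⁻¹ ∈ D → d = 1) →
      ∀ (q q' : K ⧸ D) (d d' : {d : D // d ≠ 1}),
      q.out * d.1 * q.out⁻¹ = q'.out * d'.1 * q'.out⁻¹ → (q, d) = (q', d') := by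
    intro D hD q q' d d' h
    have hq : q = q' := by
      by_contra hne
      have hmem : (q'.out⁻¹ * q.out) * d.1 * (q'.out⁻¹ * q.out)⁻¹ = (d'.1 : K) := by
        calc (q'.out⁻¹ * q.out) * d.1 * (q'.out⁻¹ * q.out)⁻¹
            = q'.out⁻¹ * (q.out * d.1 * q.out⁻¹) * q'.out := by group
          _ = _ := by rw [h]; group
      have := hD _ (fun hin => hne (by
        rw [← q.out_eq', ← q'.out_eq']; exact (QuotientGroup.eq.2 hin).symm)) _ d.1.2 (hmem ▸ d'.1.2)
      exact d.2 (Subtype.ext this)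
    subst hq
    rw [Prod.mk.injEq]
    exact ⟨rfl, Subtype.ext (Subtype.ext (by simpa using h))⟩
  have hf : Function.Injective f := by
    rintro (⟨q, d⟩ | ⟨q, d⟩) (⟨q', d'⟩ | ⟨q', d'⟩) h <;>
      have h' := congrArg Subtype.val h <;> simp only [f, Sum.elim_inl, Sum.elim_inr] at h'
    · rw [key D₁ hD1 q q' d d' h']
    · exfalso
      refine d.2 (Subtype.ext (h12 (q'.out⁻¹ * q.out) _ d.1.2 ?_))
      rw [show q'.out⁻¹ * q.out * (d.1 : K) * (q'.out⁻¹ * q.out)⁻¹ =
        q'.out⁻¹ * (q.out * d.1 * q.out⁻¹) * q'.out by group, h',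
        show q'.out⁻¹ * (q'.out * (d'.1 : K) * q'.out⁻¹) * q'.out = d'.1 by group]
      exact d'.1.2
    · exfalso
      refine d'.2 (Subtype.ext (h12 (q.out⁻¹ * q'.out) _ d'.1.2 ?_))
      rw [show q.out⁻¹ * q'.out * (d'.1 : K) * (q.out⁻¹ * q'.out)⁻¹ =
        q.out⁻¹ * (q'.out * d'.1 * q'.out⁻¹) * q.out by group, ← h',
        show q.out⁻¹ * (q.out * (d.1 : K) * q.out⁻¹) * q.out = d.1 by group]
      exact d.1.2
    · rw [key D₂ hD2 q q' d d' h']
  have hle := Nat.card_le_card_of_injective f hf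
  have hcompl : ∀ (X : Type _) [Group X] [Finite X], Nat.card {d : X // d ≠ 1} = Nat.card X - 1 := by
    intro X _ _
    have := Fintype.ofFinite X
    rw [Nat.card_eq_fintype_card, Nat.card_eq_fintype_card, Fintype.card_subtype_compl,
      Fintype.card_subtype_eq]
  rw [Nat.card_sum, Nat.card_prod, Nat.card_prod, hcompl D₁, hcompl D₂, hcompl K,
    ← Subgroup.index_eq_card, ← Subgroup.index_eq_card] at hle
  have e1 := D₁.index_mul_card
  have e2 := D₂.index_mul_card
  have hK : 0 < Nat.card K := Nat.card_pos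
  obtain ⟨a, ha⟩ := Nat.exists_eq_add_of_le h1
  obtain ⟨b, hb⟩ := Nat.exists_eq_add_of_le h2
  rw [ha, show 2 + a - 1 = 1 + a by omega, hb, show 2 + b - 1 = 1 + b by omega] at hle
  rw [ha] at e1
  rw [hb] at e2
  have f1 : Nat.card K ≤ 2 * (D₁.index * (1 + a)) := by
    rw [← e1]; calc D₁.index * (2 + a) ≤ D₁.index * (2 * (1 + a)) := Nat.mul_le_mul_left _ (by omega)
      _ = 2 * (D₁.index * (1 + a)) := by ring
  have f2 : Nat.card K ≤ 2 * (D₂.index * (1 + b)) := by
    rw [← e2]; calc D₂.index * (2 + b) ≤ D₂.index * (2 * (1 + b)) := Nat.mul_le_mul_left _ (by omega)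
      _ = 2 * (D₂.index * (1 + b)) := by ring
  omega

/-- Subgroups whose order involves only primes of a TI Hall subgroup lie in a conjugate of it. -/
theorem exists_conj_le (hHall : (Nat.card H).Coprime H.index) (hTI : Cfsg.IsTISubset (H : Set G))
    (K : Subgroup G) (hK : ∀ q : ℕ, q.Prime → q ∣ Nat.card K → q ∣ Nat.card H) :
    ∃ g : G, K ≤ H.map (MulAut.conj g).toMonoidHom := by
  have hmem : ∀ g y : G, y ∈ H.map (MulAut.conj g).toMonoidHom ↔ g⁻¹ * y * g ∈ H := by
    intro g y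
    rw [Subgroup.mem_map_equiv, MulAut.conj_symm_apply]
  have hHall' : (Nat.card H).Coprime (H.subgroupOf (normalizer (H : Set G))).index :=
    hHall.coprime_dvd_right (Subgroup.relIndex_dvd_index_of_le Subgroup.le_normalizer)
  by_contra hcon
  push Not at hcon
  -- `D g = K ∩ gHg⁻¹`
  let D : G → Subgroup K := fun g => (H.map (MulAut.conj g).toMonoidHom).subgroupOf K
  have hDTI : ∀ g : G, ∀ k : K, k ∉ D g → ∀ d ∈ D g, k * d * k⁻¹ ∈ D g → d = 1 := by
    intro g k hk d hd hkd
    by_contra hd1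
    apply hk
    rw [mem_subgroupOf, hmem] at hd hkd ⊢
    refine mem_of_pi_element hHall' ?_ fun q hq hqd => hK q hq ?_
    · refine mem_normalizer_of_ti hTI hd (fun h => hd1 (Subtype.ext ?_)) ?_
      · calc (d : G) = g * (g⁻¹ * d * g) * g⁻¹ := by group
          _ = 1 := by rw [h]; group
      · convert hkd using 1
        push_cast
        group
    · rw [show g⁻¹ * (k : G) * g = (MulAut.conj g⁻¹) (k : G) by simp, MulEquiv.orderOf_eq] at hqd
      exact hqd.trans (Subgroup.orderOf_dvd_natCard _ k.2)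
  have hsyl : ∀ (t : ℕ) [Fact t.Prime] (T : Sylow t K), t ∣ Nat.card K →
      ∃ g, (T : Subgroup K) ≤ D g := by
    intro t _ T htK
    have ht := hK t Fact.out htK
    obtain ⟨S⟩ : Nonempty (Sylow t H) := inferInstance
    have hidx : ¬ t ∣ ((S : Subgroup H).map H.subtype).index := by
      rw [index_map_subtype]
      exact fun h => ((Fact.out : t.Prime).dvd_mul.1 h).elim S.not_dvd_index fun h' =>
        (Fact.out : t.Prime).ne_one (Nat.dvd_one.1 (hHall ▸ Nat.dvd_gcd ht h'))
    let S' : Sylow t G := (S.isPGroup'.map H.subtype).toSylow hidx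
    obtain ⟨T', hT'⟩ := (T.isPGroup'.map K.subtype).exists_le_sylow
    obtain ⟨g, hg⟩ := MulAction.exists_smul_eq G S' T'
    refine ⟨g, fun y hy => ?_⟩
    rw [mem_subgroupOf, hmem]
    have h1 := hT' (mem_map_of_mem K.subtype hy)
    rw [← hg] at h1
    obtain ⟨s, hs, hsy⟩ := h1
    change g * s * g⁻¹ = (y : G) at hsy
    rw [← hsy, show g⁻¹ * (g * s * g⁻¹) * g = s by group]
    exact map_subtype_le _ hs
  have hK1 : Nat.card K ≠ 1 := fun h => hcon 1 (by rw [Subgroup.card_eq_one.1 h]; exact bot_le)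
  set s := (Nat.card K).minFac with hsdef
  have hs : s.Prime := Nat.minFac_prime hK1
  have := Fact.mk hs
  obtain ⟨T₁⟩ : Nonempty (Sylow s K) := inferInstance
  obtain ⟨g₁, hg₁⟩ := hsyl s T₁ (Nat.minFac_dvd _)
  have hproper : ∀ g, (D g).index ≠ 1 := fun g h => hcon g fun y hy => by
    have := (Subgroup.index_eq_one.1 h).symm.le (mem_top (⟨y, hy⟩ : K))
    exact this
  set t := (D g₁).index.minFac with htdef
  have ht : t.Prime := Nat.minFac_prime (hproper g₁)
  have := Fact.mk ht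
  obtain ⟨T₂⟩ : Nonempty (Sylow t K) := inferInstance
  have htK : t ∣ Nat.card K := (Nat.minFac_dvd _).trans (D g₁).index_dvd_card
  obtain ⟨g₂, hg₂⟩ := hsyl t T₂ htK
  have h2 : ∀ (q : ℕ) [Fact q.Prime] (T : Sylow q K) (g : G), q ∣ Nat.card K → (T : Subgroup K) ≤ D g →
      2 ≤ Nat.card (D g) := by
    intro q _ T g hq hle
    have h0 := T.ne_bot_of_dvd_card hq
    have h1 : Nat.card (D g) ≠ 1 := fun h => h0 (le_bot_iff.1 (hle.trans (Subgroup.card_eq_one.1 h).le))
    have := Nat.card_pos (α := D g)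
    omega
  refine card_union_bound (D g₁) (D g₂) (h2 s T₁ g₁ (Nat.minFac_dvd _) hg₁) (h2 t T₂ g₂ htK hg₂)
    (hDTI g₁) (hDTI g₂) fun k d hd hkd => ?_
  by_contra hd1
  rw [mem_subgroupOf, hmem] at hd hkd
  have hd1' : (k : G) * d * (k : G)⁻¹ ≠ 1 := fun h => hd1 (Subtype.ext (conj_eq_one_iff.1 h))
  have hiff := ti_conj hTI (g₁ := (k : G) * g₁) (g₂ := g₂) hd1'
    (by convert hd using 1; group) (by convert hkd using 1; push_cast; group)
  -- so the conjugate of `D g₁` by `k` contains `T₂`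
  let e : ↥(T₂ : Subgroup K) → ↥(D g₁) := fun u => ⟨k⁻¹ * (u : K) * k, by
    rw [mem_subgroupOf, hmem]
    have h := (hiff u).2 ((hmem g₂ _).1 (hg₂ u.2))
    convert h using 1
    push_cast
    group⟩
  have hT : (Nat.card (T₂ : Subgroup K)) ∣ Nat.card (D g₁) := by
    let φ : ↥(T₂ : Subgroup K) →* ↥(D g₁) := MonoidHom.mk' e fun u v => Subtype.ext (by
      show k⁻¹ * ((u : K) * v) * k = k⁻¹ * u * k * (k⁻¹ * v * k); group)
    exact Subgroup.card_dvd_of_injective φ fun u v h =>
      Subtype.ext (mul_left_cancel (mul_right_cancel (congrArg Subtype.val h)))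
  apply T₂.not_dvd_index
  have h3 : (D g₁).index ∣ (T₂ : Subgroup K).index := by
    obtain ⟨c, hc⟩ := hT
    refine ⟨c, ?_⟩
    refine Nat.eq_of_mul_eq_mul_right (Nat.card_pos (α := (T₂ : Subgroup K))) ?_
    rw [(T₂ : Subgroup K).index_mul_card, ← (D g₁).index_mul_card, hc]
    ring
  exact (Nat.minFac_dvd _).trans h3

/-- The basic structure of a group that is `π`-separable for the primes of a TI Hall subgroup:
`G = O N(H)` and `O H` is normal, where `O` is the largest normal subgroup of order prime to `|H|`. -/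
theorem separable_structure (hTI : Cfsg.IsTISubset (H : Set G)) (hH : H ≠ ⊥)
    (hHall : (Nat.card H).Coprime H.index)
    (hsep : ∃ (n : ℕ) (M : Fin (n + 1) → Subgroup G), M 0 = ⊥ ∧ M (Fin.last n) = ⊤ ∧ Monotone M ∧
      (∀ i, (M i).Normal) ∧
      ∀ i : Fin n, (∀ q : ℕ, q.Prime → q ∣ (M i.castSucc).relIndex (M i.succ) → q ∣ Nat.card H) ∨
        ((M i.castSucc).relIndex (M i.succ)).Coprime (Nat.card H))
    (O : Subgroup G) (hO : O = sSup {K : Subgroup G | K.Normal ∧ (Nat.card K).Coprime (Nat.card H)}) :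
    O.Normal ∧ (Nat.card O).Coprime (Nat.card H) ∧ O ⊔ normalizer (H : Set G) = ⊤ ∧ (O ⊔ H).Normal := by
  classical
  obtain ⟨Z, hZ⟩ := (Set.toFinite {K : Subgroup G | K.Normal ∧ (Nat.card K).Coprime (Nat.card H)}).exists_maximal
    ⟨⊥, inferInstance, by rw [Subgroup.card_bot]; exact Nat.coprime_one_left _⟩
  obtain ⟨hZn, hZc⟩ := hZ.prop
  have hsupc : ∀ X : Subgroup G, X.Normal → (Nat.card X).Coprime (Nat.card H) →
      (Nat.card ↥(Z ⊔ X)).Coprime (Nat.card H) := by
    intro X hX hXc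
    rw [sup_comm, ← card_mul_relIndex le_sup_right, relIndex_sup_right]
    exact Nat.Coprime.mul_left hZc (hXc.coprime_dvd_left (relIndex_dvd_card _ _))
  have hOZ : O = Z := by
    rw [hO]
    refine le_antisymm (sSup_le fun X hX => ?_) (le_sSup hZ.prop)
    have := hX.1
    exact le_sup_right.trans (hZ.le_of_ge ⟨inferInstance, hsupc X hX.1 hX.2⟩ le_sup_left)
  subst hOZ
  refine ⟨hZn, hZc, ?_⟩
  have hH1 : Nat.card H ≠ 1 := fun h => hH (Subgroup.card_eq_one.1 h)
  obtain ⟨n, M, hM0, hMn, hMmono, hMnor, hMcase⟩ := hsep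
  obtain ⟨i, hi, hi'⟩ : ∃ i : Fin n, M i.castSucc ≤ O ∧ ¬ M i.succ ≤ O := by
    by_contra hc
    push Not at hc
    have hall : ∀ i, M i ≤ O := fun i => by
      induction i using Fin.induction with
      | zero => rw [hM0]; exact bot_le
      | succ i ih => exact hc i ih
    have h := hall (Fin.last n)
    rw [hMn, top_le_iff] at h
    rw [h, Subgroup.card_top] at hZc
    exact hH1 (Nat.dvd_one.1 (hZc ▸ Nat.dvd_gcd (Subgroup.card_subgroup_dvd_card H) dvd_rfl))
  have := hMnor i.succ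
  set K := O ⊔ M i.succ with hK
  have hKn : K.Normal := inferInstance
  have hrel : O.relIndex K ∣ (M i.castSucc).relIndex (M i.succ) := by
    rw [hK, sup_comm, relIndex_sup_right]
    exact relIndex_dvd_of_le_left _ hi
  have hcardK : Nat.card K = Nat.card O * O.relIndex K := (card_mul_relIndex le_sup_left).symm
  have hpi : ∀ q : ℕ, q.Prime → q ∣ O.relIndex K → q ∣ Nat.card H := by
    rcases hMcase i with h | h
    · exact fun q hq hqd => h q hq (hqd.trans hrel)
    · exfalso
      apply hi'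
      have hKc : (Nat.card K).Coprime (Nat.card H) := by
        rw [hcardK]; exact Nat.Coprime.mul_left hZc (h.coprime_dvd_left hrel)
      exact le_sup_right.trans (hZ.le_of_ge ⟨hKn, hKc⟩ le_sup_left)
  have hrel1 : O.relIndex K ≠ 1 := fun h => hi' (le_sup_right.trans (Subgroup.relIndex_eq_one.1 h))
  -- the `π`-part of `K` is `K ∩ H`
  set X := H ⊓ K with hX
  have hXK : O ⊔ X = K := by
    refine Subgroup.eq_of_le_of_card_ge (sup_le le_sup_left inf_le_right) ?_
    have hco : (O.relIndex K).Coprime (H.relIndex K) := by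
      refine Nat.coprime_of_dvd fun q hq h1 h2 => hq.ne_one (Nat.dvd_one.1 (hHall ▸
        Nat.dvd_gcd (hpi q hq h1) (h2.trans ?_)))
      have e : H.relIndex (H ⊔ K) = H.relIndex K := by
        refine Nat.eq_of_mul_eq_mul_left (Nat.card_pos (α := H)) ?_
        have a1 : Nat.card H * H.relIndex (H ⊔ K) = Nat.card ↥(H ⊔ K) := card_mul_relIndex le_sup_left
        have a2 : Nat.card K * K.relIndex H = Nat.card ↥(H ⊔ K) := by
          rw [← relIndex_sup_right (H := H) (K := K), card_mul_relIndex le_sup_right]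
        have a3 : Nat.card X * H.relIndex K = Nat.card K := by
          rw [← inf_relIndex_right, card_mul_relIndex inf_le_right]
        have a4 : Nat.card X * K.relIndex H = Nat.card H := by
          rw [← inf_relIndex_right, inf_comm, card_mul_relIndex inf_le_left]
        rw [a1, ← a2, ← a4, ← a3]; ring
      rw [← e]
      exact Dvd.intro _ (relIndex_mul_index le_sup_left)
    have h1 : O.relIndex K ∣ Nat.card X := by
      have h3 : H.relIndex K * Nat.card X = Nat.card K := by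
        rw [hX, ← inf_relIndex_right, mul_comm, card_mul_relIndex inf_le_right]
      exact hco.dvd_of_dvd_mul_left (h3.symm ▸ Dvd.intro_left _ hcardK.symm)
    have h2 : Nat.card O * Nat.card X ∣ Nat.card ↥(O ⊔ X) :=
      (Nat.Coprime.coprime_dvd_right (Subgroup.card_dvd_of_le inf_le_left) hZc).mul_dvd_of_dvd_of_dvd
        (Subgroup.card_dvd_of_le le_sup_left) (Subgroup.card_dvd_of_le le_sup_right)
    rw [hcardK]
    exact Nat.le_of_dvd Nat.card_pos ((Nat.mul_dvd_mul_left _ h1).trans h2)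
  -- Frattini argument with a Sylow subgroup of `X`
  set s := (O.relIndex K).minFac
  have hs : s.Prime := Nat.minFac_prime hrel1
  have := Fact.mk hs
  obtain ⟨S⟩ : Nonempty (Sylow s X) := inferInstance
  have hsX : s ∣ Nat.card X := by
    have h1 : O.relIndex (O ⊔ X) ∣ Nat.card X := by
      rw [sup_comm, relIndex_sup_right]; exact relIndex_dvd_card _ _
    rw [hXK] at h1
    exact (Nat.minFac_dvd _).trans h1
  set S' := ((S : Subgroup X).map (inclusion (inf_le_right : X ≤ K))) with hS'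
  have hidx : ¬ s ∣ S'.index := by
    intro hd
    have h1 : Nat.card S' = Nat.card (S : Subgroup X) := card_map_of_injective (inclusion_injective _)
    have h2 := S'.index_mul_card
    rw [h1, hcardK] at h2
    have h3 : Nat.card X * (Nat.card O) = Nat.card O * O.relIndex K := by
      have h4 : O.relIndex K = Nat.card X := by
        have h5 : O.relIndex (O ⊔ X) = Nat.card X := by
          rw [sup_comm, relIndex_sup_right, Subgroup.relIndex, Subgroup.subgroupOf_eq_bot.2
            (Subgroup.disjoint_of_coprime_natCard (hZc.coprime_dvd_right (Subgroup.card_dvd_of_le inf_le_left))),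
            Subgroup.index_bot]
        rwa [hXK] at h5
      rw [h4, mul_comm]
    rw [← h3, ← (S : Subgroup X).index_mul_card, mul_right_comm] at h2
    rw [Nat.eq_of_mul_eq_mul_right Nat.card_pos h2] at hd
    exact (hs.dvd_mul.1 hd).elim S.not_dvd_index fun h' => hs.ne_one (Nat.dvd_one.1
      (hZc ▸ Nat.dvd_gcd h' (hpi s hs (Nat.minFac_dvd _))))
  let SK : Sylow s K := (S.isPGroup'.map _).toSylow hidx
  have hfr := Sylow.normalizer_sup_eq_top SK
  have hS1 : (S : Subgroup X) ≠ ⊥ := S.ne_bot_of_dvd_card hsX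
  obtain ⟨y, hy, hy1⟩ := (S : Subgroup X).bot_or_exists_ne_one.resolve_left hS1
  have hle : normalizer ((((SK : Subgroup K).map K.subtype : Subgroup G)) : Set G) ≤ normalizer (H : Set G) := by
    intro g hg
    have hyS : (y : G) ∈ (SK : Subgroup K).map K.subtype := ⟨_, mem_map_of_mem _ hy, rfl⟩
    refine mem_normalizer_of_ti hTI y.2.1 (fun h => hy1 (Subtype.ext h)) ?_
    obtain ⟨_, ⟨u, -, rfl⟩, he⟩ := (mem_normalizer_iff.1 hg _).1 hyS
    rw [← he]
    exact u.2.1
  have htop : O ⊔ normalizer (H : Set G) = ⊤ := by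
    refine top_unique (hfr.symm.le.trans (sup_le (hle.trans le_sup_right) ?_))
    rw [← hXK]
    exact sup_le le_sup_left ((inf_le_left.trans Subgroup.le_normalizer).trans le_sup_right)
  refine ⟨htop, ?_⟩
  rw [← Subgroup.normalizer_eq_top_iff, eq_top_iff, ← htop]
  refine sup_le (le_sup_left.trans Subgroup.le_normalizer) fun g hg => ?_
  rw [mem_normalizer_iff_map_conj_eq, Subgroup.map_sup]
  congr 1
  · exact (mem_normalizer_iff_map_conj_eq.1 (by rw [Subgroup.normalizer_eq_top_iff.2 hZn]; exact mem_top g))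
  · exact mem_normalizer_iff_map_conj_eq.1 hg

end CfsgLib.TIHall
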