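import Cfsg.Agent.FGSB.ThreeCounts
import Cfsg.Agent.FGSB.SemiregularPair
import Cfsg.Agent.Solvable.Basics
import Cfsg.Prelude.Def_Solvable

/-!
Odd order, two primes, three same-order counts: Frobenius groups with complement of prime order.
-/

set_option autoImplicit false
set_option linter.style.haveILetI false
set_option linter.unusedSectionVars false

namespace CfsgLib.ThreeCounts

open Subgroup
open scoped Pointwise

variable {G : Type*} [Group G] [Finite G]

/-- Conjugation action of a subgroup on the elements of a given order. -/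
@[reducible] def conjOrder (H : Subgroup G) (m : ℕ) : MulAction ↥H {g : G // orderOf g = m} where
  smul h g := ⟨(h : G) * g.1 * (h : G)⁻¹, by rw [← MulAut.conj_apply, MulEquiv.orderOf_eq, g.2]⟩
  one_smul g := Subtype.ext (by show ((1 : H) : G) * g.1 * ((1 : H) : G)⁻¹ = g.1; simp)
  mul_smul h k g := Subtype.ext (by
    show ((h * k : H) : G) * g.1 * ((h * k : H) : G)⁻¹ = (h : G) * ((k : G) * g.1 * (k : G)⁻¹) * (h : G)⁻¹
    simp [mul_assoc])

/-- A `p`-group centralizing no element of order `m` has `p` dividing their number. -/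
theorem cnt_eq_zero_of_free {p : ℕ} [Fact p.Prime] {H : Subgroup G} (hH : IsPGroup p H) (m : ℕ)
    (hfree : ∀ g : G, orderOf g = m → ¬ ∀ h ∈ H, Commute h g) : (cnt G m : ZMod p) = 0 := by
  letI := conjOrder H m
  have hemp : IsEmpty (MulAction.fixedPoints ↥H {g : G // orderOf g = m}) := ⟨fun g => by
    refine hfree g.1.1 g.1.2 fun h hh => ?_
    exact mul_inv_eq_iff_eq_mul.1 (congrArg Subtype.val (g.2 ⟨h, hh⟩))⟩
  have h1 := hH.card_modEq_card_fixedPoints {g : G // orderOf g = m}
  rw [show Nat.card (MulAction.fixedPoints ↥H {g : G // orderOf g = m}) = 0 from Nat.card_of_isEmpty] at h1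
  exact ((ZMod.natCast_eq_natCast_iff _ _ _).2 h1).trans Nat.cast_zero

theorem exists_commute_mul {p q : ℕ} {x y : G} (hpq : p.Coprime q) (hx : orderOf x = p) (hy : orderOf y = q)
    (hxy : Commute x y) : orderOf (x * y) = p * q := by
  rw [hxy.orderOf_mul_eq_mul_orderOf_of_coprime (by rw [hx, hy]; exact hpq), hx, hy]

/-- If some element of order `p` is centralized by a Sylow `q`-subgroup, the elements of order `p q`
outnumber those of order `q`. -/
theorem centralized_false {p q : ℕ} [hp : Fact p.Prime] [hq : Fact q.Prime] (hpq : p ≠ q) (hp2 : p ≠ 2)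
    (hqG : q ∣ Nat.card G) (hpf : (cnt G p : ZMod q) ≠ 0) (heq : cnt G (p * q) = cnt G q) : False := by
  classical
  obtain ⟨Q⟩ : Nonempty (Sylow q G) := inferInstance
  obtain ⟨x, hx, hxQ⟩ : ∃ x : G, orderOf x = p ∧ ∀ h ∈ (Q : Subgroup G), Commute h x := by
    by_contra hcon
    push Not at hcon
    exact hpf (cnt_eq_zero_of_free Q.2 p fun g hg hall => by
      obtain ⟨h, hh, hne⟩ := hcon g hg
      exact hne (hall h hh))
  have hall : ∀ y : {g : G // orderOf g = q}, ∃ u : G, orderOf u = p ∧ Commute u y.1 := by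
    rintro ⟨y, hy⟩
    have hyp : IsPGroup q (zpowers y) := IsPGroup.of_card (n := 1) (by rw [Nat.card_zpowers, hy, pow_one])
    obtain ⟨R, hR⟩ := hyp.exists_le_sylow
    obtain ⟨g, hg⟩ := MulAction.exists_smul_eq G Q R
    have hyR : y ∈ (R : Subgroup G) := hR (mem_zpowers y)
    rw [← hg, Sylow.coe_subgroup_smul] at hyR
    obtain ⟨w, hw, e⟩ := (Subgroup.mem_smul_pointwise_iff_exists _ _ _).1 hyR
    refine ⟨g * x * g⁻¹, by rw [← MulAut.conj_apply, MulEquiv.orderOf_eq, hx], ?_⟩
    show Commute (g * x * g⁻¹) y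
    rw [← e]
    show (g * x * g⁻¹) * (g * w * g⁻¹) = (g * w * g⁻¹) * (g * x * g⁻¹)
    calc g * x * g⁻¹ * (g * w * g⁻¹) = g * (x * w) * g⁻¹ := by group
      _ = g * (w * x) * g⁻¹ := by rw [(hxQ w hw).eq]
      _ = _ := by group
  choose u hu using hall
  have hcop : p.Coprime q := (Nat.coprime_primes hp.out hq.out).2 hpq
  let pick : {g : G // orderOf g = q} → Bool → G := fun y i => cond i (u y) (u y)⁻¹
  have hpick : ∀ y i, orderOf (pick y i) = p ∧ Commute (pick y i) y.1 := by
    intro y i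
    cases i
    · exact ⟨by show orderOf (u y)⁻¹ = p; rw [orderOf_inv, (hu y).1], (hu y).2.inv_left⟩
    · exact hu y
  let φ : {g : G // orderOf g = q} × Bool → {g : G // orderOf g = p * q} := fun w =>
    ⟨pick w.1 w.2 * w.1.1, exists_commute_mul hcop (hpick _ _).1 w.1.2 (hpick _ _).2⟩
  have hφ : Function.Injective φ := by
    rintro ⟨y, i⟩ ⟨y', i'⟩ e
    have e' : pick y i * y.1 = pick y' i' * y'.1 := congrArg Subtype.val e
    have e1 := congrArg (fun t : G => t ^ p) e'
    simp only [(hpick y i).2.mul_pow, (hpick y' i').2.mul_pow] at e1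
    rw [← (hpick y i).1, pow_orderOf_eq_one, one_mul, (hpick y i).1, ← (hpick y' i').1, pow_orderOf_eq_one,
      one_mul, (hpick y' i').1] at e1
    obtain ⟨k, hk⟩ := exists_pow_eq_self_of_coprime (x := y.1) (n := p) (by rw [y.2]; exact hcop)
    obtain ⟨k', hk'⟩ := exists_pow_eq_self_of_coprime (x := y'.1) (n := p) (by rw [y'.2]; exact hcop)
    have h2 : y.1 = y'.1 := by
      have h3 : (y.1 ^ p) ^ k = (y'.1 ^ p) ^ k := by rw [e1]
      have h4 : (y'.1 ^ p) ^ k = y'.1 := by
        obtain ⟨j, hj⟩ : y'.1 ∈ zpowers y.1 := by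
          rw [← hk']
          refine pow_mem ?_ _
          rw [← e1]
          exact npow_mem_zpowers _ _
        have hj' : y.1 ^ j = y'.1 := hj
        rw [← pow_mul, ← hj', ← zpow_natCast, ← zpow_mul, mul_comm, zpow_mul, zpow_natCast, pow_mul, hk]
      rwa [hk, h4] at h3
    obtain rfl : y = y' := Subtype.ext h2
    refine Prod.ext rfl ?_
    have e2 : pick y i = pick y i' := mul_right_cancel e'
    by_contra hne
    have e3 : u y = (u y)⁻¹ := by
      cases i <;> cases i' <;> first | exact absurd rfl hne | exact e2 | exact e2.symm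
    have h5 : orderOf (u y) ∣ 2 := orderOf_dvd_of_pow_eq_one (by
      rw [pow_two]; nth_rw 1 [e3]; rw [inv_mul_cancel])
    rw [(hu y).1] at h5
    exact hp2 ((Nat.prime_dvd_prime_iff_eq hp.out Nat.prime_two).1 h5)
  have h6 := Nat.card_le_card_of_injective φ hφ
  rw [Nat.card_prod, Nat.card_eq_fintype_card (α := Bool), Fintype.card_bool] at h6
  have h7 : cnt G q ≠ 0 := cnt_pos_iff.2 (exists_prime_orderOf_dvd_card' q hqG)
  change cnt G q * 2 ≤ cnt G (p * q) at h6
  omega

theorem no_mixed (hodd : Odd (Nat.card G)) {a b p q : ℕ} (hv : TwoValued G a b) [hp : Fact p.Prime]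
    [hq : Fact q.Prime] (hpq : p ≠ q) (hpG : p ∣ Nat.card G) (hqG : q ∣ Nat.card G)
    (ha : cnt G p = a) (hb : cnt G q = b) {x y : G} (hx : orderOf x = p) (hy : orderOf y = q) :
    ¬ Commute x y := by
  intro hxy
  have hne2 : ∀ r, r ∣ Nat.card G → r ≠ 2 := fun r hr e =>
    Nat.not_even_iff_odd.2 hodd (even_iff_two_dvd.2 (e ▸ hr))
  have hcop : p.Coprime q := (Nat.coprime_primes hp.out hq.out).2 hpq
  have hN : cnt G (p * q) ≠ 0 := cnt_pos_iff.2 ⟨_, exists_commute_mul hcop hx hy hxy⟩
  have hap : (a : ZMod p) = -1 := ha ▸ sum_prime hp.out hpG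
  have hbq : (b : ZMod q) = -1 := hb ▸ sum_prime hq.out hqG
  have h2 : 2 < p * q := by
    have := hp.out.two_le
    have h := hq.out.two_le
    calc 2 < 2 * 2 := by norm_num
      _ ≤ p * q := Nat.mul_le_mul this h
  rcases (hv _ h2).resolve_left hN with e | e
  · have h := sum_two (G := G) (r := p) hp.out hq.out hpq (dvd_mul_right p q) hpG hqG
    rw [ha, hb, e, hap] at h
    refine centralized_false (p := q) (q := p) (Ne.symm hpq) (hne2 q hqG) hpG ?_ (by rw [mul_comm, e, ha])
    rw [hb, show (b : ZMod p) = 1 by linear_combination h]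
    exact one_ne_zero
  · have h := sum_two (G := G) (r := q) hp.out hq.out hpq (dvd_mul_left q p) hpG hqG
    rw [ha, hb, e, hbq] at h
    refine centralized_false hpq (hne2 p hpG) hqG ?_ (by rw [e, hb])
    rw [ha, show (a : ZMod q) = 1 by linear_combination h]
    exact one_ne_zero

theorem no_square (hodd : Odd (Nat.card G)) {a b p q : ℕ} (hv : TwoValued G a b) [hp : Fact p.Prime]
    [hq : Fact q.Prime] (hpG : p ∣ Nat.card G) (hqG : q ∣ Nat.card G)
    (ha : cnt G p = a) (hb : cnt G q = b) (hmix : ∀ x y : G, orderOf x = p → orderOf y = q → ¬ Commute x y)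
    (g : G) : orderOf g ≠ p ^ 2 := by
  intro hg
  have hap : (a : ZMod p) = -1 := ha ▸ sum_prime hp.out hpG
  have hbq : (b : ZMod q) = -1 := hb ▸ sum_prime hq.out hqG
  have hN : cnt G (p ^ 2) ≠ 0 := cnt_pos_iff.2 ⟨g, hg⟩
  have h2 : 2 < p ^ 2 := by nlinarith [hp.out.two_le]
  have hp0 : (cnt G (p ^ 2) : ZMod p) = 0 := by
    rw [ZMod.natCast_eq_zero_iff]
    refine dvd_trans ?_ (totient_dvd_cnt (by omega))
    rw [Nat.totient_prime_pow hp.out two_pos]
    exact (dvd_pow_self p one_ne_zero).mul_right _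
  obtain ⟨Q⟩ : Nonempty (Sylow q G) := inferInstance
  obtain ⟨y, hy⟩ := exists_prime_orderOf_dvd_card' q (Q.dvd_card_of_dvd_card hqG)
  have hq0 : (cnt G (p ^ 2) : ZMod q) = 0 := cnt_eq_zero_of_free Q.2 _ fun z hz hall => by
    refine hmix (z ^ p) (y : G) ?_ (by rw [orderOf_coe, hy]) ((hall _ y.2).symm.pow_left p)
    rw [orderOf_pow' _ hp.out.ne_zero, hz, Nat.gcd_eq_right (dvd_pow_self p two_ne_zero), pow_two,
      Nat.mul_div_cancel _ hp.out.pos]
  rcases (hv _ h2).resolve_left hN with e | e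
  · rw [e, hap] at hp0
    exact one_ne_zero (by linear_combination -hp0)
  · rw [e, hbq] at hq0
    exact one_ne_zero (by linear_combination -hq0)

/-- Orders in the odd two prime case, and a Frobenius complement of order `q`. -/
theorem complement {p q : ℕ} [hp : Fact p.Prime] [hq : Fact q.Prime] (hpq : p ≠ q)
    (honly : ∀ g : G, g ≠ 1 → orderOf g = p ∨ orderOf g = q)
    (hmix : ∀ x y : G, orderOf x = p → orderOf y = q → ¬ Commute x y)
    (hqG : q ∣ Nat.card G) (W : Subgroup G) [hWn : W.Normal] (hW1 : W ≠ ⊥) [IsMulCommutative W]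
    (hWp : IsPGroup p W) : ∃ C : Subgroup G, Cfsg.IsFrobeniusComplement C ∧ (Nat.card C).Prime := by
  classical
  letI : CommGroup W := { (inferInstance : Group W) with mul_comm := fun a b => IsMulCommutative.is_comm.comm a b }
  obtain ⟨Q⟩ : Nonempty (Sylow q G) := inferInstance
  let φ : G →* MulAut W := MulAut.conjNormal
  have hcop : p.Coprime q := (Nat.coprime_primes hp.out hq.out).2 hpq
  have hQord : ∀ y ∈ (Q : Subgroup G), y ≠ 1 → orderOf y = q := by
    intro y hy hy1
    obtain ⟨k, hk⟩ := IsPGroup.iff_orderOf.1 Q.2 ⟨y, hy⟩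
    rw [orderOf_mk] at hk
    refine (honly y hy1).resolve_left fun e => hpq ?_
    rw [e] at hk
    rcases k with _ | k
    · exact absurd (by simpa using hk) hp.out.one_lt.ne'
    · exact ((Nat.prime_dvd_prime_iff_eq hq.out hp.out).1 (hk ▸ dvd_pow_self q (Nat.succ_ne_zero k))).symm
  have hWord : ∀ v : W, v ≠ 1 → orderOf (v : G) = p := by
    intro v hv
    obtain ⟨k, hk⟩ := IsPGroup.iff_orderOf.1 hWp v
    rw [← orderOf_coe] at hk
    refine (honly (v : G) (fun e => hv (Subtype.ext e))).resolve_right fun e => hpq ?_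
    rw [e] at hk
    rcases k with _ | k
    · exact absurd (by simpa using hk) hq.out.one_lt.ne'
    · exact (Nat.prime_dvd_prime_iff_eq hp.out hq.out).1 (hk ▸ dvd_pow_self p (Nat.succ_ne_zero k))
  have hfix : ∀ y ∈ (Q : Subgroup G), y ≠ 1 → ∀ v : W, φ y v = v → v = 1 := by
    intro y hy hy1 v hv
    by_contra hv1
    refine hmix v y (hWord v hv1) (hQord y hy hy1) ?_
    have := congrArg Subtype.val hv
    rw [MulAut.conjNormal_apply] at this
    exact (mul_inv_eq_iff_eq_mul.1 this).symm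
  have hsemi : CfsgLib.SemiregularPair.Semi (φ.comp (Q : Subgroup G).subtype) (⊥ : Subgroup W) :=
    ⟨fun γ z hz => by rw [mem_bot.1 hz, map_one], fun γ hγ v hv =>
      mem_bot.2 (hfix γ γ.2 (fun e => hγ (Subtype.ext e)) v hv)⟩
  obtain ⟨y₀, hy₀⟩ := exists_prime_orderOf_dvd_card' q (Q.dvd_card_of_dvd_card hqG)
  haveI : Nontrivial (Q : Subgroup G) := nontrivial_of_ne y₀ 1 fun e => by
    rw [e, orderOf_one] at hy₀; exact hq.out.one_lt.ne hy₀
  obtain ⟨c, hc, hc1⟩ := (bot_or_exists_ne_one (center ↥(Q : Subgroup G))).resolve_left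
    ((nontrivial_iff_ne_bot _).1 Q.2.center_nontrivial)
  have hqp : ∀ d : (Q : Subgroup G), d ^ q = 1 := fun d => by
    by_cases hd : d = 1
    · rw [hd, one_pow]
    · exact Subtype.ext (by
        rw [coe_pow]
        exact orderOf_dvd_iff_pow_eq_one.1 (dvd_of_eq (hQord d d.2 (fun e => hd (Subtype.ext e)))))
  have hQz : ∀ d : (Q : Subgroup G), d ∈ zpowers c := fun d => by
    by_contra hd
    refine CfsgLib.SemiregularPair.no_two_generators hsemi hWp ?_ hq.out hcop.symm
      (mem_center_iff.1 hc d).symm (hqp c) hc1 (hqp d) hd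
    intro e
    refine hW1 (eq_bot_iff.2 fun v hv => mem_bot.2 ?_)
    have h : (⟨v, hv⟩ : W) ∈ (⊥ : Subgroup W) := by rw [e]; exact mem_top _
    rw [mem_bot] at h
    exact congrArg Subtype.val h
  have hQc : Nat.card (Q : Subgroup G) = q := by
    rw [← orderOf_eq_card_of_forall_mem_zpowers hQz]
    exact orderOf_eq_prime (hqp c) hc1
  -- nothing of order `p` normalises `Q`
  have hNQ : normalizer ((Q : Subgroup G) : Set G) ≤ (Q : Subgroup G) := by
    intro g hg
    by_cases hg1 : g = 1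
    · exact hg1 ▸ one_mem _
    rcases honly g hg1 with hgo | hgo
    swap
    · have hsup : IsPGroup q ↥((zpowers g) ⊔ (Q : Subgroup G)) :=
        (IsPGroup.of_card (n := 1) (by rw [Nat.card_zpowers, hgo, pow_one])).to_sup_of_normal_right' Q.2
          (zpowers_le.2 hg)
      exact Q.3 hsup le_sup_right ▸ mem_sup_left (mem_zpowers g)
    exfalso
    refine hW1 (eq_bot_iff.2 fun v hv => mem_bot.2 ?_)
    set w : W := ⟨v, hv⟩
    haveI : Fintype (Q : Subgroup G) := Fintype.ofFinite _
    have hnorm : ∀ x' : G, orderOf x' = p → ∏ i ∈ Finset.range p, φ (x' ^ i) w = 1 := by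
      intro x' hx'
      have hform : ∀ k : ℕ, ((w : G) * x') ^ k = ((∏ i ∈ Finset.range k, φ (x' ^ i) w : W) : G) * x' ^ k := by
        intro k
        induction k with
        | zero => simp
        | succ k ih =>
          rw [pow_succ, ih, Finset.prod_range_succ, Subgroup.coe_mul,
            show (φ (x' ^ k) w : G) = x' ^ k * w * (x' ^ k)⁻¹ from MulAut.conjNormal_apply _ _, pow_succ]
          group
      have hwx : ((w : G) * x') ^ p = 1 := by
        by_cases h1 : (w : G) * x' = 1
        · rw [h1, one_pow]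
        have hp' : IsPGroup p ↥(W ⊔ zpowers x') := hWp.to_sup_of_normal_left
          (IsPGroup.of_card (n := 1) (by rw [Nat.card_zpowers, hx', pow_one]))
        obtain ⟨k, hk⟩ := IsPGroup.iff_orderOf.1 hp'
          ⟨(w : G) * x', mul_mem (mem_sup_left w.2) (mem_sup_right (mem_zpowers x'))⟩
        rw [orderOf_mk] at hk
        rcases honly _ h1 with e | e
        · rw [← e, pow_orderOf_eq_one]
        · rw [e] at hk
          rcases k with _ | k
          · exact absurd (by simpa using hk) hq.out.one_lt.ne'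
          · exact absurd ((Nat.prime_dvd_prime_iff_eq hp.out hq.out).1 (hk ▸ dvd_pow_self p (Nat.succ_ne_zero k))) hpq
      rw [hform, ← hx', pow_orderOf_eq_one, mul_one, hx'] at hwx
      exact Subtype.ext hwx
    have htot : ∏ i ∈ Finset.range p, ∏ y : (Q : Subgroup G), φ (((y : G) * g * (y : G)⁻¹) ^ i) w = 1 := by
      rw [Finset.prod_comm]
      exact Finset.prod_eq_one fun y _ => hnorm _ (by rw [← MulAut.conj_apply, MulEquiv.orderOf_eq, hgo])
    rw [Finset.prod_eq_single 0 (fun i hi hi0 => ?_) (fun h => absurd (Finset.mem_range.2 hp.out.pos) h)] at htot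
    · simp only [pow_zero, map_one, MulAut.one_apply, Finset.prod_const, Finset.card_univ] at htot
      rw [← Nat.card_eq_fintype_card, hQc] at htot
      have h1 := orderOf_dvd_of_pow_eq_one htot
      obtain ⟨k, hk⟩ := IsPGroup.iff_orderOf.1 hWp w
      have : w = 1 := orderOf_eq_one_iff.1 (Nat.eq_one_of_dvd_coprimes (hcop.pow_left k) hk.dvd h1)
      exact congrArg Subtype.val this
    · -- a coset of `Q` sums to a fixed point
      set t := g ^ i with ht
      have htN : t ∈ normalizer ((Q : Subgroup G) : Set G) := pow_mem hg i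
      have hto : orderOf t = p := orderOf_eq_prime (by rw [ht, ← pow_mul, mul_comm, pow_mul, ← hgo, pow_orderOf_eq_one, one_pow])
        (fun e => hi0 (Nat.eq_zero_of_dvd_of_lt (hgo ▸ orderOf_dvd_of_pow_eq_one e) (Finset.mem_range.1 hi)))
      let σ : ↥(Q : Subgroup G) → ↥(Q : Subgroup G) := fun y =>
        ⟨(y : G) * (t * (y : G)⁻¹ * t⁻¹), mul_mem y.2 ((mem_normalizer_iff.1 htN _).1 (inv_mem y.2))⟩
      have hσ : Function.Bijective σ := by
        rw [← Finite.injective_iff_bijective]
        intro y y' e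
        by_contra hne
        have e' : (y : G) * (t * (y : G)⁻¹ * t⁻¹) = (y' : G) * (t * (y' : G)⁻¹ * t⁻¹) := congrArg Subtype.val e
        refine hmix t ((y' : G)⁻¹ * y) hto
          (hQord _ (mul_mem (inv_mem y'.2) y.2) (fun e1 => hne (Subtype.ext (inv_mul_eq_one.1 e1).symm))) ?_
        show t * ((y' : G)⁻¹ * y) = (y' : G)⁻¹ * y * t
        have e2 : (y : G) * t * (y : G)⁻¹ = (y' : G) * t * (y' : G)⁻¹ :=
          mul_right_cancel (b := t⁻¹) (by simpa [mul_assoc] using e')
        calc t * ((y' : G)⁻¹ * y) = (y' : G)⁻¹ * ((y' : G) * t * (y' : G)⁻¹) * y := by group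
          _ = (y' : G)⁻¹ * ((y : G) * t * (y : G)⁻¹) * y := by rw [e2]
          _ = (y' : G)⁻¹ * y * t := by group
      have e1 : ∏ y : (Q : Subgroup G), φ (((y : G) * g * (y : G)⁻¹) ^ i) w =
          ∏ y : (Q : Subgroup G), φ (y : G) (φ t w) := by
        refine Fintype.prod_bijective σ hσ _ _ fun y => ?_
        rw [← MulAut.mul_apply, ← map_mul, conj_pow, ← ht]
        congr 2
        show (y : G) * t * (y : G)⁻¹ = (y : G) * (t * (y : G)⁻¹ * t⁻¹) * t
        group
      rw [e1]
      refine hfix c c.2 (fun e => hc1 (Subtype.ext e)) _ ?_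
      rw [map_prod]
      exact Fintype.prod_equiv (Equiv.mulLeft c) _ _ fun y => by
        rw [Equiv.coe_mulLeft, Subgroup.coe_mul, map_mul, MulAut.mul_apply]
  refine ⟨Q, ⟨fun e => ?_, fun e => ?_, fun g hg => ?_⟩, hQc.symm ▸ hq.out⟩
  · rw [e, card_bot] at hQc
    exact hq.out.one_lt.ne hQc
  · obtain ⟨v, hv, hv1⟩ := (bot_or_exists_ne_one W).resolve_left hW1
    have h1 := hQord v (e ▸ mem_top v) hv1
    rw [hWord ⟨v, hv⟩ (fun h => hv1 (congrArg Subtype.val h))] at h1
    exact hpq h1
  · by_contra hne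
    haveI : Fact (Nat.card (Q : Subgroup G)).Prime := ⟨hQc.symm ▸ hq.out⟩
    have hsub : (Q : Subgroup G) ≤ MulAut.conj g • (Q : Subgroup G) := by
      intro z hz
      rcases Subgroup.eq_bot_or_eq_top_of_prime_card
        (((Q : Subgroup G) ⊓ MulAut.conj g • (Q : Subgroup G)).subgroupOf (Q : Subgroup G)) with h | h
      · refine absurd ?_ hne
        rw [eq_bot_iff]
        intro u hu
        have : (⟨u, (mem_inf.1 hu).1⟩ : (Q : Subgroup G)) = 1 := mem_bot.1 (h ▸ mem_subgroupOf.2 hu)
        exact mem_bot.2 (congrArg Subtype.val this)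
      · exact (mem_inf.1 (mem_subgroupOf.1 (h ▸ mem_top (⟨z, hz⟩ : (Q : Subgroup G))))).2
    refine hg (hNQ ?_)
    have hcard : Nat.card ↥(MulAut.conj g • (Q : Subgroup G)) ≤ Nat.card (Q : Subgroup G) :=
      (Nat.card_congr (Subgroup.equivSMul (MulAut.conj g) (Q : Subgroup G)).toEquiv).ge
    have e := eq_of_le_of_card_ge hsub hcard
    rw [mem_normalizer_iff_map_conj_eq]
    exact e.symm

/-- The structure in the two prime case. -/
theorem two_prime_structure (hodd : Odd (Nat.card G)) {a b : ℕ} (hv : TwoValued G a b)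
    (h2 : (Nat.card G).primeFactors.card = 2) :
    (∀ (p : ℕ) [Fact p.Prime] (P : Sylow p G), p ∣ Nat.card G → Monoid.exponent ↥(P : Subgroup G) = p) ∧
      ∃ C : Subgroup G, Cfsg.IsFrobeniusComplement C ∧ (Nat.card ↥C).Prime := by
  obtain ⟨p, q, hpq, hS⟩ := Finset.card_eq_two.1 h2
  have hp' : p ∈ (Nat.card G).primeFactors := by rw [hS]; simp
  have hq' : q ∈ (Nat.card G).primeFactors := by rw [hS]; simp
  rw [Nat.mem_primeFactors] at hp' hq'
  haveI := Fact.mk hp'.1
  haveI := Fact.mk hq'.1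
  have hne2 : ∀ r, r ∣ Nat.card G → r ≠ 2 := fun r hr e =>
    Nat.not_even_iff_odd.2 hodd (even_iff_two_dvd.2 (e ▸ hr))
  have hv' : TwoValued G b a := fun m hm => (hv m hm).imp_right Or.symm
  -- without loss of generality the value at `p` is `a`
  obtain ⟨a', b', hw, ha, hb⟩ : ∃ a' b', TwoValued G a' b' ∧ cnt G p = a' ∧ cnt G q = b' := by
    rcases prime_value hv hp'.1 (hne2 p hp'.2.1) hp'.2.1 with e1 | e1 <;>
      rcases prime_value hv hq'.1 (hne2 q hq'.2.1) hq'.2.1 with e2 | e2
    · exact (odd_same_false hodd hv hp'.1 hq'.1 hpq hp'.2.1 hq'.2.1 e1 e2).elim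
    · exact ⟨a, b, hv, e1, e2⟩
    · exact ⟨b, a, hv', e1, e2⟩
    · exact (odd_same_false hodd hv' hp'.1 hq'.1 hpq hp'.2.1 hq'.2.1 e1 e2).elim
  have hw' : TwoValued G b' a' := fun m hm => (hw m hm).imp_right Or.symm
  have hmix : ∀ x y : G, orderOf x = p → orderOf y = q → ¬ Commute x y := fun x y =>
    no_mixed hodd hw hpq hp'.2.1 hq'.2.1 ha hb
  have hmix' : ∀ x y : G, orderOf x = q → orderOf y = p → ¬ Commute x y := fun x y hx hy h =>
    hmix y x hy hx h.symm
  have hs1 := no_square hodd hw hp'.2.1 hq'.2.1 ha hb hmix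
  have hs2 := no_square hodd hw' hq'.2.1 hp'.2.1 hb ha hmix'
  have hpow : ∀ (x : G) (d : ℕ), d ∣ orderOf x → orderOf (x ^ (orderOf x / d)) = d := fun x d hd => by
    have h0 : orderOf x / d ≠ 0 := (Nat.div_pos (Nat.le_of_dvd (orderOf_pos x) hd)
      (Nat.pos_of_ne_zero (fun e => (orderOf_pos x).ne' (zero_dvd_iff.1 (e ▸ hd))))).ne'
    rw [orderOf_pow' _ h0, Nat.gcd_eq_right (Nat.div_dvd_of_dvd hd), Nat.div_div_self hd (orderOf_pos x).ne']
  have honly : ∀ g : G, g ≠ 1 → orderOf g = p ∨ orderOf g = q := by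
    intro g hg
    have hprimes : ∀ r : ℕ, r.Prime → r ∣ orderOf g → r = p ∨ r = q := fun r hr hrg => by
      have : r ∈ (Nat.card G).primeFactors :=
        Nat.mem_primeFactors.2 ⟨hr, hrg.trans (_root_.orderOf_dvd_natCard g), Nat.card_pos.ne'⟩
      rw [hS] at this
      simpa using this
    have hnoboth : ¬ (p ∣ orderOf g ∧ q ∣ orderOf g) := fun h =>
      hmix _ _ (hpow g p h.1) (hpow g q h.2) (Commute.pow_pow_self g _ _)
    have key : ∀ r : ℕ, r.Prime → r ∣ orderOf g → (∀ z : G, orderOf z ≠ r ^ 2) →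
        (∀ t : ℕ, t.Prime → t ∣ orderOf g → t = r) → orderOf g = r := by
      intro r hr hrg hsq honly'
      have h1 := Nat.eq_prime_pow_of_unique_prime_dvd (orderOf_pos g).ne' (fun {t} ht htd => honly' t ht htd)
      rcases hk : (orderOf g).primeFactorsList.length with _ | _ | k
      · rw [hk, pow_zero] at h1; exact absurd (orderOf_eq_one_iff.1 h1) hg
      · rw [hk] at h1; simpa using h1
      · exfalso
        rw [hk] at h1
        exact hsq _ (hpow g (r ^ 2) (by rw [h1]; exact pow_dvd_pow r (by omega)))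
    obtain ⟨r, hr, hrg⟩ := Nat.exists_prime_and_dvd (fun e => hg (orderOf_eq_one_iff.1 e))
    rcases hprimes r hr hrg with rfl | rfl
    · exact Or.inl (key r hr hrg hs1 fun t ht htg => (hprimes t ht htg).resolve_right fun e => hnoboth ⟨hrg, e ▸ htg⟩)
    · exact Or.inr (key r hr hrg hs2 fun t ht htg => (hprimes t ht htg).resolve_left fun e => hnoboth ⟨e ▸ htg, hrg⟩)
  refine ⟨fun r _ P hr => ?_, ?_⟩
  · have hrp := (Fact.out : r.Prime)
    obtain ⟨u, hu⟩ := exists_prime_orderOf_dvd_card' r (P.dvd_card_of_dvd_card hr)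
    refine Nat.dvd_antisymm (Monoid.exponent_dvd_of_forall_pow_eq_one fun x => ?_) (by have h := Monoid.order_dvd_exponent u; rwa [hu] at h)
    by_cases hx : x = 1
    · rw [hx, one_pow]
    obtain ⟨k, hk⟩ := IsPGroup.iff_orderOf.1 P.2 x
    have h1 : (orderOf x).Prime := by
      rw [← orderOf_coe]
      rcases honly (x : G) (fun e => hx (Subtype.ext e)) with e | e <;> rw [e]
      · exact hp'.1
      · exact hq'.1
    rw [hk] at h1
    rw [Nat.Prime.eq_one_of_pow h1, pow_one] at hk
    exact orderOf_dvd_iff_pow_eq_one.1 (dvd_of_eq hk)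
  · haveI : Group.IsSolvable G := isSolvable_of_primeFactors_le h2.le
    haveI : Nontrivial G := by
      obtain ⟨u, hu⟩ := exists_prime_orderOf_dvd_card' p hp'.2.1
      exact nontrivial_of_ne u 1 fun e => by rw [e, orderOf_one] at hu; exact hp'.1.one_lt.ne hu
    obtain ⟨W, hWn, hW1, -, hWc, -, r, hr, -, hWr⟩ :=
      CfsgLib.Solvable.exists_normal_elementary_le (N := (⊤ : Subgroup G)) top_ne_bot inferInstance
    haveI := hWn
    haveI := hWc
    haveI := Fact.mk hr
    obtain ⟨v, hv, hv1⟩ := (bot_or_exists_ne_one W).resolve_left hW1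
    obtain ⟨k, hk⟩ := IsPGroup.iff_orderOf.1 hWr ⟨v, hv⟩
    rw [orderOf_mk] at hk
    rcases honly v hv1 with e | e <;> rw [e] at hk
    · obtain rfl : r = p := by
        rcases k with _ | k
        · exact absurd (by simpa using hk) hp'.1.one_lt.ne'
        · exact (Nat.prime_dvd_prime_iff_eq hr hp'.1).1 (hk ▸ dvd_pow_self r (Nat.succ_ne_zero k))
      exact complement hpq honly hmix hq'.2.1 W hW1 hWr
    · obtain rfl : r = q := by
        rcases k with _ | k
        · exact absurd (by simpa using hk) hq'.1.one_lt.ne'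
        · exact (Nat.prime_dvd_prime_iff_eq hr hq'.1).1 (hk ▸ dvd_pow_self r (Nat.succ_ne_zero k))
      exact complement (Ne.symm hpq) (fun g hg => (honly g hg).symm) hmix' hp'.2.1 W hW1 hWr

end CfsgLib.ThreeCounts
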