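import Cfsg.Agent.FGSB.PByCyclic
import Cfsg.Agent.Invol.Dihedral
import Cfsg.Agent.S0228

/-!
# Groups with a normal dihedral Sylow `2`-subgroup and cyclic quotient
-/

set_option autoImplicit false
set_option linter.unusedSectionVars false
set_option linter.style.haveILetI false

namespace CfsgLib.TwoByCyclic

open Subgroup

theorem cyclic_case {X : Type*} [Group X] [Finite X] (S : Sylow 2 X) [(S : Subgroup X).Normal]
    (hS : IsCyclic (S : Subgroup X)) (hQ : IsCyclic (X ⧸ (S : Subgroup X))) : IsCyclic X := by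
  haveI := Fact.mk Nat.prime_two
  refine CfsgLib.PByCyclic.isCyclic_of_fix S hS hQ fun u hu hup y => ?_
  have hu2 : u ^ 2 = 1 := orderOf_dvd_iff_pow_eq_one.1 (dvd_of_eq hup)
  obtain ⟨i, hi⟩ := mem_zpowers_iff.1 (CfsgLib.PByCyclic.mem_zpowers_of_cyclic (p := 2) hS hu
    ((inferInstance : (S : Subgroup X).Normal).conj_mem u hu y) hup
    (by rw [conj_pow, hu2, mul_one, mul_inv_cancel]))
  rw [← zpow_mod_orderOf, hup] at hi
  rcases Int.emod_two_eq i with e | e <;> rw [show (i % ((2 : ℕ) : ℤ)) = _ from e] at hi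
  · rw [zpow_zero, eq_comm, conj_eq_one_iff] at hi
    rw [hi, orderOf_one] at hup
    omega
  · rw [zpow_one, eq_comm, mul_inv_eq_iff_eq_mul] at hi
    exact hi

/-- The structure of a noncyclic `2`-subgroup of a dihedral group. -/
theorem structure_of_embedding {S : Type*} [Group S] [Finite S] {M : ℕ} [NeZero M] (hS : IsPGroup 2 S)
    (φ : S →* DihedralGroup M) (hφ : Function.Injective φ) (hnc : ¬ IsCyclic S) :
    ∃ g s : S, ∃ j : ℕ, orderOf g = 2 ^ (j + 1) ∧ s * s = 1 ∧ s * g * s⁻¹ = g⁻¹ ∧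
      s ∉ zpowers g ∧ (∀ t : S, t ∈ zpowers g ∨ s * t ∈ zpowers g) ∧
      (∀ t : S, t ∉ zpowers g → orderOf t = 2) ∧ Nonempty (S ≃* DihedralGroup (2 ^ (j + 1))) := by
  haveI := Fact.mk Nat.prime_two
  set R : Subgroup S := (zpowers (DihedralGroup.r (1 : ZMod M))).comap φ
  haveI : IsCyclic R := isCyclic_of_injective ((φ.comp R.subtype).codRestrict _ fun x => mem_comap.1 x.2)
    fun a b e => Subtype.ext (hφ (congrArg Subtype.val e))
  have hrot : ∀ t : S, (∃ i, φ t = DihedralGroup.r i) → t ∈ R := by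
    rintro t ⟨i, hi⟩
    refine mem_comap.2 (mem_zpowers_iff.2 ⟨(i.val : ℤ), ?_⟩)
    rw [hi, zpow_natCast, DihedralGroup.r_one_pow, ZMod.natCast_zmod_val]
  have hrot' : ∀ t ∈ R, ∃ i, φ t = DihedralGroup.r i := by
    intro t ht
    obtain ⟨i, hi⟩ := mem_zpowers_iff.1 (mem_comap.1 ht)
    exact ⟨(i : ZMod M), by rw [← hi, DihedralGroup.r_one_zpow]⟩
  obtain ⟨s, hs⟩ : ∃ s : S, s ∉ R := by
    by_contra hcon
    push Not at hcon
    exact hnc (isCyclic_of_surjective R.subtype fun t => ⟨⟨t, hcon t⟩, rfl⟩)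
  have hsr : ∀ t : S, t ∉ R → ∃ i, φ t = DihedralGroup.sr i := by
    intro t ht
    rcases e : φ t with i | i
    · exact absurd (hrot t ⟨i, e⟩) ht
    · exact ⟨i, rfl⟩
  obtain ⟨i, hi⟩ := hsr s hs
  have hs2 : s * s = 1 := hφ (by rw [map_mul, map_one, hi, DihedralGroup.sr_mul_sr, sub_self, DihedralGroup.r_zero])
  have hmul : ∀ t : S, t ∈ R ∨ s * t ∈ R := by
    intro t
    by_cases ht : t ∈ R
    · exact Or.inl ht
    · obtain ⟨k, hk⟩ := hsr t ht
      exact Or.inr (hrot _ ⟨k - i, by rw [map_mul, hi, hk, DihedralGroup.sr_mul_sr]⟩)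
  obtain ⟨⟨g, hgR⟩, hg⟩ := IsCyclic.exists_generator (α := R)
  have hRg : R = zpowers g := le_antisymm (fun t ht => by
    obtain ⟨k, hk⟩ := mem_zpowers_iff.1 (hg ⟨t, ht⟩)
    exact mem_zpowers_iff.2 ⟨k, congrArg Subtype.val hk⟩) (zpowers_le.2 hgR)
  obtain ⟨j, hj⟩ : ∃ j, orderOf g = 2 ^ (j + 1) := by
    obtain ⟨k, hk⟩ := hS g
    obtain ⟨j, -, hj⟩ := (Nat.dvd_prime_pow Nat.prime_two).1 (orderOf_dvd_of_pow_eq_one hk)
    rcases j with _ | j
    · exfalso
      rw [pow_zero, orderOf_eq_one_iff] at hj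
      refine hnc ⟨⟨s, fun t => ?_⟩⟩
      show t ∈ zpowers s
      rcases hmul t with h | h <;> rw [hRg, hj, zpowers_one_eq_bot, mem_bot] at h
      · rw [h]; exact one_mem _
      · rw [eq_inv_of_mul_eq_one_right h]; exact inv_mem (mem_zpowers s)
    · exact ⟨j, hj⟩
  obtain ⟨k, hk⟩ := hrot' g hgR
  have hinv : s * g * s⁻¹ = g⁻¹ := hφ (by
    rw [map_mul, map_mul, map_inv, map_inv, hi, hk, mul_inv_eq_iff_eq_mul, DihedralGroup.sr_mul_r,
      DihedralGroup.inv_r, DihedralGroup.r_mul_sr, sub_neg_eq_add])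
  have hsg : s ∉ zpowers g := hRg ▸ hs
  obtain ⟨D, hgD, hsD, -, ⟨e⟩⟩ := CfsgLib.Linear.PSLTwo.exists_dihedral g s hs2 hinv hsg
  have htop : D = ⊤ := eq_top_iff.2 fun t _ => by
    rcases hmul t with h | h
    · exact (zpowers_le.2 hgD) (hRg ▸ h)
    · have := mul_mem hsD ((zpowers_le.2 hgD) (hRg ▸ h))
      rwa [← mul_assoc, hs2, one_mul] at this
  refine ⟨g, s, j, hj, hs2, hinv, hsg, fun t => hRg ▸ hmul t, fun t ht => ?_,
    ⟨(Subgroup.topEquiv.symm.trans (MulEquiv.subgroupCongr htop.symm)).trans (hj ▸ e)⟩⟩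
  obtain ⟨i', hi'⟩ := hsr t (hRg ▸ ht)
  rw [← orderOf_injective φ hφ t, hi', DihedralGroup.orderOf_sr]

theorem main {X : Type*} [Group X] [Finite X] (S : Sylow 2 X) [(S : Subgroup X).Normal]
    (hQ : IsCyclic (X ⧸ (S : Subgroup X))) {M : ℕ} [NeZero M] (φ : (S : Subgroup X) →* DihedralGroup M)
    (hφ : Function.Injective φ)
    (hC : ∀ K : Subgroup X, K ≤ (S : Subgroup X) → Nat.card K = 4 → (∀ k ∈ K, k ^ 2 = 1) →
      centralizer (K : Set X) ≤ K) :
    IsCyclic X ∨ (∃ n : ℕ, Nonempty (X ≃* DihedralGroup (2 ^ n))) ∨ Nonempty (X ≃* alternatingGroup (Fin 4)) := by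
  classical
  haveI := Fact.mk Nat.prime_two
  by_cases hc : IsCyclic (S : Subgroup X)
  · exact Or.inl (cyclic_case S hc hQ)
  right
  obtain ⟨g, s, j, hj, hs2, hinv, hsg, hdec, hout, ⟨eS⟩⟩ := structure_of_embedding S.2 φ hφ hc
  set z := g ^ 2 ^ j
  have hz : orderOf z = 2 := by
    rw [orderOf_pow' g (pow_ne_zero _ two_ne_zero), hj, Nat.gcd_eq_right (pow_dvd_pow 2 (Nat.le_succ j)), pow_succ,
      Nat.mul_div_cancel_left _ (pow_pos two_pos _)]
  have hz2 : z * z = 1 := by rw [← pow_two]; exact orderOf_dvd_iff_pow_eq_one.1 (dvd_of_eq hz)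
  have hzi : z⁻¹ = z := inv_eq_of_mul_eq_one_right hz2
  have hsz : s * z * s⁻¹ = z⁻¹ := by rw [← conj_pow, hinv, inv_pow]
  have hsz' : s ∉ zpowers z := fun h => hsg (zpowers_le.2 (pow_mem (mem_zpowers g) _) h)
  obtain ⟨D, hzD, hsD, hD, ⟨eD⟩⟩ := CfsgLib.Linear.PSLTwo.exists_dihedral z s hs2 hsz hsz'
  set K := D.map (S : Subgroup X).subtype
  have hK4 : Nat.card K = 4 := by
    rw [Subgroup.card_map_of_injective (S : Subgroup X).subtype_injective, hD, hz]
  have hK2 : ∀ k ∈ K, k ^ 2 = 1 := by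
    rintro _ ⟨d, hd, rfl⟩
    rw [← map_pow]
    have h : ∀ a : DihedralGroup 2, a ^ 2 = 1 := by decide
    have e1 : (hz ▸ eD) ((⟨d, hd⟩ : D) ^ 2) = 1 := by rw [map_pow]; exact h _
    rw [MulEquiv.map_eq_one_iff] at e1
    rw [show d ^ 2 = 1 from congrArg Subtype.val e1, map_one]
  have hKS : K ≤ (S : Subgroup X) := map_subtype_le D
  have hCK := hC K hKS hK4 hK2
  have hzK : ((z : (S : Subgroup X)) : X) ∈ K := ⟨z, hzD, rfl⟩
  have hsK : ((s : (S : Subgroup X)) : X) ∈ K := ⟨s, hsD, rfl⟩
  -- elements of odd order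
  have hodd : ∀ y : X, (orderOf y).Coprime 2 → y ∈ (S : Subgroup X) → y = 1 := by
    intro y hy hyS
    obtain ⟨k, hk⟩ := S.2 ⟨y, hyS⟩
    exact orderOf_eq_one_iff.1 (Nat.eq_one_of_dvd_coprimes (hy.pow_right k) dvd_rfl
      (orderOf_dvd_of_pow_eq_one (congrArg Subtype.val hk : y ^ 2 ^ k = 1)))
  have hgen : ∀ t : (S : Subgroup X), t ∈ closure ({g, s} : Set (S : Subgroup X)) := by
    intro t
    have hg' : g ∈ closure ({g, s} : Set (S : Subgroup X)) := subset_closure (Set.mem_insert _ _)
    have hs' : s ∈ closure ({g, s} : Set (S : Subgroup X)) := subset_closure (Set.mem_insert_of_mem _ rfl)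
    rcases hdec t with h | h
    · exact zpowers_le.2 hg' h
    · have := mul_mem hs' (zpowers_le.2 hg' h)
      rwa [← mul_assoc, hs2, one_mul] at this
  have hcen : ∀ y : X, Commute y (g : X) → Commute y (s : X) → y ∈ centralizer (K : Set X) := by
    intro y h1 h2
    refine mem_centralizer_iff.2 fun k hk => ?_
    obtain ⟨d, -, rfl⟩ := hk
    have hd := hgen d
    show (d : X) * y = y * d
    refine Subgroup.closure_induction (k := ({g, s} : Set (S : Subgroup X)))
      (p := fun t _ => (t : X) * y = y * t) ?_ ?_ ?_ ?_ hd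
    · rintro t (rfl | rfl)
      · exact h1.eq.symm
      · exact h2.eq.symm
    · simp
    · intro a b _ _ ha hb
      rw [coe_mul, mul_assoc, hb, ← mul_assoc, ha, mul_assoc]
    · intro a _ ha
      rw [coe_inv]
      exact ((show Commute (a : X) y from ha).inv_left).eq
  rcases j with _ | j
  · -- a four group
    have hg : g = z := by rw [show z = g ^ 2 ^ 0 from rfl, pow_zero, pow_one]
    have hSD : D = ⊤ := eq_top_iff.2 fun t _ => by
      have := hgen t
      rw [hg] at this
      exact (closure_le D).2 (by rintro w (rfl | rfl) <;> assumption) this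
    have hS4 : Nat.card (S : Subgroup X) = 4 := by rw [← Subgroup.card_top, ← hSD, hD, hz]
    have hKeq : K = (S : Subgroup X) := le_antisymm hKS fun t ht => ⟨⟨t, ht⟩, hSD ▸ mem_top _, rfl⟩
    obtain ⟨yb, hyb⟩ := hQ.exists_generator
    obtain ⟨y₀, rfl⟩ := QuotientGroup.mk'_surjective (S : Subgroup X) yb
    set π := QuotientGroup.mk' (S : Subgroup X)
    set y := y₀ ^ 4
    have hπy : orderOf (π y) = orderOf (π y₀) := by
      rw [map_pow]
      exact (Nat.Coprime.orderOf_pow ((CfsgLib.PByCyclic.orderOf_map_coprime S y₀).pow_right 2))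
    have hy : (orderOf y).Coprime 2 := by
      refine Nat.Coprime.coprime_dvd_left (orderOf_dvd_of_pow_eq_one (n := orderOf (π y₀)) ?_)
        (CfsgLib.PByCyclic.orderOf_map_coprime S y₀)
      rw [← pow_mul, mul_comm, pow_mul]
      have h1 : y₀ ^ orderOf (π y₀) ∈ (S : Subgroup X) :=
        (QuotientGroup.eq_one_iff _).1 (pow_orderOf_eq_one (π y₀))
      have h2 := pow_card_eq_one' (x := (⟨_, h1⟩ : (S : Subgroup X)))
      rw [hS4] at h2
      exact congrArg Subtype.val h2
    have hy3 : y ^ 3 = 1 := by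
      let σ : X →* Equiv.Perm (S : Subgroup X) :=
        (MulAut.toPerm (S : Subgroup X)).comp (MulAut.conjNormal (H := (S : Subgroup X)))
      have h24 : σ y ^ 24 = 1 := by
        have h := pow_card_eq_one' (x := σ y)
        rwa [Nat.card_perm, hS4] at h
      have h8 : (orderOf (σ y)).Coprime (2 ^ 3) :=
        (Nat.Coprime.coprime_dvd_left (orderOf_map_dvd σ y) hy).pow_right 3
      have h3 : σ y ^ 3 = 1 := orderOf_dvd_iff_pow_eq_one.1
        (h8.dvd_of_dvd_mul_right (show orderOf (σ y) ∣ 3 * 2 ^ 3 from orderOf_dvd_of_pow_eq_one h24))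
      refine hodd _ (Nat.Coprime.coprime_dvd_left (orderOf_pow_dvd 3) hy) (hKeq ▸ hCK ?_)
      refine mem_centralizer_iff.2 fun k hk => ?_
      rw [← map_pow] at h3
      have := congrArg Subtype.val (congrArg (fun π : Equiv.Perm (S : Subgroup X) => π ⟨k, hKS hk⟩) h3)
      exact (mul_inv_eq_iff_eq_mul.1 this).symm
    have hcard : Nat.card (X ⧸ (S : Subgroup X)) = orderOf (π y₀) := (orderOf_eq_card_of_forall_mem_zpowers hyb).symm
    have hdvd : orderOf (π y) ∣ 3 := orderOf_dvd_of_pow_eq_one (by rw [← map_pow, hy3, map_one])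
    have hX : Nat.card X = orderOf (π y) * 4 := by
      rw [hπy, ← hcard, (S : Subgroup X).card_eq_card_quotient_mul_card_subgroup, hS4]
    rcases Nat.prime_three.eq_one_or_self_of_dvd _ hdvd with h1 | h1
    · left
      have htop : (S : Subgroup X) = ⊤ := Subgroup.eq_top_of_card_eq _ (by rw [hX, h1, hS4])
      exact ⟨1, ⟨((MulEquiv.subgroupCongr htop).trans Subgroup.topEquiv).symm.trans eS⟩⟩
    · right
      refine Cfsg.Agent.S0228.result (by rw [hX, h1]) fun w hw hwc => ?_
      have hwS : w ∈ (S : Subgroup X) := by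
        have hk : orderOf (π w) ∣ 2 := (orderOf_map_dvd π w).trans (dvd_of_eq hw)
        exact (QuotientGroup.eq_one_iff w).1 (orderOf_eq_one_iff.1
          (Nat.eq_one_of_dvd_coprimes (CfsgLib.PByCyclic.orderOf_map_coprime S w) dvd_rfl hk))
      have hw2 : w * w = 1 := by rw [← pow_two]; exact orderOf_dvd_iff_pow_eq_one.1 (dvd_of_eq hw)
      have hyw : ∀ t : X, Commute t w := fun t => mem_center_iff.1 hwc t
      have hy1 : y = 1 := by
        refine hodd y hy (hKeq ▸ hCK (mem_centralizer_iff.2 fun k hk => ?_))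
        have hk' : y * k * y⁻¹ ∈ (S : Subgroup X) := (inferInstance : (S : Subgroup X).Normal).conj_mem k (hKS hk) y
        by_cases hkw : k ∈ zpowers w
        · obtain ⟨i, rfl⟩ := mem_zpowers_iff.1 hkw
          exact ((hyw y).symm.zpow_left i).eq
        -- the four elements
        have hk2 : k * k = 1 := by rw [← pow_two]; exact hK2 k hk
        have a1 : w ≠ 1 := fun e => by rw [e, orderOf_one] at hw; omega
        have a2 : k ≠ 1 := fun e => hkw (e ▸ one_mem _)
        have a3 : k ≠ w := fun e => hkw (e ▸ mem_zpowers w)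
        have a4 : w * k ≠ 1 := fun e => hkw (by rw [eq_inv_of_mul_eq_one_right e]; exact inv_mem (mem_zpowers w))
        have a5 : w * k ≠ w := fun e => a2 (mul_eq_left.1 e)
        have a6 : w * k ≠ k := fun e => a1 (mul_eq_right.1 e)
        haveI := Fintype.ofFinite (S : Subgroup X)
        have hT : ({1, w, k, w * k} : Finset X) = (Finset.univ : Finset (S : Subgroup X)).map (Function.Embedding.subtype _) := by
          refine Finset.eq_of_subset_of_card_le (fun t ht => ?_) ?_
          · simp only [Finset.mem_insert, Finset.mem_singleton] at ht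
            refine Finset.mem_map.2 ⟨⟨t, ?_⟩, Finset.mem_univ _, rfl⟩
            rcases ht with h | h | h | h <;> rw [h]
            exacts [one_mem _, hwS, hKS hk, mul_mem hwS (hKS hk)]
          · rw [Finset.card_map, Finset.card_univ, ← Nat.card_eq_fintype_card, hS4]
            simp [a1.symm, a2.symm, a3.symm, a4.symm, a5.symm, a6.symm]
        have hky : y * k * y⁻¹ = k ∨ y * k * y⁻¹ = w * k := by
          have hm : y * k * y⁻¹ ∈ ({1, w, k, w * k} : Finset X) := by
            rw [hT]; exact Finset.mem_map.2 ⟨⟨_, hk'⟩, Finset.mem_univ _, rfl⟩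
          simp only [Finset.mem_insert, Finset.mem_singleton] at hm
          rcases hm with h | h | h | h
          · exact absurd (conj_eq_one_iff.1 h) a2
          · refine absurd ?_ a3
            have h' : k = y⁻¹ * w * y := by rw [← h]; group
            rw [h', mul_assoc, ← (hyw y).eq, inv_mul_cancel_left]
          · exact Or.inl h
          · exact Or.inr h
        rcases hky with h | h
        · exact (mul_inv_eq_iff_eq_mul.1 h).symm
        · exfalso
          have h2 : y ^ 2 * k * (y ^ 2)⁻¹ = k := by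
            calc y ^ 2 * k * (y ^ 2)⁻¹ = y * (y * k * y⁻¹) * y⁻¹ := by rw [pow_two]; group
              _ = y * w * k * y⁻¹ := by rw [h]; group
              _ = w * (y * k * y⁻¹) := by rw [(hyw y).eq]; group
              _ = k := by rw [h, ← mul_assoc, hw2, one_mul]
          have h4 : y ^ 4 * k * (y ^ 4)⁻¹ = k := by
            calc y ^ 4 * k * (y ^ 4)⁻¹ = y ^ 2 * (y ^ 2 * k * (y ^ 2)⁻¹) * (y ^ 2)⁻¹ := by group
              _ = k := by rw [h2, h2]
          rw [show y ^ 4 = y ^ 3 * y from pow_succ y 3, hy3, one_mul, h] at h4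
          exact a6 h4
      rw [hy1, map_one, orderOf_one] at h1
      omega
  · -- larger dihedral groups
    have hy1 : ∀ y : X, (orderOf y).Coprime 2 → y = 1 := by
      intro y hy
      have hnS := (inferInstance : (S : Subgroup X).Normal)
      let ψ : (S : Subgroup X) ≃* (S : Subgroup X) := MulAut.conjNormal y
      have hord : orderOf (ψ g) = 2 ^ (j + 1 + 1) := by rw [MulEquiv.orderOf_eq, hj]
      have hmem : ψ g ∈ zpowers g := by
        by_contra hcon
        have h2 := hout _ hcon
        rw [hord] at h2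
        have : 2 ^ 2 ≤ 2 ^ (j + 1 + 1) := Nat.pow_le_pow_right two_pos (by omega)
        omega
      obtain ⟨i, hi⟩ := mem_zpowers_iff.1 hmem
      have hgX : orderOf (g : X) = 2 ^ (j + 1 + 1) := by rw [Subgroup.orderOf_coe, hj]
      have hzy : Commute y (z : X) := by
        -- the involution of the cyclic subgroup is unique
        have h2 : ψ z = z := by
          have hzg : z ∈ zpowers g := pow_mem (mem_zpowers g) _
          have hψz : ψ z ∈ zpowers g := by
            rw [show ψ z = (ψ g) ^ 2 ^ (j + 1) from map_pow ψ g _]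
            exact pow_mem hmem _
          obtain ⟨l, hl⟩ := mem_zpowers_iff.1 (CfsgLib.PByCyclic.mem_zpowers_of_cyclic (p := 2)
            (S := zpowers g) inferInstance hzg hψz hz
            (by rw [← map_pow, orderOf_dvd_iff_pow_eq_one.1 (dvd_of_eq hz), map_one]))
          rw [← zpow_mod_orderOf, hz] at hl
          rcases Int.emod_two_eq l with e | e <;> rw [show (l % ((2 : ℕ) : ℤ)) = _ from e] at hl
          · rw [zpow_zero, eq_comm, MulEquiv.map_eq_one_iff] at hl
            rw [hl, orderOf_one] at hz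
            omega
          · rw [zpow_one] at hl
            exact hl.symm
        exact mul_inv_eq_iff_eq_mul.1 (congrArg Subtype.val h2)
      have hyg : Commute y (g : X) := by
        refine CfsgLib.PByCyclic.commute_of_fix hgX hy ?_ ?_
        · exact mem_zpowers_iff.2 ⟨i, congrArg Subtype.val hi⟩
        · rw [← SubmonoidClass.coe_pow]; exact hzy
      have hys : Commute y (s : X) := by
        have hsn : ψ s ∉ zpowers g := by
          intro h
          refine hsg ?_
          have hg' : ψ g = g := Subtype.ext (mul_inv_eq_iff_eq_mul.2 hyg.eq)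
          obtain ⟨l, hl⟩ := mem_zpowers_iff.1 h
          have h2 : ψ (g ^ l) = g ^ l := by rw [map_zpow, hg']
          exact mem_zpowers_iff.2 ⟨l, ψ.injective (h2.trans hl)⟩
        obtain ⟨l, hl⟩ := mem_zpowers_iff.1 ((hdec (ψ s)).resolve_left hsn)
        have hstep : ∀ t : ℕ, y ^ t * (s : X) * (y ^ t)⁻¹ = (s : X) * (g : X) ^ (l * t) := by
          intro t
          induction t with
          | zero => simp
          | succ t ih =>
            have e1 : y * (s : X) * y⁻¹ = (s : X) * (g : X) ^ l := by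
              have e := congrArg Subtype.val hl
              rw [coe_mul, coe_zpow] at e
              rw [e, ← mul_assoc, show (s : X) * (s : X) = 1 from congrArg Subtype.val hs2, one_mul]
              rfl
            calc y ^ (t + 1) * (s : X) * (y ^ (t + 1))⁻¹ = y * (y ^ t * (s : X) * (y ^ t)⁻¹) * y⁻¹ := by group
              _ = (y * (s : X) * y⁻¹) * (y * (g : X) * y⁻¹) ^ (l * t) := by rw [ih, conj_zpow]; group
              _ = _ := by
                rw [e1, mul_inv_eq_iff_eq_mul.2 hyg.eq, mul_assoc, ← _root_.zpow_add]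
                push_cast
                ring_nf
        have h1 := hstep (orderOf y)
        rw [pow_orderOf_eq_one, one_mul, inv_one, mul_one, left_eq_mul, zpow_mul, zpow_natCast] at h1
        have h3 : (g : X) ^ l = 1 := by
          obtain ⟨k, hk⟩ := exists_pow_eq_self_of_coprime (x := (g : X) ^ l) (n := orderOf y)
            (Nat.Coprime.coprime_dvd_right (orderOf_dvd_of_pow_eq_one (n := 2 ^ (j + 1 + 1)) (by
              rw [← zpow_natCast, ← zpow_mul, mul_comm, zpow_mul, zpow_natCast, ← hgX, pow_orderOf_eq_one, one_zpow]))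
              (hy.pow_right _))
          rw [← hk, h1, one_pow]
        have e1 : y * (s : X) * y⁻¹ = (s : X) * (g : X) ^ l := by
          have h2 := hstep 1
          rwa [pow_one, Nat.cast_one, mul_one] at h2
        rw [h3, mul_one] at e1
        exact mul_inv_eq_iff_eq_mul.1 e1
      exact hodd y hy (hKS (hCK (hcen y hyg hys)))
    left
    have htop : (S : Subgroup X) = ⊤ := by
      by_contra hne
      have hi : (S : Subgroup X).index ≠ 1 := fun e => hne (Subgroup.index_eq_one.1 e)
      obtain ⟨q, hq, hqd⟩ := Nat.exists_prime_and_dvd hi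
      haveI := Fact.mk hq
      obtain ⟨x, hx⟩ := exists_prime_orderOf_dvd_card' (G := X) q (hqd.trans (Subgroup.index_dvd_card _))
      have hq2 : q ≠ 2 := fun e => S.not_dvd_index (e ▸ hqd)
      have := hy1 x (hx ▸ (Nat.coprime_primes hq Nat.prime_two).2 hq2)
      rw [this, orderOf_one] at hx
      exact hq.ne_one hx.symm
    exact ⟨j + 1 + 1, ⟨((MulEquiv.subgroupCongr htop).trans Subgroup.topEquiv).symm.trans eS⟩⟩

end CfsgLib.TwoByCyclic
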