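import Cfsg.Agent.FGSB.LinearDerivedLength
import Mathlib.Combinatorics.SimpleGraph.Extremal.Turan
import Mathlib.LinearAlgebra.Matrix.ToLin

/-!
# The number of generators of a linear `p`-group in characteristic `p`

A group of upper unitriangular matrices is generated, modulo the kernel of the representation, by
elements whose leading positions form the covering pairs of a transitive relation; these pairs form
a triangle-free graph, so there are at most `k ^ 2 / 4` of them.
-/

set_option autoImplicit false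
set_option linter.unusedSectionVars false
set_option linter.style.haveILetI false

namespace CfsgLib.UnipotentRank

open Subgroup
open scoped commutatorElement

universe u w

variable {p : ℕ} [hp : Fact p.Prime]

/-- A triangle-free relation on `Fin k`, contained in `<`, has at most `k ^ 2 / 4` pairs. -/
theorem card_le_of_triangle_free {k : ℕ} (C : Finset (Fin k × Fin k)) (hlt : ∀ x ∈ C, x.1 < x.2)
    (htri : ∀ a b c, (a, b) ∈ C → (b, c) ∈ C → (a, c) ∉ C) : C.card ≤ k ^ 2 / 4 := by
  classical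
  let Γ : SimpleGraph (Fin k) := SimpleGraph.fromRel fun a b => (a, b) ∈ C
  have hadj : ∀ a b, Γ.Adj a b → (a, b) ∈ C ∨ (b, a) ∈ C := fun a b h => h.2
  have hfree : Γ.CliqueFree (2 + 1) := by
    intro s hs
    obtain ⟨a, b, c, hab, hac, hbc, rfl⟩ := SimpleGraph.is3Clique_iff.1 hs
    have hkey : ∀ x y z, x < y → y < z → Γ.Adj x y → Γ.Adj y z → Γ.Adj x z → False := by
      intro x y z hxy hyz e1 e2 e3
      rcases hadj _ _ e1 with h1 | h1
      · rcases hadj _ _ e2 with h2 | h2
        · rcases hadj _ _ e3 with h3 | h3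
          · exact htri _ _ _ h1 h2 h3
          · exact absurd (hlt _ h3) (not_lt.2 (hxy.trans hyz).le)
        · exact absurd (hlt _ h2) (not_lt.2 hyz.le)
      · exact absurd (hlt _ h1) (not_lt.2 hxy.le)
    rcases lt_trichotomy a b with h1 | h1 | h1
    · rcases lt_trichotomy b c with h2 | h2 | h2
      · exact hkey a b c h1 h2 hab hbc hac
      · exact hbc.ne h2
      · rcases lt_trichotomy a c with h3 | h3 | h3
        · exact hkey a c b h3 h2 hac hbc.symm hab
        · exact hac.ne h3
        · exact hkey c a b h3 h1 hac.symm hab hbc.symm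
    · exact hab.ne h1
    · rcases lt_trichotomy a c with h3 | h3 | h3
      · exact hkey b a c h1 h3 hab.symm hac hbc
      · exact hac.ne h3
      · rcases lt_trichotomy b c with h2 | h2 | h2
        · exact hkey b c a h2 h3 hbc hac.symm hab.symm
        · exact hbc.ne h2
        · exact hkey c b a h2 h1 hbc.symm hab.symm hac.symm
  have hcard : C.card ≤ Γ.edgeFinset.card := by
    refine Finset.card_le_card_of_injOn (fun x => s(x.1, x.2)) (fun x hx => ?_) (fun x hx y hy e => ?_)
    · simp only [Finset.mem_coe, SimpleGraph.mem_edgeFinset, SimpleGraph.mem_edgeSet]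
      exact ⟨(hlt x hx).ne, Or.inl hx⟩
    · rcases Sym2.eq_iff.1 e with ⟨h1, h2⟩ | ⟨h1, h2⟩
      · exact Prod.ext h1 h2
      · have h3 := hlt x hx
        rw [h1, h2] at h3
        exact absurd h3 (not_lt.2 (hlt y hy).le)
  refine hcard.trans ?_
  have h := hfree.card_edgeFinset_le
  simp only [Fintype.card_fin, show (2 : ℕ) - 1 = 1 from rfl, mul_one] at h
  rcases Nat.mod_two_eq_zero_or_one k with hk | hk <;> rw [hk] at h <;>
    norm_num [Nat.choose_eq_zero_of_lt] at h ⊢ <;> omega

/-- The weight of a position above the diagonal. -/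
def wt {k : ℕ} (i j : Fin k) : ℕ := 2 ^ (j : ℕ) - 2 ^ (i : ℕ)

theorem wt_pos {k : ℕ} {i j : Fin k} (h : i < j) : 0 < wt i j :=
  Nat.sub_pos_of_lt (Nat.pow_lt_pow_right one_lt_two h)

theorem wt_add {k : ℕ} {i m j : Fin k} (h1 : i ≤ m) (h2 : m ≤ j) : wt i m + wt m j = wt i j := by
  have e1 : 2 ^ (i : ℕ) ≤ 2 ^ (m : ℕ) := Nat.pow_le_pow_right two_pos h1
  have e2 : 2 ^ (m : ℕ) ≤ 2 ^ (j : ℕ) := Nat.pow_le_pow_right two_pos h2
  unfold wt
  omega

theorem wt_inj {k : ℕ} {i j l m : Fin k} (h1 : i < j) (h2 : l < m) (e : wt i j = wt l m) : i = l ∧ j = m := by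
  have key : ∀ a b c d : Fin k, a < b → c < d → wt a b = wt c d → ¬ d < b := by
    intro a b c d hab _ e hdb
    have e1 : 2 ^ (a : ℕ) * 2 ≤ 2 ^ (b : ℕ) := by rw [← pow_succ]; exact Nat.pow_le_pow_right two_pos hab
    have e2 : 2 ^ (d : ℕ) * 2 ≤ 2 ^ (b : ℕ) := by rw [← pow_succ]; exact Nat.pow_le_pow_right two_pos hdb
    have e3 : 0 < 2 ^ (c : ℕ) := Nat.two_pow_pos _
    have e4 : 0 < 2 ^ (d : ℕ) := Nat.two_pow_pos _
    unfold wt at e
    omega
  obtain rfl : j = m := le_antisymm (not_lt.1 (key i j l m h1 h2 e)) (not_lt.1 (key l m i j h2 h1 e.symm))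
  refine ⟨Fin.ext (Nat.pow_right_injective le_rfl ?_), rfl⟩
  have e1 := Nat.pow_le_pow_right (n := 2) two_pos (show (i : ℕ) ≤ j from h1.le)
  have e2 := Nat.pow_le_pow_right (n := 2) two_pos (show (l : ℕ) ≤ j from h2.le)
  unfold wt at e
  show 2 ^ (i : ℕ) = 2 ^ (l : ℕ)
  omega

section Matrix

variable {G : Type u} [Group G] {k : ℕ} (A : G →* Matrix (Fin k) (Fin k) (ZMod p))

/-- The entries of weight less than `s` of `A g - 1` vanish. -/
def In (s : ℕ) (g : G) : Prop := ∀ i j, i < j → wt i j < s → A g i j = 0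

/-- The representation is upper unitriangular. -/
def IsUpper : Prop := ∀ g, (∀ i, A g i i = 1) ∧ ∀ i j, j < i → A g i j = 0

variable {A} (hA : IsUpper A)
include hA

theorem sub_one_eq_zero (g : G) {i j : Fin k} (h : j ≤ i) : (A g - 1) i j = 0 := by
  rcases h.lt_or_eq with h | rfl
  · rw [Matrix.sub_apply, (hA g).2 i j h, Matrix.one_apply_ne h.ne', sub_zero]
  · rw [Matrix.sub_apply, (hA g).1, Matrix.one_apply_eq, sub_self]

theorem sub_one_eq (g : G) {i j : Fin k} (h : i < j) : (A g - 1) i j = A g i j := by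
  rw [Matrix.sub_apply, Matrix.one_apply_ne h.ne, sub_zero]

theorem sub_one_mul_apply (g h : G) {s t : ℕ} (hg : In A s g) (hh : In A t h) {i l : Fin k}
    (hil : i < l) (hw : wt i l < s + t) : ((A g - 1) * (A h - 1)) i l = 0 := by
  rw [Matrix.mul_apply]
  refine Finset.sum_eq_zero fun m _ => ?_
  rcases le_or_gt m i with h1 | h1
  · rw [sub_one_eq_zero hA g h1, zero_mul]
  rcases le_or_gt l m with h2 | h2
  · rw [sub_one_eq_zero hA h h2, mul_zero]
  rw [sub_one_eq hA g h1, sub_one_eq hA h h2]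
  have h3 := wt_add h1.le h2.le
  by_cases h4 : wt i m < s
  · rw [hg i m h1 h4, zero_mul]
  · rw [hh m l h2 (by omega), mul_zero]

theorem mul_apply_of_in (g h : G) {s : ℕ} (hg : In A s g) (hh : In A s h) {i l : Fin k}
    (hil : i < l) (hw : wt i l ≤ s) (hs : 0 < s) : A (g * h) i l = A g i l + A h i l := by
  have h0 := sub_one_mul_apply hA g h hg hh hil (by omega)
  have e : (A g - 1) * (A h - 1) = A (g * h) - A g - A h + 1 := by
    rw [map_mul]; noncomm_ring
  rw [e, Matrix.add_apply, Matrix.sub_apply, Matrix.sub_apply, Matrix.one_apply_ne hil.ne, add_zero,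
    sub_sub, sub_eq_zero] at h0
  exact h0

theorem in_pow (g : G) {s : ℕ} (hs : 0 < s) (hg : In A s g) : ∀ e : ℕ, In A s (g ^ e) ∧
    ∀ i l, i < l → wt i l ≤ s → A (g ^ e) i l = e • A g i l := by
  intro e
  induction e with
  | zero =>
    have h0 : ∀ i l, i < l → A (g ^ 0) i l = 0 := fun i l h => by rw [pow_zero, map_one, Matrix.one_apply_ne h.ne]
    exact ⟨fun i l h _ => h0 i l h, fun i l h _ => by rw [h0 i l h, zero_nsmul]⟩
  | succ e ih =>
    have h1 : ∀ i l, i < l → wt i l ≤ s → A (g ^ (e + 1)) i l = (e + 1) • A g i l := fun i l h hw => by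
      rw [pow_succ, mul_apply_of_in hA _ g ih.1 hg h hw hs, ih.2 i l h hw, succ_nsmul]
    exact ⟨fun i l h hw => by rw [h1 i l h hw.le, hg i l h hw, smul_zero], h1⟩

theorem commutator_lead (g h : G) {i j l : Fin k} (hij : i < j) (hjl : j < l)
    (hg : In A (wt i j) g) (hh : In A (wt j l) h) :
    In A (wt i l) ⁅g, h⁆ ∧ A ⁅g, h⁆ i l = A g i j * A h j l := by
  set D := (A g - 1) * (A h - 1) - (A h - 1) * (A g - 1) with hD
  have hwil := wt_add hij.le hjl.le
  have hDz : ∀ a b, a < b → wt a b < wt i l → D a b = 0 := fun a b hab hw => by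
    rw [hD, Matrix.sub_apply, sub_one_mul_apply hA g h hg hh hab (by omega),
      sub_one_mul_apply hA h g hh hg hab (by omega), sub_zero]
  have hDle : ∀ a b, b ≤ a → D a b = 0 := fun a b hab => by
    rw [hD, Matrix.sub_apply, Matrix.mul_apply, Matrix.mul_apply, Finset.sum_eq_zero, Finset.sum_eq_zero, sub_zero]
    all_goals
      intro m _
      rcases le_or_gt m a with h1 | h1
      · rw [sub_one_eq_zero hA _ h1, zero_mul]
      · rw [sub_one_eq_zero hA _ (hab.trans h1.le), mul_zero]
  have hDil : D i l = A g i j * A h j l := by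
    rw [hD, Matrix.sub_apply, Matrix.mul_apply, Matrix.mul_apply,
      Finset.sum_eq_single_of_mem j (Finset.mem_univ _), sub_one_eq hA g hij, sub_one_eq hA h hjl, Finset.sum_eq_zero,
      sub_zero]
    · intro m _
      rcases le_or_gt m i with h1 | h1
      · rw [sub_one_eq_zero hA _ h1, zero_mul]
      rcases le_or_gt l m with h2 | h2
      · rw [sub_one_eq_zero hA g h2, mul_zero]
      rw [sub_one_eq hA h h1, sub_one_eq hA g h2]
      have h3 := wt_add h1.le h2.le
      by_cases h4 : wt i m < wt j l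
      · rw [hh i m h1 h4, zero_mul]
      by_cases h5 : wt m l < wt i j
      · rw [hg m l h2 h5, mul_zero]
      exact absurd (wt_inj h1 hjl (by omega)).1 hij.ne
    · intro m _ hmj
      rcases le_or_gt m i with h1 | h1
      · rw [sub_one_eq_zero hA _ h1, zero_mul]
      rcases le_or_gt l m with h2 | h2
      · rw [sub_one_eq_zero hA h h2, mul_zero]
      rw [sub_one_eq hA g h1, sub_one_eq hA h h2]
      have h3 := wt_add h1.le h2.le
      by_cases h4 : wt i m < wt i j
      · rw [hg i m h1 h4, zero_mul]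
      by_cases h5 : wt m l < wt j l
      · rw [hh m l h2 h5, mul_zero]
      exact absurd (wt_inj h1 hij (by omega)).2 hmj
  set B := A ((h * g)⁻¹) with hB
  have hc : A ⁅g, h⁆ - 1 = D * B := by
    have e1 : ⁅g, h⁆ * (h * g) = g * h := by rw [commutatorElement_def]; group
    have e2 : A (h * g) * B = 1 := by rw [← map_mul, mul_inv_cancel, map_one]
    have e3 : D = A g * A h - A h * A g := by rw [hD]; noncomm_ring
    rw [e3, ← map_mul, ← map_mul, ← e1, map_mul A ⁅g, h⁆]
    rw [show (A ⁅g, h⁆ * A (h * g) - A (h * g)) * B = A ⁅g, h⁆ * (A (h * g) * B) - A (h * g) * B by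
      noncomm_ring, e2, mul_one]
  have hval : ∀ a b, a < b → A ⁅g, h⁆ a b = ∑ m, D a m * B m b := fun a b hab => by
    rw [← sub_one_eq hA _ hab, hc, Matrix.mul_apply]
  have hzero : ∀ a b m, a < b → m ≠ b → wt a b ≤ wt i l → D a m * B m b = 0 := fun a b m hab hmb hw => by
    rcases le_or_gt m a with h1 | h1
    · rw [hDle a m h1, zero_mul]
    rcases lt_or_gt_of_ne hmb with h2 | h2
    · have h3 := wt_add h1.le h2.le
      have h4 := wt_pos h2
      rw [hDz a m h1 (by omega), zero_mul]
    · rw [hB, (hA _).2 m b h2, mul_zero]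
  refine ⟨fun a b hab hw => ?_, ?_⟩
  · rw [hval a b hab]
    refine Finset.sum_eq_zero fun m _ => ?_
    by_cases hmb : m = b
    · subst hmb
      rw [hDz a m hab hw, zero_mul]
    · exact hzero a b m hab hmb hw.le
  · rw [hval i l (hij.trans hjl), Finset.sum_eq_single_of_mem l (Finset.mem_univ _), hB, (hA _).1, mul_one, hDil]
    exact fun m _ hm => hzero i l m (hij.trans hjl) hm le_rfl

theorem exists_generators : ∃ S : Finset G, S.card ≤ k ^ 2 / 4 ∧
    ∀ g : G, ∃ t ∈ Subgroup.closure (S : Set G), A t = A g := by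
  classical
  let Pos : Fin k → Fin k → Prop := fun i j => i < j ∧ ∃ g, In A (wt i j) g ∧ A g i j ≠ 0
  let C : Finset (Fin k × Fin k) :=
    Finset.univ.filter fun x => Pos x.1 x.2 ∧ ¬ ∃ m, Pos x.1 m ∧ Pos m x.2
  have hC : ∀ {i j}, (i, j) ∈ C ↔ Pos i j ∧ ¬ ∃ m, Pos i m ∧ Pos m j := fun {i j} => by simp [C]
  choose γ hγ using fun x : C => (hC.1 x.2).1.2
  refine ⟨Finset.univ.image γ, (Finset.card_image_le.trans ?_), ?_⟩
  · rw [Finset.card_univ, Fintype.card_coe]
    exact card_le_of_triangle_free C (fun x hx => (hC.1 hx).1.1)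
      fun a b c hab hbc hac => (hC.1 hac).2 ⟨b, (hC.1 hab).1, (hC.1 hbc).1⟩
  set T := Subgroup.closure ((Finset.univ.image γ : Finset G) : Set G)
  have hlead : ∀ (d : ℕ) (i j : Fin k), (j : ℕ) - (i : ℕ) = d → Pos i j → ∃ t ∈ T, In A (wt i j) t ∧ A t i j ≠ 0 := by
    intro d
    induction d using Nat.strong_induction_on with
    | _ d ih =>
    intro i j hd hp'
    by_cases hm : ∃ m, Pos i m ∧ Pos m j
    · obtain ⟨m, h1, h2⟩ := hm
      have e1 : (i : ℕ) < m := h1.1
      have e2 : (m : ℕ) < j := h2.1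
      obtain ⟨t, ht, htI, ht0⟩ := ih _ (by omega) i m rfl h1
      obtain ⟨t', ht', htI', ht0'⟩ := ih _ (by omega) m j rfl h2
      obtain ⟨h3, h4⟩ := commutator_lead hA t t' h1.1 h2.1 htI htI'
      refine ⟨⁅t, t'⁆, ?_, h3, by rw [h4]; exact mul_ne_zero ht0 ht0'⟩
      rw [commutatorElement_def]
      exact mul_mem (mul_mem (mul_mem ht ht') (inv_mem ht)) (inv_mem ht')
    · have hmem : (i, j) ∈ C := hC.2 ⟨hp', hm⟩
      exact ⟨γ ⟨(i, j), hmem⟩, Subgroup.subset_closure (by simp), hγ ⟨(i, j), hmem⟩⟩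
  suffices hall : ∀ r s : ℕ, 1 ≤ s → 2 ^ k ≤ s + r → ∀ g, In A s g → ∃ t ∈ T, A t = A g from
    fun g => hall (2 ^ k) 1 le_rfl (by omega) g fun i j h hw => by have := wt_pos h; omega
  intro r
  induction r with
  | zero =>
    intro s _ hs g hg
    refine ⟨1, one_mem _, ?_⟩
    rw [map_one]
    ext i j
    rcases lt_trichotomy i j with h | h | h
    · rw [Matrix.one_apply_ne h.ne, hg i j h]
      have e1 : 2 ^ (j : ℕ) < 2 ^ k := Nat.pow_lt_pow_right one_lt_two j.2
      show 2 ^ (j : ℕ) - 2 ^ (i : ℕ) < s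
      exact lt_of_le_of_lt (Nat.sub_le _ _) (lt_of_lt_of_le e1 (by omega))
    · subst h; rw [Matrix.one_apply_eq, (hA g).1]
    · rw [Matrix.one_apply_ne h.ne', (hA g).2 i j h]
  | succ r ih =>
    intro s hs1 hs g hg
    by_cases hz : ∀ i j, i < j → wt i j = s → A g i j = 0
    · exact ih (s + 1) (by omega) (by omega) g fun i j h hw => by
        rcases Nat.lt_succ_iff_lt_or_eq.1 hw with h' | h'
        · exact hg i j h h'
        · exact hz i j h h'
    push Not at hz
    obtain ⟨i, j, hij, rfl, hne⟩ := hz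
    obtain ⟨t, ht, htI, ht0⟩ := hlead _ i j rfl ⟨hij, g, hg, hne⟩
    set e := (-(A g i j) / A t i j).val
    have hte := in_pow hA t hs1 htI e
    have hg' : In A (wt i j + 1) (g * t ^ e) := fun a b hab hw => by
      rw [mul_apply_of_in hA g _ hg hte.1 hab (by omega) hs1, hte.2 a b hab (by omega)]
      rcases Nat.lt_succ_iff_lt_or_eq.1 hw with h' | h'
      · rw [hg a b hab h', htI a b hab h', smul_zero, add_zero]
      · obtain ⟨rfl, rfl⟩ := wt_inj hab hij h'
        rw [nsmul_eq_mul, ZMod.natCast_val, ZMod.cast_id, div_mul_cancel₀ _ ht0, add_neg_cancel]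
    obtain ⟨t', ht', heq⟩ := ih _ (by omega) (by omega) _ hg'
    refine ⟨t' * (t ^ e)⁻¹, mul_mem ht' (inv_mem (pow_mem ht e)), ?_⟩
    rw [map_mul, heq, ← map_mul, mul_inv_cancel_right]

end Matrix

variable {G : Type u} [Group G]

/-- A linear `p`-group in characteristic `p` of dimension `k` needs at most `k ^ 2 / 4` generators. -/
theorem exists_generators_of_isPGroup [Finite G] (hG : IsPGroup p G) {W : Type w} [AddCommGroup W]
    [Module (ZMod p) W] [FiniteDimensional (ZMod p) W] (ρ : G →* Module.End (ZMod p) W) :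
    ∃ S : Finset G, S.card ≤ Module.finrank (ZMod p) W ^ 2 / 4 ∧
      ∀ g : G, ∃ t ∈ Subgroup.closure (S : Set G), ρ t = ρ g := by
  classical
  set k := Module.finrank (ZMod p) W with hk
  have hflag : ∀ d ≤ k, ∃ f : Fin d → W, LinearIndependent (ZMod p) f ∧
      ∀ g j, ρ g (f j) - f j ∈ Submodule.span (ZMod p) (f '' {i | i < j}) := by
    intro d
    induction d with
    | zero => exact fun _ => ⟨Fin.elim0, linearIndependent_empty_type, fun g j => j.elim0⟩
    | succ d ih =>
      intro hd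
      obtain ⟨f, hf, hfl⟩ := ih (by omega)
      set U := Submodule.span (ZMod p) (Set.range f)
      have hU : ∀ g, ∀ x ∈ U, ρ g x ∈ U := fun g x hx => by
        refine Submodule.span_induction ?_ (by rw [map_zero]; exact zero_mem _)
          (fun a b _ _ h1 h2 => by rw [map_add]; exact add_mem h1 h2)
          (fun c a _ h1 => by rw [map_smul]; exact Submodule.smul_mem _ c h1) hx
        rintro _ ⟨j, rfl⟩
        rw [← sub_add_cancel (ρ g (f j)) (f j)]
        exact add_mem (Submodule.span_mono (Set.image_subset_range _ _) (hfl g j))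
          (Submodule.subset_span ⟨j, rfl⟩)
      have hne : U ≠ ⊤ := fun e => by
        have h1 := finrank_span_eq_card hf
        rw [show Submodule.span (ZMod p) (Set.range f) = ⊤ from e, finrank_top, Fintype.card_fin] at h1
        omega
      obtain ⟨v, -, hv⟩ := SetLike.exists_of_lt (lt_top_iff_ne_top.2 hne)
      have hv' : Submodule.Quotient.mk (p := U) v ≠ 0 := fun e => hv ((Submodule.Quotient.mk_eq_zero U).1 e)
      obtain ⟨z, -, hz0, hz⟩ := CfsgLib.DefectZero.exists_fixed_ne_zero hG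
        (CfsgLib.LinearDerivedLength.quo ρ U hU) ⊤ (fun _ _ _ => Submodule.mem_top) Submodule.mem_top hv'
      obtain ⟨y, rfl⟩ := Submodule.Quotient.mk_surjective U z
      have hy : y ∉ U := fun h => hz0 ((Submodule.Quotient.mk_eq_zero U).2 h)
      refine ⟨Fin.snoc f y, linearIndependent_finSnoc.2 ⟨hf, hy⟩, fun g j => ?_⟩
      induction j using Fin.lastCases with
      | last =>
        rw [Fin.snoc_last]
        refine Submodule.span_mono ?_ ((Submodule.Quotient.eq U).1 (hz g))
        rintro _ ⟨i, rfl⟩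
        exact ⟨i.castSucc, Fin.castSucc_lt_last i, Fin.snoc_castSucc ..⟩
      | cast i =>
        rw [Fin.snoc_castSucc]
        refine Submodule.span_mono ?_ (hfl g i)
        rintro _ ⟨a, ha, rfl⟩
        exact ⟨a.castSucc, Fin.castSucc_lt_castSucc_iff.2 ha, Fin.snoc_castSucc ..⟩
  obtain ⟨f, hf, hfl⟩ := hflag k le_rfl
  let b := basisOfLinearIndependentOfCardEqFinrank' f hf (by rw [Fintype.card_fin])
  have hb : ⇑b = f := by simp [b]
  let A : G →* Matrix (Fin k) (Fin k) (ZMod p) :=
    (LinearMap.toMatrixAlgEquiv b).toAlgHom.toRingHom.toMonoidHom.comp ρ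
  have hAval : ∀ g i j, A g i j = b.repr (ρ g (f j)) i := fun g i j => by
    show LinearMap.toMatrixAlgEquiv b (ρ g) i j = _
    rw [LinearMap.toMatrixAlgEquiv_apply, hb]
  have hA : IsUpper A := fun g => by
    have hker : ∀ j i, j ≤ i → b.repr (ρ g (f j) - f j) i = 0 := fun j i hji => by
      have h1 : ρ g (f j) - f j ∈ LinearMap.ker ((Finsupp.lapply i).comp b.repr.toLinearMap) := by
        refine Submodule.span_le.2 ?_ (hfl g j)
        rintro _ ⟨a, ha, rfl⟩
        simp only [SetLike.mem_coe, LinearMap.mem_ker, LinearMap.comp_apply, Finsupp.lapply_apply,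
          LinearEquiv.coe_coe]
        rw [← hb, b.repr_self, Finsupp.single_eq_of_ne (lt_of_lt_of_le ha hji).ne']
      simpa using h1
    have e : ∀ j, b.repr (f j) = Finsupp.single j 1 := fun j => by rw [← hb, b.repr_self]
    refine ⟨fun i => ?_, fun i j h => ?_⟩
    · have h1 := hker i i le_rfl
      rw [map_sub, e, Finsupp.sub_apply, Finsupp.single_eq_same, sub_eq_zero] at h1
      rw [hAval, h1]
    · have h1 := hker j i h.le
      rw [map_sub, e, Finsupp.sub_apply, Finsupp.single_eq_of_ne h.ne', sub_zero] at h1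
      rw [hAval, h1]
  obtain ⟨S, hS, hgen⟩ := exists_generators hA
  exact ⟨S, hS, fun g => (hgen g).imp fun t ht => ⟨ht.1, (LinearMap.toMatrixAlgEquiv b).injective ht.2⟩⟩

end CfsgLib.UnipotentRank
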